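import Cfsg.Agent.HHShult.Endgame
import Mathlib.FieldTheory.IsAlgClosed.AlgebraicClosure
import Mathlib.RingTheory.Flat.Basic

/-!
# The theorem of Shult type

* `pBy2_moved`: an automorphism of prime order `r`, `r ∤ |G|`, of a faithful `G`-module in
  characteristic `p` without fixed vectors has `[G, σ]` `p`-by-`2`;
* `commutator_special`: if the module is irreducible under `G R`, then `[G, R]` is trivial or a
  non-abelian special `2`-group with `r = 2 ^ m + 1`.
-/

set_option autoImplicit false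
set_option linter.style.haveILetI false
set_option linter.unusedSectionVars false

open Finset Module Subgroup CfsgLib.ConjFunctor
open scoped commutatorElement CfsgLib.ConjFunctor TensorProduct

namespace CfsgLib.HHShult

universe u v w

theorem PBy2.map {G : Type*} [Group G] {G' : Type*} [Group G'] {p : ℕ} {M : Subgroup G}
    (h : PBy2 p M) (f : G →* G') : PBy2 p (M.map f) := by
  obtain ⟨U, hUM, hU, hn, h2⟩ := h
  refine ⟨U.map f, Subgroup.map_mono hUM, hU.map f, ?_, ?_⟩
  · exact (Subgroup.map_mono hn).trans (Subgroup.le_normalizer_map f)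
  · rintro _ ⟨x, hx, rfl⟩
    obtain ⟨k, hk⟩ := h2 x hx
    exact ⟨k, x ^ (2 ^ k), hk, map_pow f x _⟩

theorem pBy2_bot {G : Type*} [Group G] {p : ℕ} {M : Subgroup G} (hM : IsPGroup 2 M) : PBy2 p M :=
  ⟨⊥, bot_le, IsPGroup.of_bot, le_top.trans (normalizer_eq_top_iff.2 inferInstance).ge, fun x hx => by
    obtain ⟨k, hk⟩ := hM ⟨x, hx⟩
    exact ⟨k, Subgroup.mem_bot.2 (congrArg Subtype.val hk)⟩⟩

section act

variable {G : Type w} [Group G] {K : Type u} [Field K] {V : Type v} [AddCommGroup V] [Module K V]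
  {σ : MulAut G} {r : ℕ} {ψ : G →* Module.End K V} {s : Module.End K V}

/-- The representation on an invariant subspace. -/
def subRep (W : Submodule K V) (hW : ∀ g, ∀ v ∈ W, ψ g v ∈ W) : G →* Module.End K W where
  toFun g := (ψ g).restrict (hW g)
  map_one' := LinearMap.ext fun v => Subtype.ext (by
    show ψ 1 (v : V) = v
    rw [map_one]; rfl)
  map_mul' := fun g h => LinearMap.ext fun v => Subtype.ext (by
    show ψ (g * h) (v : V) = ψ g (ψ h v)
    rw [map_mul]; rfl)

/-- The representation on the quotient by an invariant subspace. -/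
def quotRep (W : Submodule K V) (hW : ∀ g, ∀ v ∈ W, ψ g v ∈ W) : G →* Module.End K (V ⧸ W) where
  toFun g := W.mapQ W (ψ g) (fun v hv => hW g v hv)
  map_one' := Submodule.linearMap_qext _ (LinearMap.ext fun v => by
    show Submodule.Quotient.mk (p := W) (ψ 1 v) = Submodule.Quotient.mk v
    rw [map_one]; rfl)
  map_mul' := fun g h => Submodule.linearMap_qext _ (LinearMap.ext fun v => by
    show Submodule.Quotient.mk (p := W) (ψ (g * h) v) = Submodule.Quotient.mk (ψ g (ψ h v))
    rw [map_mul]; rfl)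

theorem Act.quotient [Finite G] {V' : Type*} [AddCommGroup V'] [Module K V']
    (h : Act σ r ψ s) (φ : G →* Module.End K V') (t : Module.End K V')
    (hcompat : ∀ x, t * φ x = φ (σ x) * t) (htr : t ^ r = 1)
    (hts : ∑ i ∈ range r, t ^ i = 0) :
    ∃ hN : Inv σ φ.ker, Act hN.quotAut r (QuotientGroup.lift φ.ker φ le_rfl) t := by
  have hN : Inv σ φ.ker := fun x hx => by
    rw [MonoidHom.mem_ker] at hx ⊢
    have h1 := hcompat x
    rw [hx, mul_one] at h1
    obtain ⟨r', hr'⟩ := Nat.exists_eq_succ_of_ne_zero h.cop.prime.pos.ne'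
    rw [hr', pow_succ'] at htr
    calc φ (σ x) = φ (σ x) * (t * t ^ r') := by rw [htr, mul_one]
      _ = t * t ^ r' := by rw [← mul_assoc, ← h1]
      _ = 1 := htr
  exact ⟨hN,
    { cop := h.cop.quotient hN
      inj := (injective_iff_map_eq_one (QuotientGroup.lift φ.ker φ le_rfl)).2 fun q => by
        induction q using QuotientGroup.induction_on with | H x =>
        exact fun hx => (QuotientGroup.eq_one_iff x).2 (MonoidHom.mem_ker.2 hx)
      compat := fun q => by
        induction q using QuotientGroup.induction_on with | H x =>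
        rw [hN.quotAut_mk]
        exact hcompat x
      pow_eq := htr
      sum_eq := hts
      rne := h.rne }⟩

theorem Act.pow_restrict (W : Submodule K V) (hs : ∀ v ∈ W, s v ∈ W) :
    ∀ (i : ℕ) (v : W), (((s.restrict hs) ^ i) v : V) = (s ^ i) (v : V)
  | 0, v => rfl
  | i + 1, v => by
    rw [pow_succ', pow_succ', Module.End.mul_apply, Module.End.mul_apply,
      LinearMap.restrict_apply]
    exact congrArg s (Act.pow_restrict W hs i v)

theorem Act.pow_mapQ (W : Submodule K V) (hs : W ≤ W.comap s) :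
    ∀ (i : ℕ) (v : V), ((W.mapQ W s hs) ^ i) (Submodule.Quotient.mk v) =
      Submodule.Quotient.mk ((s ^ i) v)
  | 0, v => rfl
  | i + 1, v => by
    rw [pow_succ', pow_succ', Module.End.mul_apply, Module.End.mul_apply, Act.pow_mapQ W hs i v]
    rfl

end act

section main

variable {K : Type u} [Field K] [IsAlgClosed K] {p : ℕ} [hp : Fact p.Prime] [CharP K p] {r : ℕ}

theorem pBy2_moved_aux : ∀ (n : ℕ) {G : Type w} [Group G] [Finite G] {V : Type v} [AddCommGroup V]
    [Module K V] [FiniteDimensional K V] {σ : MulAut G} {ψ : G →* Module.End K V}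
    {s : Module.End K V}, finrank K V + Nat.card G < n → Act σ r ψ s →
    PBy2 p (moved σ (⊤ : Subgroup G)) := by
  classical
  intro n
  induction n with
  | zero => intros; omega
  | succ n ih =>
    intro G _ _ V _ _ _ σ ψ s hn h
    have hsub : ∀ L : Subgroup G, Inv σ L → L ≠ ⊤ → PBy2 p (moved σ L) := fun L hL hne => by
      have hlt : Nat.card L < Nat.card G := by
        rcases eq_or_lt_of_le (Subgroup.card_le_card_group L) with he | hlt
        · exact absurd (Subgroup.eq_top_of_card_eq L he) hne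
        · exact hlt
      have := ih (by omega) (h.restrict hL)
      rw [← hL.map_moved_top]
      exact this.map L.subtype
    by_cases htop : moved σ (⊤ : Subgroup G) = ⊤
    swap
    · rw [← h.cop.moved_moved inv_top]
      exact hsub _ inv_top.moved htop
    by_cases h2 : IsPGroup 2 G
    · exact pBy2_bot (h2.to_subgroup _)
    have hV : Nontrivial V := by
      by_contra hV
      rw [not_nontrivial_iff_subsingleton] at hV
      haveI : Subsingleton G := ⟨fun a b => h.ext fun v => Subsingleton.elim _ _⟩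
      exact h2 fun g => ⟨0, Subsingleton.elim _ _⟩
    by_cases hirr : Irr ψ s
    · exact (Cx.elim (p := p)
        ⟨h, inferInstance, hirr, hV, htop, h2, hsub⟩).elim
    obtain ⟨W, hWg, hWs, hWb, hWt⟩ : ∃ W : Submodule K V, (∀ g, ∀ v ∈ W, ψ g v ∈ W) ∧
        (∀ v ∈ W, s v ∈ W) ∧ W ≠ ⊥ ∧ W ≠ ⊤ := by
      by_contra! hno
      exact hirr fun W hg hs => (em (W = ⊥)).imp id fun hb => hno W hg hs hb
    have hd1 : finrank K W < finrank K V := Submodule.finrank_lt hWt
    have hd2 : finrank K (V ⧸ W) < finrank K V := by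
      have h1 := W.finrank_quotient_add_finrank
      have h3 : finrank K W ≠ 0 := fun h0 => hWb (Submodule.finrank_eq_zero.1 h0)
      omega
    obtain ⟨hN1, hA1⟩ := h.quotient (subRep W hWg) (s.restrict hWs)
      (fun x => LinearMap.ext fun v => Subtype.ext (LinearMap.congr_fun (h.compat x) (v : V)))
      (LinearMap.ext fun v => Subtype.ext (by
        rw [Act.pow_restrict W hWs, h.pow_eq]; rfl))
      (LinearMap.ext fun v => Subtype.ext (by
        have h1 := LinearMap.congr_fun h.sum_eq (v : V)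
        rw [LinearMap.sum_apply] at h1
        rw [LinearMap.sum_apply, Submodule.coe_sum,
          Finset.sum_congr rfl fun i _ => Act.pow_restrict W hWs i v, h1]
        rfl))
    have hWs' : W ≤ W.comap s := fun v hv => hWs v hv
    obtain ⟨hN2, hA2⟩ := h.quotient (quotRep W hWg) (W.mapQ W s hWs')
      (fun x => Submodule.linearMap_qext _ (LinearMap.ext fun v => by
        show Submodule.Quotient.mk (p := W) (s (ψ x v)) = Submodule.Quotient.mk (ψ (σ x) (s v))
        exact congrArg _ (LinearMap.congr_fun (h.compat x) v)))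
      (Submodule.linearMap_qext _ (LinearMap.ext fun v => by
        show ((W.mapQ W s hWs') ^ r) (Submodule.Quotient.mk v) = Submodule.Quotient.mk v
        rw [Act.pow_mapQ W hWs', h.pow_eq]; rfl))
      (Submodule.linearMap_qext _ (LinearMap.ext fun v => by
        show (∑ i ∈ range r, (W.mapQ W s hWs') ^ i) (Submodule.Quotient.mk v) = 0
        rw [LinearMap.sum_apply, Finset.sum_congr rfl fun i _ => Act.pow_mapQ W hWs' i v]
        have h1 := LinearMap.congr_fun h.sum_eq v
        rw [LinearMap.sum_apply] at h1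
        show ∑ i ∈ range r, W.mkQ ((s ^ i) v) = 0
        rw [← map_sum, h1]
        exact map_zero _))
    have hc : ∀ N : Subgroup G, ∀ [N.Normal], Nat.card (G ⧸ N) ≤ Nat.card G := fun N _ =>
      Nat.card_le_card_of_surjective _ QuotientGroup.mk_surjective
    have q1 := ih (by have := hc (subRep W hWg).ker; omega) hA1
    have q2 := ih (by have := hc (quotRep W hWg).ker; omega) hA2
    have hm : ∀ (N : Subgroup G) [N.Normal] (hN : Inv σ N), moved hN.quotAut ⊤ = ⊤ :=
      fun N _ hN => by
        have := hN.map_moved_mk ⊤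
        rwa [htop, Subgroup.map_top_of_surjective _ (QuotientGroup.mk'_surjective N),
          eq_comm] at this
    rw [hm _ hN1] at q1
    rw [hm _ hN2] at q2
    obtain ⟨U1, -, hU1, hn1, h21⟩ := q1
    obtain ⟨U2, -, hU2, hn2, h22⟩ := q2
    haveI : U1.Normal := normalizer_eq_top_iff.1 (top_le_iff.1 hn1)
    haveI : U2.Normal := normalizer_eq_top_iff.1 (top_le_iff.1 hn2)
    set m1 := QuotientGroup.mk' (subRep W hWg).ker
    set m2 := QuotientGroup.mk' (quotRep W hWg).ker
    rw [htop]
    haveI : (U1.comap m1 ⊓ U2.comap m2).Normal := Subgroup.normal_inf_normal _ _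
    refine ⟨U1.comap m1 ⊓ U2.comap m2, le_top, ?_, (normalizer_eq_top_iff.2 inferInstance).ge, ?_⟩
    · rintro ⟨x, hx1, hx2⟩
      obtain ⟨a, ha⟩ := hU1 ⟨m1 x, hx1⟩
      obtain ⟨b, hb⟩ := hU2 ⟨m2 x, hx2⟩
      set y := x ^ (p ^ (a + b)) with hy
      have hy1 : subRep W hWg y = 1 := by
        refine MonoidHom.mem_ker.1 ((QuotientGroup.eq_one_iff _).1 ?_)
        show m1 y = 1
        rw [hy, map_pow, pow_add, pow_mul, show m1 x ^ (p ^ a) = 1 from congrArg Subtype.val ha,
          one_pow]
      have hy2 : quotRep W hWg y = 1 := by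
        refine MonoidHom.mem_ker.1 ((QuotientGroup.eq_one_iff _).1 ?_)
        show m2 y = 1
        rw [hy, map_pow, add_comm, pow_add, pow_mul,
          show m2 x ^ (p ^ b) = 1 from congrArg Subtype.val hb, one_pow]
      refine ⟨a + b + 1, Subtype.ext ?_⟩
      show x ^ (p ^ (a + b + 1)) = 1
      rw [pow_succ, pow_mul, ← hy]
      refine h.inj ?_
      rw [map_pow, map_one]
      set e := ψ y - 1 with he
      have he2 : e * e = 0 := LinearMap.ext fun v => by
        have hv : e v ∈ W := by
          have h1 := LinearMap.congr_fun hy2 (Submodule.Quotient.mk v)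
          have h3 : (Submodule.Quotient.mk (ψ y v) : V ⧸ W) = Submodule.Quotient.mk v := h1
          rw [Submodule.Quotient.eq] at h3
          exact h3
        rw [Module.End.mul_apply, LinearMap.zero_apply]
        have h1 : ψ y (e v) = e v := congrArg Subtype.val (LinearMap.congr_fun hy1 ⟨e v, hv⟩)
        show ψ y (e v) - e v = 0
        rw [h1, sub_self]
      have hpow : ∀ k : ℕ, ψ y ^ k = 1 + k • e := by
        intro k
        induction k with
        | zero => simp
        | succ k ihk =>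
          rw [pow_succ, ihk, show ψ y = 1 + e by rw [he]; abel, mul_add, mul_one, add_mul, one_mul,
            smul_mul_assoc, he2, smul_zero, add_zero, succ_nsmul]
          abel
      rw [hpow, ← Nat.cast_smul_eq_nsmul K, CharP.cast_eq_zero, zero_smul, add_zero]
    · intro x _
      obtain ⟨a, ha⟩ := h21 (m1 x) (mem_top _)
      obtain ⟨b, hb⟩ := h22 (m2 x) (mem_top _)
      refine ⟨a + b, Subgroup.mem_inf.2 ⟨?_, ?_⟩⟩
      · rw [Subgroup.mem_comap, map_pow, pow_add, pow_mul]
        exact pow_mem ha _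
      · rw [Subgroup.mem_comap, map_pow, add_comm, pow_add, pow_mul]
        exact pow_mem hb _

/-- `[G, σ]` is `p`-by-`2`. -/
theorem pBy2_moved {G : Type w} [Group G] [Finite G] {V : Type v} [AddCommGroup V] [Module K V]
    [FiniteDimensional K V] {σ : MulAut G} {ψ : G →* Module.End K V} {s : Module.End K V}
    (h : Act σ r ψ s) : PBy2 p (moved σ (⊤ : Subgroup G)) :=
  pBy2_moved_aux _ (Nat.lt_succ_self _) h

end main

theorem isSpecial_of_equiv {p : ℕ} {P : Type*} [Group P] {Q : Type*} [Group Q] (e : P ≃* Q)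
    (h : Cfsg.IsSpecial p P) : Cfsg.IsSpecial p Q := by
  obtain ⟨hp, hf, hc⟩ := h
  have hF : (frattini P).map e.toMonoidHom = frattini Q := by
    rw [Subgroup.map_equiv_eq_comap_symm']
    exact e.symm.comapSubgroup.map_radical
  have hC : (Subgroup.center P).map e.toMonoidHom = Subgroup.center Q := by
    ext x
    rw [Subgroup.mem_map, Subgroup.mem_center_iff]
    constructor
    · rintro ⟨y, hy, rfl⟩ g
      obtain ⟨g, rfl⟩ := e.surjective g
      show e g * e y = e y * e g
      rw [← map_mul, ← map_mul, Subgroup.mem_center_iff.1 hy g]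
    · intro hx
      refine ⟨e.symm x, Subgroup.mem_center_iff.2 fun g => e.injective ?_, by simp⟩
      simpa using hx (e g)
  refine ⟨hp.of_equiv e, ?_, ?_⟩
  · rw [← hF, hf, hC]
  · rw [← hC, ← hc, _root_.commutator_def, _root_.commutator_def, Subgroup.map_commutator,
      Subgroup.map_top_of_surjective _ e.surjective]

/-- **The theorem.** -/
theorem commutator_special {X : Type w} [Group X] [Finite X] (G R : Subgroup X) [G.Normal]
    (hX : G ⊔ R = ⊤) (r : ℕ) (hr : r.Prime) (hR : Nat.card R = r) (hcop : ¬ r ∣ Nat.card G)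
    {k : Type u} [Field k] {p : ℕ} [hp : Fact p.Prime] [CharP k p] {V : Type v} [AddCommGroup V]
    [Module k V] [FiniteDimensional k V] [Nontrivial V] (ρ : X →* Module.End k V)
    (hfaith : Function.Injective ρ)
    (hirr : ∀ W : Submodule k V, (∀ x : X, W.map (ρ x) ≤ W) → W = ⊥ ∨ W = ⊤)
    (hfix : ∀ v : V, (∀ x ∈ R, ρ x v = v) → v = 0) :
    ⁅G, R⁆ = ⊥ ∨ ((∃ m : ℕ, r = 2 ^ m + 1) ∧ ¬ IsMulCommutative ↥⁅G, R⁆ ∧
      Cfsg.IsSpecial 2 ↥⁅G, R⁆) := by
  classical
  haveI : Fact r.Prime := ⟨hr⟩
  obtain ⟨⟨x, hx⟩, hgen⟩ := (isCyclic_of_prime_card hR).exists_generator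
  have hxR : R = zpowers x := le_antisymm (fun y hy => by
      obtain ⟨i, hi⟩ := Subgroup.mem_zpowers_iff.1 (hgen ⟨y, hy⟩)
      exact Subgroup.mem_zpowers_iff.2 ⟨i, congrArg Subtype.val hi⟩) (zpowers_le.2 hx)
  have hxo : orderOf x = r := by rw [← Nat.card_zpowers, ← hxR, hR]
  set σ : MulAut ↥G := MulAut.conjNormal x with hσdef
  have hσ : ∀ g : ↥G, (σ g : X) = x * g * x⁻¹ := fun g => MulAut.conjNormal_apply x g
  set s : Module.End k V := ρ x with hs
  have hrk : (r : k) ≠ 0 := by
    intro h0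
    obtain rfl : p = r := (Nat.prime_dvd_prime_iff_eq hp.out hr).1 ((CharP.cast_eq_zero_iff k p r).1 h0)
    obtain ⟨v, hv⟩ := exists_ne (0 : V)
    obtain ⟨w, hw0, hw⟩ := CfsgLib.FgsSix.exists_ne_zero_fixed
      (IsPGroup.of_card (n := 1) (hR.trans (pow_one _).symm)) (ρ.comp R.subtype) hv
    exact hw0 (hfix w fun y hy => hw ⟨y, hy⟩)
  have hsr : s ^ r = 1 := by rw [hs, ← map_pow, ← hxo, pow_orderOf_eq_one, map_one]
  have hσr : σ ^ r = 1 := by rw [hσdef, ← map_pow, ← hxo, pow_orderOf_eq_one, map_one]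
  have hsum : ∑ i ∈ range r, s ^ i = 0 := LinearMap.ext fun v => by
    apply hfix
    intro y hy
    rw [hxR] at hy
    obtain ⟨n, rfl⟩ := (mem_powers_iff_mem_zpowers (x := x)).2 hy
    have h1 : s * ∑ i ∈ range r, s ^ i = ∑ i ∈ range r, s ^ i := by
      have h2 := mul_geom_sum s r
      rw [hsr, sub_self, sub_mul, one_mul, sub_eq_zero] at h2
      exact h2
    have hn : ∀ n : ℕ, s ^ n * ∑ i ∈ range r, s ^ i = ∑ i ∈ range r, s ^ i := by
      intro n
      induction n with
      | zero => rw [pow_zero, one_mul]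
      | succ n ih => rw [pow_succ, mul_assoc, h1, ih]
    rw [map_pow, ← hs, ← Module.End.mul_apply, hn]
  set L := AlgebraicClosure k
  haveI : CharP L p := charP_of_injective_algebraMap (algebraMap k L).injective p
  set B : Module.End k V →ₐ[k] Module.End L (L ⊗[k] V) := Module.End.baseChangeHom k L V
  have hBinj : Function.Injective B := LinearMap.baseChangeHom_injective k V L
  have hact : Act σ r ((B.toMonoidHom).comp (ρ.comp G.subtype)) (B s) :=
    { cop := ⟨hr, hσr, hcop⟩
      inj := hBinj.comp (hfaith.comp G.subtype_injective)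
      compat := fun g => by
        show B s * B (ρ (g : X)) = B (ρ (σ g : X)) * B s
        rw [← map_mul B, ← map_mul B, hs, ← map_mul ρ, ← map_mul ρ, hσ, inv_mul_cancel_right]
      pow_eq := by rw [← map_pow, hsr, map_one]
      sum_eq := by rw [← map_zero B, ← hsum, map_sum]; exact Finset.sum_congr rfl fun i _ => (map_pow B s i).symm
      rne := fun h => hrk ((algebraMap k L).injective (by rw [map_natCast, map_zero]; exact h)) }
  set M := moved σ (⊤ : Subgroup ↥G) with hMdef
  set M' := M.map G.subtype with hM'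
  -- `[G, R]` is the moved part
  have hpow : ∀ (n : ℕ) (g : ↥G), ((σ ^ n) g : X) = x ^ n * g * (x ^ n)⁻¹ := fun n g => by
    rw [hσdef, ← map_pow]; exact MulAut.conjNormal_apply (x ^ n) g
  have hcomm : M' = ⁅G, R⁆ := by
    refine le_antisymm ?_ (Subgroup.commutator_le.2 fun g hg y hy => ?_)
    · rw [hM', hMdef, moved, MonoidHom.map_closure, closure_le]
      rintro _ ⟨_, ⟨g, -, rfl⟩, rfl⟩
      show ((g⁻¹ * σ g : ↥G) : X) ∈ ⁅G, R⁆
      rw [Subgroup.coe_mul, hσ, show ((g⁻¹ : ↥G) : X) * (x * (g : X) * x⁻¹) = ⁅(g : X)⁻¹, x⁆ by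
        simp only [InvMemClass.coe_inv, commutatorElement_def, inv_inv]; group]
      exact commutator_mem_commutator (inv_mem g.2) hx
    · rw [hxR] at hy
      obtain ⟨n, rfl⟩ := (mem_powers_iff_mem_zpowers (x := x)).2 hy
      have hmem : ∀ (n : ℕ) (h : ↥G), h⁻¹ * (σ ^ n) h ∈ M := by
        intro n
        induction n with
        | zero => intro h; simpa using one_mem M
        | succ n ih =>
          intro h
          have := mul_mem (mem_moved σ (H := ⊤) (mem_top h)) (ih (σ h))
          rwa [mul_assoc, mul_inv_cancel_left, ← MulAut.mul_apply, ← pow_succ] at this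
      refine ⟨_, hmem n ⟨g, hg⟩⁻¹, ?_⟩
      show (((⟨g, hg⟩ : ↥G)⁻¹)⁻¹ * (σ ^ n) (⟨g, hg⟩ : ↥G)⁻¹ : ↥G).1 = ⁅g, x ^ n⁆
      rw [inv_inv, Subgroup.coe_mul, hpow, commutatorElement_def, InvMemClass.coe_inv]
      show g * (x ^ n * g⁻¹ * (x ^ n)⁻¹) = _
      group
  have hMi : Inv σ M := inv_top.moved
  -- `M'` is normal, so its `p`-part is trivial
  have hM'n : normalizer (M' : Set X) = ⊤ := by
    refine top_le_iff.1 (hX ▸ sup_le (fun g hg => mem_normalizer_of_forall_conj_mem ?_) ?_)
    · rintro _ ⟨m, hm, rfl⟩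
      exact ⟨⟨g, hg⟩ * m * (⟨g, hg⟩ : ↥G)⁻¹,
        (mem_normalizer_iff.1 (le_normalizer_moved (mem_top (⟨g, hg⟩ : ↥G))) m).1 hm, rfl⟩
    · rw [hxR, zpowers_le]
      refine mem_normalizer_of_forall_conj_mem ?_
      rintro _ ⟨m, hm, rfl⟩
      exact ⟨σ m, hMi m hm, hσ m⟩
  have hPB : PBy2 p M' := (pBy2_moved hact).map G.subtype
  obtain ⟨U, hUM, hU, hUn, hU2⟩ := hPB
  have hP : IsPGroup p (pPart p M') := by
    by_cases hp2 : p = 2
    · subst hp2
      refine IsPGroup.to_le ?_ (pPart_le 2 M')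
      rintro ⟨m, hm⟩
      obtain ⟨a, ha⟩ := hU2 m hm
      obtain ⟨b, hb⟩ := hU ⟨_, ha⟩
      refine ⟨a + b, Subtype.ext ?_⟩
      show m ^ (2 ^ (a + b)) = 1
      rw [pow_add, pow_mul]
      exact congrArg Subtype.val hb
    · rw [PBy2.eq_pPart hp2 hUM hU hUn hU2]
      exact hU
  have hPn : (pPart p M').Normal := normalizer_eq_top_iff.1 (top_le_iff.1 fun g _ =>
    mem_normalizer_pPart (by rw [hM'n]; exact mem_top g))
  have hPbot : pPart p M' = ⊥ := by
    let W : Submodule k V :=
      { carrier := {v | ∀ n ∈ pPart p M', ρ n v = v}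
        add_mem' := fun {a b} ha hb n hn => by rw [map_add, ha n hn, hb n hn]
        zero_mem' := fun n _ => map_zero _
        smul_mem' := fun c v hv n hn => by rw [map_smul, hv n hn] }
    have hW : W ≠ ⊥ := by
      obtain ⟨v₀, hv₀⟩ := exists_ne (0 : V)
      obtain ⟨w, hw0, hw⟩ :=
        CfsgLib.FgsSix.exists_ne_zero_fixed hP (ρ.comp (pPart p M').subtype) hv₀
      exact (Submodule.ne_bot_iff _).2 ⟨w, fun n hn => hw ⟨n, hn⟩, hw0⟩
    have htop := (hirr W fun g => by
      rintro _ ⟨v, hv, rfl⟩ n hn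
      have hn' : g⁻¹ * n * g ∈ pPart p M' := by simpa using hPn.conj_mem n hn g⁻¹
      rw [← Module.End.mul_apply, ← map_mul, show n * g = g * (g⁻¹ * n * g) by group, map_mul,
        Module.End.mul_apply, hv _ hn']).resolve_left hW
    refine eq_bot_iff.2 fun n hn => Subgroup.mem_bot.2 (hfaith ?_)
    rw [map_one]
    exact LinearMap.ext fun v => (htop ▸ Submodule.mem_top : v ∈ W) n hn
  have hM2' : IsPGroup 2 M' := by
    rintro ⟨m, hm⟩
    obtain ⟨a, ha⟩ := hU2 m hm
    have h1 := le_pPart hUM hU ha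
    rw [hPbot, Subgroup.mem_bot] at h1
    exact ⟨a, Subtype.ext h1⟩
  rw [← hcomm]
  by_cases hMb : M' = ⊥
  · exact Or.inl hMb
  have hp2 : p ≠ 2 := by
    rintro rfl
    exact hMb (le_bot_iff.1 (hPbot ▸ le_pPart le_rfl hM2'))
  let e : ↥M ≃* ↥M' := M.equivMapOfInjective _ G.subtype_injective
  have hM2 : IsPGroup 2 M := hM2'.of_equiv e.symm
  have h2L : (2 : L) ≠ 0 := fun h0 => by
    have := (CharP.cast_eq_zero_iff L p 2).1 (by exact_mod_cast h0)
    exact hp2 ((Nat.prime_dvd_prime_iff_eq hp.out Nat.prime_two).1 this)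
  have F : Frame σ r ((B.toMonoidHom).comp (ρ.comp G.subtype)) (B s) M :=
    { act := hact
      two_ne := h2L
      inv := hMi
      isPGroup := hM2
      moved_eq := hact.cop.moved_moved inv_top }
  have hMne : M ≠ ⊥ := fun h => hMb (by rw [hM', h, Subgroup.map_bot])
  obtain ⟨m, -, hm⟩ := F.exists_m hMne
  refine Or.inr ⟨⟨m, hm⟩, fun hab => hMne ?_, isSpecial_of_equiv e ⟨hM2, ?_, ?_⟩⟩
  · rw [← F.moved_eq, moved_eq_bot_iff]
    refine hact.fixed_of_abelian hMi (fun a ha b hb => ?_) ?_
    · have := hab.is_comm.comm (e ⟨a, ha⟩) (e ⟨b, hb⟩)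
      rw [← map_mul, ← map_mul] at this
      exact congrArg Subtype.val (e.injective this)
    · obtain ⟨n, hn⟩ := IsPGroup.iff_card.1 hM2
      rw [hn]
      push_cast
      exact pow_ne_zero _ h2L
  · exact F.m2.frattini_eq_center
  · exact F.m2.commutator_eq_center

end CfsgLib.HHShult
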