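import Cfsg.Agent.HHShult.Duo

/-!
# The anisotropic case

`Duo.aniso`: if no non-zero element has square in `Z0`, then `Z0 = 0`, `|A| = 2 ^ (2 m)`,
`|Z| = 2 ^ m`, and every non-zero functional occurs and has trivial radical.
-/

set_option autoImplicit false
set_option linter.style.haveILetI false
set_option linter.unusedSectionVars false

open Finset

namespace CfsgLib.HHShult

theorem exists_card_two_pow {B : Type*} [AddCommGroup B] [Finite B] (h2 : ∀ b : B, b + b = 0) :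
    ∃ e, Nat.card B = 2 ^ e := by
  letI : Module (ZMod 2) B := AddCommGroup.zmodModule fun b => by rw [two_nsmul, h2]
  haveI : Module.Finite (ZMod 2) B := Module.Finite.of_finite
  exact ⟨_, by rw [Module.natCard_eq_pow_finrank (K := ZMod 2), Nat.card_zmod]⟩

/-- `2 ^ i (2 ^ j - 1) = 2 ^ N - 2 ^ j`. -/
theorem pow_two_eq {i j N : ℕ} (hj : 1 ≤ j) (hN : j < N)
    (h : 2 ^ i * (2 ^ j - 1) + 2 ^ j = 2 ^ N) : i = j ∧ N = j + j := by
  obtain ⟨d, rfl⟩ := Nat.exists_eq_add_of_lt hN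
  have h1 : 1 ≤ 2 ^ j := Nat.one_le_two_pow
  have h2 : 1 ≤ 2 ^ (d + 1) := Nat.one_le_two_pow
  have hprod : 2 ^ i * (2 ^ j - 1) = 2 ^ j * (2 ^ (d + 1) - 1) := by
    rw [Nat.mul_sub_one (2 ^ j) (2 ^ (d + 1)), ← pow_add]
    rw [show j + (d + 1) = j + d + 1 by ring]
    omega
  have hodd : ∀ {k : ℕ}, 1 ≤ k → Nat.Coprime 2 (2 ^ k - 1) := fun {k} hk => by
    obtain ⟨k, rfl⟩ := Nat.exists_eq_add_of_le hk
    have := Nat.one_le_two_pow (n := k)
    rw [Nat.coprime_two_left, pow_add, pow_one]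
    exact ⟨2 ^ k - 1, by omega⟩
  have hij : i = j := by
    refine le_antisymm ((Nat.pow_dvd_pow_iff_le_right (by norm_num : 1 < 2)).1 ?_)
      ((Nat.pow_dvd_pow_iff_le_right (by norm_num : 1 < 2)).1 ?_)
    · exact (Nat.Coprime.pow_left i (hodd (k := d + 1) (by omega))).dvd_of_dvd_mul_right
        (Dvd.intro _ hprod)
    · exact (Nat.Coprime.pow_left j (hodd hj)).dvd_of_dvd_mul_right (Dvd.intro _ hprod.symm)
  subst hij
  have h3 := Nat.eq_of_mul_eq_mul_left (by omega : 0 < 2 ^ i) hprod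
  have h4 : (2 : ℕ) ^ i = 2 ^ (d + 1) := by omega
  exact ⟨rfl, by have := Nat.pow_right_injective le_rfl h4; omega⟩

namespace Duo

variable {A Z Γ : Type*} [AddCommGroup A] [Fintype A] [AddCommGroup Z] [Fintype Z]
  [Fintype (Z →+ ZMod 2)] [Group Γ] [Finite Γ] {sq : A → Z} {ρ : AddMonoid.End A} {r m : ℕ}
  {Z0 : AddSubgroup Z} {Φ : Finset (Z →+ ZMod 2)} {actA : Γ →* AddMonoid.End A}
  {actZ : Γ →* AddMonoid.End Z} (U : Duo sq ρ r m Z0 Φ actA actZ)
include U

theorem exists_mem_ne_zero : ∃ χ ∈ Φ, χ ≠ 0 := by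
  obtain ⟨a, -, ha, -, -⟩ := U.classes
  by_contra! hall
  exact ha (by rw [U.sep a fun χ hχ => by rw [hall χ hχ]; rfl]; exact zero_mem _)

/-- The sign sum is `-J`, the radical of every non-zero functional killing `Z0` is trivial and
`|A| = J ^ 2`. -/
theorem aniso_sum (hA : ∀ a, a ≠ 0 → sq a ∉ Z0) {η : Z →+ ZMod 2} (hη : η ∈ evens Z0)
    (hη0 : η ≠ 0) :
    gsum sq η = -(Z0.index : ℤ) ∧ Fintype.card A = Z0.index * Z0.index ∧ U.quad.rad η = ⊥ := by
  classical
  set J := Z0.index with hJ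
  have hJ3 : 3 ≤ J := U.index_ge
  obtain ⟨N, hN⟩ := exists_card_two_pow U.quad.twoA
  obtain ⟨j, hj⟩ : ∃ j, J = 2 ^ j := by
    obtain ⟨e, he⟩ := exists_card_two_pow U.quad.twoZ
    obtain ⟨j, -, hj⟩ := (Nat.dvd_prime_pow Nat.prime_two).1
      (he ▸ Z0.index_dvd_card : J ∣ 2 ^ e)
    exact ⟨j, hj⟩
  rw [Nat.card_eq_fintype_card] at hN
  have hcount := U.count hη hη0
  have hX : (Finset.univ.filter fun a => sq a ∈ Z0) = {0} := by
    ext a
    simp only [Finset.mem_filter, Finset.mem_univ, true_and, Finset.mem_singleton]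
    exact ⟨fun h => by_contra fun h0 => hA a h0 h, fun h => by
      rw [h, U.quad.sq_zero]; exact zero_mem _⟩
  rw [hX, Finset.card_singleton, Nat.cast_one, mul_one, ← hJ] at hcount
  obtain ⟨e, he⟩ := exists_card_two_pow (B := U.quad.rad η) fun b => Subtype.ext (U.quad.twoA _)
  have hsq := gsum_sq U.quad η
  set S := gsum sq η
  rw [hN, he] at hsq
  obtain ⟨i, hi⟩ : ∃ i, S.natAbs = 2 ^ i := by
    have h : S.natAbs * S.natAbs = 2 ^ (N + e) := by
      have : ((S.natAbs * S.natAbs : ℕ) : ℤ) = ((2 ^ (N + e) : ℕ) : ℤ) := by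
        rw [Int.natAbs_mul_self, hsq, pow_add]; push_cast; ring
      exact_mod_cast this
    exact ((Nat.dvd_prime_pow Nat.prime_two).1 (Dvd.intro _ h)).imp fun i hi => hi.2
  -- `|A| > J`
  have hAJ : J < 2 ^ N := by
    by_contra hle
    push Not at hle
    obtain ⟨χ, hχ, hχ0⟩ := U.exists_mem_ne_zero
    have h4 : 4 ≤ 2 ^ N := by
      rw [← hN, card_eq_four (U.good χ hχ hχ0)]
      have h1 : 2 ^ 2 ≤ 2 ^ (2 * m) :=
        Nat.pow_le_pow_right (by norm_num) (by have := U.quad.pos; omega)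
      calc 4 ≤ 2 ^ (2 * m) * 1 := by omega
        _ ≤ _ := Nat.mul_le_mul_left _ Nat.card_pos
    rw [hN] at hcount
    push_cast at hcount
    have h5 : (2 : ℤ) ^ N ≤ J := by exact_mod_cast hle
    have h6 : (4 : ℤ) ≤ 2 ^ N := by exact_mod_cast h4
    have h7 : (3 : ℤ) ≤ J := by exact_mod_cast hJ3
    have hS : S = 0 := by
      rcases lt_trichotomy S 0 with h | h | h
      · nlinarith
      · exact h
      · nlinarith
    rw [hS, Int.natAbs_zero] at hi
    exact (Nat.pos_iff_ne_zero.1 (Nat.two_pow_pos i)) hi.symm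
  have hSneg : S = -(2 ^ i : ℤ) := by
    have hlt : S < 0 := by
      by_contra hnn
      push Not at hnn
      have h7 : (3 : ℤ) ≤ J := by exact_mod_cast hJ3
      have h5 : (J : ℤ) < 2 ^ N := by exact_mod_cast hAJ
      rw [hN] at hcount
      push_cast at hcount
      nlinarith
    have : (S.natAbs : ℤ) = -S := Int.ofNat_natAbs_of_nonpos hlt.le
    rw [hi] at this
    push_cast at this
    linarith
  have heq : 2 ^ i * (2 ^ j - 1) + 2 ^ j = 2 ^ N := by
    rw [hSneg, hN, hj] at hcount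
    push_cast at hcount
    have h1 : 1 ≤ 2 ^ j := Nat.one_le_two_pow
    zify [h1]
    linarith
  have hj1 : 1 ≤ j := by
    rcases j with _ | j
    · rw [pow_zero] at hj; omega
    · omega
  have hjN : j < N := (Nat.pow_lt_pow_iff_right (by norm_num : 1 < 2)).1 (hj ▸ hAJ)
  obtain ⟨hij, rfl⟩ := pow_two_eq hj1 hjN heq
  subst hij
  refine ⟨by rw [hSneg, hj]; push_cast; rfl, by rw [hN, hj, pow_add], ?_⟩
  rw [hSneg, neg_mul_neg] at hsq
  push_cast at hsq
  rw [pow_add, mul_assoc] at hsq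
  have h2 : (2 : ℤ) ^ i = 2 ^ i * 2 ^ e := mul_left_cancel₀ (by positivity) hsq
  have h3 : (2 : ℤ) ^ e = 1 := by
    have := mul_left_cancel₀ (by positivity : (2 : ℤ) ^ i ≠ 0) (show (2 : ℤ) ^ i * 1 = 2 ^ i * 2 ^ e by
      rw [mul_one]; exact h2)
    exact this.symm
  refine AddSubgroup.card_eq_one.1 ?_
  rw [he]
  exact_mod_cast h3

theorem aniso_bot (hA : ∀ a, a ≠ 0 → sq a ∉ Z0) : Z0 = ⊥ := by
  classical
  rw [eq_bot_iff]
  intro z₁ hz₁
  rw [AddSubgroup.mem_bot]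
  by_contra hne
  have hodd : ∀ χ ∈ Φ, χ z₁ = 1 := fun χ hχ => U.odd z₁ hz₁ hne χ hχ
  have hmem : ∀ {z : Z} {c : ZMod 2}, (∀ χ ∈ Φ, χ z = c) → z ∈ Z0 := fun {z c} h => by
    rcases zmod2_cases c with rfl | rfl
    · rw [U.sep z h]; exact zero_mem _
    · have h1 : z + z₁ = 0 := U.sep _ fun χ hχ => by
        rw [map_add, h χ hχ, hodd χ hχ, zmod2_add_self]
      rw [(U.eq_of_sum z z₁).1 h1]
      exact hz₁
  obtain ⟨χ, hχ, χ', hχ', hne'⟩ : ∃ χ ∈ Φ, ∃ χ' ∈ Φ, χ ≠ χ' := by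
    obtain ⟨a, -, ha, -, -⟩ := U.classes
    by_contra! hall
    obtain ⟨χ₀, hχ₀, -⟩ := U.exists_mem_ne_zero
    exact ha (hmem (c := χ₀ a) fun χ hχ => by rw [hall χ hχ χ₀ hχ₀])
  have hgood : ∀ {χ}, χ ∈ Φ → U.quad.Good χ := fun {χ} h => U.good χ h fun e => by
    have := hodd χ h; rw [e] at this; exact zero_ne_one this
  have hz0 : ∀ z ∈ Z0, z = 0 ∨ z = z₁ := fun z hz => by
    by_cases h : z = 0
    · exact Or.inl h
    · exact Or.inr ((U.eq_of_sum z z₁).1 (U.sep _ fun χ hχ => by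
        rw [map_add, U.odd z hz h χ hχ, hodd χ hχ, zmod2_add_self]))
  have hη : χ + χ' ∈ evens Z0 := mem_evens.2 fun z hz => by
    rcases hz0 z hz with rfl | rfl
    · rw [map_zero]
    · rw [AddMonoidHom.add_apply, hodd χ hχ, hodd χ' hχ', zmod2_add_self]
  have hη0 : χ + χ' ≠ 0 := fun h => hne' (AddMonoidHom.ext fun z =>
    CharTwo.add_eq_zero.1 (DFunLike.congr_fun h z))
  obtain ⟨hS, hcard, hrad⟩ := U.aniso_sum hA hη hη0
  have hJ3 : (3 : ℤ) ≤ Z0.index := by exact_mod_cast U.index_ge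
  have hle : U.quad.rad χ ≤ U.quad.rad χ' := by
    by_contra h
    have := (gsum_pair (hgood hχ) (hgood hχ') h).1
    rw [hS, hcard] at this
    push_cast at this
    have h1 : (1 : ℤ) ≤ 2 ^ (2 * m) := by exact_mod_cast Nat.one_le_two_pow
    nlinarith
  have hbot : U.quad.rad χ = ⊥ := by
    rw [eq_bot_iff, ← hrad]
    intro x hx y
    rw [AddMonoidHom.add_apply, hx y, hle hx y, add_zero]
  have hA4 : Fintype.card A = 2 ^ (2 * m) := by
    rw [card_eq_four (hgood hχ), hbot, AddSubgroup.card_bot, mul_one]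
  have hirr : Quad.Irred ρ (⊤ : AddSubgroup A) := by
    refine ⟨fun _ _ => AddSubgroup.mem_top _, fun h => ?_, fun T hT _ => ?_⟩
    · have h' : Nat.card (⊤ : AddSubgroup A) = Nat.card (⊥ : AddSubgroup A) := by rw [h]
      rw [AddSubgroup.card_top, AddSubgroup.card_bot, Nat.card_eq_fintype_card, hA4] at h'
      exact absurd h' (Nat.one_lt_two_pow (by have := U.quad.pos; omega)).ne'
    · rcases (hgood hχ).le_rad_or hT with h | h
      · exact Or.inl (le_bot_iff.1 (h.trans hbot.le))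
      · right
        rw [eq_top_iff]
        intro x _
        obtain ⟨t, ht, he⟩ : (x : A ⧸ U.quad.rad χ) ∈ T.map (QuotientAddGroup.mk' (U.quad.rad χ)) :=
          h ▸ AddSubgroup.mem_top _
        have := QuotientAddGroup.eq.1 he
        rw [hbot, AddSubgroup.mem_bot, neg_add_eq_zero] at this
        exact this ▸ ht
  have hforms := U.quad.card_range_forms hirr (by
    rw [AddSubgroup.card_top, Nat.card_eq_fintype_card, hA4])
  have hinj : Function.Injective (Quad.formsHom sq (⊤ : AddSubgroup A)) := by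
    rw [injective_iff_map_eq_zero]
    intro θ hθ
    refine U.span θ fun a b => ?_
    have h : ∀ a, θ (sq a) = 0 := fun a => congrFun hθ ⟨a, AddSubgroup.mem_top a⟩
    rw [bz, map_sub, map_sub, h, h, h, sub_self, sub_self]
  rw [Nat.card_congr (AddMonoidHom.ofInjective hinj).toEquiv.symm,
    card_addHom_zmodTwo U.quad.twoZ, ← Z0.card_mul_index] at hforms
  have h2 : 2 ≤ Nat.card Z0 := by
    rw [Nat.succ_le_iff, Finite.one_lt_card_iff_nontrivial]
    exact ⟨⟨0, ⟨z₁, hz₁⟩, fun h => hne (congrArg Subtype.val h).symm⟩⟩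
  have h3 : Z0.index = 2 ^ m := by
    rw [hA4, two_mul, pow_add] at hcard
    exact (Nat.mul_self_inj.1 hcard).symm
  have := (Nat.mul_le_mul_right Z0.index h2).trans hforms
  have := U.index_ge
  omega

/-- The anisotropic case. -/
theorem aniso (hA : ∀ a, a ≠ 0 → sq a ∉ Z0) :
    Fintype.card A = 2 ^ (2 * m) ∧ Fintype.card Z = 2 ^ m ∧
      ∀ η : Z →+ ZMod 2, η ≠ 0 → η ∈ Φ ∧ U.quad.rad η = ⊥ := by
  classical
  have hbot := U.aniso_bot hA
  have hev : ∀ η : Z →+ ZMod 2, η ∈ evens Z0 := fun η => mem_evens.2 fun z hz => by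
    rw [hbot, AddSubgroup.mem_bot] at hz; rw [hz, map_zero]
  obtain ⟨χ, hχ, hχ0⟩ := U.exists_mem_ne_zero
  obtain ⟨-, hcard, hrad⟩ := U.aniso_sum hA (hev χ) hχ0
  have hA4 : Fintype.card A = 2 ^ (2 * m) := by
    rw [card_eq_four (U.good χ hχ hχ0), hrad, AddSubgroup.card_bot, mul_one]
  refine ⟨hA4, ?_, fun η hη => ⟨?_, (U.aniso_sum hA (hev η) hη).2.2⟩⟩
  · rw [hbot, AddSubgroup.index_bot, Nat.card_eq_fintype_card, hA4, two_mul, pow_add] at hcard
    exact (Nat.mul_self_inj.1 hcard).symm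
  · obtain ⟨c, rfl⟩ := U.dual_trans (hev χ) hχ0 (hev η) hη
    exact U.phi_act c χ hχ

end Duo

end CfsgLib.HHShult
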