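import Cfsg.Agent.HHShult.BadMin

/-!
# The fixed space of a bad element on `D / D'`

* `Cx.irred_fixA`: it is irreducible of order `2 ^ (2 m)`;
* `Cx.sq_mem_center_of_fixA`: squares of its elements are central in `G`;
* `Cx.exists_fixed_bad`: a bad element is conjugate in `D` to a fixed one.
-/

set_option autoImplicit false
set_option linter.style.haveILetI false
set_option linter.unusedSectionVars false

open Finset Module Subgroup
open scoped commutatorElement

namespace CfsgLib.HHShult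

universe u v w

variable {G : Type w} [Group G] [Finite G]

/-- The fixed points of `g ∈ N(D)` on `D / D'`. -/
noncomputable def fixA {D : Subgroup G} {g : G} (hg : g ∈ normalizer (D : Set G)) :
    AddSubgroup (FA D) where
  carrier := {a | nA hg a = a}
  zero_mem' := map_zero _
  add_mem' := fun {a b} ha hb => by
    show nA hg (a + b) = a + b
    rw [map_add, show nA hg a = a from ha, show nA hg b = b from hb]
  neg_mem' := fun {a} ha => by
    show nA hg (-a) = -a
    rw [map_neg, show nA hg a = a from ha]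

theorem mem_fixA {D : Subgroup G} {g : G} (hg : g ∈ normalizer (D : Set G)) {a : FA D} :
    a ∈ fixA hg ↔ nA hg a = a := Iff.rfl

/-- Functionals separate subgroups from points. -/
theorem exists_functional_notMem {B : Type*} [AddCommGroup B] (h2 : ∀ b : B, b + b = 0)
    {T : AddSubgroup B} {b : B} (hb : b ∉ T) :
    ∃ χ : B →+ ZMod 2, (∀ t ∈ T, χ t = 0) ∧ χ b = 1 := by
  letI : Module (ZMod 2) B := AddCommGroup.zmodModule fun b => by rw [two_nsmul, h2]
  obtain ⟨f, hf, hT⟩ := Submodule.exists_dual_map_eq_bot_of_notMem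
    (p := AddSubgroup.toZModSubmodule 2 T) (x := b) hb inferInstance
  refine ⟨f.toAddMonoidHom, fun t ht => ?_, (zmod2_cases _).resolve_left hf⟩
  exact (Submodule.mem_bot (ZMod 2)).1 (hT ▸ Submodule.mem_map_of_mem ht)

theorem Quad.half_injective {A Z : Type*} [AddCommGroup A] [AddCommGroup Z] {sq : A → Z}
    {ρ : AddMonoid.End A} {r m : ℕ} (h : Quad sq ρ r m) {a b : A} (hab : ρ a + a = ρ b + b) :
    a = b := by
  rw [← sub_eq_zero]
  refine h.fpf _ (sub_eq_zero.1 ?_)
  calc ρ (a - b) - (a - b) = (ρ a + a) - (ρ b + b) + (((b + b)) - (a + a)) := by rw [map_sub]; abel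
    _ = 0 := by rw [hab, sub_self, h.twoA, h.twoA, sub_self, add_zero]

theorem Quad.exists_half {A Z : Type*} [AddCommGroup A] [Finite A] [AddCommGroup Z] {sq : A → Z}
    {ρ : AddMonoid.End A} {r m : ℕ} (h : Quad sq ρ r m) {N : AddSubgroup A}
    (hN : Quad.InvSub ρ N) {a : A} (ha : a ∈ N) : ∃ b ∈ N, ρ b + b = a := by
  have hinj : Function.Injective fun b : N => (⟨ρ b + b, N.add_mem (hN b b.2) b.2⟩ : N) :=
    fun b c hbc => Subtype.ext (h.half_injective (congrArg Subtype.val hbc))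
  obtain ⟨b, hb⟩ := (Finite.injective_iff_surjective.1 hinj) ⟨a, ha⟩
  exact ⟨b, b.2, congrArg Subtype.val hb⟩

variable {K : Type u} [Field K] [IsAlgClosed K] {V : Type v} [AddCommGroup V] [Module K V]
  [FiniteDimensional K V]
variable {p : ℕ} [hp : Fact p.Prime] {σ : MulAut G} {r : ℕ} {ψ : G →* Module.End K V}
  {s : Module.End K V}

theorem Frame.invSub_fixA {D : Subgroup G} (F : Frame σ r ψ s D) {g : G} (hgf : σ g = g)
    (hg : g ∈ normalizer (D : Set G)) : Quad.InvSub F.rhoA (fixA hg) := fun a ha => by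
  show nA hg (F.rhoA a) = F.rhoA a
  rw [F.nA_comm hgf, show nA hg a = a from ha]

namespace Cx

variable (X : Cx p σ r ψ s) {D H : Subgroup G} (hD : IsStdD σ D) (hH : Home σ D H)
include X hD hH

omit hH in
/-- The `D`-part of a bad element is fixed by `t`. -/
theorem piA_mem_fixA {y d t : G} (hb : Bad σ D y d t) :
    piA (⟨d, hb.mem⟩ : ↥D) ∈ fixA hb.norm := by
  have F := X.frame hD
  have hy := hb.good.sq_eq X hD
  have hdd : t * t ∈ D := (hb.sq_mem X hD).1
  have e : (nD hb.norm ⟨d, hb.mem⟩ : ↥D) = (⟨d, hb.mem⟩ : ↥D)⁻¹ * (⟨t * t, hdd⟩ : ↥D)⁻¹ := by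
    apply Subtype.ext
    show t * d * t⁻¹ = d⁻¹ * (t * t)⁻¹
    have h1 : d * t * (d * t) = 1 := by rw [← hb.eq]; exact hy
    calc t * d * t⁻¹ = d⁻¹ * (d * t * (d * t)) * (t * t)⁻¹ := by group
      _ = _ := by rw [h1, mul_one]
  obtain ⟨m, hm, hr⟩ := X.exists_m
  rw [mem_fixA, nA_piA, e, piA_mul, piA_inv, (F.quad hm hr).negA, piA_inv,
    (F.piA_eq_zero _).2 ((F.center_iff (⟨t * t, hdd⟩ : ↥D)).2 (hb.sq_mem X hD).2), neg_zero, add_zero]

/-- Odd functionals of `C_Z(t)` occur. -/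
theorem exists_occurring {y d t : G} (hb : Bad σ D y d t) {z₁ : G} (hz : z₁ ∈ zsub σ D)
    (hz1 : ψ z₁ = -1) (ω : FZ D →+ ZMod 2) (hω : ω (toFZ ⟨z₁, hz.1⟩) = 1) :
    ∃ η : FZ D →+ ZMod 2, fE ψ η ≠ ⊥ ∧ ∀ z : FZ D, nZ hb.norm z = z → η z = ω z := by
  classical
  have F := X.frame hD
  haveI := X.nontrivial
  let Z₁ : AddSubgroup (FZ D) :=
    { carrier := {z | nZ hb.norm z = z}
      zero_mem' := map_zero _
      add_mem' := fun {a b} ha hb' => by
        show nZ hb.norm (a + b) = a + b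
        rw [map_add, show nZ hb.norm a = a from ha, show nZ hb.norm b = b from hb']
      neg_mem' := fun {a} ha => by
        show nZ hb.norm (-a) = -a
        rw [map_neg, show nZ hb.norm a = a from ha] }
  haveI := Fintype.ofFinite Z₁
  by_contra! hall
  have hzero : ∑ z : Z₁, ∑ χ : FZ D →+ ZMod 2,
      (finrank K (fE ψ χ : Submodule K V) : ℤ) * sgn (χ z + ω z) = 0 := by
    rw [Finset.sum_comm]
    refine Finset.sum_eq_zero fun χ _ => ?_
    rw [← Finset.mul_sum]
    by_cases hocc : fE ψ χ = ⊥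
    · rw [hocc, finrank_bot, Nat.cast_zero, zero_mul]
    · refine mul_eq_zero_of_right _ (sum_sgn_eq_zero ((χ + ω).comp Z₁.subtype) ?_)
      obtain ⟨z, hz', hne⟩ := hall χ hocc
      refine ⟨⟨z, hz'⟩, fun h => hne ?_⟩
      have key : ∀ a b : ZMod 2, a + b = 0 → a = b := by decide
      exact key _ _ h
  have hN : ∑ χ : FZ D →+ ZMod 2, (finrank K (fE ψ χ : Submodule K V) : ℤ) = finrank K V := by
    rw [F.finrank_top_eq_sum, Nat.cast_sum]
  have hpos : ∀ z : Z₁, 0 ≤ ∑ χ : FZ D →+ ZMod 2,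
      (finrank K (fE ψ χ : Submodule K V) : ℤ) * sgn (χ z + ω z) := by
    rintro ⟨z, hzt⟩
    obtain ⟨⟨e, he⟩, rfl⟩ := Additive.ofMul.surjective z
    have hez : (e : G) ∈ zsub σ D := ⟨e.2, (F.center_iff e).1 he⟩
    have hte : toFZ e = Additive.ofMul ⟨e, he⟩ := toFZ_of_mem he
    by_cases hec : (e : G) ∈ Subgroup.center G
    · refine Finset.sum_nonneg fun χ _ => ?_
      by_cases hocc : fE ψ χ = ⊥
      · rw [hocc, finrank_bot, Nat.cast_zero, zero_mul]
      have hsame : χ (Additive.ofMul ⟨e, he⟩) = ω (Additive.ofMul ⟨e, he⟩) := by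
        rw [← hte]
        rcases X.eq_one_or_minus_one hD hH hz1 hez hec with h | h
        · rw [show e = 1 from Subtype.ext h, toFZ_of_mem (one_mem _)]
          exact (χ.map_zero).trans (ω.map_zero).symm
        · rw [show e = (⟨z₁, hz.1⟩ : ↥D) from Subtype.ext h,
            (X.odd_of_occurs hD hH hb hocc hz hz1).1, hω]
      show 0 ≤ _ * sgn (χ _ + ω _)
      rw [hsame, zmod2_add_self, sgn_zero, mul_one]
      exact Int.natCast_nonneg _
    · -- such an element has two eigenspaces of equal dimension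
      have hte' : t * (e : G) * t⁻¹ = e := by
        have h1 : Additive.ofMul (⟨nD hb.norm e, map_center_mem _ he⟩ : ↥(Subgroup.center ↥D)) =
            Additive.ofMul ⟨e, he⟩ := hzt
        exact congrArg Subtype.val (congrArg Subtype.val (Additive.ofMul.injective h1))
      have hey : (e : G) * y = y * e := by
        have h2 : (e : G) * d = d * e :=
          congrArg Subtype.val (Subgroup.mem_center_iff.1 he ⟨d, hb.mem⟩).symm
        rw [hb.eq]
        calc (e : G) * (d * t) = d * ((e : G) * t) := by rw [← mul_assoc, h2, mul_assoc]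
          _ = d * (t * (e : G) * t⁻¹ * t) := by rw [hte']
          _ = _ := by group
      have h2 := X.two_mul_finrank hD hH hb hez hec hey (lam := (-1 : K)) (Or.inr rfl)
      rw [neg_smul, one_smul, sub_neg_eq_add, show LinearMap.ker (ψ (e : G) + 1) = minus (ψ (e : G))
        from rfl, F.finrank_minus_center he, hte] at h2
      refine le_of_eq ?_
      calc (0 : ℤ) = sgn (ω (Additive.ofMul ⟨e, he⟩)) * (∑ χ : FZ D →+ ZMod 2,
            (finrank K (fE ψ χ : Submodule K V) : ℤ) - 2 * ∑ χ : FZ D →+ ZMod 2 with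
              χ (Additive.ofMul ⟨e, he⟩) = 1, (finrank K (fE ψ χ : Submodule K V) : ℤ)) := by
            rw [hN, ← Nat.cast_sum, ← h2]; push_cast; ring
        _ = _ := by
          rw [Finset.sum_filter, Finset.mul_sum (a := (2 : ℤ)), ← Finset.sum_sub_distrib,
            Finset.mul_sum]
          refine Finset.sum_congr rfl fun χ _ => ?_
          show _ = _ * sgn (χ _ + ω _)
          rw [sgn_add]
          rcases zmod2_cases (χ (Additive.ofMul ⟨e, he⟩)) with h | h <;> simp [h]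
          all_goals ring
  have h0 := (Finset.sum_eq_zero_iff_of_nonneg fun z _ => hpos z).1 hzero 0 (Finset.mem_univ _)
  simp only [AddSubgroup.coe_zero, map_zero, add_zero, sgn_zero, mul_one, hN] at h0
  have := Module.finrank_pos (R := K) (M := V)
  omega

/-- The fixed space meets no radical. -/
theorem fixA_inf_rad {y d t : G} (hb : Bad σ D y d t) {m : ℕ} (hm : 0 < m) (hr : r = 2 ^ m + 1)
    {lam : FZ D →+ ZMod 2} (hocc : fE ψ lam ≠ ⊥) :
    fixA hb.norm ⊓ ((X.frame hD).quad hm hr).rad lam = ⊥ := by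
  classical
  have F := X.frame hD
  set Q := F.quad hm hr with hQ
  obtain ⟨z₁, hz, hz1⟩ := X.exists_minus_one hD hH hb
  have hn := hb.norm
  have hdD := hb.mem
  have hzc : (⟨z₁, hz.1⟩ : ↥D) ∈ Subgroup.center ↥D := (F.center_iff (⟨z₁, hz.1⟩ : ↥D)).2 hz.2
  set ζ := toFZ (⟨z₁, hz.1⟩ : ↥D) with hζ
  have hgood : ∀ χ, fE ψ χ ≠ ⊥ → Q.Good χ := fun χ h =>
    F.good hm hr h (X.odd_of_occurs hD hH hb h hz hz1).2
  by_contra hne
  obtain ⟨N, hNle, hN⟩ := Quad.exists_irred (ρ := F.rhoA) (M := fixA hn ⊓ Q.rad lam)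
    (fun x hx => ⟨F.invSub_fixA hb.fix hn x hx.1, Q.invSub_rad lam x hx.2⟩) hne
  have hcard := Q.card_irred (F.sep hm hr) F.nondeg hN
  have hNfix : ∀ n ∈ N, nA hn n = n := fun n hn' => (hNle hn').1
  have hNlam : ∀ n ∈ N, n ∈ Q.rad lam := fun n hn' => (hNle hn').2
  have hsqfix : ∀ n, nA hn n = n → nZ hn (sqA D n) = sqA D n := fun n h => by
    rw [← F.sqA_nA, h]
  -- `β` is determined by the forms
  have hdet : ∀ χ : FZ D →+ ZMod 2, (∀ n ∈ N, χ (sqA D n) = 0) →
      ∀ n ∈ N, χ (bz (sqA D) n (piA ⟨d, hdD⟩)) = 0 := by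
    intro χ hχ n hn'
    have hTd : nA hn (piA ⟨d, hdD⟩) = piA ⟨d, hdD⟩ := X.piA_mem_fixA hD hb
    have hbfix : nZ hn (bz (sqA D) n (piA ⟨d, hdD⟩)) = bz (sqA D) n (piA ⟨d, hdD⟩) := by
      rw [← F.bz_nA, hNfix n hn', hTd]
    obtain ⟨ω, hω, hωN, hωb⟩ : ∃ ω : FZ D →+ ZMod 2, ω ζ = 1 ∧ (∀ n ∈ N, ω (sqA D n) = 0) ∧
        (ω (bz (sqA D) n (piA ⟨d, hdD⟩)) = 0 → χ (bz (sqA D) n (piA ⟨d, hdD⟩)) = 0) := by
      rcases zmod2_cases (χ ζ) with h | h
      · refine ⟨χ + lam, ?_, fun a ha => ?_, fun h0 => ?_⟩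
        · show χ ζ + lam ζ = 1
          rw [h, zero_add, (X.odd_of_occurs hD hH hb hocc hz hz1).1]
        · show χ _ + lam _ = 0
          rw [hχ a ha, zero_add, (hgood lam hocc).singular a (hNlam a ha)]
        · have h0' : χ (bz (sqA D) n (piA ⟨d, hdD⟩)) + lam (bz (sqA D) n (piA ⟨d, hdD⟩)) = 0 := h0
          rwa [hNlam n hn' _, add_zero] at h0'
      · exact ⟨χ, h, hχ, id⟩
    obtain ⟨η, hη, hagree⟩ := X.exists_occurring hD hH hb hz hz1 ω hω
    apply hωb
    rw [← hagree _ hbfix]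
    rcases (hgood η hη).le_rad_or hN.inv with hle | htop
    · exact hle hn' _
    · exfalso
      letI := Fintype.ofFinite (FA D ⧸ Q.rad η)
      obtain ⟨q, hq⟩ := (hgood η hη).line.exists_nonsingular
      obtain ⟨a, ha, rfl⟩ : q ∈ N.map (QuotientAddGroup.mk' (Q.rad η)) := htop ▸ AddSubgroup.mem_top q
      rw [QuotientAddGroup.mk'_apply, Quad.radForm_mk (hgood η hη), hagree _ (hsqfix a (hNfix a ha)),
        hωN a ha] at hq
      exact zero_ne_one hq
  -- a form not vanishing on `N`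
  obtain ⟨χ, hχne⟩ : ∃ χ : FZ D →+ ZMod 2, ∃ a ∈ N, χ (sqA D a) ≠ 0 := by
    by_contra! hall
    obtain ⟨⟨a, ha⟩, ha0⟩ := AddSubgroup.ne_bot_iff_exists_ne_zero.1 hN.ne_bot
    refine ha0 (Subtype.ext (F.nondeg a fun b => F.sep hm hr _ fun χ hg => ?_))
    rcases hg.le_rad_or hN.inv with hle | htop
    · exact hle ha b
    · exfalso
      letI := Fintype.ofFinite (FA D ⧸ Q.rad χ)
      obtain ⟨q, hq⟩ := hg.line.exists_nonsingular
      obtain ⟨c, hc, rfl⟩ : q ∈ N.map (QuotientAddGroup.mk' (Q.rad χ)) := htop ▸ AddSubgroup.mem_top q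
      rw [QuotientAddGroup.mk'_apply, Quad.radForm_mk hg, hall χ c hc] at hq
      exact zero_ne_one hq
  obtain ⟨n, hn', hnd, hnχ⟩ := Q.exists_kernel_nonsingular hN hcard _ hdet χ hχne
  obtain ⟨b, hb', hbn⟩ := Q.exists_half hN.inv hn'
  obtain ⟨x, hxA, hxt, hxtriv⟩ := F.exists_lift_pair hb.fix hn (hNfix b hb') 1 0
  rw [pow_one, pow_zero, AddMonoid.End.coe_one, id_eq, hbn] at hxA
  have hxy : (x : G) * y = y * x := F.commute_dec hb.toDec hxt (by rw [hxA]; exact hnd)
  have hec : x * x ∈ Subgroup.center ↥D := sq x ▸ F.sq_mem x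
  have hez : (x : G) * x ∈ zsub σ D := ⟨(x * x).2, (F.center_iff _).1 hec⟩
  have hsq : sqA D n = toFZ (x * x) := by rw [← hxA, F.sqA_piA, sq]
  have henc : (x : G) * x ∉ Subgroup.center G := by
    intro hc
    rcases X.eq_one_or_minus_one hD hH hz1 hez hc with h | h
    · apply hnχ
      rw [hsq, show x * x = 1 from Subtype.ext h, toFZ_of_mem (one_mem _)]
      exact χ.map_zero
    · have h1 := (hgood lam hocc).singular n (hNlam n hn')
      rw [hsq, show x * x = (⟨z₁, hz.1⟩ : ↥D) from Subtype.ext h, ← hζ,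
        (X.odd_of_occurs hD hH hb hocc hz hz1).1] at h1
      exact one_ne_zero h1
  -- the eigenvalue one prevails
  have hp1 := X.four_mul_finrank hD hH hb hez henc hxy (lam := (1 : K)) (Or.inl rfl)
  have hm1 := X.four_mul_finrank hD hH hb hez henc hxy (lam := (-1 : K)) (Or.inr rfl)
  rw [F.finrank_ker_eq_sum] at hp1 hm1
  have htriv : ∀ η, n ∈ Q.rad η → ∀ v ∈ fE ψ η, ψ (x : G) v = v := by
    intro η hη v hv
    refine hxtriv η (fun u hu => (F.mem_radSub_iff hm hr η u).2 ?_) v hv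
    obtain ⟨b', hb'', hb'n⟩ := Q.exists_half (Q.invSub_rad η) hη
    rw [hu, ← Q.half_injective (hb'n.trans hbn.symm)]
    exact hb''
  have hker : ∀ (μ : K) (v : V), v ∈ LinearMap.ker (ψ (x : G) - μ • 1) ↔ ψ (x : G) v = μ • v :=
    fun μ v => by
      rw [LinearMap.mem_ker, LinearMap.sub_apply, LinearMap.smul_apply, Module.End.one_apply,
        sub_eq_zero]
  have hmtriv : ∀ η, n ∈ Q.rad η →
      LinearMap.ker (ψ (x : G) - (-1 : K) • 1) ⊓ fE ψ η = ⊥ := by
    intro η hη
    refine eq_bot_iff.2 fun v hv => ?_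
    have h1 := (hker _ v).1 hv.1
    rw [htriv η hη v hv.2, neg_smul, one_smul] at h1
    have h4 : (2 : K) • v = 0 := by rw [two_smul]; exact add_eq_zero_iff_eq_neg.2 h1
    exact (Submodule.mem_bot _).2 ((smul_eq_zero.1 h4).resolve_left F.two_ne)
  have hle : ∀ η : FZ D →+ ZMod 2,
      finrank K (LinearMap.ker (ψ (x : G) - (-1 : K) • 1) ⊓ fE ψ η : Submodule K V) ≤
        finrank K (LinearMap.ker (ψ (x : G) - (1 : K) • 1) ⊓ fE ψ η : Submodule K V) := by
    intro η
    by_cases hη : n ∈ Q.rad η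
    · rw [hmtriv η hη, finrank_bot]; exact Nat.zero_le _
    obtain ⟨u, hu⟩ := F.exists_anti_mem (χ := η) (x := x) fun hxr =>
      hη (by rw [← hxA]; exact (F.mem_radSub_iff hm hr η x).1 hxr)
    rcases zmod2_cases (η (toFZ (x * x))) with h | h
    · have hhalf := F.two_mul_finrank_half (g := ψ (x : G)) (fun v hv => F.mapsTo_fE η x hv)
        (fun v hv => by
          rw [← Module.End.mul_apply, ← map_mul, ← Subgroup.coe_mul, mem_fE.1 hv _ hec,
            h, sK_zero, one_smul]) hu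
      rw [inf_comm, inf_comm (LinearMap.ker (ψ (x : G) - (1 : K) • 1)), neg_smul, one_smul,
        sub_neg_eq_add]
      exact (by unfold minus plus at hhalf; omega)
    · rw [show LinearMap.ker (ψ (x : G) - (-1 : K) • 1) ⊓ fE ψ η = ⊥ from eq_bot_iff.2 fun v hv => by
        have h1 := (hker _ v).1 hv.1
        have h2 := mem_fE.1 hv.2 _ hec
        rw [h, sK_one, Subgroup.coe_mul, map_mul, Module.End.mul_apply, h1, map_smul, h1, smul_smul,
          neg_mul_neg, one_mul, one_smul, neg_smul, one_smul] at h2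
        have h4 : (2 : K) • v = 0 := by rw [two_smul]; exact add_eq_zero_iff_eq_neg.2 h2
        exact (Submodule.mem_bot _).2 ((smul_eq_zero.1 h4).resolve_left F.two_ne), finrank_bot]
      exact Nat.zero_le _
  have hlt : finrank K (LinearMap.ker (ψ (x : G) - (-1 : K) • 1) ⊓ fE ψ lam : Submodule K V) <
      finrank K (LinearMap.ker (ψ (x : G) - (1 : K) • 1) ⊓ fE ψ lam : Submodule K V) := by
    rw [hmtriv lam (hNlam n hn'), finrank_bot, inf_eq_right.2 fun v hv => (hker _ v).2 (by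
      rw [htriv lam (hNlam n hn') v hv, one_smul])]
    exact Submodule.one_le_finrank_iff.2 hocc
  have := Finset.sum_lt_sum (s := (Finset.univ : Finset (FZ D →+ ZMod 2)))
    (fun η _ => hle η) ⟨lam, Finset.mem_univ _, hlt⟩
  omega

/-- The fixed space is irreducible. -/
theorem irred_fixA {y d t : G} (hb : Bad σ D y d t) {m : ℕ} (hm : 0 < m) (hr : r = 2 ^ m + 1) :
    Quad.Irred (X.frame hD).rhoA (fixA hb.norm) ∧ Nat.card (fixA hb.norm) = 2 ^ (2 * m) := by
  classical
  have F := X.frame hD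
  haveI := X.nontrivial
  set Q := F.quad hm hr with hQ
  obtain ⟨z₁, hz, hz1⟩ := X.exists_minus_one hD hH hb
  obtain ⟨lam, hocc⟩ : ∃ lam : FZ D →+ ZMod 2, fE ψ lam ≠ ⊥ := by
    by_contra! hall
    have := F.finrank_top_eq_sum
    rw [Finset.sum_eq_zero fun χ _ => by rw [hall χ, finrank_bot]] at this
    exact Module.finrank_pos.ne' this
  have hne : fixA hb.norm ≠ ⊥ := by
    have hg := F.good hm hr hocc (X.odd_of_occurs hD hH hb hocc hz hz1).2
    haveI := hg.line.nontrivial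
    haveI : Nontrivial (FA D) := (QuotientAddGroup.mk_surjective (s := Q.rad lam)).nontrivial
    obtain ⟨a, ha⟩ := exists_ne (0 : FA D)
    rw [AddSubgroup.ne_bot_iff_exists_ne_zero]
    by_cases h1 : a + nA hb.norm a = 0
    · exact ⟨⟨a, by rw [mem_fixA, ← add_eq_zero_iff_neg_eq.1 h1, Q.negA]⟩,
        fun h => ha (congrArg Subtype.val h)⟩
    · exact ⟨⟨a + nA hb.norm a, by
        rw [mem_fixA, map_add, F.nA_nA_eq hb.toDec (hb.sq_mem X hD).1, add_comm]⟩,
        fun h => h1 (congrArg Subtype.val h)⟩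
  obtain ⟨N, hNle, hN⟩ := Quad.exists_irred (ρ := F.rhoA) (F.invSub_fixA hb.fix hb.norm) hne
  have hcard := Q.card_irred (F.sep hm hr) F.nondeg hN
  have hle : Nat.card (fixA hb.norm) ≤ 2 ^ (2 * m) := by
    rw [← (F.good hm hr hocc (X.odd_of_occurs hD hH hb hocc hz hz1).2).card]
    refine Nat.card_le_card_of_injective (fun a : fixA hb.norm => ((a : FA D) : FA D ⧸ Q.rad lam))
      fun a b hab => Subtype.ext ?_
    have h1 : -(a : FA D) + b ∈ fixA hb.norm ⊓ Q.rad lam :=
      ⟨(fixA hb.norm).add_mem ((fixA hb.norm).neg_mem a.2) b.2, QuotientAddGroup.eq.1 hab⟩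
    rw [X.fixA_inf_rad hD hH hb hm hr hocc, AddSubgroup.mem_bot, neg_add_eq_zero] at h1
    exact h1
  obtain rfl := AddSubgroup.eq_of_le_of_card_ge hNle (hcard.symm ▸ hle)
  exact ⟨hN, hcard⟩

/-- Squares of the fixed space are central in `G`. -/
theorem sq_mem_center_of_fixA {y d t : G} (hb : Bad σ D y d t) (x : ↥D)
    (hx : piA x ∈ fixA hb.norm) : (x : G) * x ∈ Subgroup.center G := by
  classical
  have F := X.frame hD
  obtain ⟨m, hm, hr⟩ := X.exists_m
  set Q := F.quad hm hr with hQ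
  obtain ⟨hirr, hcard⟩ := X.irred_fixA hD hH hb hm hr
  obtain ⟨z₁, hz, hz1⟩ := X.exists_minus_one hD hH hb
  by_contra hnc
  set ζ := toFZ (⟨z₁, hz.1⟩ : ↥D) with hζ
  have hzc : (⟨z₁, hz.1⟩ : ↥D) ∈ Subgroup.center ↥D := (F.center_iff (⟨z₁, hz.1⟩ : ↥D)).2 hz.2
  have hnot : sqA D (piA x) ∉ AddSubgroup.zmultiples ζ := by
    intro h
    obtain ⟨k, hk⟩ := AddSubgroup.mem_zmultiples_iff.1 h
    apply hnc
    have hxx : x * x ∈ Subgroup.center ↥D := sq x ▸ F.sq_mem x
    rw [F.sqA_piA, sq, hζ, toFZ_of_mem hxx, toFZ_of_mem hzc, ← ofMul_zpow] at hk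
    have := congrArg (fun e : ↥(Subgroup.center ↥D) => ((e : ↥D) : G)) (Additive.ofMul.injective hk)
    simp only [Subgroup.coe_zpow, Subgroup.coe_mul] at this
    rw [← this]
    exact zpow_mem (X.central_of_minus_one hz1) k
  obtain ⟨χ, hχT, hχ⟩ := exists_functional_notMem F.twoZ hnot
  have hdfix : piA ⟨d, hb.mem⟩ ∈ fixA hb.norm := X.piA_mem_fixA hD hb
  obtain ⟨n, hn, hnd, hnχ⟩ := Q.exists_kernel_nonsingular hirr hcard _ (fun η hη n hn => by
      rw [bz, sub_eq_add_neg, sub_eq_add_neg, map_add, map_add, map_neg, map_neg, hη n hn,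
        hη _ hdfix, hη _ ((fixA hb.norm).add_mem hn hdfix), neg_zero, add_zero, add_zero])
    χ ⟨piA x, hx, by rw [hχ]; exact one_ne_zero⟩
  obtain ⟨b, hb', hbn⟩ := Q.exists_half hirr.inv hn
  obtain ⟨w, hwA, hwt, -⟩ := F.exists_lift_pair hb.fix hb.norm hb' 1 0
  rw [pow_one, pow_zero, AddMonoid.End.coe_one, id_eq, hbn] at hwA
  have hwy : (w : G) * y = y * w := F.commute_dec hb.toDec hwt (by rw [hwA]; exact hnd)
  have hec : w * w ∈ Subgroup.center ↥D := sq w ▸ F.sq_mem w
  have hez : (w : G) * w ∈ zsub σ D := ⟨(w * w).2, (F.center_iff _).1 hec⟩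
  have henc : (w : G) * w ∉ Subgroup.center G := by
    intro hc
    apply hnχ
    rw [← hwA, F.sqA_piA, sq]
    rcases X.eq_one_or_minus_one hD hH hz1 hez hc with h | h
    · rw [show w * w = 1 from Subtype.ext h, toFZ_of_mem (one_mem _)]
      exact χ.map_zero
    · rw [show w * w = (⟨z₁, hz.1⟩ : ↥D) from Subtype.ext h, ← hζ]
      exact hχT _ (AddSubgroup.mem_zmultiples ζ)
  have hw4 : (w : G) ^ 4 = 1 := by
    rw [← X.zsub_sq hD hez]
    simp only [pow_succ, pow_zero, one_mul, mul_assoc]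
  obtain ⟨g', w', d', t', -, hdec, -, hbad⟩ := hb.exists_frame X hD hH hwy (a := 2) hw4
  have hb2 := (hbad _ hez henc).2 rfl
  -- the fixed space of `t' * t'` is that of `t'`
  have htt : ∀ a, nA hb2.norm a = nA hdec.norm (nA hdec.norm a) := fun a => by rw [← nA_mul_apply]
  have hu4 : ∀ a, nA hb2.norm (nA hb2.norm a) = a := F.nA_nA_eq hb2.toDec (hb2.sq_mem X hD).1
  obtain ⟨hirr2, -⟩ := X.irred_fixA hD hH hb2 hm hr
  set u := nA hdec.norm with hu
  have hfix : ∀ a, u (u a) = a → u a = a := by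
    have hle : fixA hdec.norm ≤ fixA hb2.norm := fun a ha => by
      rw [mem_fixA] at ha ⊢; rw [htt, ha, ha]
    rcases hirr2.min _ (F.invSub_fixA hdec.fix hdec.norm) hle with h | h
    · exfalso
      obtain ⟨⟨a, ha⟩, ha0⟩ := AddSubgroup.ne_bot_iff_exists_ne_zero.1 hirr2.ne_bot
      rw [mem_fixA, htt] at ha
      have h1 : a + u a ∈ fixA hdec.norm := by
        rw [mem_fixA, map_add, ha, add_comm]
      rw [h, AddSubgroup.mem_bot, add_eq_zero_iff_neg_eq, Q.negA] at h1
      have h2 : a ∈ fixA hdec.norm := h1.symm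
      rw [h, AddSubgroup.mem_bot] at h2
      exact ha0 (Subtype.ext h2)
    · intro a ha
      have h1 : a ∈ fixA hb2.norm := by rw [mem_fixA, htt]; exact ha
      rw [← h] at h1
      exact h1
  have hall : ∀ a, u a = a := by
    intro a
    have h4 : u (u (u (u a))) = a := by
      have := hu4 a; rwa [htt, htt] at this
    have hc : u (u (u a) + a) = u (u a) + a := hfix _ (by rw [map_add, map_add, h4, add_comm])
    rw [map_add] at hc
    have he : u (u a + a) = u a + a := by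
      refine hfix _ ?_
      rw [map_add, map_add, eq_add_of_add_neg_eq (a := u (u (u a))) (b := u (u a) + a) (c := u a)
        (by rw [Q.negA]; exact hc)]
      calc u (u a) + a + u a + u (u a) = (u (u a) + u (u a)) + (u a + a) := by abel
        _ = _ := by rw [Q.twoA, zero_add]
    rw [map_add] at he
    exact hfix a (add_right_cancel (he.trans (add_comm _ _)))
  -- so the new bad element is fixed and centralises `D`
  have hd2 : (⟨d' * (t' * d' * t'⁻¹), hb2.mem⟩ : ↥D) ∈ Subgroup.center ↥D := by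
    rw [← F.piA_eq_zero, show (⟨d' * (t' * d' * t'⁻¹), hb2.mem⟩ : ↥D) =
      ⟨d', hdec.mem⟩ * nD hdec.norm ⟨d', hdec.mem⟩ from Subtype.ext rfl, piA_mul, ← nA_piA, ← hu, hall,
      Q.twoA]
  have htC : t' * t' ∈ centralizer (D : Set G) :=
    X.mem_centralizer_of_fix_zsub hD hb2.fix hb2.norm fun e he => by
      have h1 := congrArg Subtype.val (F.nD_center_of_nA hb2.norm
        (fun a => by rw [htt, hall, hall]) ((F.center_iff (⟨e, he.1⟩ : ↥D)).2 he.2))
      exact mul_inv_eq_iff_eq_mul.1 h1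
  refine hb2.not_fixed_centralizer X hD hH ?_ ?_
  · rw [hb2.eq, map_mul, hb2.fix, (F.center_iff _).1 hd2]
  · rw [hb2.eq]
    refine mul_mem (mem_centralizer_iff.2 fun a ha => ?_) htC
    exact congrArg Subtype.val (Subgroup.mem_center_iff.1 hd2 ⟨a, ha⟩)

/-- A bad element moves `D / D'`. -/
theorem exists_moved_fixA {y d t : G} (hb : Bad σ D y d t) : ∃ a, nA hb.norm a ≠ a := by
  by_contra! hall
  have F := X.frame hD
  obtain ⟨g, z, hz, hzc, -⟩ := hb.good
  apply hzc
  have hzc' : (⟨z, hz.1⟩ : ↥D) ∈ commutator ↥D := by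
    rw [F.m2.commutator_eq_center]; exact (F.center_iff (⟨z, hz.1⟩ : ↥D)).2 hz.2
  have hle : commutator ↥D ≤ (Subgroup.center G).comap D.subtype := by
    rw [commutator_eq_closure, closure_le]
    rintro _ ⟨a, b, rfl⟩
    have hsq : ∀ c : ↥D, (c : G) * c ∈ Subgroup.center G := fun c =>
      X.sq_mem_center_of_fixA hD hH hb c (hall _)
    show ((⁅a, b⁆ : ↥D) : G) ∈ Subgroup.center G
    have e : ((b * a : ↥D) : G) * (b * a : ↥D) =
        ((b : G) * b * ((a : G) * a)) * ((⁅a, b⁆ : ↥D) : G) := by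
      have h := congrArg Subtype.val (F.sq_mul b a)
      simpa only [sq, Subgroup.coe_mul] using h
    have h2 := hsq (b * a)
    rw [e] at h2
    exact (Subgroup.mul_mem_cancel_left _ (mul_mem (hsq b) (hsq a))).1 h2
  exact hle hzc'

/-- A bad element is conjugate in `D` to a fixed one. -/
theorem exists_fixed_bad {y d t : G} (hb : Bad σ D y d t) : ∃ y', Bad σ D y' 1 y' := by
  have F := X.frame hD
  obtain ⟨m, hm, hr⟩ := X.exists_m
  set Q := F.quad hm hr
  set u := nA hb.norm with hu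
  have huu := F.nA_nA_eq hb.toDec (hb.sq_mem X hD).1
  obtain ⟨a, ha⟩ := X.exists_moved_fixA hD hH hb
  obtain ⟨hirr, -⟩ := X.irred_fixA hD hH hb hm hr
  let img : AddSubgroup (FA D) := ((1 : AddMonoid.End (FA D)) + u : FA D →+ FA D).range
  have himg : ∀ c, c ∈ img ↔ ∃ b, b + u b = c := fun c => Iff.rfl
  have himgle : img ≤ fixA hb.norm := by
    rintro c hc
    obtain ⟨b, rfl⟩ := (himg c).1 hc
    rw [mem_fixA, ← hu, map_add, huu, add_comm]
  have hinv : Quad.InvSub F.rhoA img := by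
    intro c hc
    obtain ⟨b, rfl⟩ := (himg c).1 hc
    exact (himg _).2 ⟨F.rhoA b, by rw [map_add, hu, F.nA_comm hb.fix]⟩
  have heq : img = fixA hb.norm := by
    refine (hirr.min img hinv himgle).resolve_left fun h => ha ?_
    have h1 : a + u a ∈ img := (himg _).2 ⟨a, rfl⟩
    rw [h, AddSubgroup.mem_bot, add_eq_zero_iff_neg_eq, Q.negA] at h1
    exact h1.symm
  obtain ⟨b, hb'⟩ := (himg _).1 (show piA (⟨d, hb.mem⟩ : ↥D) ∈ img from
    heq.symm ▸ X.piA_mem_fixA hD hb)
  obtain ⟨w, rfl⟩ := piA_surjective b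
  have hd' : w * ⟨d, hb.mem⟩ * nD hb.norm w⁻¹ ∈ Subgroup.center ↥D := by
    rw [← F.piA_eq_zero, piA_mul, piA_mul, map_inv, piA_inv, ← nA_piA, ← hu, ← hb', Q.negA]
    calc piA w + (piA w + u (piA w)) + u (piA w)
        = (piA w + piA w) + (u (piA w) + u (piA w)) := by abel
      _ = 0 := by rw [Q.twoA, Q.twoA, add_zero]
  set y' := (w : G) * y * (w : G)⁻¹ with hy'
  have hy'e : y' = ((w * ⟨d, hb.mem⟩ * nD hb.norm w⁻¹ : ↥D) : G) * t := by
    simp only [Subgroup.coe_mul, Subgroup.coe_inv, map_inv, nD_apply]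
    calc y' = (w : G) * (d * t) * (w : G)⁻¹ := by rw [hy', ← hb.eq]
      _ = _ := by group
  refine ⟨y', ⟨(one_mul y').symm, one_mem D, ?_, ?_⟩, hb.good.conj _, fun h => hb.not_zsub ?_⟩
  · rw [hy'e, map_mul, hb.fix, (F.center_iff _).1 hd']
  · rw [hy'e]
    exact mul_mem (le_normalizer (w * ⟨d, hb.mem⟩ * nD hb.norm w⁻¹).2) hb.norm
  · have h2 : y = y' := by
      have h3 := X.zsub_comm hD h (D.inv_mem w.2)
      calc y = (w : G)⁻¹ * y' * w := by rw [hy']; group
        _ = y' * (w : G)⁻¹ * w := by rw [h3]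
        _ = y' := by group
    rwa [h2]

end Cx

end CfsgLib.HHShult
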