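import Cfsg.Agent.HHShult.Lift

/-!
# A bad element does not centralise `D` on any eigenspace

`Cx.bad_full`: if there is a bad element, some `z ∈ C_D(σ)` acts as `-1` and the weight of every bad
element is the whole dimension.  Consequences: `Cx.finrank_of_bad`, `Cx.four_mul_finrank`: the
eigenspace dimensions of involutions and elements of order four commuting with a bad element.
-/

set_option autoImplicit false
set_option linter.style.haveILetI false
set_option linter.unusedSectionVars false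

open Finset Module Subgroup
open scoped commutatorElement

namespace CfsgLib.HHShult

universe u v w

variable {G : Type w} [Group G] [Finite G]
variable {K : Type u} [Field K] [IsAlgClosed K] {V : Type v} [AddCommGroup V] [Module K V]
  [FiniteDimensional K V]
variable {p : ℕ} [hp : Fact p.Prime] {σ : MulAut G} {r : ℕ} {ψ : G →* Module.End K V}
  {s : Module.End K V}

open scoped Classical in
/-- The occurring characters whose radical does not contain `a`. -/
noncomputable def supp (ψ : G →* Module.End K V) {D : Subgroup G} (a : FA D) :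
    Finset (FZ D →+ ZMod 2) :=
  Finset.univ.filter fun χ => fE ψ χ ≠ ⊥ ∧ ∃ b, χ (bz (sqA D) a b) ≠ 0

theorem mem_supp {D : Subgroup G} {a : FA D} {χ : FZ D →+ ZMod 2} :
    χ ∈ supp ψ a ↔ fE ψ χ ≠ ⊥ ∧ ∃ b, χ (bz (sqA D) a b) ≠ 0 := by simp [supp]

namespace Frame

variable {D : Subgroup G} (F : Frame σ r ψ s D) {m : ℕ}
include F

theorem nA_nA_eq {y d t : G} (h : Dec σ D y d t) (htt : t * t ∈ D) (a : FA D) :
    nA h.norm (nA h.norm a) = a := by
  rw [← nA_mul_apply]
  exact F.nA_of_mem htt _ a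

theorem finrank_ker_eq_sum {x : ↥D} (lam : K) :
    finrank K (LinearMap.ker (ψ (x : G) - lam • 1) : Submodule K V) = ∑ χ : FZ D →+ ZMod 2,
      finrank K (LinearMap.ker (ψ (x : G) - lam • 1) ⊓ fE ψ χ : Submodule K V) :=
  F.finrank_eq_sum_fE (stable_ker (fun z hz => congrArg Subtype.val
    (Subgroup.mem_center_iff.1 hz x)) lam)

/-- A square with many negated vectors in `symSpan · a`. -/
theorem exists_neg_square (hr' : r = 2 ^ m + 1) (hm' : 0 < m) {a : FA D} (ha : a ≠ 0) :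
    ∃ f ∈ Quad.symSpan F.rhoA r,
      ∑ χ ∈ supp ψ a, (finrank K (fE ψ χ : Submodule K V) : ℤ) * sgn (χ (sqA D (f a))) < 0 := by
  classical
  set Q := F.quad hm' hr' with hQ
  set S₀ := supp ψ a with hS₀
  let W : AddSubgroup (FA D) := (Quad.symSpan F.rhoA r).map
    (AddMonoidHom.mk' (fun f : AddMonoid.End (FA D) => f a) fun _ _ => rfl)
  haveI := Fintype.ofFinite W
  have hadd : ∀ w₁ w₂ : W, sqA D ((w₁ + w₂ : W) : FA D) = sqA D w₁ + sqA D w₂ := by
    rintro ⟨_, f, hf, rfl⟩ ⟨_, g, hg, rfl⟩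
    show sqA D (f a + g a) = sqA D (f a) + sqA D (g a)
    have h0 : bz (sqA D) (f a) (g a) = 0 := by
      rw [Q.bz_sym hf]
      exact Q.bz_sym_self (Q.sym_mul_mem hf hg) a
    rw [Quad.sq_add (sq := sqA D), h0, add_zero]
  have hlin : ∀ χ ∈ S₀, ∑ w : W, sgn (χ (sqA D w)) = 0 := by
    intro χ hχ
    obtain ⟨hocc, b, hb'⟩ := mem_supp.1 hχ
    refine sum_sgn_eq_zero (AddMonoidHom.mk' (fun w : W => χ (sqA D w)) fun a b => by
      rw [hadd, map_add]) ?_
    by_contra! hall
    have hg := F.good hm' hr' hocc fun h => hb' (by rw [h]; rfl)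
    refine absurd (hg.card_image_sym (x := a) fun h => hb' (h b)) (not_le.2 ?_)
    letI := Fintype.ofFinite (FA D ⧸ Q.rad χ)
    refine hg.line.card_lt_of_singular _ ?_
    rintro _ ⟨f, hf, rfl⟩
    show Q.radForm χ ((f a : FA D) : FA D ⧸ Q.rad χ) = 0
    rw [Quad.radForm_mk hg]
    exact hall ⟨f a, f, hf, rfl⟩
  have hne : S₀.Nonempty := by
    obtain ⟨u, rfl⟩ := piA_surjective a
    by_contra hS
    rw [Finset.not_nonempty_iff_eq_empty] at hS
    refine ha ((F.piA_eq_zero u).2 (Subgroup.mem_center_iff.2 fun z => ?_))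
    refine commutatorElement_eq_one_iff_mul_comm.1 (Subtype.ext (F.act.inj ?_))
    rw [Subgroup.coe_one, map_one]
    refine F.ext_fE fun χ v hv => ?_
    by_cases hocc : fE ψ χ = ⊥
    · rw [hocc, Submodule.mem_bot] at hv; rw [hv, map_zero, map_zero]
    have h0 : χ (toFZ ⁅z, u⁆) = 0 := by
      rw [← F.bz_piA]
      by_contra h
      exact (Finset.notMem_empty χ) (hS ▸ mem_supp.2 ⟨hocc, piA z, h⟩)
    rw [mem_fE.1 hv _ (F.comm_mem z u), h0, sK_zero, one_smul, Module.End.one_apply]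
  by_contra! hall
  let hsum : W → ℤ := fun w =>
    ∑ χ ∈ S₀, (finrank K (fE ψ χ : Submodule K V) : ℤ) * sgn (χ (sqA D w))
  have htot : ∑ w : W, hsum w = 0 := by
    simp only [hsum]
    rw [Finset.sum_comm]
    exact Finset.sum_eq_zero fun χ hχ => by rw [← Finset.mul_sum, hlin χ hχ, mul_zero]
  have hpos : ∀ w : W, 0 ≤ hsum w := by
    rintro ⟨_, f, hf, rfl⟩
    exact hall f hf
  have h0 := (Finset.sum_eq_zero_iff_of_nonneg fun w _ => hpos w).1 htot 0 (Finset.mem_univ _)
  simp only [hsum, AddSubgroup.coe_zero, Q.sq_zero, map_zero, sgn_zero, mul_one] at h0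
  obtain ⟨χ, hχ⟩ := hne
  have h1 := (Finset.sum_eq_zero_iff_of_nonneg fun η _ => Int.natCast_nonneg _).1 h0 χ hχ
  exact (mem_supp.1 hχ).1 (Submodule.finrank_eq_zero.1 (Int.natCast_eq_zero.1 h1))

open scoped Classical in
/-- The negated vectors of a square root of `e`. -/
theorem four_mul_minus {x : ↥D} (S₀ : Finset (FZ D →+ ZMod 2))
    (hoff : ∀ χ, χ ∉ S₀ → ∀ v ∈ fE ψ χ, ψ (x : G) v = v)
    (hon : ∀ χ ∈ S₀, x ∉ F.radSub χ) :
    (4 : ℤ) * (finrank K (LinearMap.ker (ψ (x : G) - (-1 : K) • 1) : Submodule K V) : ℕ) =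
      ∑ χ ∈ S₀, (finrank K (fE ψ χ : Submodule K V) : ℤ) * sgn (χ (toFZ (x * x))) +
        ∑ χ ∈ S₀, (finrank K (fE ψ χ : Submodule K V) : ℤ) := by
  have hec : x * x ∈ Subgroup.center ↥D := sq x ▸ F.sq_mem x
  have hker : ∀ v : V, v ∈ LinearMap.ker (ψ (x : G) - (-1 : K) • 1) ↔ ψ (x : G) v = -v := fun v => by
    rw [LinearMap.mem_ker, LinearMap.sub_apply, LinearMap.smul_apply, Module.End.one_apply,
      sub_eq_zero, neg_smul, one_smul]
  have hterm : ∀ χ : FZ D →+ ZMod 2,
      2 * (finrank K (LinearMap.ker (ψ (x : G) - (-1 : K) • 1) ⊓ fE ψ χ : Submodule K V) : ℤ) =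
        if χ ∈ S₀ ∧ χ (toFZ (x * x)) = 0 then (finrank K (fE ψ χ : Submodule K V) : ℤ) else 0 := by
    intro χ
    split_ifs with h
    · obtain ⟨u, hu⟩ := F.exists_anti_mem (hon χ h.1)
      have hhalf := (F.two_mul_finrank_half (g := ψ (x : G)) (fun v hv => F.mapsTo_fE χ x hv)
        (fun v hv => by
          rw [← Module.End.mul_apply, ← map_mul, ← Subgroup.coe_mul, mem_fE.1 hv _ hec,
            h.2, sK_zero, one_smul]) hu).2
      have e : LinearMap.ker (ψ (x : G) - (-1 : K) • 1) ⊓ fE ψ χ = fE ψ χ ⊓ minus (ψ (x : G)) := by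
        rw [inf_comm]
        congr 1
        ext v
        rw [hker, mem_minus]
      rw [e]
      exact_mod_cast hhalf
    · rw [show LinearMap.ker (ψ (x : G) - (-1 : K) • 1) ⊓ fE ψ χ = ⊥ from eq_bot_iff.2 fun v hv => by
        obtain ⟨h1, h2⟩ := hv
        have h1' := (hker v).1 h1
        rw [Submodule.mem_bot]
        have hkill : ψ (x : G) v = v ∨ ψ ((x * x : ↥D) : G) v = -v := by
          by_cases hχ : χ ∈ S₀
          · right
            rw [mem_fE.1 h2 _ hec, (zmod2_cases _).resolve_left fun h0 => h ⟨hχ, h0⟩, sK_one,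
              neg_smul, one_smul]
          · exact Or.inl (hoff χ hχ v h2)
        have h3 : v = -v := by
          rcases hkill with h3 | h3
          · exact h3.symm.trans h1'
          · rw [← h3, Subgroup.coe_mul, map_mul, Module.End.mul_apply, h1', map_neg, h1', neg_neg]
        have h4 : (2 : K) • v = 0 := by rw [two_smul]; exact add_eq_zero_iff_eq_neg.2 h3
        exact (smul_eq_zero.1 h4).resolve_left F.two_ne, finrank_bot]
      simp
  rw [F.finrank_ker_eq_sum, Nat.cast_sum, show (4 : ℤ) = 2 * 2 from rfl, mul_assoc, Finset.mul_sum,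
    Finset.sum_congr rfl fun χ _ => hterm χ]
  simp only [ite_and]
  rw [Finset.sum_ite_mem, Finset.univ_inter, Finset.mul_sum, ← Finset.sum_add_distrib]
  refine Finset.sum_congr rfl fun χ _ => ?_
  rcases zmod2_cases (χ (toFZ (x * x))) with h | h <;> simp [h]
  ring

end Frame

namespace Cx

variable (X : Cx p σ r ψ s) {D H : Subgroup G} (hD : IsStdD σ D) (hH : Home σ D H)
include X hD hH

/-- Central elements of `C_D(σ)` are `± 1`. -/
theorem zsub_center_scalar {e : G} (he : e ∈ zsub σ D) (hec : e ∈ Subgroup.center G) (hne : e ≠ 1) :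
    ψ e = -1 := by
  haveI := X.nontrivial
  obtain ⟨c, hc⟩ := X.exists_scalar_central hec he.2
  have h1 : ψ e * ψ e = 1 := by rw [← map_mul, X.zsub_sq hD he, map_one]
  rw [hc, smul_mul_smul_comm, one_mul] at h1
  have h2 : c * c = 1 := by
    obtain ⟨v, hv⟩ := exists_ne (0 : V)
    exact smul_left_injective K hv
      (by simpa using LinearMap.congr_fun h1 v : (c * c) • v = (1 : K) • v)
  rcases mul_self_eq_one_iff.1 h2 with rfl | rfl
  · exact absurd (X.act.inj (by rw [hc, one_smul, map_one])) hne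
  · rw [hc, neg_smul, one_smul]

/-- An element fixed by `t`, orthogonal to `symSpan · d`, of least support inside `Δ`. -/
theorem exists_candidate {y d t : G} (hb : Bad σ D y d t) :
    ∃ a₀ : FA D, a₀ ≠ 0 ∧ nA hb.norm a₀ = a₀ ∧
      (∀ f ∈ Quad.symSpan (X.frame hD).rhoA r, bz (sqA D) (f (piA ⟨d, hb.mem⟩)) a₀ = 0) ∧
      supp ψ a₀ ⊆ delta (X.frame hD) hb.toDec ∧
      ∀ f ∈ Quad.symSpan (X.frame hD).rhoA r, f a₀ ≠ 0 → supp ψ (f a₀) = supp ψ a₀ := by
  classical
  have F := X.frame hD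
  obtain ⟨m, hm, hr⟩ := X.exists_m
  set Q := F.quad hm hr with hQ
  have hn := hb.norm
  have hdD := hb.mem
  have hdd : t * t ∈ D := (hb.sq_mem X hD).1
  -- outside `Δ` the element `t` is trivial on `D / R_χ`
  have hout : ∀ χ, fE ψ χ ≠ ⊥ → χ ∉ delta F hb.toDec →
      piA ⟨d, hdD⟩ ∈ Q.rad χ ∧ ∀ a : FA D, -a + nA hn a ∈ Q.rad χ := by
    intro χ hocc hχ
    rw [mem_delta] at hχ
    push Not at hχ
    obtain ⟨hfix, hd⟩ := hχ hocc
    refine ⟨(F.mem_radSub_iff hm hr χ _).1 hd, fun a => ?_⟩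
    by_cases hne : χ = 0
    · subst hne; exact fun _ => rfl
    · refine F.nA_sub_mem_rad hm hr hb.fix hn hocc hne ?_ a
      rw [← F.nZ_dec hb.toDec]
      exact comp_eq_of_piy_eq _ hfix
  have hTT := F.nA_nA_eq hb.toDec hdd
  have hTd : nA hn (piA ⟨d, hdD⟩) = piA ⟨d, hdD⟩ := by
    have hy := hb.good.sq_eq X hD
    have e : (nD hn ⟨d, hdD⟩ : ↥D) = (⟨d, hdD⟩ : ↥D)⁻¹ * (⟨t * t, hdd⟩ : ↥D)⁻¹ := by
      apply Subtype.ext
      show t * d * t⁻¹ = d⁻¹ * (t * t)⁻¹
      have h1 : d * t * (d * t) = 1 := by rw [← hb.eq]; exact hy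
      calc t * d * t⁻¹ = d⁻¹ * (d * t * (d * t)) * (t * t)⁻¹ := by group
        _ = _ := by rw [h1, mul_one]
    rw [nA_piA, e, piA_mul, piA_inv, Q.negA, piA_inv,
      (F.piA_eq_zero _).2 ((F.center_iff (⟨t * t, hdd⟩ : ↥D)).2 (hb.sq_mem X hD).2), neg_zero, add_zero]
  -- the candidates
  let Bset : Finset (FA D) := @Finset.filter _ (fun a => a ≠ 0 ∧ nA hn a = a ∧
      (∀ f ∈ Quad.symSpan F.rhoA r, bz (sqA D) (f (piA ⟨d, hdD⟩)) a = 0) ∧
      supp ψ a ⊆ delta F hb.toDec) (Classical.decPred _) (Fintype.ofFinite (FA D)).elems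
  have hBmem : ∀ {a}, a ∈ Bset ↔ a ≠ 0 ∧ nA hn a = a ∧
      (∀ f ∈ Quad.symSpan F.rhoA r, bz (sqA D) (f (piA ⟨d, hdD⟩)) a = 0) ∧
      supp ψ a ⊆ delta F hb.toDec := fun {a} => by
    simp only [Bset, Finset.mem_filter]
    exact and_iff_right ((Fintype.ofFinite (FA D)).complete a)
  have hsuppΔ : ∀ a, (∀ χ, fE ψ χ ≠ ⊥ → χ ∉ delta F hb.toDec → a ∈ Q.rad χ) →
      supp ψ a ⊆ delta F hb.toDec := fun a ha χ hχ => by
    by_contra hd
    obtain ⟨hocc, b, hb'⟩ := mem_supp.1 hχ
    exact hb' (ha χ hocc hd b)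
  have hne : Bset.Nonempty := by
    by_cases hd0 : piA (⟨d, hdD⟩ : ↥D) = 0
    · -- `d` is central
      let I : AddSubgroup (FA D) :=
        ⨅ (χ : FZ D →+ ZMod 2) (_ : fE ψ χ ≠ ⊥ ∧ χ ∉ delta F hb.toDec), Q.rad χ
      have hImem : ∀ {a}, a ∈ I ↔ ∀ χ, fE ψ χ ≠ ⊥ → χ ∉ delta F hb.toDec → a ∈ Q.rad χ :=
        fun {a} => by simp [I, AddSubgroup.mem_iInf]
      have hI : ∀ a, -a + nA hn a ∈ I := fun a => hImem.2 fun χ h1 h2 => (hout χ h1 h2).2 a
      obtain ⟨a, haI, ha0⟩ : ∃ a ∈ I, a ≠ 0 := by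
        by_contra! hall
        have hT : ∀ a, nA hn a = a := fun a => (neg_add_eq_zero.1 (hall _ (hI a))).symm
        have htC : t ∈ centralizer (D : Set G) := by
          refine X.mem_centralizer_of_fix_zsub hD hb.fix hn fun e he => ?_
          have h1 := congrArg Subtype.val (F.nD_center_of_nA hn hT
            ((F.center_iff (⟨e, he.1⟩ : ↥D)).2 he.2))
          exact mul_inv_eq_iff_eq_mul.1 h1
        have hdc := (F.piA_eq_zero _).1 hd0
        refine hb.not_fixed_centralizer X hD hH ?_ ?_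
        · rw [hb.eq, map_mul, hb.fix, (F.center_iff _).1 hdc]
        · rw [hb.eq]
          refine mul_mem (mem_centralizer_iff.2 fun x hx => ?_) htC
          exact congrArg Subtype.val (Subgroup.mem_center_iff.1 hdc ⟨x, hx⟩)
      obtain ⟨b, hbI, hb0, hbT⟩ : ∃ b ∈ I, b ≠ 0 ∧ nA hn b = b := by
        by_cases h1 : a + nA hn a = 0
        · exact ⟨a, haI, ha0, by rw [add_eq_zero_iff_neg_eq.1 h1 |>.symm, Q.negA]⟩
        · refine ⟨a + nA hn a, ?_, h1, by rw [map_add, hTT, add_comm]⟩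
          have h2 := hI a
          rwa [Q.negA] at h2
      refine ⟨b, hBmem.2 ⟨hb0, hbT, fun f _ => ?_, hsuppΔ b (hImem.1 hbI)⟩⟩
      rw [hd0, map_zero, Q.bz_zero]
    · exact ⟨_, hBmem.2 ⟨hd0, hTd, fun f hf => by
        rw [Quad.bz_comm]; exact Q.bz_sym_self hf _, hsuppΔ _ fun χ h1 h2 => (hout χ h1 h2).1⟩⟩
  obtain ⟨a₀, ha₀, hamin⟩ := Bset.exists_min_image (fun a => (supp ψ a).card) hne
  obtain ⟨ha0, haT, haB, haS⟩ := hBmem.1 ha₀
  set S₀ := supp ψ a₀ with hS₀
  refine ⟨a₀, ha0, haT, haB, haS, ?_⟩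
  intro f hf hf0
  have hsub : supp ψ (f a₀) ⊆ S₀ := fun χ hχ => by
    obtain ⟨hocc, b, hb'⟩ := mem_supp.1 hχ
    refine mem_supp.2 ⟨hocc, ?_⟩
    by_contra! hall
    exact hb' (Quad.symSpan_mem (Q.invSub_rad χ) hf (show a₀ ∈ Q.rad χ from hall) b)
  refine Finset.eq_of_subset_of_card_le hsub (hamin _ (hBmem.2 ⟨hf0, ?_, fun g hg => ?_,
    hsub.trans haS⟩))
  · -- `nA t` commutes with `ρ`
    clear hf0 hsub
    induction hf using AddSubgroup.closure_induction with
    | mem f hf =>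
      obtain ⟨i, rfl⟩ := hf
      have hc : ∀ (i : ℕ) (a : FA D), nA hn ((F.rhoA ^ i) a) = (F.rhoA ^ i) (nA hn a) := by
        intro i
        induction i with
        | zero => exact fun a => rfl
        | succ i ih =>
          intro a
          rw [pow_succ', AddMonoid.End.coe_mul, Function.comp_apply, Function.comp_apply,
            F.nA_comm hb.fix, ih]
      show nA hn ((F.rhoA ^ i) a₀ + (F.rhoA ^ (i * (r - 1))) a₀) = _
      rw [map_add, hc, hc, haT]
      rfl
    | zero => exact map_zero _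
    | add f g _ _ hf hg => show nA hn (f a₀ + g a₀) = f a₀ + g a₀; rw [map_add, hf, hg]
    | neg f _ hf => show nA hn (-(f a₀)) = -(f a₀); rw [map_neg, hf]
  · have h1 := haB _ (Q.sym_mul_mem hf hg)
    rw [AddMonoid.End.coe_mul, Function.comp_apply] at h1
    rw [← Q.bz_sym hf (g (piA ⟨d, hdD⟩)) a₀]
    exact h1

/-- The main counting argument at a bad element of least weight. -/
theorem bad_full_aux {y d t : G} (hb : Bad σ D y d t)
    (hmin : ∀ y' d' t' (hb' : Bad σ D y' d' t'),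
      wDelta (X.frame hD) hb.toDec ≤ wDelta (X.frame hD) hb'.toDec) :
    (∃ z ∈ zsub σ D, ψ z = -1) ∧ wDelta (X.frame hD) hb.toDec = finrank K V := by
  classical
  have F := X.frame hD
  obtain ⟨m, hm, hr⟩ := X.exists_m
  set Q := F.quad hm hr with hQ
  have hn := hb.norm
  obtain ⟨a₀, ha0, haT, haB, haS, hWsupp⟩ := X.exists_candidate hD hH hb
  set S₀ := supp ψ a₀ with hS₀
  obtain ⟨f, hf, hw⟩ := F.exists_neg_square hr hm ha0
  -- a lift
  obtain ⟨x, hxA, hxt, hxtriv⟩ := F.exists_lift_sym hb.fix hn haT hf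
  have hxoff : ∀ χ, χ ∉ S₀ → ∀ v ∈ fE ψ χ, ψ (x : G) v = v := by
    intro χ hχ v hv
    by_cases hocc : fE ψ χ = ⊥
    · rw [hocc, Submodule.mem_bot] at hv; rw [hv, map_zero]
    refine hxtriv χ (fun u hu => (F.mem_radSub_iff hm hr χ u).2 ?_) v hv
    rw [hu]
    intro b
    by_contra hb'
    exact hχ (mem_supp.2 ⟨hocc, b, hb'⟩)
  have hxy : (x : G) * y = y * x := F.commute_dec hb.toDec hxt (by
    rw [hxA, Quad.bz_comm, ← Q.bz_sym hf]
    exact haB f hf)
  have hex : x ^ 2 = x * x := sq x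
  have hsqx : sqA D (f a₀) = toFZ (x * x) := by rw [← hxA, F.sqA_piA, hex]
  rw [hsqx] at hw
  set e := x * x with he
  have hec : e ∈ Subgroup.center ↥D := hex ▸ F.sq_mem x
  have hez : (e : G) ∈ zsub σ D := ⟨e.2, (F.center_iff e).1 hec⟩
  have he1 : e ≠ 1 := fun h => by
    rw [h, toFZ_of_mem (one_mem _)] at hw
    refine absurd hw (not_lt.2 (Finset.sum_nonneg fun χ _ => ?_))
    rw [show χ (Additive.ofMul ⟨1, one_mem _⟩) = 0 from χ.map_zero, sgn_zero, mul_one]
    exact Int.natCast_nonneg _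
  by_cases hcen : (e : G) ∈ Subgroup.center G
  · -- `x * x = -1`
    have hneg := X.zsub_center_scalar hD hH hez hcen fun h => he1 (Subtype.ext h)
    refine ⟨⟨e, hez, hneg⟩, le_antisymm ?_ ?_⟩
    · rw [F.finrank_top_eq_sum]
      exact Finset.sum_le_sum_of_subset (Finset.subset_univ _)
    · rw [F.finrank_top_eq_sum]
      refine Finset.sum_le_sum_of_ne_zero fun χ _ hne => ?_
      refine haS ?_
      by_contra hχ
      apply hne
      refine Submodule.finrank_eq_zero.2 (eq_bot_iff.2 fun v hv => ?_)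
      have h1 : ψ (e : G) v = v := by
        rw [he, Subgroup.coe_mul, map_mul, Module.End.mul_apply, hxoff χ hχ v hv, hxoff χ hχ v hv]
      rw [hneg, LinearMap.neg_apply, Module.End.one_apply] at h1
      have h2 : (2 : K) • v = 0 := by
        rw [two_smul]; exact add_eq_zero_iff_eq_neg.2 h1.symm
      exact (Submodule.mem_bot _).2 ((smul_eq_zero.1 h2).resolve_left X.two_ne)
  · -- from the other frame, `x` has many negated vectors
    exfalso
    have hx4 : (x : G) ^ 4 = 1 := by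
      have := congrArg Subtype.val (F.center_sq hec)
      simp only [he, Subgroup.coe_mul, Subgroup.coe_one] at this
      simpa only [pow_succ, pow_zero, one_mul, mul_assoc] using this
    obtain ⟨g', x', d', t', -, hdec, hxx, hbad⟩ := hb.exists_frame X hD hH hxy (a := 2) hx4
    have hbad2 := (hbad _ hez hcen).2 (by rw [he, Subgroup.coe_mul])
    have hx'4 : x' ^ 4 = 1 := by
      have h1 := hx4
      rw [hxx, conj_pow, conj_eq_one_iff] at h1
      exact h1
    have hb4 := (X.frame hD).wDelta_le_four hdec hx'4 (lam := (-1 : K)) (Or.inr rfl)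
    rw [← finrank_ker_conj ψ g' x' (-1 : K), ← hxx] at hb4
    have hw0 : wDelta F hb.toDec ≤ wDelta F hbad2.toDec := hmin _ _ _ hbad2
    have hsupp : ∑ χ ∈ S₀, finrank K (fE ψ χ : Submodule K V) ≤ wDelta F hb.toDec :=
      Finset.sum_le_sum_of_subset haS
    have hf0 : f a₀ ≠ 0 := fun h => he1 (toFZ_inj hec (by rw [← hsqx, h, Q.sq_zero]))
    have hcount := F.four_mul_minus S₀ hxoff fun χ hχ hxr => by
      obtain ⟨-, b, hb'⟩ := mem_supp.1 ((hWsupp f hf hf0).symm ▸ hχ : χ ∈ supp ψ (f a₀))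
      exact hb' (by rw [← hxA]; exact (F.mem_radSub_iff hm hr χ x).1 hxr b)
    rw [← he] at hcount
    have h1 : ((∑ χ ∈ S₀, finrank K (fE ψ χ : Submodule K V) : ℕ) : ℤ) ≤
        (4 : ℤ) * (finrank K (LinearMap.ker (ψ (x : G) - (-1 : K) • 1) : Submodule K V) : ℕ) := by
      exact_mod_cast hsupp.trans (hw0.trans hb4)
    rw [Nat.cast_sum] at h1
    linarith only [h1, hw, hcount]

/-- **No bad element centralises `D` on any eigenspace.** -/
theorem bad_full {y d t : G} (hb : Bad σ D y d t) :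
    (∃ z ∈ zsub σ D, ψ z = -1) ∧ wDelta (X.frame hD) hb.toDec = finrank K V := by
  classical
  have hex : ∃ n, ∃ y d t, ∃ hb : Bad σ D y d t, wDelta (X.frame hD) hb.toDec = n :=
    ⟨_, y, d, t, hb, rfl⟩
  obtain ⟨y₀, d₀, t₀, hb₀, hn₀⟩ := Nat.find_spec hex
  obtain ⟨hz, hN⟩ := X.bad_full_aux hD hH hb₀ fun y' d' t' hb' => by
    rw [hn₀]; exact Nat.find_min' hex ⟨y', d', t', hb', rfl⟩
  refine ⟨hz, le_antisymm ?_ ?_⟩
  · rw [(X.frame hD).finrank_top_eq_sum]
    exact Finset.sum_le_sum_of_subset (Finset.subset_univ _)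
  · rw [← hN, hn₀]; exact Nat.find_min' hex ⟨y, d, t, hb, rfl⟩

theorem exists_minus_one {y d t : G} (hb : Bad σ D y d t) :
    ∃ z ∈ zsub σ D, ψ z = -1 := (X.bad_full hD hH hb).1

omit hD hH in
theorem central_of_minus_one {z : G} (hz : ψ z = -1) : z ∈ Subgroup.center G := by
  rw [Subgroup.mem_center_iff]
  intro g
  apply X.act.inj
  rw [map_mul, map_mul, hz, mul_neg, mul_one, neg_mul, one_mul]

omit hD hH in
theorem ne_one_of_minus_one {z : G} (hz : ψ z = -1) : z ≠ 1 := by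
  rintro rfl
  haveI := X.nontrivial
  obtain ⟨v, hv⟩ := exists_ne (0 : V)
  rw [map_one] at hz
  have h1 : v = -v := by simpa using LinearMap.congr_fun hz v
  have h2 : (2 : K) • v = 0 := by rw [two_smul]; exact add_eq_zero_iff_eq_neg.2 h1
  exact hv ((smul_eq_zero.1 h2).resolve_left X.two_ne)

theorem eq_one_or_minus_one {z₁ : G} (hz₁ : ψ z₁ = -1) {e : G} (he : e ∈ zsub σ D)
    (hec : e ∈ Subgroup.center G) : e = 1 ∨ e = z₁ := by
  by_cases h : e = 1
  · exact Or.inl h
  · exact Or.inr (X.act.inj (by rw [hz₁, X.zsub_center_scalar hD hH he hec h]))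

/-- All occurring characters are odd. -/
theorem odd_of_occurs {y d t : G} (hb : Bad σ D y d t) {χ : FZ D →+ ZMod 2} (hocc : fE ψ χ ≠ ⊥)
    {z : G} (hz : z ∈ zsub σ D) (hz1 : ψ z = -1) : χ (toFZ ⟨z, hz.1⟩) = 1 ∧ χ ≠ 0 := by
  have hc : (⟨z, hz.1⟩ : ↥D) ∈ Subgroup.center ↥D :=
    ((X.frame hD).center_iff (⟨z, hz.1⟩ : ↥D)).2 hz.2
  obtain ⟨v, hv, hv0⟩ := (Submodule.ne_bot_iff _).1 hocc
  have h1 := mem_fE.1 hv _ hc
  have h2 : χ (toFZ ⟨z, hz.1⟩) = 1 := (zmod2_cases _).resolve_left fun h => by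
    rw [h, sK_zero, one_smul, hz1, LinearMap.neg_apply, Module.End.one_apply] at h1
    have h3 : (2 : K) • v = 0 := by rw [two_smul]; exact add_eq_zero_iff_eq_neg.2 h1.symm
    exact hv0 ((smul_eq_zero.1 h3).resolve_left X.two_ne)
  exact ⟨h2, fun h => by rw [h] at h2; exact zero_ne_one h2⟩

theorem finrank_plus_add_minus {g : G} (hg : g * g = 1) :
    finrank K (LinearMap.ker (ψ g - (1 : K) • 1) : Submodule K V) +
      finrank K (LinearMap.ker (ψ g - (-1 : K) • 1) : Submodule K V) = finrank K V := by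
  have h := finrank_pm (W := (⊤ : Submodule K V)) (g := ψ g) X.two_ne
    (fun _ _ => Submodule.mem_top) (fun v _ => by
      rw [← Module.End.mul_apply, ← map_mul, hg, map_one, Module.End.one_apply])
  rw [top_inf_eq, top_inf_eq, finrank_top] at h
  rw [one_smul, neg_smul, one_smul, sub_neg_eq_add]
  exact h

/-- An involution of `C_D(σ)` commuting with a bad element has two eigenspaces of equal dimension. -/
theorem two_mul_finrank {y d t : G} (hb : Bad σ D y d t) {e : G} (he : e ∈ zsub σ D)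
    (hec : e ∉ Subgroup.center G) (hey : e * y = y * e) {lam : K} (hlam : lam = 1 ∨ lam = -1) :
    2 * finrank K (LinearMap.ker (ψ e - lam • 1) : Submodule K V) = finrank K V := by
  have he2 := X.zsub_sq hD he
  obtain ⟨g', e', d', t', -, hdec, hee, hbad⟩ :=
    hb.exists_frame X hD hH hey (a := 1) (by rw [pow_one, sq, he2])
  have hb' := (hbad e he hec).1 rfl
  have hN := (X.bad_full hD hH hb').2
  have he'2 : e' * e' = 1 := hb'.good.sq_eq X hD
  have key : ∀ μ : K, μ = 1 ∨ μ = -1 →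
      finrank K V ≤ 2 * finrank K (LinearMap.ker (ψ e - μ • 1) : Submodule K V) := fun μ hμ => by
    rw [hee, finrank_ker_conj ψ g' e' μ, ← hN]
    exact (X.frame hD).wDelta_le_two hb'.toDec he'2 hμ
  have hsum := X.finrank_plus_add_minus hD hH he2
  have h1 := key 1 (Or.inl rfl)
  have h2 := key (-1) (Or.inr rfl)
  rcases hlam with rfl | rfl <;> omega

/-- An element of order four commuting with a bad element, with square in `C_D(σ)`. -/
theorem four_mul_finrank {y d t : G} (hb : Bad σ D y d t) {x : G} (hxe : x * x ∈ zsub σ D)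
    (hec : x * x ∉ Subgroup.center G) (hxy : x * y = y * x) {lam : K} (hlam : lam = 1 ∨ lam = -1) :
    4 * finrank K (LinearMap.ker (ψ x - lam • 1) : Submodule K V) = finrank K V := by
  have hx4 : x ^ 4 = 1 := by
    rw [← X.zsub_sq hD hxe]
    simp only [pow_succ, pow_zero, one_mul, mul_assoc]
  obtain ⟨g', x', d', t', -, hdec, hxx, hbad⟩ := hb.exists_frame X hD hH hxy (a := 2) hx4
  have hb' := (hbad _ hxe hec).2 rfl
  have hN := (X.bad_full hD hH hb').2
  have hx'4 : x' ^ 4 = 1 := by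
    have h1 := hx4
    rw [hxx, conj_pow, conj_eq_one_iff] at h1
    exact h1
  have key : ∀ μ : K, μ = 1 ∨ μ = -1 →
      finrank K V ≤ 4 * finrank K (LinearMap.ker (ψ x - μ • 1) : Submodule K V) := fun μ hμ => by
    rw [hxx, finrank_ker_conj ψ g' x' μ, ← hN]
    exact (X.frame hD).wDelta_le_four hdec hx'4 hμ
  have hcomm : x * x * y = y * (x * x) := (Commute.mul_left hxy hxy : Commute (x * x) y)
  have hplus := X.two_mul_finrank hD hH hb hxe hec hcomm (lam := (1 : K)) (Or.inl rfl)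
  have hsum : finrank K (LinearMap.ker (ψ x - (1 : K) • 1) : Submodule K V) +
      finrank K (LinearMap.ker (ψ x - (-1 : K) • 1) : Submodule K V) ≤
        finrank K (LinearMap.ker (ψ (x * x) - (1 : K) • 1) : Submodule K V) := by
    have hW : ∀ v : V, v ∈ LinearMap.ker (ψ (x * x) - (1 : K) • 1) ↔ ψ x (ψ x v) = v := fun v => by
      rw [LinearMap.mem_ker, LinearMap.sub_apply, one_smul, Module.End.one_apply, sub_eq_zero,
        map_mul, Module.End.mul_apply]
    have h := finrank_pm (W := LinearMap.ker (ψ (x * x) - (1 : K) • 1)) (g := ψ x) X.two_ne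
      (fun v hv => (hW _).2 (by rw [(hW v).1 hv])) fun v hv => (hW v).1 hv
    have e1 : LinearMap.ker (ψ x - (1 : K) • 1) ≤
        LinearMap.ker (ψ (x * x) - (1 : K) • 1) ⊓ plus (ψ x) := fun v hv => by
      rw [one_smul] at hv
      have hv' : ψ x v = v := mem_plus.1 hv
      exact ⟨(hW v).2 (by rw [hv', hv']), hv⟩
    have e2 : LinearMap.ker (ψ x - (-1 : K) • 1) ≤
        LinearMap.ker (ψ (x * x) - (1 : K) • 1) ⊓ minus (ψ x) := fun v hv => by
      rw [neg_smul, one_smul, sub_neg_eq_add] at hv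
      have hv' : ψ x v = -v := mem_minus.1 hv
      exact ⟨(hW v).2 (by rw [hv', map_neg, hv', neg_neg]), hv⟩
    have := Submodule.finrank_mono e1
    have := Submodule.finrank_mono e2
    omega
  have h1 := key 1 (Or.inl rfl)
  have h2 := key (-1) (Or.inr rfl)
  rcases hlam with rfl | rfl <;> omega

end Cx

end CfsgLib.HHShult
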