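import Cfsg.Agent.HHShult.Restrict
import Cfsg.Agent.Solvable.Frattini
import Cfsg.Agent.Solvable.Nilpotent

/-!
# A `2`-group moved by `σ` whose invariant abelian subgroups are fixed

`Moved2 σ r`: the `2`-group `Q` satisfies `Q = [Q,σ]` and all invariant abelian subgroups are fixed.
Then `Q` is special and `Z(Q) = C_Q(σ)`.
-/

set_option autoImplicit false
set_option linter.style.haveILetI false
set_option linter.unusedSectionVars false

namespace CfsgLib.HHShult

open Subgroup
open scoped commutatorElement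

variable {Q : Type*} [Group Q] [Finite Q]

/-- The hypotheses. -/
structure Moved2 (σ : MulAut Q) (r : ℕ) : Prop where
  cop : Cop σ r
  isPGroup : IsPGroup 2 Q
  eq_top : moved σ (⊤ : Subgroup Q) = ⊤
  abelian : ∀ A : Subgroup Q, Inv σ A → (∀ a ∈ A, ∀ b ∈ A, a * b = b * a) → A ≤ fixedSub σ

namespace Moved2

variable {σ : MulAut Q} {r : ℕ} (h : Moved2 σ r)
include h

/-- A homomorphism commuting with the action into a group with trivial action is trivial. -/
theorem hom_eq_one {M : Type*} [Group M] (f : Q →* M) (hf : ∀ x, f (σ x) = f x) (x : Q) :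
    f x = 1 := by
  have hle : moved σ (⊤ : Subgroup Q) ≤ f.ker := by
    rw [moved, closure_le]
    rintro _ ⟨y, -, rfl⟩
    rw [SetLike.mem_coe, MonoidHom.mem_ker, map_mul, map_inv, hf, inv_mul_cancel]
  rw [h.eq_top] at hle
  exact hle (mem_top x)

theorem inv_center : Inv σ (center Q) := by
  intro x hx
  rw [mem_center_iff] at hx ⊢
  intro g
  obtain ⟨g, rfl⟩ := σ.surjective g
  rw [← map_mul, ← map_mul, hx g]

theorem center_le_fixed : center Q ≤ fixedSub σ :=
  h.abelian _ h.inv_center fun _ _ b hb => mem_center_iff.1 hb _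

theorem inv_commutator : Inv σ (commutator Q) := by
  intro x hx
  have hm : (commutator Q).map σ.toMonoidHom = commutator Q := by
    rw [commutator_def, map_commutator, map_top_of_surjective _ σ.surjective]
  rw [← hm]
  exact ⟨x, hx, rfl⟩

/-- An invariant normal abelian subgroup is central. -/
theorem le_center_of_abelian {A : Subgroup Q} (hA : Inv σ A) (hn : A.Normal)
    (hab : ∀ a ∈ A, ∀ b ∈ A, a * b = b * a) : A ≤ center Q := by
  have hfix := h.abelian A hA hab
  intro a ha
  rw [mem_center_iff]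
  intro g
  let f : Q →* MulAut A := MulAut.conjNormal
  have hf : ∀ x, f (σ x) = f x := by
    intro x
    ext b
    show σ x * b * (σ x)⁻¹ = x * b * x⁻¹
    have h1 : σ (x * b * x⁻¹) = x * b * x⁻¹ := mem_fixedSub.1 (hfix (hn.conj_mem _ b.2 x))
    rw [map_mul, map_mul, map_inv, mem_fixedSub.1 (hfix b.2)] at h1
    exact h1
  have h1 := congrArg (fun e : MulAut A => (e ⟨a, ha⟩ : Q)) (h.hom_eq_one f hf g)
  simp only [f, MulAut.conjNormal_apply, MulAut.one_apply] at h1
  exact mul_inv_eq_iff_eq_mul.1 h1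

theorem commutator_le_center : commutator Q ≤ center Q := by
  have := h.isPGroup.isNilpotent
  let π := QuotientGroup.mk' (center Q)
  let Z2 : Subgroup Q := (center (Q ⧸ center Q)).comap π
  have hZ2 : ∀ x ∈ Z2, ∀ y : Q, ⁅x, y⁆ ∈ center Q := by
    intro x hx y
    rw [← QuotientGroup.eq_one_iff]
    show π ⁅x, y⁆ = 1
    rw [map_commutatorElement, commutatorElement_eq_one_iff_mul_comm]
    exact (mem_center_iff.1 hx (π y)).symm
  have hZ2i : Inv σ Z2 := by
    intro x hx
    rw [mem_comap, mem_center_iff] at hx ⊢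
    intro g
    obtain ⟨g, rfl⟩ := QuotientGroup.mk'_surjective (center Q) g
    obtain ⟨g, rfl⟩ := σ.surjective g
    show π (σ g) * π (σ x) = π (σ x) * π (σ g)
    rw [← map_mul, ← map_mul, ← map_mul, ← map_mul]
    have h1 : (π (g * x)) = π (x * g) := by rw [map_mul, map_mul]; exact hx (π g)
    have h2 := congrArg h.inv_center.quotAut h1
    exact h2
  -- `[Z2, Q'] = 1`
  have hcomm : ∀ x ∈ Z2, ∀ y ∈ commutator Q, ⁅x, y⁆ = 1 := by
    have hc : ⁅commutator Q, Z2⁆ = ⊥ := by
      rw [commutator_def]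
      refine commutator_commutator_eq_bot_of_rotate ?_ ?_
      · rw [commutator_eq_bot_iff_le_centralizer, commutator_le]
        intro a _ b hb
        rw [mem_centralizer_iff]
        intro g _
        rw [← commutatorElement_inv]
        exact mem_center_iff.1 (inv_mem (hZ2 b hb a)) g
      · rw [commutator_eq_bot_iff_le_centralizer, commutator_le]
        intro b hb a _
        rw [mem_centralizer_iff]
        intro g _
        exact mem_center_iff.1 (hZ2 b hb a) g
    intro x hx y hy
    have h4 : ⁅y, x⁆ ∈ ⁅commutator Q, Z2⁆ := commutator_mem_commutator hy hx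
    rw [hc, mem_bot] at h4
    rw [← commutatorElement_inv, h4, inv_one]
  have hN : commutator Q ⊓ Z2 ≤ center Q := by
    refine h.le_center_of_abelian (h.inv_commutator.inf hZ2i) inferInstance ?_
    intro a ha b hb
    exact commutatorElement_eq_one_iff_mul_comm.1 (hcomm a ha.2 b hb.1)
  -- otherwise the image of `Q'` meets the centre of `Q / Z` trivially
  by_contra hne
  have hne' : (commutator Q).map π ≠ ⊥ := by
    rw [Ne, Subgroup.map_eq_bot_iff, QuotientGroup.ker_mk']
    exact hne
  have hP : IsPGroup 2 (Q ⧸ center Q) := h.isPGroup.to_quotient _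
  haveI : ((commutator Q).map π).Normal :=
    Normal.map inferInstance _ (QuotientGroup.mk'_surjective _)
  haveI := hP.isNilpotent
  obtain ⟨⟨z, hz⟩, hz1⟩ := (Subgroup.ne_bot_iff_exists_ne_one).1
    (CfsgLib.Solvable.inf_center_ne_bot hne')
  replace hz1 : z ≠ 1 := fun e => hz1 (Subtype.ext (by simpa using e))
  obtain ⟨x, hx, rfl⟩ := hz.1
  exact hz1 (by
    show π x = 1
    rw [← MonoidHom.mem_ker, QuotientGroup.ker_mk']
    exact hN ⟨hx, hz.2⟩)

theorem sq_mem_center (x : Q) : x ^ 2 ∈ center Q := by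
  -- commutators are fixed and bimultiplicative
  have hc := h.commutator_le_center
  have hcen : ∀ a b : Q, ⁅a, b⁆ ∈ center Q := fun a b =>
    hc (commutator_mem_commutator (mem_top a) (mem_top b))
  have hmul : ∀ a b y : Q, ⁅a * b, y⁆ = ⁅a, y⁆ * ⁅b, y⁆ := by
    intro a b y
    have h1 := mem_center_iff.1 (hcen b y) a
    calc ⁅a * b, y⁆ = a * ⁅b, y⁆ * y * a⁻¹ * y⁻¹ := by simp only [commutatorElement_def]; group
      _ = ⁅b, y⁆ * ⁅a, y⁆ := by rw [h1]; simp only [commutatorElement_def]; group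
      _ = ⁅a, y⁆ * ⁅b, y⁆ := (mem_center_iff.1 (hcen b y) _).symm
  -- the exponent of `Q'` is two
  have hsq : ∀ a b : Q, ⁅a, b⁆ ^ 2 = 1 := by
    by_contra! hex
    obtain ⟨a₀, b₀, hab⟩ := hex
    obtain ⟨e, he⟩ : ∃ e, ∀ a b : Q, ⁅a, b⁆ ^ 2 ^ e = 1 := by
      obtain ⟨n, hn⟩ := IsPGroup.iff_card.1 h.isPGroup
      exact ⟨n, fun a b => by rw [← hn, pow_card_eq_one']⟩
    have hex2 : ∃ e, ∀ a b : Q, ⁅a, b⁆ ^ 2 ^ e = 1 := ⟨e, he⟩
    classical
    set E := Nat.find hex2 with hEdef
    have hE : ∀ a b : Q, ⁅a, b⁆ ^ 2 ^ E = 1 := Nat.find_spec hex2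
    have hE2 : 2 ≤ E := by
      by_contra hlt
      apply hab
      have h1 := hE a₀ b₀
      rcases Nat.lt_succ_iff.1 (not_le.1 hlt) |>.eq_or_lt with h2 | h2
      · rw [h2, pow_one] at h1; exact h1
      · rw [Nat.lt_one_iff.1 h2, pow_zero, pow_one] at h1; rw [h1, one_pow]
    -- the powers `a ^ (2 ^ (E - 1))` generate an abelian invariant normal subgroup
    let S : Set Q := {y | ∃ a, y = a ^ 2 ^ (E - 1)}
    have hpowl : ∀ (a y : Q) (n : ℕ), ⁅a ^ n, y⁆ = ⁅a, y⁆ ^ n := by
      intro a y n
      induction n with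
      | zero => simp
      | succ n ih => rw [pow_succ, hmul, ih, pow_succ]
    have hpowr : ∀ (a y : Q) (n : ℕ), ⁅a, y ^ n⁆ = ⁅a, y⁆ ^ n := by
      intro a y n
      rw [← commutatorElement_inv, hpowl, ← inv_pow, commutatorElement_inv]
    have hSc : ∀ u ∈ S, ∀ v ∈ S, u * v = v * u := by
      rintro _ ⟨a, rfl⟩ _ ⟨b, rfl⟩
      rw [← commutatorElement_eq_one_iff_mul_comm, hpowl, hpowr, ← pow_mul, ← pow_add]
      obtain ⟨d, hd⟩ : ∃ d, E - 1 + (E - 1) = E + d := ⟨E - 2, by omega⟩
      rw [hd, pow_add, pow_mul, hE, one_pow]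
    have hSi : Inv σ (Subgroup.closure S) := inv_closure (by
      rintro _ ⟨a, rfl⟩
      exact subset_closure ⟨σ a, map_pow σ a _⟩)
    have hSn : (Subgroup.closure S).Normal := ⟨fun u hu g => by
      have hle : Subgroup.closure S ≤ (Subgroup.closure S).comap (MulAut.conj g).toMonoidHom := by
        rw [closure_le]
        rintro _ ⟨a, rfl⟩
        exact subset_closure ⟨g * a * g⁻¹, (conj_pow).symm⟩
      exact hle hu⟩
    have hSz := h.le_center_of_abelian hSi hSn fun u hu v hv => by
      haveI := isMulCommutative_closure hSc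
      exact congrArg Subtype.val (mul_comm' (⟨u, hu⟩ : Subgroup.closure S) ⟨v, hv⟩)
    have hbad : ∀ a b : Q, ⁅a, b⁆ ^ 2 ^ (E - 1) = 1 := fun a b => by
      rw [← hpowl, commutatorElement_eq_one_iff_mul_comm]
      exact (mem_center_iff.1 (hSz (subset_closure ⟨a, rfl⟩)) b).symm
    exact Nat.find_min hex2 (show E - 1 < E by omega) hbad
  rw [mem_center_iff]
  intro g
  rw [eq_comm, ← commutatorElement_eq_one_iff_mul_comm, sq, hmul, ← sq, hsq]

theorem fixed_le_center : fixedSub σ ≤ center Q := by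
  intro x hx
  rw [mem_fixedSub] at hx
  rw [mem_center_iff]
  intro g
  have hc := h.commutator_le_center
  have hcen : ∀ a b : Q, ⁅a, b⁆ ∈ center Q := fun a b =>
    hc (commutator_mem_commutator (mem_top a) (mem_top b))
  let f : Q →* Q :=
    { toFun := fun y => ⁅x, y⁆
      map_one' := by simp
      map_mul' := fun a b => by
        have h1 := mem_center_iff.1 (hcen x b) a
        calc ⁅x, a * b⁆ = x * a * x⁻¹ * ⁅x, b⁆ * a⁻¹ := by simp only [commutatorElement_def]; group
          _ = ⁅x, a⁆ * (a * ⁅x, b⁆) * a⁻¹ := by simp only [commutatorElement_def]; group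
          _ = ⁅x, a⁆ * ⁅x, b⁆ := by rw [h1, mul_assoc, mul_inv_cancel_right] }
  have hf : ∀ y, f (σ y) = f y := fun y => by
    show ⁅x, σ y⁆ = ⁅x, y⁆
    have h1 : σ ⁅x, y⁆ = ⁅x, y⁆ := mem_fixedSub.1 (h.center_le_fixed (hcen x y))
    have h2 : σ ⁅x, y⁆ = ⁅σ x, σ y⁆ := map_commutatorElement (σ : Q ≃* Q) x y
    rw [hx] at h2
    rw [← h2, h1]
  exact (commutatorElement_eq_one_iff_mul_comm.1 (h.hom_eq_one f hf g)).symm

theorem center_eq_fixed : center Q = fixedSub σ := le_antisymm h.center_le_fixed h.fixed_le_center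

theorem commutator_eq_center : commutator Q = center Q := by
  refine le_antisymm h.commutator_le_center fun z hz => ?_
  have hN := h.inv_commutator
  have hcq := h.cop.quotient hN
  have hmv : moved hN.quotAut (⊤ : Subgroup (Q ⧸ commutator Q)) = ⊤ := by
    have h1 := hN.map_moved_mk (⊤ : Subgroup Q)
    rw [h.eq_top, map_top_of_surjective _ (QuotientGroup.mk'_surjective _)] at h1
    exact h1.symm
  have h2 := hcq.moved_inf_fixed_eq_bot (H := (⊤ : Subgroup (Q ⧸ commutator Q))) inv_top
    (fun a _ b _ => by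
      rw [← commutatorElement_eq_one_iff_mul_comm]
      obtain ⟨a, rfl⟩ := QuotientGroup.mk'_surjective (commutator Q) a
      obtain ⟨b, rfl⟩ := QuotientGroup.mk'_surjective (commutator Q) b
      rw [← map_commutatorElement, QuotientGroup.mk'_apply, QuotientGroup.eq_one_iff]
      exact commutator_mem_commutator (mem_top a) (mem_top b))
  rw [hmv, top_inf_eq] at h2
  have h3 : (z : Q ⧸ commutator Q) ∈ fixedSub hN.quotAut := by
    rw [mem_fixedSub, hN.quotAut_mk, mem_fixedSub.1 (h.center_le_fixed hz)]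
  rw [h2, mem_bot, QuotientGroup.eq_one_iff] at h3
  exact h3

theorem center_pow_two {z : Q} (hz : z ∈ center Q) : z ^ 2 = 1 := by
  rw [← h.commutator_eq_center, commutator_eq_closure] at hz
  induction hz using closure_induction with
  | mem x hx =>
    obtain ⟨a, b, rfl⟩ := hx
    have hcen : ⁅a, b⁆ ∈ center Q :=
      h.commutator_le_center (commutator_mem_commutator (mem_top a) (mem_top b))
    have h1 := mem_center_iff.1 (h.sq_mem_center a) b
    have h2 : ⁅a ^ 2, b⁆ = 1 := commutatorElement_eq_one_iff_mul_comm.2 h1.symm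
    have h3 : ⁅a ^ 2, b⁆ = ⁅a, b⁆ ^ 2 := by
      have h4 := mem_center_iff.1 hcen a
      calc ⁅a ^ 2, b⁆ = a * ⁅a, b⁆ * b * a⁻¹ * b⁻¹ := by simp only [commutatorElement_def, pow_two]; group
        _ = ⁅a, b⁆ ^ 2 := by rw [h4]; simp only [commutatorElement_def, pow_two]; group
    rw [← h3, h2]
  | one => simp
  | mul x y hx hy ihx ihy =>
    have hxc : x ∈ center Q := h.commutator_eq_center ▸ (commutator_eq_closure Q ▸ hx)
    have hxy : Commute x y := (mem_center_iff.1 hxc y).symm
    rw [hxy.mul_pow, ihx, ihy, one_mul]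
  | inv x _ ih => rw [inv_pow, ih, inv_one]

theorem frattini_eq_center : frattini Q = center Q := by
  haveI : Fact (Nat.Prime 2) := ⟨Nat.prime_two⟩
  refine le_antisymm ?_ ?_
  · exact CfsgLib.Solvable.frattini_le_of_elementary (p := 2) h.commutator_le_center h.sq_mem_center
  · rw [← h.commutator_eq_center]
    exact CfsgLib.Solvable.commutator_le_frattini (p := 2) h.isPGroup

end Moved2

end CfsgLib.HHShult
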