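import Cfsg.Agent.Solvable.Nilpotent

/-!
# A `2`-group whose characteristic abelian subgroups are central
has class at most two and elementary abelian central quotient.
-/

set_option autoImplicit false
set_option linter.style.haveILetI false
set_option linter.unusedSectionVars false

namespace CfsgLib.HHShult

open Subgroup
open scoped commutatorElement

variable {Q : Type*} [Group Q] [Finite Q] (hQ : IsPGroup 2 Q)
  (hc : ∀ A : Subgroup Q, A.Characteristic → (∀ a ∈ A, ∀ b ∈ A, a * b = b * a) → A ≤ center Q)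

omit [Finite Q] in
theorem map_center_mem' (τ : Q ≃* Q) {z : Q} (hz : z ∈ center Q) : τ z ∈ center Q := by
  rw [mem_center_iff] at hz ⊢
  intro y
  obtain ⟨y, rfl⟩ := τ.surjective y
  rw [← map_mul, ← map_mul, hz y]

omit [Finite Q] in
theorem characteristic_inf (A B : Subgroup Q) [hA : A.Characteristic] [hB : B.Characteristic] :
    (A ⊓ B).Characteristic := by
  rw [characteristic_iff_comap_eq]
  intro τ
  rw [comap_inf, characteristic_iff_comap_eq.1 hA τ, characteristic_iff_comap_eq.1 hB τ]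

include hQ hc

theorem commutator_le_center_of_char : commutator Q ≤ center Q := by
  have := hQ.isNilpotent
  let π := QuotientGroup.mk' (center Q)
  let Z2 : Subgroup Q := (center (Q ⧸ center Q)).comap π
  have hZ2 : ∀ x ∈ Z2, ∀ y : Q, ⁅x, y⁆ ∈ center Q := by
    intro x hx y
    rw [← QuotientGroup.eq_one_iff]
    show π ⁅x, y⁆ = 1
    rw [map_commutatorElement, commutatorElement_eq_one_iff_mul_comm]
    exact (mem_center_iff.1 hx (π y)).symm
  have hZ2i : Z2.Characteristic := by
    rw [characteristic_iff_map_le]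
    intro τ
    rw [map_le_iff_le_comap]
    intro x hx
    have hx' := hZ2 x hx
    show π (τ x) ∈ center (Q ⧸ center Q)
    rw [mem_center_iff]
    intro q
    obtain ⟨y, rfl⟩ := QuotientGroup.mk'_surjective (center Q) q
    obtain ⟨y, rfl⟩ := τ.surjective y
    show π (τ y) * π (τ x) = π (τ x) * π (τ y)
    rw [eq_comm, ← commutatorElement_eq_one_iff_mul_comm, ← map_commutatorElement π]
    refine (QuotientGroup.eq_one_iff _).2 ?_
    show ⁅τ x, τ y⁆ ∈ center Q
    rw [← map_commutatorElement]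
    exact map_center_mem' τ (hx' y)
  -- `[Z2, Q'] = 1`
  have hcomm : ∀ x ∈ Z2, ∀ y ∈ commutator Q, ⁅x, y⁆ = 1 := by
    have hc : ⁅commutator Q, Z2⁆ = ⊥ := by
      rw [commutator_def]
      refine commutator_commutator_eq_bot_of_rotate ?_ ?_
      · rw [commutator_eq_bot_iff_le_centralizer, commutator_le]
        intro a _ b hb
        rw [mem_centralizer_iff]
        intro g _
        rw [← commutatorElement_inv]
        exact mem_center_iff.1 (inv_mem (hZ2 b hb a)) g
      · rw [commutator_eq_bot_iff_le_centralizer, commutator_le]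
        intro b hb a _
        rw [mem_centralizer_iff]
        intro g _
        exact mem_center_iff.1 (hZ2 b hb a) g
    intro x hx y hy
    have h4 : ⁅y, x⁆ ∈ ⁅commutator Q, Z2⁆ := commutator_mem_commutator hy hx
    rw [hc, mem_bot] at h4
    rw [← commutatorElement_inv, h4, inv_one]
  have hN : commutator Q ⊓ Z2 ≤ center Q := by
    haveI := hZ2i
    refine hc _ (characteristic_inf (commutator Q) Z2) ?_
    intro a ha b hb
    exact commutatorElement_eq_one_iff_mul_comm.1 (hcomm a ha.2 b hb.1)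
  -- otherwise the image of `Q'` meets the centre of `Q / Z` trivially
  by_contra hne
  have hne' : (commutator Q).map π ≠ ⊥ := by
    rw [Ne, Subgroup.map_eq_bot_iff, QuotientGroup.ker_mk']
    exact hne
  have hP : IsPGroup 2 (Q ⧸ center Q) := hQ.to_quotient _
  haveI : ((commutator Q).map π).Normal :=
    Normal.map inferInstance _ (QuotientGroup.mk'_surjective _)
  haveI := hP.isNilpotent
  obtain ⟨⟨z, hz⟩, hz1⟩ := (Subgroup.ne_bot_iff_exists_ne_one).1
    (CfsgLib.Solvable.inf_center_ne_bot hne')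
  replace hz1 : z ≠ 1 := fun e => hz1 (Subtype.ext (by simpa using e))
  obtain ⟨x, hx, rfl⟩ := hz.1
  exact hz1 (by
    show π x = 1
    rw [← MonoidHom.mem_ker, QuotientGroup.ker_mk']
    exact hN ⟨hx, hz.2⟩)

theorem sq_mem_center_of_char (x : Q) : x ^ 2 ∈ center Q := by
  -- commutators are fixed and bimultiplicative
  have hcc := commutator_le_center_of_char hQ hc
  have hcen : ∀ a b : Q, ⁅a, b⁆ ∈ center Q := fun a b =>
    hcc (commutator_mem_commutator (mem_top a) (mem_top b))
  have hmul : ∀ a b y : Q, ⁅a * b, y⁆ = ⁅a, y⁆ * ⁅b, y⁆ := by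
    intro a b y
    have h1 := mem_center_iff.1 (hcen b y) a
    calc ⁅a * b, y⁆ = a * ⁅b, y⁆ * y * a⁻¹ * y⁻¹ := by simp only [commutatorElement_def]; group
      _ = ⁅b, y⁆ * ⁅a, y⁆ := by rw [h1]; simp only [commutatorElement_def]; group
      _ = ⁅a, y⁆ * ⁅b, y⁆ := (mem_center_iff.1 (hcen b y) _).symm
  -- the exponent of `Q'` is two
  have hsq : ∀ a b : Q, ⁅a, b⁆ ^ 2 = 1 := by
    by_contra! hex
    obtain ⟨a₀, b₀, hab⟩ := hex
    obtain ⟨e, he⟩ : ∃ e, ∀ a b : Q, ⁅a, b⁆ ^ 2 ^ e = 1 := by
      obtain ⟨n, hn⟩ := IsPGroup.iff_card.1 hQ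
      exact ⟨n, fun a b => by rw [← hn, pow_card_eq_one']⟩
    have hex2 : ∃ e, ∀ a b : Q, ⁅a, b⁆ ^ 2 ^ e = 1 := ⟨e, he⟩
    classical
    set E := Nat.find hex2 with hEdef
    have hE : ∀ a b : Q, ⁅a, b⁆ ^ 2 ^ E = 1 := Nat.find_spec hex2
    have hE2 : 2 ≤ E := by
      by_contra hlt
      apply hab
      have h1 := hE a₀ b₀
      rcases Nat.lt_succ_iff.1 (not_le.1 hlt) |>.eq_or_lt with h2 | h2
      · rw [h2, pow_one] at h1; exact h1
      · rw [Nat.lt_one_iff.1 h2, pow_zero, pow_one] at h1; rw [h1, one_pow]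
    -- the powers `a ^ (2 ^ (E - 1))` generate an abelian invariant normal subgroup
    let S : Set Q := {y | ∃ a, y = a ^ 2 ^ (E - 1)}
    have hpowl : ∀ (a y : Q) (n : ℕ), ⁅a ^ n, y⁆ = ⁅a, y⁆ ^ n := by
      intro a y n
      induction n with
      | zero => simp
      | succ n ih => rw [pow_succ, hmul, ih, pow_succ]
    have hpowr : ∀ (a y : Q) (n : ℕ), ⁅a, y ^ n⁆ = ⁅a, y⁆ ^ n := by
      intro a y n
      rw [← commutatorElement_inv, hpowl, ← inv_pow, commutatorElement_inv]
    have hSc : ∀ u ∈ S, ∀ v ∈ S, u * v = v * u := by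
      rintro _ ⟨a, rfl⟩ _ ⟨b, rfl⟩
      rw [← commutatorElement_eq_one_iff_mul_comm, hpowl, hpowr, ← pow_mul, ← pow_add]
      obtain ⟨d, hd⟩ : ∃ d, E - 1 + (E - 1) = E + d := ⟨E - 2, by omega⟩
      rw [hd, pow_add, pow_mul, hE, one_pow]
    have hSi : (Subgroup.closure S).Characteristic := by
      rw [characteristic_iff_map_le]
      intro τ
      rw [MonoidHom.map_closure, closure_le]
      rintro _ ⟨_, ⟨a, rfl⟩, rfl⟩
      exact subset_closure ⟨τ a, map_pow τ a _⟩
    have hSz := hc _ hSi fun u hu v hv => by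
      haveI := isMulCommutative_closure hSc
      exact congrArg Subtype.val (mul_comm' (⟨u, hu⟩ : Subgroup.closure S) ⟨v, hv⟩)
    have hbad : ∀ a b : Q, ⁅a, b⁆ ^ 2 ^ (E - 1) = 1 := fun a b => by
      rw [← hpowl, commutatorElement_eq_one_iff_mul_comm]
      exact (mem_center_iff.1 (hSz (subset_closure ⟨a, rfl⟩)) b).symm
    exact Nat.find_min hex2 (show E - 1 < E by omega) hbad
  rw [mem_center_iff]
  intro g
  rw [eq_comm, ← commutatorElement_eq_one_iff_mul_comm, sq, hmul, ← sq, hsq]

end CfsgLib.HHShult
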