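import Cfsg.Agent.HHShult.BadFix

/-!
# A quadratic space with a group transitive on classes

`Duo`: an abstraction of `D / D'`, `Z(D)`, the fixed part of `N(D)` and the occurring characters;
`Z0` is the part central in `G`.

* `Duo.dual_trans`: the group is transitive on the non-zero functionals killing `Z0`;
* `Duo.count`: their sign sums count the elements with square in `Z0`;
* `gsum_sq`, `gsum_pair`: sign sums of forms.
-/

set_option autoImplicit false
set_option linter.style.haveILetI false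
set_option linter.unusedSectionVars false

open Finset

namespace CfsgLib.HHShult

/-- The sign sum of `η ∘ sq`. -/
def gsum {A Z : Type*} [AddCommGroup A] [Fintype A] [AddCommGroup Z] (sq : A → Z)
    (η : Z →+ ZMod 2) : ℤ := ∑ a, sgn (η (sq a))

open scoped Classical in
/-- The functionals killing `Z0`. -/
noncomputable def evens {Z : Type*} [AddCommGroup Z] [Fintype (Z →+ ZMod 2)] (Z0 : AddSubgroup Z) :
    Finset (Z →+ ZMod 2) := Finset.univ.filter fun η => ∀ z ∈ Z0, η z = 0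

theorem mem_evens {Z : Type*} [AddCommGroup Z] [Fintype (Z →+ ZMod 2)] {Z0 : AddSubgroup Z}
    {η : Z →+ ZMod 2} : η ∈ evens Z0 ↔ ∀ z ∈ Z0, η z = 0 := by simp [evens]

section basic

variable {A Z : Type*} [AddCommGroup A] [AddCommGroup Z] {sq : A → Z} {ρ : AddMonoid.End A}
  {r m : ℕ}

/-- Summing over a surjection. -/
theorem sum_comp_surjective {B : Type*} [AddCommGroup B] [Fintype A] [Fintype B] (f : A →+ B)
    (hf : Function.Surjective f) (F : B → ℤ) :
    ∑ a, F (f a) = (Nat.card f.ker : ℤ) * ∑ b, F b := by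
  classical
  rw [← Finset.sum_fiberwise Finset.univ f fun a => F (f a), Finset.mul_sum]
  refine Finset.sum_congr rfl fun b _ => ?_
  rw [Finset.sum_congr rfl fun a ha => congrArg F (Finset.mem_filter.1 ha).2, Finset.sum_const,
    nsmul_eq_mul]
  congr 1
  rw [Nat.cast_inj, ← Nat.card_eq_finsetCard]
  obtain ⟨a₀, rfl⟩ := hf b
  refine Nat.card_congr
    { toFun := fun a => ⟨(a : A) - a₀, by
        rw [AddMonoidHom.mem_ker, map_sub, (Finset.mem_filter.1 a.2).2, sub_self]⟩
      invFun := fun k => ⟨(k : A) + a₀, by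
        simp [AddMonoidHom.mem_ker.1 k.2]⟩
      left_inv := fun a => Subtype.ext (sub_add_cancel _ _)
      right_inv := fun k => Subtype.ext (add_sub_cancel_right _ _) }

/-- The square of a sign sum. -/
theorem gsum_sq [Fintype A] (h : Quad sq ρ r m) (η : Z →+ ZMod 2) :
    gsum sq η * gsum sq η = (Fintype.card A : ℤ) * Nat.card (h.rad η) := by
  classical
  have hsh : ∀ a : A, ∑ b, sgn (η (sq a)) * sgn (η (sq b)) =
      ∑ w, sgn (η (sq w)) * sgn (η (bz sq a w)) := by
    intro a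
    rw [← Equiv.sum_comp (Equiv.addLeft a)]
    refine Finset.sum_congr rfl fun w _ => ?_
    rw [← sgn_add, ← sgn_add, Equiv.coe_addLeft, Quad.sq_add (sq := sq), map_add, map_add,
      show η (sq a) + (η (sq a) + η (sq w) + η (bz sq a w)) =
        (η (sq a) + η (sq a)) + (η (sq w) + η (bz sq a w)) by abel,
      zmod2_add_self, zero_add]
  rw [gsum, Finset.sum_mul_sum, Finset.sum_congr rfl fun a _ => hsh a, Finset.sum_comm]
  have hcol : ∀ w : A, ∑ a, sgn (η (sq w)) * sgn (η (bz sq a w)) =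
      if w ∈ h.rad η then (Fintype.card A : ℤ) else 0 := by
    intro w
    rw [← Finset.mul_sum]
    split_ifs with hw
    · have h0 : η (sq w) = 0 := h.form_eq_zero_of_bz (h.invSub_rad η) η
        (fun x hx y _ => hx y) w hw
      rw [h0, sgn_zero, one_mul, Finset.sum_congr rfl fun a _ => by
        rw [Quad.bz_comm, hw a, sgn_zero]]
      simp
    · rw [show ∑ a, sgn (η (bz sq a w)) = 0 from
        sum_sgn_eq_zero (AddMonoidHom.mk' (fun a => η (bz sq a w)) fun a b => by
          rw [h.add_left, map_add]) (by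
            by_contra! hall
            exact hw fun b => by rw [Quad.bz_comm]; exact hall b), mul_zero]
  rw [Finset.sum_congr rfl fun w _ => hcol w, Finset.sum_ite, Finset.sum_const, Finset.sum_const_zero,
    add_zero, nsmul_eq_mul, mul_comm]
  congr 2
  rw [← Nat.card_eq_finsetCard]
  exact Nat.card_congr (Equiv.subtypeEquivRight fun w => by simp)

/-- The sign sum of the sum of two forms with incomparable radicals. -/
theorem gsum_pair [Fintype A] {h : Quad sq ρ r m} {χ χ' : Z →+ ZMod 2} (hg : h.Good χ)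
    (hg' : h.Good χ') (hne : ¬ h.rad χ ≤ h.rad χ') :
    gsum sq (χ + χ') * 2 ^ (2 * m) = (Fintype.card A : ℤ) ∧
      Nat.card (h.rad χ ⊓ h.rad χ' : AddSubgroup A) * 2 ^ (4 * m) = Fintype.card A := by
  classical
  letI := Fintype.ofFinite (A ⧸ h.rad χ)
  letI := Fintype.ofFinite (A ⧸ h.rad χ')
  let f : A →+ (A ⧸ h.rad χ) × (A ⧸ h.rad χ') :=
    (QuotientAddGroup.mk' (h.rad χ)).prod (QuotientAddGroup.mk' (h.rad χ'))
  have hf : Function.Surjective f := by
    rintro ⟨u, v⟩
    obtain ⟨a, rfl⟩ := QuotientAddGroup.mk'_surjective (h.rad χ) u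
    have htop := (hg'.le_rad_or (h.invSub_rad χ)).resolve_left hne
    obtain ⟨w, hw, hwv⟩ : v - QuotientAddGroup.mk' (h.rad χ') a ∈
        (h.rad χ).map (QuotientAddGroup.mk' (h.rad χ')) := htop ▸ AddSubgroup.mem_top _
    refine ⟨a + w, ?_⟩
    refine Prod.ext ?_ ?_
    · show QuotientAddGroup.mk' (h.rad χ) (a + w) = _
      rw [map_add, (QuotientAddGroup.eq_zero_iff w).2 hw |> (fun e => (show
        QuotientAddGroup.mk' (h.rad χ) w = 0 from e)), add_zero]
    · show QuotientAddGroup.mk' (h.rad χ') (a + w) = _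
      rw [map_add, hwv, add_sub_cancel]
  have hker : f.ker = h.rad χ ⊓ h.rad χ' := by
    rw [AddMonoidHom.ker_prod, QuotientAddGroup.ker_mk', QuotientAddGroup.ker_mk']
  have hcard : Nat.card f.ker * 2 ^ (4 * m) = Fintype.card A := by
    have h1 := f.ker.card_mul_index
    rw [AddSubgroup.index_ker, AddMonoidHom.range_eq_top.2 hf, AddSubgroup.card_top,
      Nat.card_prod, hg.card, hg'.card, ← pow_add, Nat.card_eq_fintype_card (α := A),
      show 2 * m + 2 * m = 4 * m by ring] at h1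
    exact h1
  refine ⟨?_, hker ▸ hcard⟩
  have hsum : gsum sq (χ + χ') =
      ∑ a, (fun p : (A ⧸ h.rad χ) × (A ⧸ h.rad χ') =>
        sgn (h.radForm χ p.1) * sgn (h.radForm χ' p.2)) (f a) := by
    refine Finset.sum_congr rfl fun a _ => ?_
    show sgn ((χ + χ') (sq a)) = sgn (h.radForm χ (a : A ⧸ h.rad χ)) *
      sgn (h.radForm χ' (a : A ⧸ h.rad χ'))
    rw [Quad.radForm_mk hg, Quad.radForm_mk hg', AddMonoidHom.add_apply, sgn_add]
  rw [hsum, sum_comp_surjective f hf (fun p : (A ⧸ h.rad χ) × (A ⧸ h.rad χ') =>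
      sgn (h.radForm χ p.1) * sgn (h.radForm χ' p.2)), Fintype.sum_prod_type]
  simp only [← Finset.sum_mul_sum]
  rw [hg.line.sum_sgn, hg'.line.sum_sgn, ← hcard]
  push_cast
  rw [show 4 * m = m + m + 2 * m by ring, pow_add, pow_add]
  ring

theorem card_eq_four [Fintype A] {h : Quad sq ρ r m} {χ : Z →+ ZMod 2} (hg : h.Good χ) :
    Fintype.card A = 2 ^ (2 * m) * Nat.card (h.rad χ) := by
  rw [← Nat.card_eq_fintype_card, AddSubgroup.card_eq_card_quotient_mul_card_addSubgroup (h.rad χ),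
    hg.card]

/-- The smallest invariant subgroup containing `a`. -/
def spanR (ρ : AddMonoid.End A) (a : A) : AddSubgroup A :=
  sInf {N | Quad.InvSub ρ N ∧ a ∈ N}

theorem mem_spanR_self (ρ : AddMonoid.End A) (a : A) : a ∈ spanR ρ a :=
  AddSubgroup.mem_sInf.2 fun _ hN => hN.2

theorem invSub_spanR (ρ : AddMonoid.End A) (a : A) : Quad.InvSub ρ (spanR ρ a) := fun x hx =>
  AddSubgroup.mem_sInf.2 fun N hN => hN.1 x (AddSubgroup.mem_sInf.1 hx N hN)

theorem spanR_le {ρ : AddMonoid.End A} {a : A} {N : AddSubgroup A} (hN : Quad.InvSub ρ N)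
    (ha : a ∈ N) : spanR ρ a ≤ N := sInf_le ⟨hN, ha⟩

end basic

/-- `D / D'`, `Z(D)`, the fixed part of `N(D)`, the occurring characters. -/
structure Duo {A Z : Type*} [AddCommGroup A] [AddCommGroup Z] (sq : A → Z) (ρ : AddMonoid.End A)
    (r m : ℕ) {Γ : Type*} [Group Γ] (Z0 : AddSubgroup Z) (Φ : Finset (Z →+ ZMod 2))
    (actA : Γ →* AddMonoid.End A) (actZ : Γ →* AddMonoid.End Z) : Prop where
  quad : Quad sq ρ r m
  good : ∀ χ ∈ Φ, χ ≠ 0 → quad.Good χ
  sep : ∀ z, (∀ χ ∈ Φ, χ z = 0) → z = 0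
  nondeg : ∀ a, (∀ b, bz sq a b = 0) → a = 0
  span : ∀ η : Z →+ ZMod 2, (∀ a b, η (bz sq a b) = 0) → η = 0
  sq_act : ∀ c a, sq (actA c a) = actZ c (sq a)
  act_comm : ∀ c a, actA c (ρ a) = ρ (actA c a)
  z0_act : ∀ c, ∀ z ∈ Z0, actZ c z ∈ Z0
  phi_act : ∀ c, ∀ χ ∈ Φ, χ.comp (actZ c) ∈ Φ
  trans : ∀ a b, a ∉ Z0 → b ∉ Z0 → ∃ c, actZ c a + b ∈ Z0
  classes : ∃ a b, a ∉ Z0 ∧ b ∉ Z0 ∧ a + b ∉ Z0
  odd : ∀ z ∈ Z0, z ≠ 0 → ∀ χ ∈ Φ, χ z = 1

namespace Duo

variable {A Z Γ : Type*} [AddCommGroup A] [AddCommGroup Z] [Group Γ] [Finite Γ] {sq : A → Z}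
  {ρ : AddMonoid.End A} {r m : ℕ} {Z0 : AddSubgroup Z} {Φ : Finset (Z →+ ZMod 2)}
  {actA : Γ →* AddMonoid.End A} {actZ : Γ →* AddMonoid.End Z}
  (U : Duo sq ρ r m Z0 Φ actA actZ)
include U

theorem actZ_inv_apply (c : Γ) (z : Z) : actZ c (actZ c⁻¹ z) = z := by
  show (actZ c * actZ c⁻¹) z = z
  rw [← map_mul, mul_inv_cancel, map_one]
  rfl

theorem actA_inv_apply (c : Γ) (a : A) : actA c (actA c⁻¹ a) = a := by
  show (actA c * actA c⁻¹) a = a
  rw [← map_mul, mul_inv_cancel, map_one]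
  rfl

theorem invSub_fix (c : Γ) {N : AddSubgroup A} (hN : N = (actA c : A →+ A).eqLocus (AddMonoidHom.id A)) :
    Quad.InvSub ρ N := by
  subst hN
  intro a ha
  show actA c (ρ a) = ρ a
  rw [U.act_comm, show actA c a = a from ha]

/-- Elements fixing `a` fix its span. -/
theorem fix_spanR {c : Γ} {a : A} (ha : actA c a = a) {x : A} (hx : x ∈ spanR ρ a) :
    actA c x = x :=
  spanR_le (U.invSub_fix c rfl) (show a ∈ (actA c : A →+ A).eqLocus (AddMonoidHom.id A) from ha) hx

theorem eq_of_sum (z w : Z) : z + w = 0 ↔ z = w := by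
  rw [add_eq_zero_iff_eq_neg, U.quad.negZ]

variable [Fintype A] [Fintype Z] [Fintype (Z →+ ZMod 2)]

open scoped Classical in
theorem sum_evens (z : Z) :
    ∑ η ∈ evens Z0, sgn (η z) = if z ∈ Z0 then ((evens Z0).card : ℤ) else 0 := by
  split_ifs with hz
  · rw [Finset.sum_congr rfl fun η hη => by rw [mem_evens.1 hη z hz, sgn_zero]]
    simp
  · obtain ⟨η₀, h0, h1⟩ := exists_functional_notMem U.quad.twoZ hz
    have hneg : ∑ η ∈ evens Z0, sgn (η z) = ∑ η ∈ evens Z0, -sgn (η z) := by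
      refine Finset.sum_nbij' (· + η₀) (· + η₀) ?_ ?_ ?_ ?_ ?_
      · intro η hη
        exact mem_evens.2 fun w hw => by
          rw [AddMonoidHom.add_apply, mem_evens.1 hη w hw, h0 w hw, add_zero]
      · intro η hη
        exact mem_evens.2 fun w hw => by
          rw [AddMonoidHom.add_apply, mem_evens.1 hη w hw, h0 w hw, add_zero]
      · intro η _
        exact AddMonoidHom.ext fun w => by
          simp only [AddMonoidHom.add_apply, add_assoc, zmod2_add_self, add_zero]
      · intro η _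
        exact AddMonoidHom.ext fun w => by
          simp only [AddMonoidHom.add_apply, add_assoc, zmod2_add_self, add_zero]
      · intro η _
        rw [AddMonoidHom.add_apply, h1, sgn_add, sgn_one, mul_neg, mul_one, neg_neg]
    rw [Finset.sum_neg_distrib] at hneg
    omega

theorem card_evens_mul : (evens Z0).card * Nat.card Z0 = Fintype.card Z := by
  classical
  have h : ∑ η ∈ evens Z0, ∑ z, sgn (η z) = ∑ z, ∑ η ∈ evens Z0, sgn (η z) := Finset.sum_comm
  have hcol : ∀ η : Z →+ ZMod 2, ∑ z, sgn (η z) = if η = 0 then (Fintype.card Z : ℤ) else 0 := by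
    intro η
    split_ifs with h0
    · subst h0; simp
    · refine sum_sgn_eq_zero η ?_
      by_contra! hall
      exact h0 (AddMonoidHom.ext hall)
  rw [Finset.sum_congr rfl fun η _ => hcol η, Finset.sum_ite_eq', if_pos (mem_evens.2 fun _ _ => rfl),
    Finset.sum_congr rfl fun z _ => U.sum_evens z, Finset.sum_ite, Finset.sum_const,
    Finset.sum_const_zero, add_zero, nsmul_eq_mul] at h
  have e : (Finset.univ.filter fun z => z ∈ Z0).card = Nat.card Z0 := by
    rw [← Nat.card_eq_finsetCard]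
    exact Nat.card_congr (Equiv.subtypeEquivRight fun w => by simp)
  rw [e, mul_comm] at h
  exact_mod_cast h.symm

theorem card_evens_eq_index : (evens Z0).card = Z0.index := by
  have h1 := U.card_evens_mul
  rw [← Nat.card_eq_fintype_card, ← Z0.index_mul_card] at h1
  exact Nat.eq_of_mul_eq_mul_right Nat.card_pos h1

theorem index_ge : 3 ≤ Z0.index := by
  classical
  obtain ⟨a, b, ha, hb, hab⟩ := U.classes
  haveI := Fintype.ofFinite (Z ⧸ Z0)
  rw [AddSubgroup.index, Nat.card_eq_fintype_card]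
  have h0 : ∀ {z : Z}, z ∉ Z0 → (z : Z ⧸ Z0) ≠ 0 := fun hz h =>
    hz ((QuotientAddGroup.eq_zero_iff _).1 h)
  have hne : (a : Z ⧸ Z0) ≠ b := fun h => hab (by
    rw [QuotientAddGroup.eq, U.quad.negZ] at h
    exact h)
  have : ({0, (a : Z ⧸ Z0), (b : Z ⧸ Z0)} : Finset (Z ⧸ Z0)).card = 3 := by
    simp [(h0 ha).symm, (h0 hb).symm, hne]
  rw [← this]
  exact Finset.card_le_univ _

/-- The group is transitive on the non-zero functionals killing `Z0`. -/
theorem dual_trans {η η' : Z →+ ZMod 2} (hη : η ∈ evens Z0) (hη0 : η ≠ 0) (hη' : η' ∈ evens Z0)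
    (hη'0 : η' ≠ 0) : ∃ c, η.comp (actZ c) = η' := by
  classical
  haveI := Fintype.ofFinite Γ
  by_contra! hall
  have hne : ∀ (θ : Z →+ ZMod 2), θ ≠ 0 → ∀ c, θ.comp (actZ c) ≠ 0 := fun θ hθ c h =>
    hθ (AddMonoidHom.ext fun z => by
      have := DFunLike.congr_fun h (actZ c⁻¹ z)
      change θ (actZ c (actZ c⁻¹ z)) = 0 at this
      rw [U.actZ_inv_apply] at this
      exact this)
  let f : (Z →+ ZMod 2) → Z → ℤ := fun θ z => ∑ c : Γ, sgn (θ (actZ c z))
  have hsum : ∀ θ : Z →+ ZMod 2, θ ≠ 0 → ∑ z, f θ z = 0 := by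
    intro θ hθ
    show ∑ z, ∑ c : Γ, sgn (θ (actZ c z)) = 0
    rw [Finset.sum_comm]
    refine Finset.sum_eq_zero fun c _ => sum_sgn_eq_zero (θ.comp (actZ c)) ?_
    by_contra! h
    exact hne θ hθ c (AddMonoidHom.ext h)
  have hin : ∀ θ ∈ evens Z0, ∀ z ∈ Z0, f θ z = (Fintype.card Γ : ℤ) := by
    intro θ hθ z hz
    show ∑ c : Γ, sgn (θ (actZ c z)) = _
    rw [Finset.sum_congr rfl fun c _ => by rw [mem_evens.1 hθ _ (U.z0_act c z hz), sgn_zero]]
    simp
  obtain ⟨a, -, ha, -, -⟩ := U.classes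
  have hout : ∀ θ ∈ evens Z0, ∀ z, z ∉ Z0 → f θ z = f θ a := by
    intro θ hθ z hz
    obtain ⟨c₀, hc₀⟩ := U.trans a z ha hz
    have e : z = actZ c₀ a + (actZ c₀ a + z) := by
      rw [← add_assoc, U.quad.twoZ, zero_add]
    show ∑ c : Γ, sgn (θ (actZ c z)) = ∑ c : Γ, sgn (θ (actZ c a))
    rw [← Equiv.sum_comp (Equiv.mulRight c₀) fun c => sgn (θ (actZ c a))]
    refine Finset.sum_congr rfl fun c _ => ?_
    rw [Equiv.coe_mulRight, map_mul, AddMonoid.End.coe_mul, Function.comp_apply]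
    conv_lhs => rw [e, map_add, map_add, mem_evens.1 hθ _ (U.z0_act c _ hc₀), add_zero]
  set n := (Fintype.card Γ : ℤ) with hn
  set k := ((Finset.univ.filter fun z => z ∈ Z0).card : ℤ)
  set l := ((Finset.univ.filter fun z => z ∉ Z0).card : ℤ)
  have hval : ∀ θ ∈ evens Z0, θ ≠ 0 → k * n + l * f θ a = 0 := by
    intro θ hθ hθ0
    rw [← hsum θ hθ0, ← Finset.sum_filter_add_sum_filter_not Finset.univ (fun z => z ∈ Z0),
      Finset.sum_congr rfl fun z hz => hin θ hθ z (Finset.mem_filter.1 hz).2,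
      Finset.sum_congr (s₁ := Finset.univ.filter fun z => z ∉ Z0) rfl
        fun z hz => hout θ hθ z (Finset.mem_filter.1 hz).2]
    simp [k, l]
  have hprod : ∑ z, f η z * f η' z = 0 := by
    show ∑ z, (∑ c : Γ, sgn (η (actZ c z))) * (∑ c : Γ, sgn (η' (actZ c z))) = 0
    simp_rw [Finset.sum_mul_sum]
    rw [Finset.sum_comm]
    refine Finset.sum_eq_zero fun c _ => ?_
    rw [Finset.sum_comm]
    refine Finset.sum_eq_zero fun c' _ => ?_
    simp_rw [← sgn_add]
    refine sum_sgn_eq_zero (η.comp (actZ c) + η'.comp (actZ c')) ?_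
    by_contra! h
    refine hall (c * c'⁻¹) (AddMonoidHom.ext fun z => ?_)
    have h' := h (actZ c'⁻¹ z)
    change η (actZ c (actZ c'⁻¹ z)) + η' (actZ c' (actZ c'⁻¹ z)) = 0 at h'
    rw [U.actZ_inv_apply] at h'
    show η (actZ (c * c'⁻¹) z) = η' z
    rw [map_mul, AddMonoid.End.coe_mul, Function.comp_apply]
    exact (CharTwo.add_eq_zero).1 h'
  rw [← Finset.sum_filter_add_sum_filter_not Finset.univ (fun z => z ∈ Z0),
    Finset.sum_congr rfl fun z hz => by
      rw [hin η hη z (Finset.mem_filter.1 hz).2, hin η' hη' z (Finset.mem_filter.1 hz).2],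
    Finset.sum_congr (s₁ := Finset.univ.filter fun z => z ∉ Z0) rfl fun z hz => by
      rw [hout η hη z (Finset.mem_filter.1 hz).2, hout η' hη' z (Finset.mem_filter.1 hz).2]] at hprod
  simp only [Finset.sum_const, nsmul_eq_mul] at hprod
  change k * (n * n) + l * (f η a * f η' a) = 0 at hprod
  have h1 := hval η hη hη0
  have h2 := hval η' hη' hη'0
  have hk : 0 < k := by
    have : 0 < (Finset.univ.filter fun z => z ∈ Z0).card :=
      Finset.card_pos.2 ⟨0, by simp⟩
    simp only [k]; exact_mod_cast this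
  have hn0 : 0 < n := by simp only [hn]; exact_mod_cast Fintype.card_pos
  have hl : 0 ≤ l := by positivity
  have key : l * (k * (n * n)) + (k * n) * (k * n) = 0 := by
    linear_combination l * hprod - l * f η a * h2 + k * n * h1
  nlinarith [mul_nonneg hl (mul_nonneg hk.le (mul_nonneg hn0.le hn0.le)),
    mul_pos (mul_pos hk hn0) (mul_pos hk hn0)]

theorem gsum_comp (η : Z →+ ZMod 2) (c : Γ) : gsum sq (η.comp (actZ c)) = gsum sq η := by
  refine Finset.sum_bij' (fun a _ => actA c a) (fun a _ => actA c⁻¹ a) (fun _ _ => Finset.mem_univ _)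
    (fun _ _ => Finset.mem_univ _) (fun a _ => ?_) (fun a _ => U.actA_inv_apply c a) fun a _ => ?_
  · have := U.actA_inv_apply c⁻¹ a
    rwa [inv_inv] at this
  · show sgn (η (actZ c (sq a))) = sgn (η (sq (actA c a)))
    rw [U.sq_act]

theorem gsum_eq {η η' : Z →+ ZMod 2} (hη : η ∈ evens Z0) (hη0 : η ≠ 0) (hη' : η' ∈ evens Z0)
    (hη'0 : η' ≠ 0) : gsum sq η = gsum sq η' := by
  obtain ⟨c, rfl⟩ := U.dual_trans hη hη0 hη' hη'0
  exact (U.gsum_comp η c).symm

open scoped Classical in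
/-- Counting the elements with square in `Z0`. -/
theorem count {η : Z →+ ZMod 2} (hη : η ∈ evens Z0) (hη0 : η ≠ 0) :
    (Z0.index : ℤ) * (Finset.univ.filter fun a => sq a ∈ Z0).card =
      (Fintype.card A : ℤ) + ((Z0.index : ℤ) - 1) * gsum sq η := by
  have h : ∑ θ ∈ evens Z0, ∑ a, sgn (θ (sq a)) = ∑ a, ∑ θ ∈ evens Z0, sgn (θ (sq a)) :=
    Finset.sum_comm
  rw [Finset.sum_congr rfl fun a _ => U.sum_evens (sq a), Finset.sum_ite, Finset.sum_const,
    Finset.sum_const_zero, add_zero, nsmul_eq_mul, U.card_evens_eq_index] at h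
  have h0 : (0 : Z →+ ZMod 2) ∈ evens Z0 := mem_evens.2 fun _ _ => rfl
  rw [← Finset.add_sum_erase _ _ h0] at h
  have herase : ∑ θ ∈ (evens Z0).erase 0, ∑ a, sgn (θ (sq a)) =
      ∑ θ ∈ (evens Z0).erase 0, gsum sq η := Finset.sum_congr rfl fun θ hθ =>
    U.gsum_eq (Finset.mem_of_mem_erase hθ) (Finset.ne_of_mem_erase hθ) hη hη0
  rw [herase, Finset.sum_const,
    nsmul_eq_mul, Finset.card_erase_of_mem h0, U.card_evens_eq_index] at h
  have h1 : 1 ≤ Z0.index := le_trans (by norm_num) U.index_ge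
  push_cast [Nat.cast_sub h1] at h
  simp only [AddMonoidHom.zero_apply, sgn_zero, Finset.sum_const, Finset.card_univ, nsmul_eq_mul,
    mul_one] at h
  linarith

end Duo

end CfsgLib.HHShult
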