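import Cfsg.Agent.ShultGross.CharData

/-!
# Joint eigenspaces of a finite abelian group and eigenspaces of an involution

* `eigen ψ χ`, `eproj ψ χ`, `sum_eproj`, `finrank_eq_sum`;
* `finrank_pm`: the two eigenspaces of an involution fill the space;
* `finrank_eq_of_swap`, `finrank_le_plus`, `finrank_le_minus`: comparisons of their dimensions.
-/

set_option autoImplicit false
set_option linter.style.haveILetI false
set_option linter.unusedSectionVars false

open Finset Module

namespace CfsgLib.HHShult

universe u v w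

variable {K : Type u} [Field K] {V : Type v} [AddCommGroup V] [Module K V]
variable {A : Type w} [CommGroup A]

/-- The joint eigenspace of a character. -/
def eigen (ψ : A →* Module.End K V) (χ : A →* K) : Submodule K V where
  carrier := {v | ∀ a, ψ a v = χ a • v}
  add_mem' := fun {x y} hx hy a => by rw [map_add, hx a, hy a, smul_add]
  zero_mem' := fun a => by rw [map_zero, smul_zero]
  smul_mem' := fun c v hv a => by rw [map_smul, hv a, smul_comm]

theorem mem_eigen {ψ : A →* Module.End K V} {χ : A →* K} {v : V} :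
    v ∈ eigen ψ χ ↔ ∀ a, ψ a v = χ a • v := Iff.rfl

/-- Characters of a finite group with values in a field are finite in number. -/
theorem finite_hom [Finite A] : Finite (A →* K) := by
  classical
  let S : Finset K := Polynomial.nthRootsFinset (Nat.card A) (1 : K)
  have hS : ∀ (χ : A →* K) a, χ a ∈ S := fun χ a => by
    rw [Polynomial.mem_nthRootsFinset Nat.card_pos, ← map_pow, pow_card_eq_one', map_one]
  refine Finite.of_injective (fun χ : A →* K => fun a : A => (⟨χ a, hS χ a⟩ : S)) fun χ η he => ?_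
  exact MonoidHom.ext fun a => congrArg Subtype.val (congrFun he a)

variable [Fintype A]

/-- The projection to the eigenspace of `χ`. -/
def eproj (ψ : A →* Module.End K V) (χ : A →* K) : Module.End K V :=
  (Fintype.card A : K)⁻¹ • ∑ a : A, χ a⁻¹ • ψ a

theorem eproj_apply (ψ : A →* Module.End K V) (χ : A →* K) (v : V) :
    eproj ψ χ v = (Fintype.card A : K)⁻¹ • ∑ a : A, χ a⁻¹ • ψ a v := by
  simp [eproj, LinearMap.sum_apply]

theorem apply_eproj (ψ : A →* Module.End K V) (χ : A →* K) (b : A) (v : V) :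
    ψ b (eproj ψ χ v) = χ b • eproj ψ χ v := by
  rw [eproj_apply, map_smul, map_sum, smul_comm, Finset.smul_sum (r := χ b)]
  congr 1
  have h := Equiv.sum_comp (Equiv.mulLeft b) fun a : A => χ b • χ a⁻¹ • ψ a v
  rw [← h]
  refine Finset.sum_congr rfl fun a _ => ?_
  rw [Equiv.coe_mulLeft, map_smul, smul_smul, ← map_mul, mul_inv_rev, mul_comm a⁻¹,
    mul_inv_cancel_left, map_mul ψ]
  rfl

theorem eproj_mem (ψ : A →* Module.End K V) (χ : A →* K) (v : V) : eproj ψ χ v ∈ eigen ψ χ :=
  fun b => apply_eproj ψ χ b v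

theorem eproj_of_mem (ψ : A →* Module.End K V) [DecidableEq (A →* K)] (hA : (Fintype.card A : K) ≠ 0)
    {χ η : A →* K} {v : V} (hv : v ∈ eigen ψ η) :
    eproj ψ χ v = if χ = η then v else 0 := by
  classical
  let δ : A →* K :=
    { toFun := fun a => χ a⁻¹ * η a
      map_one' := by simp
      map_mul' := fun a b => by rw [mul_inv, map_mul, map_mul]; ring }
  have hsum : eproj ψ χ v = ((Fintype.card A : K)⁻¹ * ∑ a, δ a) • v := by
    rw [eproj_apply, mul_smul, Finset.sum_smul]
    congr 1
    refine Finset.sum_congr rfl fun a _ => ?_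
    rw [hv a, smul_smul]
    rfl
  rw [hsum]
  split_ifs with h
  · have : ∀ a, δ a = 1 := fun a => by
      show χ a⁻¹ * η a = 1
      rw [← h, ← map_mul, inv_mul_cancel, map_one]
    simp [this, Finset.card_univ, inv_mul_cancel₀ hA]
  · have hne : δ ≠ 1 := by
      intro he
      apply h
      refine MonoidHom.ext fun a => ?_
      have h1 : χ a⁻¹ * η a = 1 := DFunLike.congr_fun he a
      calc χ a = χ a * (χ a⁻¹ * η a) := by rw [h1, mul_one]
        _ = η a := by rw [← mul_assoc, ← map_mul, mul_inv_cancel, map_one, one_mul]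
    rw [sum_hom_units_eq_zero δ hne, mul_zero, zero_smul]

/-- A submodule invariant under `A`. -/
def Stable (ψ : A →* Module.End K V) (W : Submodule K V) : Prop := ∀ a, ∀ v ∈ W, ψ a v ∈ W

theorem Stable.eproj_mem {ψ : A →* Module.End K V} {W : Submodule K V} (hW : Stable ψ W)
    {χ : A →* K} {v : V} (hv : v ∈ W) : eproj ψ χ v ∈ W := by
  rw [eproj_apply]
  exact W.smul_mem _ (W.sum_mem fun a _ => W.smul_mem _ (hW a v hv))

theorem stable_top (ψ : A →* Module.End K V) : Stable ψ ⊤ := fun _ _ _ => Submodule.mem_top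

variable [IsAlgClosed K] [FiniteDimensional K V]

/-- Every non-zero invariant subspace contains a common eigenvector. -/
theorem exists_eigenvector (ψ : A →* Module.End K V) :
    ∀ W : Submodule K V, Stable ψ W → W ≠ ⊥ → ∃ χ : A →* K, ∃ v ∈ W, v ≠ 0 ∧ v ∈ eigen ψ χ := by
  classical
  intro W hW hne
  -- a minimal invariant subspace below `W`
  obtain ⟨U, ⟨hU, hUne, hUW⟩, hmin⟩ := (wellFounded_lt (α := Submodule K V)).has_min
    {U | Stable ψ U ∧ U ≠ ⊥ ∧ U ≤ W} ⟨W, hW, hne, le_rfl⟩
  haveI : Nontrivial U := Submodule.nontrivial_iff_ne_bot.2 hUne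
  have hscal : ∀ a : A, ∃ c : K, ∀ v ∈ U, ψ a v = c • v := by
    intro a
    let f : Module.End K U := (ψ a).restrict fun v hv => hU a v hv
    obtain ⟨c, hc⟩ := f.exists_eigenvalue
    refine ⟨c, fun v hv => ?_⟩
    let U' : Submodule K V := U ⊓ (ψ a).eigenspace c
    have hU' : Stable ψ U' := by
      intro b w hw
      refine ⟨hU b w hw.1, ?_⟩
      show ψ b w ∈ (ψ a).eigenspace c
      rw [Module.End.mem_eigenspace_iff, ← Module.End.mul_apply, ← map_mul, mul_comm, map_mul,
        Module.End.mul_apply, Module.End.mem_eigenspace_iff.1 hw.2, map_smul]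
    have hne' : U' ≠ ⊥ := by
      obtain ⟨w, hw, hw0⟩ := hc.exists_hasEigenvector
      refine (Submodule.ne_bot_iff _).2 ⟨w, ⟨w.2, ?_⟩, fun e => hw0 (Subtype.ext e)⟩
      show (w : V) ∈ (ψ a).eigenspace c
      rw [Module.End.mem_eigenspace_iff]
      exact congrArg Subtype.val (Module.End.mem_eigenspace_iff.1 hw)
    have heq : U' = U := by
      by_contra hcon
      exact hmin U' ⟨hU', hne', inf_le_left.trans hUW⟩ (lt_of_le_of_ne inf_le_left hcon)
    have hv' : v ∈ U' := heq.symm ▸ hv
    exact Module.End.mem_eigenspace_iff.1 hv'.2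
  choose c hc using hscal
  obtain ⟨v, hv, hv0⟩ := (Submodule.ne_bot_iff _).1 hUne
  have hinj : ∀ {x y : K}, x • v = y • v → x = y := fun hxy => smul_left_injective K hv0 hxy
  refine ⟨{ toFun := c
            map_one' := hinj (by rw [← hc 1 v hv, map_one, one_smul]; rfl)
            map_mul' := fun a b => hinj (by
              rw [← hc (a * b) v hv, map_mul, Module.End.mul_apply, hc b v hv, map_smul, hc a v hv,
                smul_smul, mul_comm]) },
    v, hUW hv, hv0, fun a => hc a v hv⟩

variable [Fintype (A →* K)]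

/-- The projections sum to the identity. -/
theorem sum_eproj (ψ : A →* Module.End K V) (hA : (Fintype.card A : K) ≠ 0) :
    ∑ χ : A →* K, eproj ψ χ = 1 := by
  classical
  let T : Module.End K V := 1 - ∑ χ : A →* K, eproj ψ χ
  by_contra hne
  have hT : LinearMap.range T ≠ ⊥ := by
    rw [Ne, LinearMap.range_eq_bot]
    exact fun e => hne (sub_eq_zero.1 e).symm
  have hcomm : ∀ (a : A) (χ : A →* K) v, ψ a (eproj ψ χ v) = eproj ψ χ (ψ a v) := by
    intro a χ v
    rw [eproj_apply, eproj_apply, map_smul, map_sum]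
    congr 1
    refine Finset.sum_congr rfl fun b _ => ?_
    rw [map_smul, ← Module.End.mul_apply, ← map_mul, mul_comm, map_mul]
    rfl
  have hstab : Stable ψ (LinearMap.range T) := by
    rintro a _ ⟨v, rfl⟩
    refine ⟨ψ a v, ?_⟩
    simp only [T, LinearMap.sub_apply, LinearMap.sum_apply, Module.End.one_apply, map_sub, map_sum,
      hcomm]
  obtain ⟨η, v, ⟨w, rfl⟩, hv0, hv⟩ := exists_eigenvector ψ _ hstab hT
  apply hv0
  have hidem : T (T w) = T w := by
    have h2 : ∀ χ : A →* K, eproj ψ χ (T w) = 0 := by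
      intro χ
      simp only [T, LinearMap.sub_apply, LinearMap.sum_apply, Module.End.one_apply, map_sub, map_sum]
      rw [Finset.sum_congr rfl fun η _ => eproj_of_mem ψ hA (eproj_mem ψ η w), Finset.sum_ite_eq,
        if_pos (mem_univ _), sub_self]
    show T w - (∑ χ : A →* K, eproj ψ χ) (T w) = T w
    rw [LinearMap.sum_apply, Finset.sum_eq_zero fun χ _ => h2 χ, sub_zero]
  have h3 : eproj ψ η (T w) = 0 := by
    simp only [T, LinearMap.sub_apply, LinearMap.sum_apply, Module.End.one_apply, map_sub, map_sum]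
    rw [Finset.sum_congr rfl fun η _ => eproj_of_mem ψ hA (eproj_mem ψ η w), Finset.sum_ite_eq,
      if_pos (mem_univ _), sub_self]
  rwa [eproj_of_mem ψ hA hv, if_pos rfl] at h3

theorem sum_eproj_apply (ψ : A →* Module.End K V) (hA : (Fintype.card A : K) ≠ 0) (v : V) :
    ∑ χ : A →* K, eproj ψ χ v = v := by
  rw [← LinearMap.sum_apply, sum_eproj ψ hA, Module.End.one_apply]

/-- The dimension of an invariant subspace is the sum over the eigenspaces. -/
theorem finrank_eq_sum (ψ : A →* Module.End K V) (hA : (Fintype.card A : K) ≠ 0)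
    {W : Submodule K V} (hW : Stable ψ W) :
    finrank K W = ∑ χ : A →* K, finrank K (W ⊓ eigen ψ χ : Submodule K V) := by
  classical
  rw [← finrank_pi_fintype K]
  refine LinearEquiv.finrank_eq
    { toFun := fun v χ => ⟨eproj ψ χ v, hW.eproj_mem v.2, eproj_mem ψ χ v⟩
      map_add' := fun x y => funext fun χ => Subtype.ext (map_add _ _ _)
      map_smul' := fun c x => funext fun χ => Subtype.ext (map_smul _ _ _)
      invFun := fun f => ⟨∑ χ, (f χ : V), W.sum_mem fun χ _ => (f χ).2.1⟩
      left_inv := fun v => Subtype.ext (sum_eproj_apply ψ hA v)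
      right_inv := fun f => funext fun χ => Subtype.ext ?_ }
  show eproj ψ χ (∑ η, (f η : V)) = f χ
  rw [map_sum, Finset.sum_congr rfl fun η _ => eproj_of_mem ψ hA (f η).2.2, Finset.sum_ite_eq,
    if_pos (mem_univ _)]

theorem eigen_disjoint (ψ : A →* Module.End K V) {χ η : A →* K} (hne : χ ≠ η) :
    eigen ψ χ ⊓ eigen ψ η = ⊥ := by
  rw [eq_bot_iff]
  rintro v ⟨h1, h2⟩
  rw [Submodule.mem_bot]
  by_contra hv
  exact hne (MonoidHom.ext fun a => smul_left_injective K hv ((h1 a).symm.trans (h2 a)))

section involution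

omit [IsAlgClosed K]

variable {W : Submodule K V} {g : Module.End K V}

/-- The fixed vectors. -/
def plus (g : Module.End K V) : Submodule K V := LinearMap.ker (g - 1)

/-- The negated vectors. -/
def minus (g : Module.End K V) : Submodule K V := LinearMap.ker (g + 1)

@[simp] theorem mem_plus {v : V} : v ∈ plus g ↔ g v = v := by
  rw [plus, LinearMap.mem_ker, LinearMap.sub_apply, Module.End.one_apply, sub_eq_zero]

@[simp] theorem mem_minus {v : V} : v ∈ minus g ↔ g v = -v := by
  rw [minus, LinearMap.mem_ker, LinearMap.add_apply, Module.End.one_apply, add_eq_zero_iff_eq_neg]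

theorem finrank_pm (h2 : (2 : K) ≠ 0) (hW : ∀ v ∈ W, g v ∈ W) (hsq : ∀ v ∈ W, g (g v) = v) :
    finrank K (W ⊓ plus g : Submodule K V) + finrank K (W ⊓ minus g : Submodule K V) =
      finrank K W := by
  have hdis : (W ⊓ plus g) ⊓ (W ⊓ minus g) = ⊥ := by
    rw [eq_bot_iff]
    rintro v ⟨⟨-, h1⟩, -, h3⟩
    rw [SetLike.mem_coe, mem_plus] at h1
    rw [SetLike.mem_coe, mem_minus] at h3
    rw [Submodule.mem_bot]
    have h4 : (2 : K) • v = 0 := by rw [two_smul]; nth_rw 1 [← h1]; rw [h3, neg_add_cancel]
    exact (smul_eq_zero.1 h4).resolve_left h2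
  have hsup : (W ⊓ plus g) ⊔ (W ⊓ minus g) = W := by
    refine le_antisymm (sup_le inf_le_left inf_le_left) fun v hv => ?_
    refine Submodule.mem_sup.2 ⟨(2 : K)⁻¹ • (v + g v), ⟨W.smul_mem _ (W.add_mem hv (hW v hv)), ?_⟩,
      (2 : K)⁻¹ • (v - g v), ⟨W.smul_mem _ (W.sub_mem hv (hW v hv)), ?_⟩, ?_⟩
    · rw [SetLike.mem_coe, mem_plus, map_smul, map_add, hsq v hv, add_comm]
    · rw [SetLike.mem_coe, mem_minus, map_smul, map_sub, hsq v hv, ← smul_neg, neg_sub]
    · rw [← smul_add, add_add_sub_cancel, ← two_smul K, smul_smul, inv_mul_cancel₀ h2, one_smul]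
  have h := Submodule.finrank_sup_add_finrank_inf_eq (W ⊓ plus g) (W ⊓ minus g)
  rw [hdis, hsup, finrank_bot, add_zero] at h
  exact h.symm

/-- An injective operator anticommuting with `g` swaps the eigenspaces. -/
theorem finrank_eq_of_swap (u : Module.End K V) (hu : Function.Injective u)
    (huW : ∀ v ∈ W, u v ∈ W) (hanti : ∀ v ∈ W, g (u v) = -u (g v)) :
    finrank K (W ⊓ plus g : Submodule K V) = finrank K (W ⊓ minus g : Submodule K V) := by
  refine le_antisymm ?_ ?_
  · refine LinearMap.finrank_le_finrank_of_injective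
      (f := u.restrict (p := W ⊓ plus g) (q := W ⊓ minus g) fun v hv =>
        ⟨huW v hv.1, by
          have h1 : g v = v := mem_plus.1 hv.2
          rw [SetLike.mem_coe, mem_minus, hanti v hv.1, h1]⟩) ?_
    exact fun x y h => Subtype.ext (hu (congrArg Subtype.val h))
  · refine LinearMap.finrank_le_finrank_of_injective
      (f := u.restrict (p := W ⊓ minus g) (q := W ⊓ plus g) fun v hv =>
        ⟨huW v hv.1, by
          have h1 : g v = -v := mem_minus.1 hv.2
          rw [SetLike.mem_coe, mem_plus, hanti v hv.1, h1, map_neg, neg_neg]⟩) ?_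
    exact fun x y h => Subtype.ext (hu (congrArg Subtype.val h))

theorem finrank_le_minus (hW : ∀ v ∈ W, g (g v) = v) (hdis : ∀ v ∈ W, g v ∈ W → v = 0) :
    finrank K W ≤ finrank K (minus g : Submodule K V) := by
  refine LinearMap.finrank_le_finrank_of_injective
    (f := ((1 : Module.End K V) - g).restrict (p := W) (q := minus g) fun v hv => ?_) ?_
  · rw [mem_minus, LinearMap.sub_apply, Module.End.one_apply, map_sub, hW v hv, neg_sub]
  · intro x y h
    have h1 := congrArg Subtype.val h
    simp only [LinearMap.restrict_coe_apply, LinearMap.sub_apply, Module.End.one_apply] at h1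
    refine Subtype.ext (sub_eq_zero.1 (hdis _ (W.sub_mem x.2 y.2) ?_))
    have h2 : g ((x : V) - y) = (x : V) - y := by
      rw [map_sub]; linear_combination (norm := abel) -h1
    rw [h2]; exact W.sub_mem x.2 y.2

theorem finrank_le_plus (hW : ∀ v ∈ W, g (g v) = v) (hdis : ∀ v ∈ W, g v ∈ W → v = 0) :
    finrank K W ≤ finrank K (plus g : Submodule K V) := by
  refine LinearMap.finrank_le_finrank_of_injective
    (f := ((1 : Module.End K V) + g).restrict (p := W) (q := plus g) fun v hv => ?_) ?_
  · rw [mem_plus, LinearMap.add_apply, Module.End.one_apply, map_add, hW v hv, add_comm]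
  · intro x y h
    have h1 := congrArg Subtype.val h
    simp only [LinearMap.restrict_coe_apply, LinearMap.add_apply, Module.End.one_apply] at h1
    refine Subtype.ext (sub_eq_zero.1 (hdis _ (W.sub_mem x.2 y.2) ?_))
    have h2 : g ((x : V) - y) = -((x : V) - y) := by
      rw [map_sub]; linear_combination (norm := abel) h1
    rw [h2]; exact W.neg_mem (W.sub_mem x.2 y.2)

end involution

end CfsgLib.HHShult
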