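import Cfsg.Agent.SEmbed.Elementary
import Cfsg.Agent.ConjFunctor.Basic
import Mathlib.GroupTheory.FixedPointFree

/-!
# A counting lemma for groups in which every involution fixes exactly one point

`Reg G Ω N`: every involution fixes exactly one point, the `N ≥ 2` involutions fixing a point
commute, an element of a point stabiliser centralising one of them centralises all of them, and
the centraliser of such an element of odd order fixes the point.

Then two point stabilisers are of order `N` and their centralisers are self-centralising, so the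
orbit of a point under a suitable subgroup is counted by `Reg.card_orbit`.
-/

set_option autoImplicit false
set_option linter.style.haveILetI false
set_option linter.unusedSectionVars false

open Subgroup CfsgLib.ConjFunctor CfsgLib.SEmbed CfsgLib.Small
open scoped commutatorElement CfsgLib.ConjFunctor

namespace CfsgLib.HHShult

variable {G : Type*} [Group G] {Ω : Type*} [MulAction G Ω]

/-- The standing hypotheses. -/
structure Reg (G : Type*) [Group G] (Ω : Type*) [MulAction G Ω] (N : ℕ) : Prop where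
  uniq : UniqueFix G Ω
  two_le : 2 ≤ N
  card : ∀ x : Ω, Nat.card (invMap (G := G) x x) = N
  comm_all : ∀ (x : Ω) (c : G), c • x = x → ∀ i ∈ invMap (G := G) x x, Commute c i →
    ∀ j ∈ invMap (G := G) x x, Commute c j
  commutator : ∀ (x : Ω) (a b : G), a • x = x → b • x = x →
    ∀ i ∈ invMap (G := G) x x, Commute ⁅a, b⁆ i
  cent : ∀ (x : Ω) (c : G), c ≠ 1 → Odd (orderOf c) → c • x = x →
    (∀ i ∈ invMap (G := G) x x, Commute c i) → ∀ g : G, Commute g c → g • x = x
  ab : ∀ x : Ω, ∀ i ∈ invMap (G := G) x x, ∀ j ∈ invMap (G := G) x x, Commute i j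

theorem eq_one_of_pow_four {c : G} (ho : Odd (orderOf c)) (h : c ^ 4 = 1) : c = 1 := by
  rw [← orderOf_eq_one_iff]
  exact Nat.eq_one_of_dvd_coprimes (a := orderOf c) (b := 2 ^ 2)
    ((Nat.coprime_two_right.2 ho).pow_right 2) dvd_rfl (orderOf_dvd_of_pow_eq_one (by norm_num [h]))

/-- An involution acting without fixed points on a subgroup inverts it. -/
theorem inverts_of_fpf [Finite G] {S : Subgroup G} {i : G} (hi : orderOf i = 2)
    (hS : ∀ s ∈ S, i * s * i⁻¹ ∈ S) (hfix : ∀ s ∈ S, Commute s i → s = 1) :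
    (∀ s ∈ S, i * s * i⁻¹ = s⁻¹) ∧ ∀ a ∈ S, ∀ b ∈ S, Commute a b := by
  let φ : ↥S →* ↥S :=
    { toFun := fun s => ⟨i * s * i⁻¹, hS s s.2⟩
      map_one' := Subtype.ext (by simp)
      map_mul' := fun a b => Subtype.ext (by simp [mul_assoc]) }
  have hf : MonoidHom.FixedPointFree (⇑φ) := fun s hs => by
    have h1 : i * (s : G) * i⁻¹ = s := congrArg Subtype.val hs
    exact Subtype.ext (hfix s s.2 (mul_inv_eq_iff_eq_mul.1 h1).symm)
  have h2 : Function.Involutive φ := fun s => Subtype.ext (by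
    show i * (i * (s : G) * i⁻¹) * i⁻¹ = s
    rw [inv_eq_self_of_orderOf_two hi]
    calc i * (i * (s : G) * i) * i = i * i * s * (i * i) := by group
      _ = _ := by rw [mul_self_of_orderOf_two hi, one_mul, mul_one])
  refine ⟨fun s hs => ?_, fun a ha b hb => ?_⟩
  · exact congrArg Subtype.val (congrFun (hf.coe_eq_inv_of_involutive h2) ⟨s, hs⟩)
  · exact congrArg Subtype.val (hf.commute_all_of_involutive h2 ⟨a, ha⟩ ⟨b, hb⟩).eq

/-- The centraliser of the stabiliser of two points. -/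
def pairCent (G : Type*) [Group G] {Ω : Type*} [MulAction G Ω] (x y : Ω) : Subgroup G :=
  centralizer (pairStab G x y : Set G)

theorem pairStab_comm (x y : Ω) : pairStab G x y = pairStab G y x := inf_comm _ _

namespace Reg

variable [Finite G] {N : ℕ} (R : Reg G Ω N)
include R

theorem odd_orderOf {x y : Ω} (hxy : x ≠ y) {c : G} (hc : c ∈ pairStab G x y) :
    Odd (orderOf c) :=
  (odd_pairStab R.uniq hxy).of_dvd_nat (Subgroup.orderOf_dvd_natCard _ hc)

theorem exists_inv (x : Ω) : ∃ i, i ∈ invMap (G := G) x x := R.uniq.exists_inv x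

theorem exists_swapper {x y : Ω} (hxy : x ≠ y) : ∃ i, i ∈ invMap (G := G) x y := by
  obtain ⟨s, hs, hsx⟩ := R.uniq.exists_inv x
  obtain ⟨t, ht, hty⟩ := R.uniq.exists_inv y
  obtain ⟨i, hi, -⟩ := exists_interchange R.uniq hs ht hsx hty hxy
  exact ⟨i, hi⟩

theorem eq_one_of_all {x y : Ω} (hxy : x ≠ y) {c : G} (hc : c ∈ pairStab G x y)
    (hx : ∀ i ∈ invMap (G := G) x x, Commute c i) (hy : ∀ i ∈ invMap (G := G) y y, Commute c i) :
    c = 1 := by
  by_contra hne
  obtain ⟨t, ht, hty⟩ := R.exists_inv y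
  exact hxy (R.uniq.unique t ht x y
    (R.cent x c hne (R.odd_orderOf hxy hc) (mem_pairStab.1 hc).1 hx t (hy t ⟨ht, hty⟩).symm) hty)

theorem pairStab_commute {x y : Ω} (hxy : x ≠ y) {a b : G} (ha : a ∈ pairStab G x y)
    (hb : b ∈ pairStab G x y) : Commute a b :=
  commutatorElement_eq_one_iff_mul_comm.1 (R.eq_one_of_all hxy
    (mul_mem (mul_mem (mul_mem ha hb) (inv_mem ha)) (inv_mem hb))
    (R.commutator x a b (mem_pairStab.1 ha).1 (mem_pairStab.1 hb).1)
    (R.commutator y a b (mem_pairStab.1 ha).2 (mem_pairStab.1 hb).2))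

theorem eq_one_of_commute_swap {x y : Ω} (hxy : x ≠ y) {c i : G} (hc : c ∈ pairStab G x y)
    (hi : i ∈ invMap (G := G) x y) (hci : Commute c i) : c = 1 := by
  by_contra hne
  obtain ⟨w, hw⟩ := R.uniq.exists_fix i hi.1
  have hcw : c • w = w := commute_fix R.uniq hi.1 hci hw
  have hall := R.comm_all w c hcw i ⟨hi.1, hw⟩ hci
  have hLw : ∀ l ∈ pairStab G x y, l • w = w := fun l hl =>
    R.cent w c hne (R.odd_orderOf hxy hc) hcw hall l (R.pairStab_commute hxy hl hc)
  have hone : ∀ l ∈ pairStab G x y, l * i * l⁻¹ = i := by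
    intro l hl
    have hlinv : l⁻¹ ∈ pairStab G x y := inv_mem hl
    have hj : l * i * l⁻¹ ∈ invMap (G := G) w w := by
      refine ⟨(orderOf_conj_eq l i).trans hi.1, ?_⟩
      rw [mul_smul, mul_smul, hLw _ hlinv, hw, hLw _ hl]
    have hjx : (l * i * l⁻¹) • x = y := by
      rw [mul_smul, mul_smul, (mem_pairStab.1 hlinv).1, hi.2, (mem_pairStab.1 hl).2]
    have hcm := R.ab w i ⟨hi.1, hw⟩ _ hj
    set j := l * i * l⁻¹ with hjdef
    have hjo : orderOf j = 2 := hj.1
    have hm : i * j ∈ pairStab G x y := mem_pairStab.2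
      ⟨by rw [mul_smul, hjx, smul_back hi.1 hi.2], by rw [mul_smul, smul_back hjo hjx, hi.2]⟩
    have hsq : (i * j) ^ 2 = 1 := by
      rw [hcm.mul_pow, sq, sq, mul_self_of_orderOf_two hi.1, mul_self_of_orderOf_two hjo, one_mul]
    have h1 : i * j = 1 := by
      refine eq_one_of_pow_four (R.odd_orderOf hxy hm) ?_
      rw [show (4 : ℕ) = 2 * 2 from rfl, pow_mul, hsq, one_pow]
    rw [eq_inv_of_mul_eq_one_right h1, inv_eq_self_of_orderOf_two hi.1]
  have hsub : Subsingleton (invMap (G := G) x y) := ⟨fun a b => by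
    obtain ⟨d, hd, hda⟩ := exists_conj_swap R.uniq hxy hi a.2
    obtain ⟨e, he, heb⟩ := exists_conj_swap R.uniq hxy hi b.2
    exact Subtype.ext (by rw [← hda, ← heb, hone d hd, hone e he])⟩
  have h2 := Finite.card_le_one_iff_subsingleton.2 hsub
  rw [card_invMap_eq R.uniq hxy, R.card] at h2
  have := R.two_le
  omega

/-- A two point stabiliser has order `N`. -/
theorem card_pairStab {x y : Ω} (hxy : x ≠ y) : Nat.card (pairStab G x y) = N := by
  obtain ⟨i, hi⟩ := R.exists_swapper hxy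
  rw [← R.card x, ← card_invMap_eq R.uniq hxy]
  refine Nat.card_eq_of_bijective (fun l : pairStab G x y =>
    (⟨(l : G) * i * (l : G)⁻¹, (orderOf_conj_eq (l : G) i).trans hi.1, by
      rw [mul_smul, mul_smul, (mem_pairStab.1 (inv_mem l.2)).1, hi.2, (mem_pairStab.1 l.2).2]⟩ :
        invMap (G := G) x y)) ⟨fun a b hab => ?_, fun j => ?_⟩
  · have h1 : (a : G) * i * (a : G)⁻¹ = (b : G) * i * (b : G)⁻¹ := congrArg Subtype.val hab
    have h2 : Commute ((b : G)⁻¹ * a) i := by
      show (b : G)⁻¹ * a * i = i * ((b : G)⁻¹ * a)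
      calc (b : G)⁻¹ * a * i = (b : G)⁻¹ * ((a : G) * i * (a : G)⁻¹) * a := by group
        _ = _ := by rw [h1]; group
    exact Subtype.ext (inv_mul_eq_one.1 (R.eq_one_of_commute_swap hxy
      (mul_mem (inv_mem b.2) a.2) hi h2)).symm
  · obtain ⟨d, hd, hdj⟩ := exists_conj_swap R.uniq hxy hi j.2
    exact ⟨⟨d, hd⟩, Subtype.ext hdj⟩

theorem swap_inverts {x y : Ω} (hxy : x ≠ y) {i : G} (hi : i ∈ invMap (G := G) x y) {l : G}
    (hl : l ∈ pairStab G x y) : i * l * i⁻¹ = l⁻¹ := by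
  refine (inverts_of_fpf hi.1 (fun s hs => ?_)
    fun s hs hc => R.eq_one_of_commute_swap hxy hs hi hc).1 l hl
  rw [inv_eq_self_of_orderOf_two hi.1]
  exact mem_pairStab.2
    ⟨by rw [mul_smul, mul_smul, hi.2, (mem_pairStab.1 hs).2, smul_back hi.1 hi.2],
     by rw [mul_smul, mul_smul, smul_back hi.1 hi.2, (mem_pairStab.1 hs).1, hi.2]⟩

/-- A two point stabiliser acts regularly on the involutions at each of the points. -/
theorem exists_conj_fix' {x y : Ω} (hxy : x ≠ y) {z : G} (hz : z ∈ invMap (G := G) x x) :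
    Function.Bijective fun l : pairStab G x y =>
      (⟨(l : G) * z * (l : G)⁻¹, conj_mem_invMap
        (show (l : G) ∈ MulAction.stabilizer G x from (mem_pairStab.1 l.2).1) hz⟩ :
          invMap (G := G) x x) := by
  rw [Nat.bijective_iff_surjective_and_card]
  refine ⟨fun j => ?_, by rw [R.card_pairStab hxy, R.card]⟩
  obtain ⟨d, hd, hdj⟩ := exists_conj_fix R.uniq hxy hz j.2
  exact ⟨⟨d, hd⟩, Subtype.ext hdj⟩

theorem free {x y : Ω} (hxy : x ≠ y) {c z : G} (hc : c ∈ pairStab G x y)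
    (hz : z ∈ invMap (G := G) x x) (hcz : Commute c z) : c = 1 := by
  have h := (R.exists_conj_fix' hxy hz).1 (a₁ := ⟨c, hc⟩) (a₂ := ⟨1, one_mem _⟩) (Subtype.ext (by
    show c * z * c⁻¹ = 1 * z * 1⁻¹
    rw [hcz.eq, mul_inv_cancel_right, inv_one, one_mul, mul_one]))
  exact congrArg Subtype.val h

theorem not_commute_invol {x y : Ω} (hxy : x ≠ y) {c : G} (hc : c ∈ pairStab G x y) (hc1 : c ≠ 1)
    {j : G} (hj : orderOf j = 2) : ¬ Commute c j := by
  intro hcj
  obtain ⟨w, hw⟩ := R.uniq.exists_fix j hj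
  have hcw : c • w = w := commute_fix R.uniq hj hcj hw
  by_cases hwx : w = x
  · exact hc1 (R.free hxy hc ⟨hj, hwx ▸ hw⟩ hcj)
  · exact hc1 (R.free hwx (mem_pairStab.2 ⟨hcw, (mem_pairStab.1 hc).1⟩) ⟨hj, hw⟩ hcj)

theorem odd_orderOf_of_commute {c : G} (hc : ∀ j : G, orderOf j = 2 → ¬ Commute c j) {g : G}
    (hg : Commute g c) : Odd (orderOf g) := by
  rw [← Nat.not_even_iff_odd]
  rintro ⟨k, hk⟩
  have hpos := orderOf_pos g
  refine hc (g ^ k) ?_ (hg.pow_left k).symm
  refine orderOf_eq_prime (by rw [← pow_mul, mul_two, ← hk, pow_orderOf_eq_one]) fun h => ?_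
  have := Nat.le_of_dvd (by omega) (orderOf_dvd_of_pow_eq_one h)
  omega

/-- The centraliser of `c ≠ 1` in a two point stabiliser is abelian, inverted by a swapper. -/
theorem cent_inverted {x y : Ω} (hxy : x ≠ y) {c i : G} (hc : c ∈ pairStab G x y) (hc1 : c ≠ 1)
    (hi : i ∈ invMap (G := G) x y) :
    (∀ a, Commute a c → i * a * i⁻¹ = a⁻¹) ∧ ∀ a b, Commute a c → Commute b c → Commute a b := by
  have hci := R.swap_inverts hxy hi hc
  have h : (∀ s ∈ centralizer ({c} : Set G), i * s * i⁻¹ = s⁻¹) ∧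
      ∀ a ∈ centralizer ({c} : Set G), ∀ b ∈ centralizer ({c} : Set G), Commute a b := by
    refine inverts_of_fpf hi.1 (fun s hs => ?_) fun b hb hbi => ?_
    · rw [mem_centralizer_singleton_iff] at hs ⊢
      have h1 : Commute (i * s * i⁻¹) c⁻¹ := by
        rw [← hci]
        show i * s * i⁻¹ * (i * c * i⁻¹) = i * c * i⁻¹ * (i * s * i⁻¹)
        calc i * s * i⁻¹ * (i * c * i⁻¹) = i * (s * c) * i⁻¹ := by group
          _ = i * (c * s) * i⁻¹ := by rw [hs]
          _ = _ := by group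
      exact (Commute.inv_right_iff.1 h1).eq
    · by_contra hb1
      have hbc : Commute b c := mem_centralizer_singleton_iff.1 hb
      obtain ⟨w, hw⟩ := R.uniq.exists_fix i hi.1
      have hbw : b • w = w := commute_fix R.uniq hi.1 hbi hw
      have hbo := R.odd_orderOf_of_commute (fun j hj => R.not_commute_invol hxy hc hc1 hj) hbc
      have hcw : c • w = w := R.cent w b hb1 hbo hbw (R.comm_all w b hbw i ⟨hi.1, hw⟩ hbi) c hbc.symm
      refine hc1 (eq_one_of_pow_four (R.odd_orderOf hxy hc) ?_)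
      have hj : c * i * c⁻¹ ∈ invMap (G := G) w w :=
        conj_mem_invMap (show c ∈ MulAction.stabilizer G w from hcw) ⟨hi.1, hw⟩
      have hcm := R.ab w _ hj i ⟨hi.1, hw⟩
      have he : c * i * c⁻¹ * i = c * c := by
        rw [inv_eq_self_of_orderOf_two hi.1] at hci
        calc c * i * c⁻¹ * i = c * (i * (i * c * i) * i) := by rw [hci]; group
          _ = c * (i * i * c * (i * i)) := by group
          _ = _ := by rw [mul_self_of_orderOf_two hi.1, one_mul, mul_one]
      have h2 : (c * i * c⁻¹ * i) ^ 2 = 1 := by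
        rw [hcm.mul_pow, sq, sq, mul_self_of_orderOf_two hj.1, mul_self_of_orderOf_two hi.1, one_mul]
      rw [he, sq] at h2
      rw [show (4 : ℕ) = 1 + 1 + 1 + 1 from rfl, pow_succ, pow_succ, pow_succ, pow_one, mul_assoc]
      exact h2
  exact ⟨fun a ha => h.1 a (mem_centralizer_singleton_iff.2 ha),
    fun a b ha hb => h.2 a (mem_centralizer_singleton_iff.2 ha) b (mem_centralizer_singleton_iff.2 hb)⟩

theorem mem_pairCent {x y : Ω} (hxy : x ≠ y) {c : G} (hc : c ∈ pairStab G x y) (hc1 : c ≠ 1)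
    {a : G} (ha : Commute a c) : a ∈ pairCent G x y := by
  obtain ⟨i, hi⟩ := R.exists_swapper hxy
  exact mem_centralizer_iff.2 fun l hl =>
    ((R.cent_inverted hxy hc hc1 hi).2 l a (R.pairStab_commute hxy hl hc) ha).eq

theorem exists_ne_one {x y : Ω} (hxy : x ≠ y) : ∃ c ∈ pairStab G x y, c ≠ 1 := by
  by_contra! h
  have h1 : pairStab G x y = ⊥ := eq_bot_iff.2 fun l hl => mem_bot.2 (h l hl)
  have := R.card_pairStab hxy
  rw [h1, Subgroup.card_bot] at this
  have := R.two_le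
  omega

omit R in
theorem commute_of_mem_pairCent {x y : Ω} {a l : G} (ha : a ∈ pairCent G x y)
    (hl : l ∈ pairStab G x y) : Commute a l := (mem_centralizer_iff.1 ha l hl).symm

theorem pairStab_le_pairCent {x y : Ω} (hxy : x ≠ y) : pairStab G x y ≤ pairCent G x y :=
  fun _ hl => mem_centralizer_iff.2 fun _ hm => R.pairStab_commute hxy hm hl

theorem pairCent_commute {x y : Ω} (hxy : x ≠ y) {a b : G} (ha : a ∈ pairCent G x y)
    (hb : b ∈ pairCent G x y) : Commute a b := by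
  obtain ⟨c, hc, hc1⟩ := R.exists_ne_one hxy
  obtain ⟨i, hi⟩ := R.exists_swapper hxy
  exact (R.cent_inverted hxy hc hc1 hi).2 a b (commute_of_mem_pairCent ha hc)
    (commute_of_mem_pairCent hb hc)

theorem swap_inverts_cent {x y : Ω} (hxy : x ≠ y) {i a : G} (hi : i ∈ invMap (G := G) x y)
    (ha : a ∈ pairCent G x y) : i * a * i⁻¹ = a⁻¹ := by
  obtain ⟨c, hc, hc1⟩ := R.exists_ne_one hxy
  exact (R.cent_inverted hxy hc hc1 hi).1 a (commute_of_mem_pairCent ha hc)

theorem mem_pairStab_of_fix {x y : Ω} (hxy : x ≠ y) {a : G} (ha : a ∈ pairCent G x y)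
    (hax : a • x = x) : a ∈ pairStab G x y := by
  obtain ⟨i, hi⟩ := R.exists_swapper hxy
  refine mem_pairStab.2 ⟨hax, ?_⟩
  have h := R.swap_inverts_cent hxy hi ha
  have h1 : a = i * a⁻¹ * i := by
    rw [← h, inv_eq_self_of_orderOf_two hi.1]
    calc a = (i * i) * a * (i * i) := by rw [mul_self_of_orderOf_two hi.1, one_mul, mul_one]
      _ = _ := by group
  calc a • y = (i * a⁻¹ * i) • y := by rw [← h1]
    _ = y := by rw [mul_smul, mul_smul, smul_back hi.1 hi.2, inv_smul_eq_iff.2 hax.symm, hi.2]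

/-- An element fixing `x` and a second point `w` and centralising `L_{xy}` lies in `L_{xy}`; two
point stabilisers at `x` meeting non-trivially are equal. -/
theorem pairStab_eq {x y w : Ω} (hxy : x ≠ y) (hxw : x ≠ w) {c : G} (hc : c ∈ pairStab G x y)
    (hc1 : c ≠ 1) (hcw : c • w = w) : pairStab G x w = pairStab G x y := by
  have hc' : c ∈ pairStab G x w := mem_pairStab.2 ⟨(mem_pairStab.1 hc).1, hcw⟩
  refine eq_of_le_of_card_ge (fun l hl => ?_) (by rw [R.card_pairStab hxy, R.card_pairStab hxw])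
  exact R.mem_pairStab_of_fix hxy (R.mem_pairCent hxy hc hc1 (R.pairStab_commute hxw hl hc'))
    (mem_pairStab.1 hl).1

/-- The centraliser of a two point stabiliser is self-centralising, element by element. -/
theorem mem_pairCent_of_commute {x y : Ω} (hxy : x ≠ y) {a g : G} (ha : a ∈ pairCent G x y)
    (ha1 : a ≠ 1) (hga : Commute g a) : g ∈ pairCent G x y := by
  obtain ⟨c, hc, hc1⟩ := R.exists_ne_one hxy
  obtain ⟨i, hi⟩ := R.exists_swapper hxy
  have hac : Commute a c := commute_of_mem_pairCent ha hc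
  have hao : Odd (orderOf a) :=
    R.odd_orderOf_of_commute (fun j hj => R.not_commute_invol hxy hc hc1 hj) hac
  by_cases haL : a ∈ pairStab G x y
  · exact R.mem_pairCent hxy haL ha1 hga
  have hno : ∀ j : G, orderOf j = 2 → ¬ Commute a j := by
    intro j hj haj
    obtain ⟨w, hw⟩ := R.uniq.exists_fix j hj
    have haw : a • w = w := commute_fix R.uniq hj haj hw
    have hcw := R.cent w a ha1 hao haw (R.comm_all w a haw j ⟨hj, hw⟩ haj) c hac.symm
    by_cases hwx : x = w
    · exact haL (R.mem_pairStab_of_fix hxy ha (hwx ▸ haw))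
    · have hc' : c ∈ pairStab G w x := mem_pairStab.2 ⟨hcw, (mem_pairStab.1 hc).1⟩
      have := R.mem_pairStab_of_fix (Ne.symm hwx) (R.mem_pairCent (Ne.symm hwx) hc' hc1 hac) haw
      exact haL (R.mem_pairStab_of_fix hxy ha (mem_pairStab.1 this).2)
  have hai := R.swap_inverts_cent hxy hi ha
  have hab := (inverts_of_fpf (S := centralizer ({a} : Set G)) hi.1 (fun s hs => by
    rw [mem_centralizer_singleton_iff] at hs ⊢
    have h1 : Commute (i * s * i⁻¹) a⁻¹ := by
      rw [← hai]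
      show i * s * i⁻¹ * (i * a * i⁻¹) = i * a * i⁻¹ * (i * s * i⁻¹)
      calc i * s * i⁻¹ * (i * a * i⁻¹) = i * (s * a) * i⁻¹ := by group
        _ = i * (a * s) * i⁻¹ := by rw [hs]
        _ = _ := by group
    exact (Commute.inv_right_iff.1 h1).eq) fun b hb hbi => ?_).2
  · exact R.mem_pairCent hxy hc hc1 (hab g (mem_centralizer_singleton_iff.2 hga) c
      (mem_centralizer_singleton_iff.2 hac.symm))
  by_contra hb1
  have hba : Commute b a := mem_centralizer_singleton_iff.1 hb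
  obtain ⟨w, hw⟩ := R.uniq.exists_fix i hi.1
  have hbw : b • w = w := commute_fix R.uniq hi.1 hbi hw
  have haw : a • w = w := R.cent w b hb1 (R.odd_orderOf_of_commute hno hba) hbw
    (R.comm_all w b hbw i ⟨hi.1, hw⟩ hbi) a hba.symm
  refine ha1 (eq_one_of_pow_four hao ?_)
  have hj : a * i * a⁻¹ ∈ invMap (G := G) w w :=
    conj_mem_invMap (show a ∈ MulAction.stabilizer G w from haw) ⟨hi.1, hw⟩
  have hcm := R.ab w _ hj i ⟨hi.1, hw⟩
  have he : a * i * a⁻¹ * i = a * a := by
    rw [inv_eq_self_of_orderOf_two hi.1] at hai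
    calc a * i * a⁻¹ * i = a * (i * (i * a * i) * i) := by rw [hai]; group
      _ = a * (i * i * a * (i * i)) := by group
      _ = _ := by rw [mul_self_of_orderOf_two hi.1, one_mul, mul_one]
  have h2 : (a * i * a⁻¹ * i) ^ 2 = 1 := by
    rw [hcm.mul_pow, sq, sq, mul_self_of_orderOf_two hj.1, mul_self_of_orderOf_two hi.1, one_mul]
  rw [he, sq] at h2
  rw [show (4 : ℕ) = 1 + 1 + 1 + 1 from rfl, pow_succ, pow_succ, pow_succ, pow_one, mul_assoc]
  exact h2

theorem exists_smul_of_fix {x y w : Ω} (hxy : x ≠ y) (hxw : x ≠ w)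
    (hfix : ∀ l ∈ pairStab G x y, l • w = w) : ∃ a ∈ pairCent G x y, a • y = w := by
  obtain ⟨c, hc, hc1⟩ := R.exists_ne_one hxy
  obtain ⟨i, hi⟩ := R.exists_swapper hxy
  obtain ⟨j, hj⟩ := R.exists_swapper hxw
  have hL := R.pairStab_eq hxy hxw hc hc1 (hfix c hc)
  refine ⟨j * i, mem_centralizer_iff.2 fun l hl => ?_,
    by rw [mul_smul, smul_back hi.1 hi.2, hj.2]⟩
  have h1 := R.swap_inverts hxy hi hl
  have h2 := R.swap_inverts hxw hj (l := l⁻¹) (hL.symm ▸ inv_mem hl)
  calc l * (j * i) = l⁻¹⁻¹ * (j * i) := by rw [inv_inv]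
    _ = j * l⁻¹ * i := by rw [← h2]; group
    _ = j * (i * l * i⁻¹) * i := by rw [h1]
    _ = j * i * l := by group

theorem smul_ne {x y : Ω} (hxy : x ≠ y) {a : G} (ha : a ∈ pairCent G x y) : a • y ≠ x := by
  intro hay
  obtain ⟨c, hc, hc1⟩ := R.exists_ne_one hxy
  obtain ⟨i, hi⟩ := R.exists_swapper hxy
  have hai := R.swap_inverts_cent hxy hi ha
  have hsq : (a * i) ^ 2 = 1 := by
    rw [inv_eq_self_of_orderOf_two hi.1] at hai
    rw [sq, mul_assoc, ← mul_assoc i a i, hai, mul_inv_cancel]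
  have hax : (a * i) • x = x := by rw [mul_smul, hi.2, hay]
  have hne : a * i ≠ 1 := fun h => by
    have h1 : a = i⁻¹ := eq_inv_of_mul_eq_one_left h
    rw [inv_eq_self_of_orderOf_two hi.1] at h1
    subst h1
    exact R.not_commute_invol hxy hc hc1 hi.1 (commute_of_mem_pairCent ha hc).symm
  have ho : orderOf (a * i) = 2 := orderOf_eq_prime hsq hne
  have hcx : c • x = x := (mem_pairStab.1 hc).1
  have hj : c * (a * i) * c⁻¹ ∈ invMap (G := G) x x :=
    conj_mem_invMap (show c ∈ MulAction.stabilizer G x from hcx) ⟨ho, hax⟩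
  have hcm := R.ab x _ hj (a * i) ⟨ho, hax⟩
  have hci := R.swap_inverts hxy hi hc
  rw [inv_eq_self_of_orderOf_two hi.1] at hci
  have hcai : (a * i) * c⁻¹ * (a * i)⁻¹ = c := by
    rw [← inv_inj, mul_inv_rev, inv_inv, mul_inv_rev, inv_inv, mul_inv_rev,
      inv_eq_self_of_orderOf_two hi.1]
    calc a * i * (c * (i * a⁻¹)) = a * (i * c * i) * a⁻¹ := by group
      _ = a * c⁻¹ * a⁻¹ := by rw [hci]
      _ = c⁻¹ := by rw [(commute_of_mem_pairCent ha (inv_mem hc)).eq, mul_inv_cancel_right]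
  have he : c * (a * i) * c⁻¹ * (a * i) = c * c := by
    calc c * (a * i) * c⁻¹ * (a * i) = c * ((a * i) * c⁻¹ * (a * i)⁻¹) * ((a * i) * (a * i)) := by
          group
      _ = c * c := by rw [hcai, ← sq (a * i), hsq, mul_one]
  have h2 : (c * (a * i) * c⁻¹ * (a * i)) ^ 2 = 1 := by
    rw [hcm.mul_pow, sq, sq, mul_self_of_orderOf_two hj.1, mul_self_of_orderOf_two ho, one_mul]
  rw [he, sq] at h2
  refine hc1 (eq_one_of_pow_four (R.odd_orderOf hxy hc) ?_)
  rw [show (4 : ℕ) = 1 + 1 + 1 + 1 from rfl, pow_succ, pow_succ, pow_succ, pow_one, mul_assoc]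
  exact h2

theorem mem_of_normalizer {x y : Ω} (hxy : x ≠ y) {n : G} (hnx : n • x = x)
    (hn : ∀ l ∈ pairStab G x y, n * l * n⁻¹ ∈ pairStab G x y) : n ∈ pairStab G x y := by
  obtain ⟨z, hz⟩ := R.exists_inv x
  obtain ⟨⟨l, hl⟩, hlz⟩ := (R.exists_conj_fix' hxy hz).2
    ⟨n * z * n⁻¹, conj_mem_invMap (show n ∈ MulAction.stabilizer G x from hnx) hz⟩
  have hlz' : l * z * l⁻¹ = n * z * n⁻¹ := congrArg Subtype.val hlz
  set n' := l⁻¹ * n with hn'
  have hn'x : n' • x = x := by rw [hn', mul_smul, hnx, (mem_pairStab.1 (inv_mem hl)).1]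
  have hn'z : Commute n' z := by
    show l⁻¹ * n * z = z * (l⁻¹ * n)
    calc l⁻¹ * n * z = l⁻¹ * (n * z * n⁻¹) * n := by group
      _ = _ := by rw [← hlz']; group
  have hall := R.comm_all x n' hn'x z hz hn'z
  have hn'c : n' ∈ pairCent G x y := mem_centralizer_iff.2 fun m hm => by
    have hmem : n' * m * n'⁻¹ * m⁻¹ ∈ pairStab G x y := by
      refine mul_mem ?_ (inv_mem hm)
      rw [show n' * m * n'⁻¹ = l⁻¹ * (n * m * n⁻¹) * l by rw [hn']; group]
      exact mul_mem (mul_mem (inv_mem hl) (hn m hm)) hl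
    have h1 := R.commutator x n' m hn'x (mem_pairStab.1 hm).1 z hz
    rw [commutatorElement_def] at h1
    exact (mul_inv_eq_iff_eq_mul.1 (mul_inv_eq_one.1 (R.free hxy hmem hz h1))).symm
  have h2 := R.free hxy (R.mem_pairStab_of_fix hxy hn'c hn'x) hz hn'z
  rw [hn', inv_mul_eq_one] at h2
  exact h2 ▸ hl

/-- A Sylow subgroup of a two point stabiliser in a stabiliser containing it. -/
theorem isSylowIn_stab {ℓ : ℕ} [Fact ℓ.Prime] {x y : Ω} (hxy : x ≠ y) (hℓ : ℓ ∣ N)
    {C T : Subgroup G} (hC : pairStab G x y ≤ C) (hT : IsSylowIn ℓ T (pairStab G x y)) :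
    IsSylowIn ℓ T (C ⊓ MulAction.stabilizer G x) := by
  have hle : pairStab G x y ≤ C ⊓ MulAction.stabilizer G x := le_inf hC inf_le_left
  obtain ⟨P, hTP, hP⟩ := exists_isSylowIn_ge (hT.1.trans hle) hT.2.1
  rcases eq_or_lt_of_le hTP with heq | hlt
  · exact heq ▸ hP
  exfalso
  obtain ⟨u, ⟨huP, huN⟩, huT⟩ := SetLike.exists_of_lt (lt_inf_normalizer hP.2.1 hlt)
  obtain ⟨t, ht, ht1⟩ : ∃ t ∈ T, t ≠ 1 := by
    by_contra! h
    refine hT.2.2 ?_
    rw [show T = ⊥ from eq_bot_iff.2 fun a ha => mem_bot.2 (h a ha), relIndex_bot_left,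
      R.card_pairStab hxy]
    exact hℓ
  have hux : u • x = x := (hP.1 huP).2
  have huL : u ∈ pairStab G x y := by
    refine R.mem_of_normalizer hxy hux fun l hl => ?_
    have ht' : u * t * u⁻¹ ∈ pairStab G x y := hT.1 ((mem_normalizer_iff.1 huN t).1 ht)
    refine R.mem_pairStab_of_fix hxy (R.mem_pairCent hxy ht' (fun h => ht1 (conj_eq_one_iff.1 h))
      ?_) ?_
    · show u * l * u⁻¹ * (u * t * u⁻¹) = u * t * u⁻¹ * (u * l * u⁻¹)
      calc u * l * u⁻¹ * (u * t * u⁻¹) = u * (l * t) * u⁻¹ := by group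
        _ = u * (t * l) * u⁻¹ := by rw [(R.pairStab_commute hxy hl (hT.1 ht)).eq]
        _ = _ := by group
    · rw [mul_smul, mul_smul, inv_smul_eq_iff.2 hux.symm, (mem_pairStab.1 hl).1, hux]
  have := hT.eq_of_le (A := T ⊔ zpowers u) le_sup_left (sup_le hT.1 (zpowers_le.2 huL))
    (hP.2.1.to_le (sup_le hTP (zpowers_le.2 huP)))
  exact huT (this ▸ mem_sup_right (mem_zpowers u))

/-- The point stabiliser is transitive on the two point stabilisers. -/
theorem exists_conj_pairStab {x v v' : Ω} (hxv : x ≠ v) (hxv' : x ≠ v') :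
    ∃ g : G, g • x = x ∧ pairStab G x (g • v) = pairStab G x v' := by
  haveI : Fact N.minFac.Prime := ⟨Nat.minFac_prime (by have := R.two_le; omega)⟩
  obtain ⟨T, -, hT⟩ := exists_isSylowIn_ge (p := N.minFac)
    (bot_le : (⊥ : Subgroup G) ≤ pairStab G x v') IsPGroup.of_bot
  obtain ⟨T', -, hT'⟩ := exists_isSylowIn_ge (p := N.minFac)
    (bot_le : (⊥ : Subgroup G) ≤ pairStab G x v) IsPGroup.of_bot
  have hTC := R.isSylowIn_stab hxv' N.minFac_dvd le_top hT
  have hTC' := R.isSylowIn_stab hxv N.minFac_dvd le_top hT'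
  obtain ⟨g, hg, hgT⟩ := hTC.exists_cj_eq hTC'
  obtain ⟨t, ht, ht1⟩ : ∃ t ∈ T, t ≠ 1 := by
    by_contra! h
    refine hT.2.2 ?_
    rw [show T = ⊥ from eq_bot_iff.2 fun a ha => mem_bot.2 (h a ha), relIndex_bot_left,
      R.card_pairStab hxv']
    exact N.minFac_dvd
  obtain ⟨t', ht', het⟩ : t ∈ g *• T' := hgT.symm ▸ ht
  have htv : t • g • v = g • v := by
    rw [← het]
    show (g * t' * g⁻¹) • g • v = g • v
    rw [mul_smul, mul_smul, inv_smul_smul, (mem_pairStab.1 (hT'.1 ht')).2]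
  have hgx : g • x = x := hg.2
  exact ⟨g, hgx, R.pairStab_eq hxv' (fun h => hxv (smul_left_cancel g (hgx.trans h)))
    (hT.1 ht) ht1 htv⟩

set_option maxHeartbeats 800000 in
/-- The orbit of `x` under `C`. -/
theorem card_orbit {x y : Ω} (hxy : x ≠ y) {C : Subgroup G}
    (hy : y ∈ MulAction.orbit C x)
    (hLC : ∀ w ∈ MulAction.orbit C x, x ≠ w → pairStab G x w ≤ C)
    (hAC : ∀ a ∈ pairCent G x y, a • x ∈ MulAction.orbit C x ∨ a • y ∈ MulAction.orbit C x → a ∈ C) :
    Nat.card (MulAction.orbit C x) =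
      1 + (pairStab G x y).relIndex (C ⊓ MulAction.stabilizer G x) *
        (2 * (pairStab G x y).relIndex (C ⊓ pairCent G x y) - 1) := by
  classical
  haveI := finite_points R.uniq
  set L := pairStab G x y with hL
  set A := C ⊓ pairCent G x y with hA
  set Cx := C ⊓ MulAction.stabilizer G x with hCx
  set F : Set Ω := {w | w ∈ MulAction.orbit C x ∧ w ≠ x ∧ ∀ l ∈ L, l • w = w} with hF
  set Y : Set Ω := MulAction.orbit C x \ {x} with hY
  -- the fixed points of `L` in the orbit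
  have horb : ∀ u ∈ ({x, y} : Set Ω), ∀ a ∈ A, a • u ∈ MulAction.orbit C x ∧
      ∀ l ∈ L, l • a • u = a • u := by
    intro u hu a ha
    have huo : u ∈ MulAction.orbit C x := by
      rcases hu with rfl | rfl
      exacts [MulAction.mem_orbit_self _, hy]
    refine ⟨?_, fun l hl => ?_⟩
    · obtain ⟨c, rfl⟩ := huo
      exact ⟨⟨a, ha.1⟩ * c, mul_smul (a : G) (c : G) x⟩
    · rw [smul_smul, ← (commute_of_mem_pairCent ha.2 hl).eq, mul_smul]
      congr 1
      rcases hu with rfl | rfl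
      exacts [(mem_pairStab.1 hl).1, (mem_pairStab.1 hl).2]
  have hFeq : F = (MulAction.orbit A x \ {x}) ∪ MulAction.orbit A y := by
    ext w
    constructor
    · rintro ⟨hwo, hwx, hwf⟩
      obtain ⟨a, ha, haw⟩ := R.exists_smul_of_fix hxy (Ne.symm hwx) hwf
      exact Or.inr ⟨⟨a, hAC a ha (Or.inr (haw ▸ hwo)), ha⟩, haw⟩
    · rintro (⟨⟨a, rfl⟩, hwx⟩ | ⟨a, rfl⟩)
      · exact ⟨(horb x (Or.inl rfl) a a.2).1, hwx, (horb x (Or.inl rfl) a a.2).2⟩
      · exact ⟨(horb y (Or.inr rfl) a a.2).1, R.smul_ne hxy a.2.2, (horb y (Or.inr rfl) a a.2).2⟩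
  have hstab : ∀ u ∈ ({x, y} : Set Ω), MulAction.stabilizer A u = L.subgroupOf A := by
    intro u hu
    ext a
    rw [MulAction.mem_stabilizer_iff, mem_subgroupOf]
    constructor
    · intro h
      rcases hu with rfl | rfl
      · exact R.mem_pairStab_of_fix hxy a.2.2 h
      · rw [hL, pairStab_comm]
        refine R.mem_pairStab_of_fix hxy.symm ?_ h
        rw [pairCent, pairStab_comm]
        exact a.2.2
    · intro h
      rcases hu with rfl | rfl
      exacts [(mem_pairStab.1 h).1, (mem_pairStab.1 h).2]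
  have hcardA : ∀ u ∈ ({x, y} : Set Ω), (MulAction.orbit A u).ncard = L.relIndex A := fun u hu => by
    rw [← MulAction.index_stabilizer, hstab u hu]; rfl
  have hFcard : F.ncard = 2 * L.relIndex A - 1 := by
    have hdisj : Disjoint (MulAction.orbit A x \ {x}) (MulAction.orbit A y) := by
      rw [Set.disjoint_left]
      rintro w ⟨⟨a, rfl⟩, -⟩ ⟨b, hb⟩
      refine R.smul_ne hxy (a := (a : G)⁻¹ * b) (mul_mem (inv_mem a.2.2) b.2.2) ?_
      rw [mul_smul, inv_smul_eq_iff]
      exact hb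
    have hpos : 0 < L.relIndex A := Nat.pos_of_ne_zero index_ne_zero_of_finite
    rw [hFeq, Set.ncard_union_eq hdisj, Set.ncard_sdiff_singleton_of_mem (MulAction.mem_orbit_self _),
      hcardA x (Or.inl rfl), hcardA y (Or.inr rfl)]
    omega
  -- the orbit is covered by the translates
  let f : (↥Cx ⧸ L.subgroupOf Cx) × F → Y := fun p => ⟨(p.1.out : G) • (p.2 : Ω), by
    obtain ⟨c, hc⟩ := p.2.2.1
    exact ⟨⟨(⟨p.1.out, p.1.out.2.1⟩ : C) * c, by
      show ((p.1.out : G) * (c : G)) • x = _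
      rw [mul_smul]; exact congrArg _ hc⟩, fun h => p.2.2.2.1 (by
        have h1 : (p.1.out : G) • (p.2 : Ω) = x := h
        rw [← (p.1.out : ↥Cx).2.2] at h1
        exact smul_left_cancel _ h1)⟩⟩
  have hfb : Function.Bijective f := by
    constructor
    · rintro ⟨q, w⟩ ⟨q', w'⟩ h
      have h1 : (q.out : G) • (w : Ω) = (q'.out : G) • (w' : Ω) := congrArg Subtype.val h
      set u := (q'.out : G)⁻¹ * (q.out : G) with hu
      have huw : u • (w : Ω) = w' := by rw [hu, mul_smul, h1, inv_smul_smul]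
      have hux : u • x = x :=
        (mul_mem (inv_mem q'.out.2.2) q.out.2.2 : u ∈ MulAction.stabilizer G x)
      obtain ⟨c, hc, hc1⟩ := R.exists_ne_one hxy
      have e1 := R.pairStab_eq hxy w.2.2.1.symm hc hc1 (w.2.2.2 c hc)
      have e2 := R.pairStab_eq hxy w'.2.2.1.symm hc hc1 (w'.2.2.2 c hc)
      have huL : u ∈ L := R.mem_of_normalizer hxy hux fun l hl => by
        rw [← e2, mem_pairStab]
        rw [← e1, mem_pairStab] at hl
        refine ⟨?_, ?_⟩
        · rw [mul_smul, mul_smul, inv_smul_eq_iff.2 hux.symm, hl.1, hux]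
        · rw [mul_smul, mul_smul, ← huw, inv_smul_smul, hl.2]
      have hq : q' = q := by
        rw [← QuotientGroup.out_eq' q, ← QuotientGroup.out_eq' q', QuotientGroup.eq,
          mem_subgroupOf]
        exact huL
      subst hq
      exact Prod.ext rfl (Subtype.ext (smul_left_cancel _ h1))
    · rintro ⟨v, hvo, hvx⟩
      haveI : Fact N.minFac.Prime := ⟨Nat.minFac_prime (by have := R.two_le; omega)⟩
      have hxv : x ≠ v := fun h => hvx h.symm
      obtain ⟨T, -, hT⟩ := exists_isSylowIn_ge (p := N.minFac) (bot_le : (⊥ : Subgroup G) ≤ L)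
        IsPGroup.of_bot
      obtain ⟨T', -, hT'⟩ := exists_isSylowIn_ge (p := N.minFac)
        (bot_le : (⊥ : Subgroup G) ≤ pairStab G x v) IsPGroup.of_bot
      have hTC := R.isSylowIn_stab hxy N.minFac_dvd (hLC y hy hxy) hT
      have hTC' := R.isSylowIn_stab hxv N.minFac_dvd (hLC v hvo hxv) hT'
      obtain ⟨g, hg, hgT⟩ := hTC.exists_cj_eq hTC'
      obtain ⟨t, ht, ht1⟩ : ∃ t ∈ T, t ≠ 1 := by
        by_contra! h
        refine hT.2.2 ?_
        rw [show T = ⊥ from eq_bot_iff.2 fun a ha => mem_bot.2 (h a ha), relIndex_bot_left,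
          R.card_pairStab hxy]
        exact N.minFac_dvd
      obtain ⟨t', ht', het⟩ : t ∈ g *• T' := hgT.symm ▸ ht
      have htv : t • g • v = g • v := by
        rw [← het]
        show (g * t' * g⁻¹) • g • v = g • v
        rw [mul_smul, mul_smul, inv_smul_smul, (mem_pairStab.1 (hT'.1 ht')).2]
      have hgv : g • v ≠ x := fun h => hvx (smul_left_cancel g (h.trans (hg.2 : g • x = x).symm))
      have hgvo : g • v ∈ MulAction.orbit C x := by
        obtain ⟨c, rfl⟩ := hvo
        exact ⟨⟨g, hg.1⟩ * c, mul_smul (g : G) (c : G) x⟩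
      have e := R.pairStab_eq hxy hgv.symm (hT.1 ht) ht1 htv
      set q : ↥Cx ⧸ L.subgroupOf Cx := ((⟨g⁻¹, inv_mem hg⟩ : ↥Cx) : ↥Cx ⧸ L.subgroupOf Cx)
      obtain ⟨l, hl, hle⟩ : ∃ l ∈ L, (q.out : G) = g⁻¹ * l := by
        have h1 : ((⟨g⁻¹, inv_mem hg⟩ : ↥Cx)⁻¹ * q.out : ↥Cx) ∈ L.subgroupOf Cx :=
          QuotientGroup.eq.1 (QuotientGroup.out_eq' q).symm
        refine ⟨_, h1, ?_⟩
        simp
      refine ⟨(q, ⟨g • v, hgvo, hgv, fun m hm => ?_⟩), Subtype.ext ?_⟩
      · exact (mem_pairStab.1 (e.symm ▸ hm : m ∈ pairStab G x (g • v))).2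
      · show (q.out : G) • g • v = v
        rw [hle, mul_smul, (mem_pairStab.1 (e.symm ▸ hl : l ∈ pairStab G x (g • v))).2,
          inv_smul_smul]
  have hYcard : Y.ncard = L.relIndex Cx * (2 * L.relIndex A - 1) := by
    rw [← hFcard, ← Nat.card_coe_set_eq, ← Nat.card_coe_set_eq, ← Nat.card_eq_of_bijective f hfb,
      Nat.card_prod]
    rfl
  rw [← hYcard, hY, Nat.card_coe_set_eq, Set.ncard_sdiff_singleton_of_mem (MulAction.mem_orbit_self _)]
  have : 0 < (MulAction.orbit C x).ncard :=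
    (Set.ncard_pos (Set.toFinite _)).2 ⟨x, MulAction.mem_orbit_self _⟩
  omega

end Reg

end CfsgLib.HHShult
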