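import Cfsg.Agent.HHShult.Index
import Cfsg.Agent.HHShult.Pair

/-!
# The endgame: no minimal configuration exists

The cosets of `H = N(D)` in `G / Z(G)` form a `Reg` action with `N = q - 1`, `q = 2 ^ m`.  Counting
the points and the fixed points of `σ` gives `n = 1 + q² k (2 a - 1)`, `n_C = 1 + k (2 a_C - 1)`
and `n = B n_C`, where `a ∈ {a_C, B a_C}`, which is impossible.

* `Cx.elim`: a `Cx` is contradictory.
-/

set_option autoImplicit false
set_option linter.style.haveILetI false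
set_option linter.unusedSectionVars false

open Finset Module Subgroup CfsgLib.ConjFunctor CfsgLib.SEmbed CfsgLib.Small
open scoped commutatorElement CfsgLib.ConjFunctor

namespace CfsgLib.HHShult

universe u v w

/-- The hypotheses of `Reg` at one point suffice. -/
theorem Reg.of_point {G : Type*} [Group G] [Finite G] {Ω : Type*} [MulAction G Ω] {N : ℕ}
    (hu : UniqueFix G Ω) (hN : 2 ≤ N) (x₀ : Ω) (hcard : Nat.card (invMap (G := G) x₀ x₀) = N)
    (hall : ∀ c : G, c • x₀ = x₀ → ∀ i ∈ invMap (G := G) x₀ x₀, Commute c i →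
      ∀ j ∈ invMap (G := G) x₀ x₀, Commute c j)
    (hcomm : ∀ a b : G, a • x₀ = x₀ → b • x₀ = x₀ →
      ∀ i ∈ invMap (G := G) x₀ x₀, Commute ⁅a, b⁆ i)
    (hcent : ∀ c : G, c ≠ 1 → Odd (orderOf c) → c • x₀ = x₀ →
      (∀ i ∈ invMap (G := G) x₀ x₀, Commute c i) → ∀ g : G, Commute g c → g • x₀ = x₀)
    (hab : ∀ i ∈ invMap (G := G) x₀ x₀, ∀ j ∈ invMap (G := G) x₀ x₀, Commute i j) :
    Reg G Ω N := by
  have hto : ∀ {g a : G}, a • g • x₀ = g • x₀ → MulAut.conj g⁻¹ a • x₀ = x₀ := fun {g a} h => by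
    rw [MulAut.conj_apply, inv_inv, mul_smul, mul_smul, h, inv_smul_smul]
  have hinv : ∀ {g i : G}, i ∈ invMap (G := G) (g • x₀) (g • x₀) →
      MulAut.conj g⁻¹ i ∈ invMap (G := G) x₀ x₀ := fun {g i} hi =>
    ⟨by rw [← hi.1]; exact (MulAut.conj g⁻¹).orderOf_eq i, hto hi.2⟩
  have hcom : ∀ {g a b : G}, Commute (MulAut.conj g⁻¹ a) (MulAut.conj g⁻¹ b) → Commute a b :=
    fun {g a b} h => (MulAut.conj g⁻¹).injective (by rw [map_mul, map_mul]; exact h)
  have hcom' : ∀ {g a b : G}, Commute a b → Commute (MulAut.conj g⁻¹ a) (MulAut.conj g⁻¹ b) :=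
    fun {g a b} h => h.map (MulAut.conj g⁻¹)
  refine ⟨hu, hN, fun x => (card_invMap_self hu x x₀).trans hcard, fun x c hc i hi hci j hj => ?_,
    fun x a b ha hb i hi => ?_, fun x c hc1 ho hc hall' g hg => ?_, fun x i hi j hj => ?_⟩ <;>
    obtain ⟨g₀, rfl⟩ := hu.transitive x₀ x
  · exact hcom (hall _ (hto hc) _ (hinv hi) (hcom' hci) _ (hinv hj))
  · refine hcom (g := g₀) ?_
    rw [map_commutatorElement]
    exact hcomm _ _ (hto ha) (hto hb) _ (hinv hi)
  · have h1 := hcent (MulAut.conj g₀⁻¹ c) (fun h => hc1 ((MulAut.conj g₀⁻¹).injective (by rw [h, map_one])))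
      (by rw [MulEquiv.orderOf_eq]; exact ho) (hto hc) (fun i hi => by
        have hi' : MulAut.conj g₀ i ∈ invMap (G := G) (g₀ • x₀) (g₀ • x₀) :=
          ⟨by rw [← hi.1]; exact (MulAut.conj g₀).orderOf_eq i, by
            rw [MulAut.conj_apply, mul_smul, mul_smul, inv_smul_smul, hi.2]⟩
        have h2 := hcom' (g := g₀) (hall' _ hi')
        rwa [show MulAut.conj g₀⁻¹ (MulAut.conj g₀ i) = i by simp [mul_assoc]] at h2)
      _ (hcom' hg)
    rw [MulAut.conj_apply, inv_inv, mul_smul, mul_smul, inv_smul_eq_iff] at h1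
    exact h1
  · exact hcom (hab _ (hinv hi) _ (hinv hj))

/-- The arithmetic of the two counts. -/
theorem count_false {q B nC k a aC : ℕ} (hq : 4 ≤ q) (hk : q ≤ k) (hBmod : B % (q + 1) = 1)
    (hB : 1 < B) (hn : B * nC = 1 + q ^ 2 * k * (2 * a - 1)) (hnC : nC = 1 + k * (2 * aC - 1))
    (ha : a = aC ∨ a = B * aC) (haC : 0 < aC) : False := by
  obtain ⟨t, ht⟩ : ∃ t, B = 1 + (q + 1) * t := ⟨B / (q + 1), by
    have := Nat.mod_add_div B (q + 1); omega⟩
  have ha1 : 1 ≤ a := by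
    rcases ha with rfl | rfl
    exacts [haC, Nat.mul_pos (by omega) haC]
  obtain ⟨u, hu⟩ : ∃ u, 2 * aC = u + 1 := ⟨2 * aC - 1, by omega⟩
  obtain ⟨w, hw⟩ : ∃ w, 2 * a = w + 1 := ⟨2 * a - 1, by omega⟩
  rw [hu, Nat.add_sub_cancel] at hnC
  rw [hw, Nat.add_sub_cancel] at hn
  have hu1 : 1 ≤ u := by omega
  zify at hn hnC hu hw ht hq hk hu1 hB
  rcases ha with h | h
  · subst h
    have huw : (w : ℤ) = u := by omega
    rw [huw, ht, hnC] at hn
    -- `(q + 1) (q - 1 - t) n_C = (q + 1) (q - 1)`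
    have h1 : ((q : ℤ) + 1) * (((q : ℤ) - 1 - t) * (1 + k * u) - (q - 1)) = 0 := by nlinarith [hn]
    have h2 := (mul_eq_zero.1 h1).resolve_left (by omega)
    have hnq : (q : ℤ) + 1 ≤ 1 + k * u := by nlinarith
    clear hnC
    rcases le_or_gt (1 : ℤ) ((q : ℤ) - 1 - t) with h3 | h3
    · nlinarith
    · nlinarith
  · subst h
    push_cast at hw
    have hwu : (w : ℤ) = B * (u + 1) - 1 := by linarith [congrArg (fun e : ℤ => (B : ℤ) * e) hu]
    rw [hwu, hnC] at hn
    have haC' : (2 : ℤ) ≤ u + 1 := by omega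
    have h4 : (16 : ℤ) ≤ q ^ 2 := by nlinarith
    have hbr : (B : ℤ) ≤ q ^ 2 * (B * (u + 1) - 1) - B * u := by
      have h5 : (0 : ℤ) ≤ (q ^ 2 - 1) * ((B * (u + 1)) - 4) := by
        apply mul_nonneg <;> nlinarith
      nlinarith
    nlinarith [mul_le_mul_of_nonneg_left hbr (by omega : (0 : ℤ) ≤ k)]

variable {G : Type w} [Group G] [Finite G]
variable {K : Type u} [Field K] [IsAlgClosed K] {V : Type v} [AddCommGroup V] [Module K V]
  [FiniteDimensional K V]
variable {p : ℕ} [hp : Fact p.Prime] {σ : MulAut G} {r : ℕ} {ψ : G →* Module.End K V}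
  {s : Module.End K V}

/-- The image of `H` in `G / Z(G)`. -/
abbrev hbar (H : Subgroup G) : Subgroup (G ⧸ Subgroup.center G) :=
  H.map (QuotientGroup.mk' (Subgroup.center G))

/-- The point `H`. -/
abbrev pt (H : Subgroup G) : (G ⧸ Subgroup.center G) ⧸ hbar H :=
  QuotientGroup.mk (1 : G ⧸ Subgroup.center G)

local notation "π" => QuotientGroup.mk' (Subgroup.center _)

omit [Finite G] in
theorem pi_eq_one {g : G} : (π g : G ⧸ Subgroup.center G) = 1 ↔ g ∈ Subgroup.center G :=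
  QuotientGroup.eq_one_iff g

omit [Finite G] in
theorem pi_eq_iff {g h : G} : (π g : G ⧸ Subgroup.center G) = π h ↔ g⁻¹ * h ∈ Subgroup.center G :=
  QuotientGroup.eq

omit [Finite G] in
theorem orderOf_pi_dvd {g : G} {n : ℕ} (h : g ^ n ∈ Subgroup.center G) :
    orderOf (π g : G ⧸ Subgroup.center G) ∣ n :=
  orderOf_dvd_of_pow_eq_one (by rw [← map_pow]; exact pi_eq_one.2 h)

namespace Cx

variable (X : Cx p σ r ψ s) {D H : Subgroup G} (hD : IsStdD σ D) (hH : Home σ D H)
include X hD hH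

theorem mem_home_of_pi {g : G} (hg : (π g : G ⧸ Subgroup.center G) ∈ hbar H) : g ∈ H := by
  obtain ⟨h, hh, he⟩ := hg
  have := mul_mem hh (X.center_le_home hD hH (pi_eq_iff.1 he))
  rwa [mul_inv_cancel_left] at this

theorem pi_zsub_injective {z z' : G} (hz : z ∈ zsub σ D) (hz' : z' ∈ zsub σ D)
    (h : (π z : G ⧸ Subgroup.center G) = π z') : z = z' :=
  inv_mul_eq_one.1 (X.zsub_center hD hH (mul_mem (inv_mem hz) hz') (pi_eq_iff.1 h))

/-- Conjugation by an element of `H` on `C_D(σ)` is that by its fixed factor. -/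
theorem exists_conj_zsub {a : G} (ha : a ∈ H) : ∃ d ∈ D, ∃ c ∈ gam σ D, a = d * c ∧
    ∀ e ∈ zsub σ D, a * e * a⁻¹ = c * e * c⁻¹ ∧ c * e * c⁻¹ ∈ zsub σ D := by
  obtain ⟨d, hd, c, hc, rfl⟩ := X.home_decomp hD hH ha
  refine ⟨d, hd, c, hc, rfl, fun e he => ?_⟩
  have hz := X.mem_normalizer_zsub hD hc.1 hc.2 he
  refine ⟨?_, hz⟩
  calc d * c * e * (d * c)⁻¹ = d * (c * e * c⁻¹) * d⁻¹ := by group
    _ = _ := by rw [X.zsub_comm hD hz hd, mul_inv_cancel_right]

theorem mem_invMap_pt {i : G ⧸ Subgroup.center G} :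
    i ∈ invMap (G := G ⧸ Subgroup.center G) (pt H) (pt H) ↔
      ∃ z ∈ zsub σ D, z ≠ 1 ∧ π z = i := by
  have hpz : ∀ {z : G}, z ∈ zsub σ D → z ≠ 1 → orderOf (π z : G ⧸ Subgroup.center G) = 2 :=
    fun {z} hz hz1 => orderOf_eq_prime (by rw [sq, ← map_mul, X.zsub_sq hD hz, map_one])
      fun h => X.not_center hD hH hz hz1 (pi_eq_one.1 h)
  constructor
  · rintro ⟨hio, hix⟩
    have hiH : i ∈ hbar H := (smul_one_eq_iff (hbar H) i).1 hix
    obtain ⟨z, hz, hz1⟩ := X.exists_ne_one hD hH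
    obtain ⟨x, hx⟩ : ∃ x, x ∉ H := by
      by_contra! h
      exact hH.mem.ne_top (eq_top_iff.2 fun y _ => h y)
    haveI : Nontrivial ((G ⧸ Subgroup.center G) ⧸ hbar H) :=
      ⟨⟨(π x : G ⧸ Subgroup.center G) • pt H, pt H, fun h =>
        hx (X.mem_home_of_pi hD hH ((smul_one_eq_iff (hbar H) _).1 h))⟩⟩
    obtain ⟨g, hg⟩ := isConj_iff.1 (isConj_invol (X.uniqueFix hD hH) (hpz hz hz1) hio)
    obtain ⟨g, rfl⟩ := QuotientGroup.mk'_surjective (Subgroup.center G) g
    rw [← map_inv, ← map_mul, ← map_mul] at hg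
    have hgH : g ∈ H := by
      have h1 : g * z * g⁻¹ ∈ H := X.mem_home_of_pi hD hH (hg ▸ hiH)
      have := X.mem_of_conj_mem hD hH hz (X.not_center hD hH hz hz1) (g := g⁻¹) (by rwa [inv_inv])
      simpa using inv_mem this
    obtain ⟨d, hd, c, hc, -, he⟩ := X.exists_conj_zsub hD hH hgH
    refine ⟨g * z * g⁻¹, (he z hz).1 ▸ (he z hz).2, fun h => hz1 (conj_eq_one_iff.1 h), hg⟩
  · rintro ⟨z, hz, hz1, rfl⟩
    exact ⟨hpz hz hz1, (smul_one_eq_iff (hbar H) _).2 (mem_map_of_mem _ (hH.mem.le hz.1))⟩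

theorem reg {m : ℕ} (hm : 0 < m) (hr : r = 2 ^ m + 1) :
    Reg (G ⧸ Subgroup.center G) ((G ⧸ Subgroup.center G) ⧸ hbar H) (2 ^ m - 1) := by
  classical
  have hq : 4 ≤ 2 ^ m := le_trans (by norm_num) (Nat.pow_le_pow_right two_pos (X.two_le_m hD hH hm hr))
  have hstab : ∀ {g : G}, (π g : G ⧸ Subgroup.center G) • pt H = pt H → g ∈ H := fun {g} h =>
    X.mem_home_of_pi hD hH ((smul_one_eq_iff (hbar H) _).1 h)
  have hmk : ∀ {a b : G}, a * b = b * a → Commute (π a : G ⧸ Subgroup.center G) (π b) :=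
    fun {a b} h => by
      show _ * _ = _ * _
      rw [← map_mul, ← map_mul, h]
  refine Reg.of_point (X.uniqueFix hD hH) (by omega) (pt H) ?_ ?_ ?_ ?_ ?_
  · haveI := Fintype.ofFinite ↥(zsub σ D)
    let f : {z : ↥(zsub σ D) // z ≠ 1} → invMap (G := G ⧸ Subgroup.center G) (pt H) (pt H) :=
      fun z => ⟨π (z.1 : G), (X.mem_invMap_pt hD hH).2
        ⟨z.1, z.1.2, fun h => z.2 (Subtype.ext h), rfl⟩⟩
    rw [← Nat.card_eq_of_bijective f ⟨fun a b h => Subtype.ext (Subtype.ext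
      (X.pi_zsub_injective hD hH a.1.2 b.1.2 (congrArg Subtype.val h))), fun i => ?_⟩,
      ← X.card_zsub hD hH hm hr, Nat.card_eq_fintype_card, Nat.card_eq_fintype_card,
      Fintype.card_subtype_compl, Fintype.card_subtype_eq]
    obtain ⟨z, hz, hz1, he⟩ := (X.mem_invMap_pt hD hH).1 i.2
    exact ⟨⟨⟨z, hz⟩, fun h => hz1 (congrArg Subtype.val h)⟩, Subtype.ext he⟩
  · intro c hc i hi hci j hj
    obtain ⟨g, rfl⟩ := QuotientGroup.mk'_surjective (Subgroup.center G) c
    obtain ⟨z, hz, hz1, rfl⟩ := (X.mem_invMap_pt hD hH).1 hi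
    obtain ⟨e, he, -, rfl⟩ := (X.mem_invMap_pt hD hH).1 hj
    obtain ⟨d, hd, c₀, hc₀, -, hconj⟩ := X.exists_conj_zsub hD hH (hstab hc)
    have h1 : (π (g * z * g⁻¹) : G ⧸ Subgroup.center G) = π z := by
      rw [map_mul, map_mul, map_inv, hci.eq, mul_inv_cancel_right]
    rw [(hconj z hz).1] at h1
    have h2 := X.pi_zsub_injective hD hH (hconj z hz).2 hz h1
    have hk := X.mem_kone_of_fix hD hH hc₀.1 hc₀.2 hz hz1 (mul_inv_eq_iff_eq_mul.1 h2)
    refine hmk (mul_inv_eq_iff_eq_mul.1 ?_)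
    rw [(hconj e he).1, ← mem_centralizer_iff.1 hk.1 e he.1, mul_inv_cancel_right]
  · intro a b ha hb i hi
    obtain ⟨a, rfl⟩ := QuotientGroup.mk'_surjective (Subgroup.center G) a
    obtain ⟨b, rfl⟩ := QuotientGroup.mk'_surjective (Subgroup.center G) b
    obtain ⟨e, he, -, rfl⟩ := (X.mem_invMap_pt hD hH).1 hi
    obtain ⟨d, hd, c, hc, -, hca⟩ := X.exists_conj_zsub hD hH (hstab ha)
    obtain ⟨d', hd', c', hc', -, hcb⟩ := X.exists_conj_zsub hD hH (hstab hb)
    have hinv : ∀ {a c : G}, c ∈ gam σ D →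
        (∀ e ∈ zsub σ D, a * e * a⁻¹ = c * e * c⁻¹ ∧ c * e * c⁻¹ ∈ zsub σ D) →
        ∀ e ∈ zsub σ D, a⁻¹ * e * a = c⁻¹ * e * c ∧ c⁻¹ * e * c ∈ zsub σ D := by
      intro a c hc h e he
      have hz : c⁻¹ * e * c ∈ zsub σ D := by
        have := X.mem_normalizer_zsub hD (inv_mem hc : c⁻¹ ∈ gam σ D).1
          (inv_mem hc : c⁻¹ ∈ gam σ D).2 he
        rwa [inv_inv] at this
      refine ⟨?_, hz⟩
      have h1 := (h _ hz).1
      calc a⁻¹ * e * a = a⁻¹ * (c * (c⁻¹ * e * c) * c⁻¹) * a := by group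
        _ = c⁻¹ * e * c := by rw [← h1]; group
    rw [← map_commutatorElement]
    refine hmk (mul_inv_eq_iff_eq_mul.1 ?_)
    obtain ⟨e1, h1⟩ := hinv hc' hcb e he
    obtain ⟨e2, h2⟩ := hinv hc hca _ h1
    obtain ⟨e3, h3⟩ := hcb _ h2
    obtain ⟨e4, -⟩ := hca _ h3
    have hk := X.commutator_mem_kone hD hH hc hc'
    calc ⁅a, b⁆ * e * ⁅a, b⁆⁻¹ = a * (b * (a⁻¹ * (b⁻¹ * e * b) * a) * b⁻¹) * a⁻¹ := by
          simp only [commutatorElement_def]; group
      _ = c * (c' * (c⁻¹ * (c'⁻¹ * e * c') * c) * c'⁻¹) * c⁻¹ := by rw [e1, e2, e3, e4]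
      _ = ⁅c, c'⁆ * e * ⁅c, c'⁆⁻¹ := by simp only [commutatorElement_def]; group
      _ = e := by rw [← mem_centralizer_iff.1 hk.1 e he.1, mul_inv_cancel_right]
  · intro c hc1 ho hc hall g hg
    obtain ⟨c, rfl⟩ := QuotientGroup.mk'_surjective (Subgroup.center G) c
    obtain ⟨g, rfl⟩ := QuotientGroup.mk'_surjective (Subgroup.center G) g
    obtain ⟨z, hz, hz1⟩ := X.exists_ne_one hD hH
    obtain ⟨d, hd, c₀, hc₀, hce, hconj⟩ := X.exists_conj_zsub hD hH (hstab hc)
    have h1 : (π (c * z * c⁻¹) : G ⧸ Subgroup.center G) = π z := by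
      rw [map_mul, map_mul, map_inv, (hall _ ((X.mem_invMap_pt hD hH).2 ⟨z, hz, hz1, rfl⟩)).eq,
        mul_inv_cancel_right]
    rw [(hconj z hz).1] at h1
    have hk := X.mem_kone_of_fix hD hH hc₀.1 hc₀.2 hz hz1
      (mul_inv_eq_iff_eq_mul.1 (X.pi_zsub_injective hD hH (hconj z hz).2 hz h1))
    have hkD : ∀ e ∈ D, Commute e c₀ := fun e he => mem_centralizer_iff.1 hk.1 e he
    obtain ⟨n, hn⟩ := ho
    have hcn : c ^ orderOf (π c : G ⧸ Subgroup.center G) ∈ Subgroup.center G :=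
      pi_eq_one.1 (by rw [map_pow, pow_orderOf_eq_one])
    rw [hn] at hcn
    have hdn : σ (d ^ (2 * n + 1)) = d ^ (2 * n + 1) := by
      have h2 := X.center_fixed hcn
      rw [hce, (hkD d hd).mul_pow, map_mul, map_pow σ c₀, hc₀.1] at h2
      exact mul_right_cancel h2
    obtain ⟨a, ha⟩ := X.isPGroup_D hD ⟨d, hd⟩
    obtain ⟨j, hj⟩ := exists_pow_eq_self_of_coprime (x := d) (n := 2 * n + 1)
      (Nat.Coprime.of_dvd_right (orderOf_dvd_of_pow_eq_one (congrArg Subtype.val ha))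
        (Nat.Coprime.pow_right _ (Nat.coprime_two_right.2 ⟨n, rfl⟩)))
    have hdf : σ d = d := by rw [← hj, map_pow, hdn]
    have hcf : σ c = c := by rw [hce, map_mul, hdf, hc₀.1]
    have hcD : ∀ e ∈ D, e * c = c * e := fun e he => by
      rw [hce, ← mul_assoc, X.zsub_comm hD (⟨hd, hdf⟩ : d ∈ zsub σ D) he, mul_assoc,
        (hkD e he).eq, ← mul_assoc]
    have hle := hH.max _ (X.kmem_cmod_fixed hD hcf (fun h => hc1 (pi_eq_one.2 h)) hcD)
    exact (smul_one_eq_iff (hbar H) _).2 (mem_map_of_mem _ (hle (mem_cmod_iff_quot.2 hg.symm)))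
  · intro i hi j hj
    obtain ⟨z, hz, -, rfl⟩ := (X.mem_invMap_pt hD hH).1 hi
    obtain ⟨e, he, -, rfl⟩ := (X.mem_invMap_pt hD hH).1 hj
    exact hmk (X.zsub_comm hD he hz.1)

omit X hD hH in
theorem _root_.CfsgLib.HHShult.cj_mem_iff {g x : G} : x ∈ g *• H ↔ g⁻¹ * x * g ∈ H := by
  constructor
  · rintro ⟨h, hh, rfl⟩
    simpa [mul_assoc] using hh
  · intro h
    exact ⟨_, h, by simp [mul_assoc]⟩

/-- The preimage of the stabiliser of two points. -/
theorem comap_pairStab (g : G) :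
    (pairStab (G ⧸ Subgroup.center G) (pt H) ((π g : G ⧸ Subgroup.center G) • pt H)).comap π =
      H ⊓ (g *• H) := by
  ext l
  rw [Subgroup.mem_comap, mem_pairStab, Subgroup.mem_inf, cj_mem_iff]
  constructor
  · rintro ⟨h1, h2⟩
    refine ⟨X.mem_home_of_pi hD hH ((smul_one_eq_iff (hbar H) _).1 h1),
      X.mem_home_of_pi hD hH ((smul_one_eq_iff (hbar H) _).1 ?_)⟩
    rw [map_mul, map_mul, map_inv, mul_smul, mul_smul, h2, inv_smul_smul]
  · rintro ⟨h1, h2⟩
    refine ⟨(smul_one_eq_iff (hbar H) _).2 (mem_map_of_mem _ h1), ?_⟩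
    have h3 := (smul_one_eq_iff (hbar H) _).2 (mem_map_of_mem (π) h2)
    rw [map_mul, map_mul, map_inv, mul_smul, mul_smul, inv_smul_eq_iff] at h3
    exact h3

theorem pt_ne {g : G} (hg : g ∉ H) : pt H ≠ (π g : G ⧸ Subgroup.center G) • pt H := fun h =>
  hg (X.mem_home_of_pi hD hH ((smul_one_eq_iff (hbar H) _).1 h.symm))

/-- An invariant stabiliser of two points is fixed. -/
theorem inf_cj_le_fixed {g : G} (hg : g ∉ H) (hinv : Inv σ (H ⊓ (g *• H))) :
    H ⊓ (g *• H) ≤ fixedSub σ := by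
  obtain ⟨m, hm, hr⟩ := X.exists_m
  have R := X.reg hD hH hm hr
  refine relIndex_eq_one.1 (Nat.dvd_one.1 (X.relIndex_fixed_dvd hinv fun q hq T hT hTs => ?_))
  haveI := Fact.mk hq
  rw [Nat.dvd_one, relIndex_eq_one]
  by_cases hq2 : q = 2
  · subst hq2
    intro t ht
    refine mem_fixedSub.2 (X.center_fixed (pi_eq_one.1 ?_))
    obtain ⟨k, hk⟩ := hTs.2.1 ⟨t, ht⟩
    have h2 : orderOf (π t : G ⧸ Subgroup.center G) ∣ 2 ^ k :=
      orderOf_dvd_of_pow_eq_one (by
        rw [← map_pow, show t ^ (2 ^ k) = 1 from congrArg Subtype.val hk, map_one])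
    have htp : t ∈ (pairStab (G ⧸ Subgroup.center G) (pt H)
        ((π g : G ⧸ Subgroup.center G) • pt H)).comap π := by
      rw [X.comap_pairStab hD hH]; exact hTs.1 ht
    have h3 : Odd (orderOf (π t : G ⧸ Subgroup.center G)) :=
      R.odd_orderOf (X.pt_ne hD hH hg) htp
    exact orderOf_eq_one_iff.1 (Nat.eq_one_of_dvd_coprimes
      ((Nat.coprime_two_right.2 h3).pow_right k) dvd_rfl h2)
  by_cases hqp : q = p
  · subst hqp
    intro t ht
    obtain ⟨k, hk⟩ := hTs.2.1 ⟨t, ht⟩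
    have h2 : orderOf t = 1 := Nat.eq_one_of_dvd_coprimes
      (Nat.Coprime.pow_right k (hq.coprime_iff_not_dvd.2 (X.not_dvd_home hD hH)).symm)
      (Subgroup.orderOf_dvd_natCard H (hTs.1 ht).1)
      (orderOf_dvd_of_pow_eq_one (congrArg Subtype.val hk))
    rw [orderOf_eq_one_iff.1 h2]
    exact one_mem _
  exact X.fixed_of_prime hq2 hqp hT hTs.2.1

/-- `σ` fixes a second coset of `H`. -/
theorem exists_fixed_not_mem : ∃ g, σ g = g ∧ g ∉ H := by
  classical
  obtain ⟨m, hm, hr⟩ := X.exists_m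
  have R := X.reg hD hH hm hr
  obtain ⟨g₀, hg₀⟩ : ∃ g, g ∉ H := by
    by_contra! h
    exact hH.mem.ne_top (eq_top_iff.2 fun y _ => h y)
  -- the stabilisers of `H` and another coset form one class
  let α := {L : Subgroup G // ∃ g, g ∉ H ∧ L = H ⊓ (g *• H)}
  have hcjH : ∀ h ∈ H, ∀ g : G, h *• (H ⊓ (g *• H)) = H ⊓ ((h * g) *• H) := fun h hh g => by
    rw [cj_inf, cj_self_of_mem hh, cj_cj]
  letI : MulAction H α :=
    { smul := fun h L => ⟨(h : G) *• L.1, by
        obtain ⟨g, hg, he⟩ := L.2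
        refine ⟨h * g, fun h' => hg ?_, by rw [he, hcjH _ h.2]⟩
        have := mul_mem (inv_mem h.2) h'
        rwa [inv_mul_cancel_left] at this⟩
      one_smul := fun L => Subtype.ext (cj_one L.1)
      mul_smul := fun a b L => Subtype.ext (cj_cj (a : G) b L.1).symm }
  haveI : MulAction.IsPretransitive H α := ⟨fun L L' => by
    obtain ⟨g, hg, he⟩ := L.2
    obtain ⟨g', hg', he'⟩ := L'.2
    obtain ⟨u, hu, hu'⟩ := R.exists_conj_pairStab (X.pt_ne hD hH hg) (X.pt_ne hD hH hg')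
    obtain ⟨u, rfl⟩ := QuotientGroup.mk'_surjective (Subgroup.center G) u
    have huH := X.mem_home_of_pi hD hH ((smul_one_eq_iff (hbar H) _).1 hu)
    refine ⟨⟨u, huH⟩, Subtype.ext ?_⟩
    show u *• L.1 = L'.1
    rw [he, he', hcjH u huH, ← X.comap_pairStab hD hH, ← X.comap_pairStab hD hH, ← hu', map_mul,
      mul_smul]⟩
  have hσH : H.map σ.toMonoidHom = H := hH.mem.inv.map_eq
  have hσcj : ∀ g : G, (H ⊓ (g *• H)).map σ.toMonoidHom = H ⊓ (σ g *• H) := fun g => by
    rw [Subgroup.map_inf _ _ _ σ.injective, hσH, Subgroup.map_map]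
    congr 1
    conv_rhs => rw [← hσH, Subgroup.map_map]
    congr 1
    ext x
    simp
  let f : α → α := fun L => ⟨L.1.map σ.toMonoidHom, by
    obtain ⟨g, hg, he⟩ := L.2
    exact ⟨σ g, fun h => hg (hH.mem.inv.mem_iff.1 h), by rw [he, hσcj]⟩⟩
  have hfinj : Function.Injective f := fun U V hUV => Subtype.ext
    (map_injective (f := σ.toMonoidHom) σ.injective (congrArg Subtype.val hUV))
  let F : Equiv.Perm α := Equiv.ofBijective f (Finite.injective_iff_bijective.1 hfinj)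
  have hFn : ∀ (n : ℕ) (U : α), ((F ^ n) U).1 = U.1.map (σ ^ n).toMonoidHom := by
    intro n
    induction n with
    | zero => intro U; ext x; simp
    | succ n ih =>
      intro U
      rw [pow_succ', Equiv.Perm.mul_apply]
      show ((F ^ n) U).1.map σ.toMonoidHom = _
      rw [ih, Subgroup.map_map, pow_succ']
      rfl
  have hFr : F ^ r = 1 := by
    ext U x
    rw [hFn, X.act.cop.pow_eq]
    simp
  obtain ⟨⟨L, g, hg, hL⟩, hfixL⟩ := exists_fixed_of_not_dvd X.act.cop.prime F hFr (by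
    rw [← MulAction.index_stabilizer_of_transitive H (⟨_, g₀, hg₀, rfl⟩ : α)]
    exact fun hd => X.act.cop.not_dvd
      (hd.trans ((index_dvd_card _).trans (card_subgroup_dvd_card H))))
  have hmap : L.map σ.toMonoidHom = L := congrArg Subtype.val hfixL
  have hinv : Inv σ L := fun x hx => hmap ▸ ⟨x, hx, rfl⟩
  subst hL
  have hLfix := X.inf_cj_le_fixed hD hH hg hinv
  set Lb := pairStab (G ⧸ Subgroup.center G) (pt H) ((π g : G ⧸ Subgroup.center G) • pt H) with hLb
  set A := (pairCent (G ⧸ Subgroup.center G) (pt H)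
    ((π g : G ⧸ Subgroup.center G) • pt H)).comap (π : G →* G ⧸ Subgroup.center G) with hA
  have hAinv : Inv σ A := fun a ha => by
    refine mem_centralizer_iff.2 fun l hl => ?_
    obtain ⟨l, rfl⟩ := QuotientGroup.mk'_surjective (Subgroup.center G) l
    have hlf : σ l = l := hLfix (by rw [← X.comap_pairStab hD hH]; exact hl)
    have h1 : ⁅l, a⁆ ∈ Subgroup.center G := mem_cmod.1
      (mem_cmod_iff_quot.2 (Reg.commute_of_mem_pairCent ha hl).symm)
    exact (mem_cmod_iff_quot.1 (show σ a ∈ cmod l by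
      rw [mem_cmod, ← hlf, ← map_commutatorElement]
      exact map_center_mem σ h1)).eq
  -- `σ` moves `g H` inside its `A`-orbit
  obtain ⟨a, ha, hag⟩ : ∃ a ∈ A, ((a * g : G) : G ⧸ H) = σ g := by
    have hfix : ∀ l ∈ Lb, l • (π (σ g) : G ⧸ Subgroup.center G) • pt H =
        (π (σ g) : G ⧸ Subgroup.center G) • pt H := by
      intro l hl
      obtain ⟨l, rfl⟩ := QuotientGroup.mk'_surjective (Subgroup.center G) l
      have h1 : l ∈ H ⊓ (σ g *• H) := by
        rw [← hσcj, hmap, ← X.comap_pairStab hD hH]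
        exact hl
      rw [← X.comap_pairStab hD hH] at h1
      exact (mem_pairStab.1 h1).2
    obtain ⟨a, ha, hag⟩ := R.exists_smul_of_fix (X.pt_ne hD hH hg)
      (X.pt_ne hD hH fun h => hg (hH.mem.inv.mem_iff.1 h)) hfix
    obtain ⟨a, rfl⟩ := QuotientGroup.mk'_surjective (Subgroup.center G) a
    refine ⟨a, ha, QuotientGroup.eq.2 (X.mem_home_of_pi hD hH ((smul_one_eq_iff (hbar H) _).1 ?_))⟩
    rw [map_mul, map_inv, map_mul, mul_smul, ← hag, ← mul_smul _ _ (pt H), inv_smul_smul]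
  let fc : G ⧸ H → G ⧸ H := Quotient.map' σ fun u v h => by
    rw [QuotientGroup.leftRel_apply] at h ⊢
    rw [← map_inv, ← map_mul]
    exact hH.mem.inv _ h
  let T : Set (G ⧸ H) := MulAction.orbit A ((g : G) : G ⧸ H)
  have hT : ∀ q : T, fc q ∈ T := by
    rintro ⟨_, k, rfl⟩
    refine ⟨⟨σ k * a, mul_mem (hAinv k k.2) ha⟩, ?_⟩
    show ((σ (k : G) * a * g : G) : G ⧸ H) = ((σ ((k : G) * g) : G) : G ⧸ H)
    rw [map_mul, mul_assoc, QuotientGroup.eq,
      show (σ (k : G) * (a * g))⁻¹ * (σ (k : G) * σ g) = (a * g)⁻¹ * σ g by group]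
    exact QuotientGroup.eq.1 hag
  let fT : T → T := fun q => ⟨fc q, hT q⟩
  have hTn : ∀ (n : ℕ) (q : T) (u : G), (q : G ⧸ H) = (u : G ⧸ H) →
      ((fT^[n] q : T) : G ⧸ H) = ((σ ^ n) u : G) := by
    intro n
    induction n with
    | zero => intro q u h; exact h
    | succ n ih =>
      intro q u h
      rw [Function.iterate_succ_apply']
      show fc _ = _
      rw [ih q u h, pow_succ']
      rfl
  have hfTr : fT^[r] = id := funext fun q => Subtype.ext (by
    obtain ⟨u, hu⟩ := QuotientGroup.mk_surjective (q : G ⧸ H)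
    rw [hTn r q u hu.symm, X.act.cop.pow_eq, id]
    exact hu)
  have hfTb : Function.Bijective fT := by
    obtain ⟨r', hr'⟩ := Nat.exists_eq_succ_of_ne_zero X.act.cop.prime.pos.ne'
    rw [hr'] at hfTr
    exact ⟨fun u v h => by
        have := congrArg (fT^[r']) h
        rwa [← Function.iterate_succ_apply, ← Function.iterate_succ_apply, hfTr] at this,
      fun b => ⟨fT^[r'] b, by rw [← Function.iterate_succ_apply' fT r', hfTr]; rfl⟩⟩
  obtain ⟨⟨_, k, rfl⟩, hk⟩ := exists_fixed_of_not_dvd X.act.cop.prime (Equiv.ofBijective fT hfTb)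
    (Equiv.ext fun q => by
      rw [show (Equiv.ofBijective fT hfTb ^ r) q = fT^[r] q from by
        rw [Equiv.Perm.coe_pow]; rfl, hfTr]
      rfl) (by
    rw [Nat.card_coe_set_eq, ← MulAction.index_stabilizer]
    exact fun hd => X.act.cop.not_dvd
      (hd.trans ((index_dvd_card _).trans (card_subgroup_dvd_card A))))
  have h1 : ((σ ((k : G) * g) : G) : G ⧸ H) = (((k : G) * g : G) : G ⧸ H) :=
    congrArg Subtype.val hk
  rw [eq_comm, QuotientGroup.eq] at h1
  obtain ⟨h, hh, hf⟩ := X.act.cop.exists_mem_fixed_coset hH.mem.inv h1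
  refine ⟨_, hf, fun hin => ?_⟩
  have hkg : (k : G) * g ∈ H := by
    have := mul_mem hin (inv_mem hh)
    rwa [mul_inv_cancel_right] at this
  refine R.smul_ne (X.pt_ne hD hH hg) k.2 ?_
  rw [← mul_smul, ← map_mul]
  exact (smul_one_eq_iff (hbar H) _).2 (mem_map_of_mem _ hkg)

set_option maxHeartbeats 1600000 in
/-- The two counts contradict each other. -/
theorem false_of_home : False := by
  classical
  obtain ⟨m, hm, hr⟩ := X.exists_m
  have hq : 4 ≤ 2 ^ m := le_trans (by norm_num) (Nat.pow_le_pow_right two_pos (X.two_le_m hD hH hm hr))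
  have R := X.reg hD hH hm hr
  set Cb := (fixedSub σ).map (π : G →* G ⧸ Subgroup.center G) with hCb
  have hCmem : ∀ {g : G}, (π g : G ⧸ Subgroup.center G) ∈ Cb ↔ σ g = g := fun {g} => by
    refine ⟨?_, fun h => mem_map_of_mem _ (mem_fixedSub.2 h)⟩
    rintro ⟨c, hc, he⟩
    have h1 := X.center_fixed (pi_eq_iff.1 he)
    rw [map_mul, map_inv, mem_fixedSub.1 hc] at h1
    exact mul_left_cancel h1
  have hcz : Subgroup.center G ≤ fixedSub σ := fun c hc => mem_fixedSub.2 (X.center_fixed hc)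
  have hHb : MulAction.stabilizer (G ⧸ Subgroup.center G) (pt H) = hbar H := by
    ext g
    exact smul_one_eq_iff (hbar H) g
  have hker : ∀ A B : Subgroup G, Subgroup.center G ≤ A → Subgroup.center G ≤ B →
      (A.map (π : G →* G ⧸ Subgroup.center G)).relIndex (B.map π) = A.relIndex B :=
    fun A B hA hB => by
      rw [Subgroup.relIndex_map_map, QuotientGroup.ker_mk', sup_eq_left.2 hA, sup_eq_left.2 hB]
  have horb : ∀ C : Subgroup (G ⧸ Subgroup.center G),
      Nat.card (MulAction.orbit C (pt H)) = (hbar H).relIndex C := fun C => by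
    rw [Nat.card_coe_set_eq, ← MulAction.index_stabilizer,
      show MulAction.stabilizer C (pt H) = (hbar H).subgroupOf C from
        Subgroup.ext fun c => smul_one_eq_iff (hbar H) (c : _)]
    rfl
  have hLC : ∀ w ∈ MulAction.orbit Cb (pt H), pt H ≠ w →
      pairStab (G ⧸ Subgroup.center G) (pt H) w ≤ Cb := by
    rintro w ⟨⟨_, g, hgf, rfl⟩, rfl⟩ hne l hl
    have hgf' : σ g = g := mem_fixedSub.1 hgf
    obtain ⟨l, rfl⟩ := QuotientGroup.mk'_surjective (Subgroup.center G) l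
    refine hCmem.2 (X.inf_cj_le_fixed hD hH (fun h => hne ?_)
      (hH.mem.inv.inf (hH.mem.inv.cj hgf')) ?_)
    · exact ((smul_one_eq_iff (hbar H) _).2 (mem_map_of_mem _ h)).symm
    · rw [← X.comap_pairStab hD hH]
      exact hl
  obtain ⟨P, -, hP, hPs⟩ := X.act.cop.exists_sylow (p := p) inv_top bot_le IsPGroup.of_bot inv_bot
  obtain ⟨-, hBmod, hB1⟩ := X.index_fixed hD hH hm hr hP hPs
  have hnB := X.index_home hD hH hm hr hP hPs
  set B := (fixedSub σ).relIndex P with hB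
  obtain ⟨g, hgf, hgH⟩ := X.exists_fixed_not_mem hD hH
  set x := pt H with hx
  set y := (π g : G ⧸ Subgroup.center G) • pt H with hy
  have hxy : x ≠ y := X.pt_ne hD hH hgH
  have hyC : y ∈ MulAction.orbit Cb x := ⟨⟨π g, hCmem.2 hgf⟩, rfl⟩
  set L := pairStab (G ⧸ Subgroup.center G) x y with hL
  set A := pairCent (G ⧸ Subgroup.center G) x y with hA
  set A' := A.comap (π : G →* G ⧸ Subgroup.center G) with hA'
  have hLC' : L ≤ Cb := hLC y hyC hxy
  have hA'inv : Inv σ A' := fun a ha => by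
    refine mem_centralizer_iff.2 fun l hl => ?_
    obtain ⟨l, rfl⟩ := QuotientGroup.mk'_surjective (Subgroup.center G) l
    have hlf : σ l = l := hCmem.1 (hLC' hl)
    have h1 : ⁅l, a⁆ ∈ Subgroup.center G := mem_cmod.1
      (mem_cmod_iff_quot.2 (Reg.commute_of_mem_pairCent ha hl).symm)
    exact (mem_cmod_iff_quot.1 (show σ a ∈ cmod l by
      rw [mem_cmod, ← hlf, ← map_commutatorElement]
      exact map_center_mem σ h1)).eq
  -- elements of `A` moving `x` or `y` to fixed points are fixed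
  have hAC : ∀ a ∈ A, a • x ∈ MulAction.orbit Cb x ∨ a • y ∈ MulAction.orbit Cb x → a ∈ Cb := by
    intro a ha hor
    obtain ⟨a, rfl⟩ := QuotientGroup.mk'_surjective (Subgroup.center G) a
    have hkA : a⁻¹ * σ a ∈ A' := mul_mem (inv_mem ha) (hA'inv a ha)
    have hkL : (π (a⁻¹ * σ a) : G ⧸ Subgroup.center G) ∈ L := by
      have hgen : ∀ b : G, σ b = b →
          (π a : G ⧸ Subgroup.center G) • (π b : G ⧸ Subgroup.center G) • x ∈
            MulAction.orbit Cb x →
          (π (a⁻¹ * σ a) : G ⧸ Subgroup.center G) • (π b : G ⧸ Subgroup.center G) • x =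
            (π b : G ⧸ Subgroup.center G) • x := by
        rintro b hb ⟨⟨_, c, hc, rfl⟩, he⟩
        have hc' : σ c = c := mem_fixedSub.1 hc
        have hcH : c⁻¹ * (a * b) ∈ H := by
          refine X.mem_home_of_pi hD hH ((smul_one_eq_iff (hbar H) _).1 ?_)
          rw [map_mul, map_inv, map_mul, mul_smul, mul_smul, inv_smul_eq_iff]
          exact he.symm
        have h2 : b⁻¹ * (a⁻¹ * σ a) * b ∈ H := by
          have := mul_mem (inv_mem hcH) (hH.mem.inv _ hcH)
          rw [map_mul, map_mul, map_inv, hc', hb] at this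
          rwa [show (c⁻¹ * (a * b))⁻¹ * (c⁻¹ * (σ a * b)) = b⁻¹ * (a⁻¹ * σ a) * b by group] at this
        generalize a⁻¹ * σ a = j at h2 ⊢
        have h3 := (smul_one_eq_iff (hbar H) _).2 (mem_map_of_mem (π) h2)
        rw [map_mul, map_mul, map_inv, mul_smul, mul_smul, inv_smul_eq_iff] at h3
        exact h3
      rcases hor with h | h
      · have h1 := hgen 1 (map_one σ) (by rw [map_one, one_smul]; exact h)
        rw [map_one, one_smul] at h1
        exact R.mem_pairStab_of_fix hxy hkA h1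
      · rw [hL, pairStab_comm]
        refine R.mem_pairStab_of_fix hxy.symm ?_ (hgen g hgf h)
        rw [pairCent, pairStab_comm]
        exact hkA
    have hkf : σ (a⁻¹ * σ a) = a⁻¹ * σ a := hCmem.1 (hLC' hkL)
    have hpow : ∀ n : ℕ, (σ ^ n) a = a * (a⁻¹ * σ a) ^ n := by
      intro n
      induction n with
      | zero => simp
      | succ n ih =>
        rw [pow_succ', MulAut.mul_apply, ih, map_mul, map_pow, hkf, pow_succ', ← mul_assoc,
          mul_inv_cancel_left]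
    have hk1 : a⁻¹ * σ a = 1 := by
      have h1 := hpow r
      rw [X.act.cop.pow_eq, MulAut.one_apply, left_eq_mul] at h1
      by_contra hne
      exact X.act.cop.not_dvd ((orderOf_eq_prime (hp := ⟨X.act.cop.prime⟩) h1 hne) ▸ orderOf_dvd_natCard _)
    exact hCmem.2 (inv_mul_eq_one.1 hk1).symm
  -- the two counts
  have hcC := R.card_orbit hxy hyC hLC hAC
  have hcT := R.card_orbit hxy (C := ⊤) ⟨⟨π g, mem_top _⟩, rfl⟩ (fun _ _ _ => le_top)
    fun _ _ _ => mem_top _
  rw [top_inf_eq, top_inf_eq, hHb] at hcT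
  replace hcT := (horb ⊤).symm.trans hcT
  rw [relIndex_top_right, Subgroup.index_map_eq _
    (QuotientGroup.mk'_surjective _) (by rw [QuotientGroup.ker_mk']; exact X.center_le_home hD hH),
    hnB] at hcT
  rw [hHb] at hcC
  replace hcC := (horb Cb).symm.trans hcC
  rw [hker H (fixedSub σ) (X.center_le_home hD hH) hcz] at hcC
  have hA'c : Subgroup.center G ≤ A' := fun c hc => by
    show (π c : G ⧸ Subgroup.center G) ∈ A
    rw [pi_eq_one.2 hc]
    exact one_mem _
  have hA'map : A'.map (π : G →* G ⧸ Subgroup.center G) = A :=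
    Subgroup.map_comap_eq_self_of_surjective (QuotientGroup.mk'_surjective _) _
  have hLA : L ≤ A := R.pairStab_le_pairCent hxy
  have hLH : L ≤ hbar H := hHb ▸ inf_le_left
  have hS : L.relIndex (hbar H) = (2 ^ m) ^ 2 * L.relIndex (Cb ⊓ hbar H) := by
    rw [← relIndex_mul_relIndex L (Cb ⊓ hbar H) (hbar H) (le_inf hLC' hLH) inf_le_right,
      inf_relIndex_right, hker (fixedSub σ) H hcz (X.center_le_home hD hH),
      X.relIndex_fixed_home hD hH hm hr, ← pow_mul, mul_comm m 2, mul_comm]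
  have hAr : L.relIndex A = (fixedSub σ).relIndex A' * L.relIndex (Cb ⊓ A) := by
    rw [← relIndex_mul_relIndex L (Cb ⊓ A) A (le_inf hLC' hLA) inf_le_right, inf_relIndex_right,
      ← hker (fixedSub σ) A' hcz hA'c, hA'map, mul_comm]
  have hk : 2 ^ m ≤ L.relIndex (Cb ⊓ hbar H) := by
    rw [← X.card_zsub hD hH hm hr]
    refine Nat.card_le_card_of_injective (β := ↥(Cb ⊓ hbar H) ⧸ L.subgroupOf (Cb ⊓ hbar H))
      (fun z => ((⟨π (z : G), hCmem.2 z.2.2, mem_map_of_mem _ (hH.mem.le z.2.1)⟩ :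
        ↥(Cb ⊓ hbar H)) : ↥(Cb ⊓ hbar H) ⧸ L.subgroupOf (Cb ⊓ hbar H))) fun z z' h => ?_
    have h1 : (π (z : G) : G ⧸ Subgroup.center G)⁻¹ * π (z' : G) ∈ L :=
      (QuotientGroup.eq (s := L.subgroupOf (Cb ⊓ hbar H))).1 h
    rw [← map_inv, ← map_mul] at h1
    refine Subtype.ext (inv_mul_eq_one.1 ?_)
    by_contra hne
    have h2 := R.odd_orderOf hxy h1
    rw [((X.mem_invMap_pt hD hH).2
      ⟨_, mul_mem (inv_mem z.2) z'.2, hne, rfl⟩).1] at h2
    exact Nat.not_odd_iff_even.2 even_two h2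
  have hcase : (fixedSub σ).relIndex A' = 1 ∨ (fixedSub σ).relIndex A' = B := by
    have hodd : ∀ q : ℕ, q.Prime → q ≠ p → ∀ T : Subgroup G, Inv σ T → IsSylowIn q T A' →
        T ≤ fixedSub σ := by
      intro q hq hqp T hT hTs
      haveI := Fact.mk hq
      by_cases hq2 : q = 2
      · subst hq2
        intro t ht
        refine hcz (pi_eq_one.1 ?_)
        obtain ⟨k, hk⟩ := hTs.2.1 ⟨t, ht⟩
        have h2 : orderOf (π t : G ⧸ Subgroup.center G) ∣ 2 ^ k :=
          orderOf_dvd_of_pow_eq_one (by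
            rw [← map_pow, show t ^ (2 ^ k) = 1 from congrArg Subtype.val hk, map_one])
        obtain ⟨c, hc, hc1⟩ := R.exists_ne_one hxy
        have h3 := R.odd_orderOf_of_commute (fun j hj => R.not_commute_invol hxy hc hc1 hj)
          (Reg.commute_of_mem_pairCent (hTs.1 ht : (π t : G ⧸ Subgroup.center G) ∈ A) hc)
        exact orderOf_eq_one_iff.1 (Nat.eq_one_of_dvd_coprimes
          ((Nat.coprime_two_right.2 h3).pow_right k) dvd_rfl h2)
      exact X.fixed_of_prime hq2 hqp hT hTs.2.1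
    obtain ⟨T, -, hT, hTs⟩ := X.act.cop.exists_sylow (p := p) hA'inv bot_le IsPGroup.of_bot inv_bot
    by_cases hTb : T ≤ fixedSub σ
    · left
      refine Nat.dvd_one.1 (X.relIndex_fixed_dvd hA'inv fun q hq S hS hSs => ?_)
      rw [Nat.dvd_one, relIndex_eq_one]
      by_cases hqp : q = p
      · subst hqp
        obtain ⟨c, hc, hcf, he⟩ := X.act.cop.exists_cj_fixed hA'inv hT hS hTs hSs
        intro u hu
        rw [← he] at hu
        obtain ⟨t, ht, rfl⟩ := hu
        show σ (c * t * c⁻¹) = c * t * c⁻¹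
        rw [map_mul, map_mul, map_inv, hcf, mem_fixedSub.1 (hTb ht)]
      · exact hodd q hq hqp S hS hSs
    · right
      obtain ⟨P', hTP, hP', hP's⟩ := X.act.cop.exists_sylow (p := p) inv_top le_top hTs.2.1 hT
      obtain ⟨t, ht, htf⟩ : ∃ t ∈ T, t ∉ fixedSub σ := Set.not_subset.1 hTb
      have hTA : T = P' := by
        haveI : Nontrivial P' := ⟨⟨⟨t, hTP ht⟩, 1, fun h => htf (by
          rw [show t = 1 from congrArg Subtype.val h]; exact one_mem _)⟩⟩
        haveI := hP's.2.1.center_nontrivial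
        obtain ⟨z, hz⟩ := exists_ne (1 : Subgroup.center P')
        have hzc : ((z : P') : G) ∉ Subgroup.center G := fun h => hz (Subtype.ext (Subtype.ext (by
          obtain ⟨k, hk⟩ := hP's.2.1 (z : P')
          rw [Subgroup.coe_one, Subgroup.coe_one, ← orderOf_eq_one_iff]
          exact Nat.eq_one_of_dvd_coprimes
            (Nat.Coprime.pow_right k (hp.out.coprime_iff_not_dvd.2 X.not_dvd_card_center).symm)
            (Subgroup.orderOf_dvd_natCard _ h)
            (orderOf_dvd_of_pow_eq_one (congrArg Subtype.val hk)))))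
        have htc : (π t : G ⧸ Subgroup.center G) ≠ 1 := fun h => htf (hcz (pi_eq_one.1 h))
        have hzA : (π ((z : P') : G) : G ⧸ Subgroup.center G) ∈ A := by
          refine R.mem_pairCent_of_commute hxy (hTs.1 ht) htc ?_
          show _ * _ = _ * _
          rw [← map_mul, ← map_mul]
          exact congrArg _ (congrArg Subtype.val (Subgroup.mem_center_iff.1 z.2 ⟨t, hTP ht⟩).symm)
        have hPA : P' ≤ A' := fun u hu => by
          refine R.mem_pairCent_of_commute hxy hzA (fun h => hzc (pi_eq_one.1 h)) ?_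
          show _ * _ = _ * _
          rw [← map_mul, ← map_mul]
          exact congrArg _ (congrArg Subtype.val (Subgroup.mem_center_iff.1 z.2 ⟨u, hu⟩))
        exact (hTs.eq_of_le hTP hPA hP's.2.1).symm
      apply Nat.dvd_antisymm
      · refine X.relIndex_fixed_dvd hA'inv fun q hq S hS hSs => ?_
        by_cases hqp : q = p
        · subst hqp
          exact X.relIndex_fixed_le_sylow hP hPs hS hSs.2.1
        · rw [relIndex_eq_one.2 (hodd q hq hqp S hS hSs)]
          exact one_dvd _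
      · rw [hB]
        exact (X.relIndex_fixed_le_sylow hP' hP's hP hPs.2.1).trans
          (hTA ▸ X.relIndex_dvd_relIndex hD hA'inv hT hTs)
  have haC : 0 < L.relIndex (Cb ⊓ A) := Nat.pos_of_ne_zero index_ne_zero_of_finite
  refine count_false (q := 2 ^ m) (k := L.relIndex (Cb ⊓ hbar H)) (B := B)
    (nC := H.relIndex (fixedSub σ)) (a := L.relIndex A) (aC := L.relIndex (Cb ⊓ A)) hq hk
    (hr ▸ hBmod) hB1 (by rw [hcT, hS]) hcC ?_ haC
  rcases hcase with h | h <;> rw [hAr, h]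
  · exact Or.inl (one_mul _)
  · exact Or.inr rfl

omit hD hH in
/-- A minimal configuration does not exist. -/
theorem elim : False := by
  obtain ⟨D, hD⟩ := X.exists_stdD
  obtain ⟨H, hH, hmax⟩ := X.exists_home hD
  exact X.false_of_home hD ⟨hH, hmax⟩

end Cx

end CfsgLib.HHShult
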