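import Cfsg.Agent.ConjFunctor.Basic

/-!
# An automorphism of prime order prime to the order of the group

`Cop σ r`: `σ ^ r = 1`, `r` prime, `r ∤ |G|`.

* `fixedSub σ`, `Inv σ H`, `moved σ H = ⟨x⁻¹ σ(x) : x ∈ H⟩`;
* `Cop.exists_mem_fixed_coset`: an invariant coset of an invariant subgroup has a fixed element;
* `Cop.decomp`, `Cop.moved_moved`: `H = [H,σ] C_H(σ)` and `[H,σ,σ] = [H,σ]`;
* `Cop.exists_sylow`, `Cop.exists_cj_fixed`: invariant Sylow subgroups and their conjugacy;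
* `Cop.moved_inf_fixed_eq_bot`: `[A,σ] ∩ C(σ) = 1` for abelian `A`.
-/

set_option autoImplicit false
set_option linter.style.haveILetI false
set_option linter.unusedSectionVars false

namespace CfsgLib.HHShult

open Subgroup CfsgLib.ConjFunctor
open scoped CfsgLib.ConjFunctor

variable {G : Type*} [Group G]

/-- The fixed points of `σ`. -/
def fixedSub (σ : MulAut G) : Subgroup G where
  carrier := {x | σ x = x}
  one_mem' := map_one σ
  mul_mem' := fun {a b} ha hb => by
    show σ (a * b) = a * b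
    rw [map_mul, show σ a = a from ha, show σ b = b from hb]
  inv_mem' := fun {a} ha => by
    show σ a⁻¹ = a⁻¹
    rw [map_inv, show σ a = a from ha]

@[simp] theorem mem_fixedSub {σ : MulAut G} {x : G} : x ∈ fixedSub σ ↔ σ x = x := Iff.rfl

/-- `H` is invariant under `σ`. -/
def Inv (σ : MulAut G) (H : Subgroup G) : Prop := ∀ x ∈ H, σ x ∈ H

/-- `[H, σ]`. -/
def moved (σ : MulAut G) (H : Subgroup G) : Subgroup G :=
  closure {y | ∃ x ∈ H, y = x⁻¹ * σ x}

theorem mem_moved (σ : MulAut G) {H : Subgroup G} {x : G} (hx : x ∈ H) : x⁻¹ * σ x ∈ moved σ H :=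
  subset_closure ⟨x, hx, rfl⟩

section general

variable {σ : MulAut G} {H K : Subgroup G}

theorem inv_top : Inv σ (⊤ : Subgroup G) := fun _ _ => mem_top _

theorem inv_bot : Inv σ (⊥ : Subgroup G) := fun x hx => by
  rw [mem_bot] at hx ⊢
  rw [hx, map_one]

theorem inv_fixedSub : Inv σ (fixedSub σ) := fun x hx => by
  rw [mem_fixedSub] at hx ⊢
  rw [hx, hx]

theorem Inv.inf (hH : Inv σ H) (hK : Inv σ K) : Inv σ (H ⊓ K) :=
  fun x hx => ⟨hH x hx.1, hK x hx.2⟩

theorem inv_closure {S : Set G} (h : ∀ x ∈ S, σ x ∈ closure S) : Inv σ (closure S) := by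
  intro x hx
  induction hx using closure_induction with
  | mem x hx => exact h x hx
  | one => rw [map_one]; exact one_mem _
  | mul x y _ _ hx hy => rw [map_mul]; exact mul_mem hx hy
  | inv x _ hx => rw [map_inv]; exact inv_mem hx

theorem Inv.sup (hH : Inv σ H) (hK : Inv σ K) : Inv σ (H ⊔ K) := by
  rw [sup_eq_closure]
  refine inv_closure fun x hx => subset_closure ?_
  rcases hx with hx | hx
  · exact Or.inl (hH x hx)
  · exact Or.inr (hK x hx)

theorem inv_iSup {ι : Sort*} {F : ι → Subgroup G} (h : ∀ i, Inv σ (F i)) : Inv σ (⨆ i, F i) := by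
  rw [iSup_eq_closure]
  refine inv_closure fun x hx => subset_closure ?_
  obtain ⟨i, hi⟩ := Set.mem_iUnion.1 hx
  exact Set.mem_iUnion.2 ⟨i, h i x hi⟩

theorem Inv.moved (hH : Inv σ H) : Inv σ (HHShult.moved σ H) := by
  refine inv_closure ?_
  rintro _ ⟨x, hx, rfl⟩
  exact subset_closure ⟨σ x, hH x hx, by rw [map_mul, map_inv]⟩

theorem moved_le (hH : Inv σ H) : HHShult.moved σ H ≤ H :=
  (closure_le _).2 fun _ ⟨x, hx, e⟩ => e ▸ mul_mem (inv_mem hx) (hH x hx)

theorem moved_mono (h : H ≤ K) : HHShult.moved σ H ≤ HHShult.moved σ K :=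
  Subgroup.closure_mono fun _ ⟨x, hx, e⟩ => ⟨x, h hx, e⟩

theorem moved_eq_bot_iff : HHShult.moved σ H = ⊥ ↔ H ≤ fixedSub σ := by
  rw [eq_bot_iff, HHShult.moved, closure_le]
  constructor
  · intro h x hx
    rw [mem_fixedSub]
    exact (inv_mul_eq_one.1 (mem_bot.1 (h ⟨x, hx, rfl⟩))).symm
  · rintro h _ ⟨x, hx, rfl⟩
    rw [SetLike.mem_coe, mem_bot, inv_mul_eq_one]
    exact (mem_fixedSub.1 (h hx)).symm

/-- `H` normalises `[H, σ]`. -/
theorem le_normalizer_moved [Finite G] :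
    H ≤ normalizer (HHShult.moved σ H : Set G) := by
  intro g hg
  refine mem_normalizer_of_cj_le ?_
  rw [HHShult.moved, MonoidHom.map_closure, closure_le]
  rintro _ ⟨_, ⟨x, hx, rfl⟩, rfl⟩
  have e : g * (x⁻¹ * σ x) * g⁻¹ = (x * g⁻¹)⁻¹ * σ (x * g⁻¹) * ((g⁻¹)⁻¹ * σ g⁻¹)⁻¹ := by
    rw [map_mul]; group
  show g * (x⁻¹ * σ x) * g⁻¹ ∈ Subgroup.closure _
  rw [e]
  exact mul_mem (subset_closure ⟨_, mul_mem hx (inv_mem hg), rfl⟩)
    (inv_mem (subset_closure ⟨_, inv_mem hg, rfl⟩))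

theorem conj_moved_mem [Finite G] {g y : G} (hg : g ∈ H) (hy : y ∈ HHShult.moved σ H) :
    g * y * g⁻¹ ∈ HHShult.moved σ H :=
  (mem_normalizer_iff.1 (le_normalizer_moved hg) y).1 hy

/-- A fixed element normalising `H` normalises `[H, σ]`. -/
theorem mem_normalizer_moved [Finite G] {c : G} (hc : σ c = c) (hn : c ∈ normalizer (H : Set G)) :
    c ∈ normalizer (HHShult.moved σ H : Set G) := by
  refine mem_normalizer_of_cj_le ?_
  rw [HHShult.moved, MonoidHom.map_closure, closure_le]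
  rintro _ ⟨_, ⟨x, hx, rfl⟩, rfl⟩
  refine subset_closure ⟨c * x * c⁻¹, (mem_normalizer_iff.1 hn x).1 hx, ?_⟩
  show c * (x⁻¹ * σ x) * c⁻¹ = _
  rw [map_mul, map_mul, map_inv, hc]
  group

variable [Finite G]

theorem Inv.map_eq (hH : Inv σ H) : H.map σ.toMonoidHom = H :=
  eq_of_le_of_card_ge (by rintro _ ⟨x, hx, rfl⟩; exact hH x hx)
    (card_map_of_injective (f := σ.toMonoidHom) σ.injective).ge

theorem Inv.mem_iff (hH : Inv σ H) {x : G} : σ x ∈ H ↔ x ∈ H := by
  refine ⟨fun h => ?_, hH x⟩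
  rw [← hH.map_eq] at h
  obtain ⟨y, hy, he⟩ := h
  rwa [σ.injective he] at hy

omit [Finite G] in
theorem Inv.pow_mem (hH : Inv σ H) {x : G} (hx : x ∈ H) : ∀ n : ℕ, (σ ^ n) x ∈ H
  | 0 => hx
  | n + 1 => by rw [pow_succ', MulAut.mul_apply]; exact hH _ (Inv.pow_mem hH hx n)

theorem Inv.normalizer (hH : Inv σ H) : Inv σ (Subgroup.normalizer (H : Set G)) := by
  intro g hg
  refine mem_normalizer_of_forall_conj_mem fun x hx => ?_
  rw [← hH.map_eq] at hx
  obtain ⟨y, hy, rfl⟩ := hx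
  show σ g * σ y * (σ g)⁻¹ ∈ H
  rw [← map_inv, ← map_mul, ← map_mul]
  exact hH _ ((mem_normalizer_iff.1 hg y).1 hy)

theorem Inv.centralizer (hH : Inv σ H) : Inv σ (Subgroup.centralizer (H : Set G)) := by
  intro g hg
  rw [mem_centralizer_iff] at hg ⊢
  intro x hx
  rw [SetLike.mem_coe, ← hH.map_eq] at hx
  obtain ⟨y, hy, rfl⟩ := hx
  show σ y * σ g = σ g * σ y
  rw [← map_mul, ← map_mul, hg y hy]

omit [Finite G] in
theorem inv_centralizer_singleton {z : G} (hz : σ z = z) :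
    Inv σ (Subgroup.centralizer ({z} : Set G)) := by
  intro g hg
  rw [mem_centralizer_singleton_iff] at hg ⊢
  rw [← hz, ← map_mul, ← map_mul, hg]

omit [Finite G] in
theorem Inv.cj (hH : Inv σ H) {c : G} (hc : σ c = c) : Inv σ (c *• H) := by
  rintro _ ⟨x, hx, rfl⟩
  refine ⟨σ x, hH x hx, ?_⟩
  show c * σ x * c⁻¹ = σ (c * x * c⁻¹)
  rw [map_mul, map_mul, map_inv, hc]

omit [Finite G] in
theorem moved_cj {c : G} (hc : σ c = c) : HHShult.moved σ (c *• H) = c *• HHShult.moved σ H := by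
  rw [HHShult.moved, HHShult.moved, MonoidHom.map_closure]
  congr 1
  ext y
  constructor
  · rintro ⟨_, ⟨x, hx, rfl⟩, rfl⟩
    refine ⟨_, ⟨x, hx, rfl⟩, ?_⟩
    show c * (x⁻¹ * σ x) * c⁻¹ = (c * x * c⁻¹)⁻¹ * σ (c * x * c⁻¹)
    rw [map_mul, map_mul, map_inv, hc]
    group
  · rintro ⟨_, ⟨x, hx, rfl⟩, rfl⟩
    refine ⟨_, ⟨x, hx, rfl⟩, ?_⟩
    show c * (x⁻¹ * σ x) * c⁻¹ = (c * x * c⁻¹)⁻¹ * σ (c * x * c⁻¹)
    rw [map_mul, map_mul, map_inv, hc]
    group

end general

/-- `σ ^ r = 1` with `r` a prime not dividing `|G|`. -/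
structure Cop (σ : MulAut G) (r : ℕ) : Prop where
  prime : r.Prime
  pow_eq : σ ^ r = 1
  not_dvd : ¬ r ∣ Nat.card G

/-- A permutation of order dividing the prime `r` of a set of order prime to `r` fixes a point. -/
theorem exists_fixed_of_not_dvd {α : Type*} [Finite α] {r : ℕ} (hr : r.Prime) (f : Equiv.Perm α)
    (hf : f ^ r = 1) (hα : ¬ r ∣ Nat.card α) : ∃ x, f x = x := by
  haveI := Fact.mk hr
  have hP : IsPGroup r (zpowers f) := by
    intro g
    refine ⟨1, ?_⟩
    obtain ⟨g, k, rfl⟩ := g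
    apply Subtype.ext
    show (f ^ k) ^ (r ^ 1) = 1
    rw [pow_one, ← zpow_natCast, ← zpow_mul, mul_comm, zpow_mul, zpow_natCast, hf, one_zpow]
  obtain ⟨x, hx⟩ := hP.nonempty_fixed_point_of_prime_not_dvd_card α hα
  exact ⟨x, hx ⟨f, mem_zpowers f⟩⟩

namespace Cop

variable [Finite G] {σ : MulAut G} {r : ℕ} (h : Cop σ r) {H K : Subgroup G}
include h

/-- An invariant coset of an invariant subgroup has a fixed element. -/
theorem exists_mem_fixed_coset (hK : Inv σ K) {g : G} (hg : g⁻¹ * σ g ∈ K) :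
    ∃ k ∈ K, σ (g * k) = g * k := by
  let φ : K → K := fun k => ⟨g⁻¹ * σ (g * k), by
    rw [map_mul, ← mul_assoc]; exact mul_mem hg (hK _ k.2)⟩
  have hinj : Function.Injective φ := fun a b hab => by
    have h1 : g⁻¹ * σ (g * a) = g⁻¹ * σ (g * b) := congrArg Subtype.val hab
    exact Subtype.ext (mul_left_cancel (σ.injective (mul_left_cancel h1)))
  let f : Equiv.Perm K := Equiv.ofBijective φ (Finite.injective_iff_bijective.1 hinj)
  have hpow : ∀ (n : ℕ) (k : K), g * ((f ^ n) k : G) = (σ ^ n) (g * k) := by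
    intro n
    induction n with
    | zero => intro k; simp
    | succ n ih =>
      intro k
      rw [pow_succ', Equiv.Perm.mul_apply, pow_succ', MulAut.mul_apply, ← ih]
      show g * (g⁻¹ * σ (g * ((f ^ n) k : G))) = _
      rw [mul_inv_cancel_left]
  have hfr : f ^ r = 1 := by
    ext k
    have := hpow r k
    rw [h.pow_eq, MulAut.one_apply] at this
    exact mul_left_cancel this
  obtain ⟨k, hk⟩ := exists_fixed_of_not_dvd h.prime f hfr fun hd =>
    h.not_dvd (hd.trans (card_subgroup_dvd_card K))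
  refine ⟨k, k.2, ?_⟩
  have := hpow 1 k
  rw [pow_one, pow_one, hk] at this
  exact this.symm

/-- `H = [H, σ] C_H(σ)`. -/
theorem decomp (hH : Inv σ H) {g : G} (hg : g ∈ H) :
    ∃ m ∈ moved σ H, ∃ c ∈ H, σ c = c ∧ g = m * c := by
  obtain ⟨k, hk, hfix⟩ := h.exists_mem_fixed_coset hH.moved (mem_moved σ hg)
  refine ⟨g * k⁻¹ * g⁻¹, conj_moved_mem hg (inv_mem hk), g * k,
    mul_mem hg (moved_le hH hk), hfix, ?_⟩
  group

theorem le_moved_sup (hH : Inv σ H) : H ≤ moved σ H ⊔ (H ⊓ fixedSub σ) := by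
  intro g hg
  obtain ⟨m, hm, c, hc, hcf, rfl⟩ := h.decomp hH hg
  exact mul_mem (mem_sup_left hm) (mem_sup_right ⟨hc, hcf⟩)

/-- `[H, σ, σ] = [H, σ]`. -/
theorem moved_moved (hH : Inv σ H) : moved σ (moved σ H) = moved σ H := by
  refine le_antisymm (moved_le hH.moved) ((closure_le _).2 ?_)
  rintro _ ⟨x, hx, rfl⟩
  obtain ⟨m, hm, c, hc, hcf, rfl⟩ := h.decomp hH hx
  have hcn : c⁻¹ ∈ normalizer (moved σ H : Set G) := le_normalizer_moved (inv_mem hc)
  have e : (m * c)⁻¹ * σ (m * c) = c⁻¹ * (m⁻¹ * σ m) * (c⁻¹)⁻¹ := by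
    rw [map_mul, hcf]; group
  rw [SetLike.mem_coe, e]
  exact (mem_normalizer_iff.1 (mem_normalizer_moved (by rw [map_inv, hcf]) hcn) _).1
    (mem_moved σ hm)

/-- An invariant subgroup containing the fixed points and `[H,σ]` contains `H`. -/
theorem le_of_moved_le (hH : Inv σ H) (hm : moved σ H ≤ K) (hf : H ⊓ fixedSub σ ≤ K) : H ≤ K :=
  (h.le_moved_sup hH).trans (sup_le hm hf)

/-- In an abelian group `[A, σ]` has no non-trivial fixed points. -/
theorem moved_inf_fixed_eq_bot (hH : Inv σ H) (hcomm : ∀ a ∈ H, ∀ b ∈ H, a * b = b * a) :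
    moved σ H ⊓ fixedSub σ = ⊥ := by
  classical
  letI : CommGroup H := { H.toGroup with mul_comm := fun a b => Subtype.ext (hcomm a a.2 b b.2) }
  let τ : H →* H :=
    { toFun := fun a => ⟨σ a, hH a a.2⟩
      map_one' := Subtype.ext (map_one σ)
      map_mul' := fun a b => Subtype.ext (map_mul σ _ _) }
  have hit : ∀ (n : ℕ) (a : H), ((τ^[n] a : H) : G) = (σ ^ n) (a : G) := by
    intro n
    induction n with
    | zero => intro a; rfl
    | succ n ih =>
      intro a
      rw [Function.iterate_succ_apply', pow_succ', MulAut.mul_apply, ← ih]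
      rfl
  have hr : ∀ a : H, τ^[r] a = a := fun a =>
    Subtype.ext (by rw [hit, h.pow_eq, MulAut.one_apply])
  let N : H →* H :=
    { toFun := fun a => ∏ i ∈ Finset.range r, τ^[i] a
      map_one' := Finset.prod_eq_one fun i _ => iterate_map_one τ i
      map_mul' := fun a b => by
        rw [← Finset.prod_mul_distrib]
        exact Finset.prod_congr rfl fun i _ => iterate_map_mul τ i a b }
  have hNτ : ∀ a : H, N (τ a) = N a := by
    intro a
    show ∏ i ∈ Finset.range r, τ^[i] (τ a) = ∏ i ∈ Finset.range r, τ^[i] a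
    have h1 := Finset.prod_range_succ' (fun i => τ^[i] a) r
    rw [Finset.prod_range_succ, hr] at h1
    simp only [Function.iterate_zero, id_eq] at h1
    exact (mul_right_cancel h1).symm
  rw [eq_bot_iff]
  rintro x ⟨hx, hxf⟩
  have hxH : x ∈ H := moved_le hH hx
  have hker : (⟨x, hxH⟩ : H) ∈ N.ker := by
    have hle : moved σ H ≤ N.ker.map H.subtype := by
      rw [moved, closure_le]
      rintro _ ⟨y, hy, rfl⟩
      refine ⟨(⟨y, hy⟩ : H)⁻¹ * τ ⟨y, hy⟩, ?_, rfl⟩
      rw [SetLike.mem_coe, MonoidHom.mem_ker, map_mul, map_inv, hNτ, inv_mul_cancel]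
    obtain ⟨y, hy, he⟩ := hle hx
    have : y = ⟨x, hxH⟩ := Subtype.ext he
    rwa [← this]
  have hpow : (⟨x, hxH⟩ : H) ^ r = 1 := by
    rw [← MonoidHom.mem_ker.1 hker]
    show _ = ∏ i ∈ Finset.range r, τ^[i] _
    rw [Finset.prod_congr rfl (fun i _ => ?_), Finset.prod_const, Finset.card_range]
    apply Subtype.ext
    rw [hit]
    induction i with
    | zero => rfl
    | succ i ih => rw [pow_succ', MulAut.mul_apply, ih (Finset.mem_range.2 (by
        have := Finset.mem_range.1 ‹_›; omega))]; exact hxf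
  rw [mem_bot, ← orderOf_eq_one_iff]
  have hd : orderOf x ∣ r := orderOf_dvd_of_pow_eq_one (congrArg Subtype.val hpow)
  rcases (Nat.dvd_prime h.prime).1 hd with h1 | h1
  · exact h1
  · exact absurd (h1 ▸ orderOf_dvd_natCard x) h.not_dvd

theorem restrict_sylow_perm {p : ℕ} [Fact p.Prime] (hH : Inv σ H) {T : Subgroup G}
    (hT : IsSylowIn p T H) : IsSylowIn p (T.map σ.toMonoidHom) H := by
  refine ⟨?_, hT.2.1.map _, ?_⟩
  · conv_rhs => rw [← hH.map_eq]
    exact map_mono hT.1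
  · conv => rw [← hH.map_eq, relIndex_map_map_of_injective _ _ σ.injective]
    exact hT.2.2

/-- `H` has invariant Sylow subgroups containing a given invariant `p`-subgroup. -/
theorem exists_sylow {p : ℕ} [Fact p.Prime] (hH : Inv σ H) {A : Subgroup G} (hA : A ≤ H)
    (hAp : IsPGroup p A) (hAi : Inv σ A) : ∃ T, A ≤ T ∧ Inv σ T ∧ IsSylowIn p T H := by
  classical
  obtain ⟨T, hAT, ⟨hTH, hTp, hTi⟩, hmax⟩ := (Set.toFinite
    {T : Subgroup G | T ≤ H ∧ IsPGroup p T ∧ Inv σ T}).exists_le_maximal ⟨hA, hAp, hAi⟩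
  refine ⟨T, hAT, hTi, ?_⟩
  -- an invariant Sylow subgroup of `N_H(T)`
  set M := H ⊓ normalizer (T : Set G) with hM
  have hMi : Inv σ M := hH.inf hTi.normalizer
  let α := {U : Subgroup G // IsSylowIn p U M}
  have hTM : T ≤ M := le_inf hTH le_normalizer
  obtain ⟨U₀, -, hU₀⟩ := exists_isSylowIn_ge hTM hTp
  let f : α → α := fun U => ⟨U.1.map σ.toMonoidHom, h.restrict_sylow_perm hMi U.2⟩
  have hinj : Function.Injective f := fun U V hUV => Subtype.ext
    (map_injective (f := σ.toMonoidHom) σ.injective (congrArg Subtype.val hUV))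
  let F : Equiv.Perm α := Equiv.ofBijective f (Finite.injective_iff_bijective.1 hinj)
  have hFn : ∀ (n : ℕ) (U : α), ((F ^ n) U).1 = U.1.map (σ ^ n).toMonoidHom := by
    intro n
    induction n with
    | zero => intro U; ext x; simp
    | succ n ih =>
      intro U
      rw [pow_succ', Equiv.Perm.mul_apply]
      show ((F ^ n) U).1.map σ.toMonoidHom = _
      rw [ih, map_map, pow_succ']
      rfl
  have hFr : F ^ r = 1 := by
    ext U x
    rw [hFn, h.pow_eq]
    simp
  have hcard : ¬ r ∣ Nat.card α := by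
    letI : MulAction M α :=
      { smul := fun m U => ⟨(m : G) *• U.1, by
          have := U.2.cj (m : G)
          rwa [cj_eq_of_mem_normalizer (le_normalizer m.2)] at this⟩
        one_smul := fun U => Subtype.ext (cj_one U.1)
        mul_smul := fun a b U => Subtype.ext (cj_cj (a : G) b U.1).symm }
    haveI : MulAction.IsPretransitive M α := ⟨fun U V => by
      obtain ⟨a, ha, he⟩ := V.2.exists_cj_eq U.2
      exact ⟨⟨a, ha⟩, Subtype.ext he⟩⟩
    rw [← MulAction.index_stabilizer_of_transitive M (⟨U₀, hU₀⟩ : α)]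
    exact fun hd => h.not_dvd (hd.trans ((index_dvd_card _).trans (card_subgroup_dvd_card M)))
  obtain ⟨U, hU⟩ := exists_fixed_of_not_dvd h.prime F hFr hcard
  have hUi : Inv σ U.1 := fun x hx => by
    have : U.1.map σ.toMonoidHom = U.1 := congrArg Subtype.val hU
    rw [← this]
    exact ⟨x, hx, rfl⟩
  have hTU : T ≤ U.1 := by
    obtain ⟨a, ha, hle⟩ := U.2.exists_cj_le hTM hTp
    rwa [cj_eq_of_mem_normalizer ha.2] at hle
  have hUT : U.1 = T := le_antisymm (hmax ⟨U.2.1.trans inf_le_left, U.2.2.1, hUi⟩ hTU) hTU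
  -- `T` is a Sylow subgroup of `H`
  obtain ⟨V, hTV, hV⟩ := exists_isSylowIn_ge hTH hTp
  rcases eq_or_lt_of_le hTV with rfl | hlt
  · exact hV
  · exfalso
    haveI : Finite V := inferInstance
    have hnil : Group.IsNilpotent V := hV.2.1.isNilpotent
    have hne : T.subgroupOf V < ⊤ := by
      rw [lt_top_iff_ne_top, Ne, subgroupOf_eq_top]
      exact hlt.not_ge
    have hgrow := normalizerCondition_of_isNilpotent (T.subgroupOf V) hne
    obtain ⟨x, hxN, hxT⟩ := SetLike.exists_of_lt hgrow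
    have hxG : (x : G) ∈ normalizer (T : Set G) := by
      refine mem_normalizer_of_forall_conj_mem fun y hy => ?_
      exact ((mem_normalizer_iff.1 hxN ⟨y, hTV hy⟩).1 hy)
    obtain ⟨a, ha, hle⟩ := U.2.exists_cj_le (A := V ⊓ normalizer (T : Set G))
      (inf_le_inf_right _ hV.1) hV.2.1.to_inf_left
    have hcard2 := Nat.le_of_dvd Nat.card_pos (card_dvd_of_le hle)
    rw [card_cj, hUT] at hcard2
    have heq := eq_of_le_of_card_ge (le_inf hTV le_normalizer) hcard2
    exact hxT (show (x : G) ∈ T from heq.symm ▸ (⟨x.2, hxG⟩ : (x : G) ∈ V ⊓ normalizer (T : Set G)))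

/-- Invariant subgroups conjugate in `H` are conjugate by a fixed element of `H`. -/
theorem exists_cj_fixed_of_cj (hH : Inv σ H) {T U : Subgroup G} (hT : Inv σ T) (hU : Inv σ U)
    {a : G} (ha : a ∈ H) (he : a *• T = U) : ∃ c ∈ H, σ c = c ∧ c *• T = U := by
  have hg : a⁻¹ * σ a ∈ H ⊓ normalizer (T : Set G) := by
    refine mem_inf.2 ⟨mul_mem (inv_mem ha) (hH a ha), mem_normalizer_iff_cj.2 ?_⟩
    have h1 : σ a *• T = U := by
      rw [← hU.map_eq, ← he]
      conv_lhs => rw [← hT.map_eq]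
      rw [map_map, map_map]
      congr 1
      ext x
      show σ a * σ x * (σ a)⁻¹ = σ (a * x * a⁻¹)
      rw [map_mul, map_mul, map_inv]
    rw [← cj_cj, h1, ← he, cj_inv_cj]
  obtain ⟨k, hk, hfix⟩ := h.exists_mem_fixed_coset (hH.inf hT.normalizer) hg
  exact ⟨a * k, mul_mem ha hk.1, hfix, by rw [← cj_cj, cj_eq_of_mem_normalizer hk.2, he]⟩

/-- Invariant Sylow subgroups are conjugate by fixed elements. -/
theorem exists_cj_fixed {p : ℕ} [Fact p.Prime] (hH : Inv σ H) {T U : Subgroup G} (hT : Inv σ T)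
    (hU : Inv σ U) (hTs : IsSylowIn p T H) (hUs : IsSylowIn p U H) :
    ∃ c ∈ H, σ c = c ∧ c *• T = U := by
  obtain ⟨a, ha, he⟩ := hUs.exists_cj_eq hTs
  exact h.exists_cj_fixed_of_cj hH hT hU ha he

/-- An invariant `p`-subgroup goes into an invariant Sylow subgroup by a fixed element. -/
theorem exists_cj_fixed_le {p : ℕ} [Fact p.Prime] (hH : Inv σ H) {A T : Subgroup G} (hA : A ≤ H)
    (hAp : IsPGroup p A) (hAi : Inv σ A) (hT : Inv σ T) (hTs : IsSylowIn p T H) :
    ∃ c ∈ H, σ c = c ∧ c *• A ≤ T := by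
  obtain ⟨U, hAU, hUi, hUs⟩ := h.exists_sylow hH hA hAp hAi
  obtain ⟨c, hc, hcf, he⟩ := h.exists_cj_fixed hH hUi hT hUs hTs
  exact ⟨c, hc, hcf, he ▸ cj_mono c hAU⟩

end Cop

end CfsgLib.HHShult
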