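import Cfsg.Agent.HHShult.Line

/-!
# A quadratic map into an elementary abelian group with a fixed-point-free automorphism

`Quad sq ρ r m`: `sq : A → Z` is quadratic with biadditive `bz`, invariant under `ρ`.
`Good χ`: the form `χ ∘ sq` induces a `Line` on `A / rad χ` and vanishes on `rad χ`.
`Sep sq`: the good characters separate the points of `Z`.

* `Good.line`, `Good.le_rad_or`, `card_irred`, `card_range_forms`;
* `exists_kernel_nonsingular`: the common lemma for finding elements commuting with a given one;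
* `symSpan`: the self-adjoint endomorphisms `ρ ^ i + ρ ^ (-i)`.
-/

set_option autoImplicit false
set_option linter.style.haveILetI false
set_option linter.unusedSectionVars false

open Finset

namespace CfsgLib.HHShult

variable {A Z : Type*} [AddCommGroup A] [AddCommGroup Z]

/-- The polar map. -/
def bz (sq : A → Z) (x y : A) : Z := sq (x + y) - sq x - sq y

/-- A quadratic map with a fixed-point-free automorphism of order `2 ^ m + 1`. -/
structure Quad (sq : A → Z) (ρ : AddMonoid.End A) (r m : ℕ) : Prop where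
  prime : r.Prime
  eq_two_pow : r = 2 ^ m + 1
  pos : 0 < m
  pow_eq : ρ ^ r = 1
  fpf : ∀ a, ρ a = a → a = 0
  twoA : ∀ a : A, a + a = 0
  twoZ : ∀ z : Z, z + z = 0
  sq_zero : sq 0 = 0
  add_left : ∀ x y z, bz sq (x + y) z = bz sq x z + bz sq y z
  sq_map : ∀ a, sq (ρ a) = sq a

namespace Quad

variable {sq : A → Z} {ρ : AddMonoid.End A} {r m : ℕ}

theorem negA (h : Quad sq ρ r m) (a : A) : -a = a := neg_eq_of_add_eq_zero_left (h.twoA a)

theorem negZ (h : Quad sq ρ r m) (z : Z) : -z = z := neg_eq_of_add_eq_zero_left (h.twoZ z)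

theorem bz_comm (x y : A) : bz sq x y = bz sq y x := by
  simp only [bz, add_comm x y]; abel

theorem sq_add (x y : A) : sq (x + y) = sq x + sq y + bz sq x y := by
  simp only [bz]; abel

theorem bz_self (h : Quad sq ρ r m) (x : A) : bz sq x x = 0 := by
  simp only [bz, h.twoA, h.sq_zero, zero_sub, h.negZ]
  rw [sub_eq_add_neg, h.negZ, h.twoZ]

theorem bz_zero (h : Quad sq ρ r m) (y : A) : bz sq 0 y = 0 := by
  simp [bz, h.sq_zero]

theorem add_right (h : Quad sq ρ r m) (x y z : A) : bz sq x (y + z) = bz sq x y + bz sq x z := by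
  rw [bz_comm, h.add_left, bz_comm y, bz_comm z]

theorem sq_pow (h : Quad sq ρ r m) (i : ℕ) (a : A) : sq ((ρ ^ i) a) = sq a := by
  induction i with
  | zero => simp
  | succ i ih => rw [pow_succ', AddMonoid.End.coe_mul, Function.comp_apply, h.sq_map, ih]

theorem bz_pow (h : Quad sq ρ r m) (i : ℕ) (x y : A) :
    bz sq ((ρ ^ i) x) ((ρ ^ i) y) = bz sq x y := by
  simp only [bz, ← map_add, h.sq_pow]

/-- An invariant subgroup. -/
def InvSub (ρ : AddMonoid.End A) (N : AddSubgroup A) : Prop := ∀ x ∈ N, ρ x ∈ N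

theorem invSub_pow {N : AddSubgroup A} (hN : InvSub ρ N) {x : A} (hx : x ∈ N) :
    ∀ i : ℕ, (ρ ^ i) x ∈ N
  | 0 => hx
  | i + 1 => by
    rw [pow_succ', AddMonoid.End.coe_mul, Function.comp_apply]; exact hN _ (invSub_pow hN hx i)

/-- The form of a functional. -/
def form (sq : A → Z) (χ : Z →+ ZMod 2) (a : A) : ZMod 2 := χ (sq a)

theorem bil_form (χ : Z →+ ZMod 2) (x y : A) : bil (form sq χ) x y = χ (bz sq x y) := by
  simp only [bil, form, bz, sub_eq_add_neg, map_add, map_neg, ZMod.neg_eq_self_mod_two]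

/-- The radical of the form of `χ`. -/
def rad (h : Quad sq ρ r m) (χ : Z →+ ZMod 2) : AddSubgroup A where
  carrier := {x | ∀ y, χ (bz sq x y) = 0}
  zero_mem' := fun y => by rw [h.bz_zero, map_zero]
  add_mem' := fun ha hb y => by rw [h.add_left, map_add, ha y, hb y, add_zero]
  neg_mem' := fun ha => by rw [h.negA]; exact ha

theorem mem_rad (h : Quad sq ρ r m) {χ : Z →+ ZMod 2} {x : A} :
    x ∈ h.rad χ ↔ ∀ y, χ (bz sq x y) = 0 := Iff.rfl

theorem invSub_rad (h : Quad sq ρ r m) (χ : Z →+ ZMod 2) : InvSub ρ (h.rad χ) := by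
  intro x hx y
  have h1 : (ρ ^ r) y = y := by rw [h.pow_eq]; rfl
  rw [← h1, ← Nat.sub_add_cancel h.prime.pos, pow_succ', AddMonoid.End.coe_mul,
    Function.comp_apply]
  have h2 := h.bz_pow 1 x ((ρ ^ (r - 1)) y)
  rw [pow_one] at h2
  rw [h2]
  exact hx _

/-- The form of `χ` gives a line on the quotient by its radical. -/
structure Good (h : Quad sq ρ r m) (χ : Z →+ ZMod 2) : Prop where
  singular : ∀ x ∈ h.rad χ, χ (sq x) = 0
  card : Nat.card (A ⧸ h.rad χ) = 2 ^ (2 * m)

/-- The good functionals separate `Z`. -/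
def Sep (h : Quad sq ρ r m) : Prop := ∀ z : Z, (∀ χ, h.Good χ → χ z = 0) → z = 0

/-- The automorphism of the quotient by the radical. -/
def radEnd (h : Quad sq ρ r m) (χ : Z →+ ZMod 2) : AddMonoid.End (A ⧸ h.rad χ) :=
  QuotientAddGroup.map (h.rad χ) (h.rad χ) ρ fun x hx => h.invSub_rad χ x hx

theorem radEnd_mk (h : Quad sq ρ r m) (χ : Z →+ ZMod 2) (x : A) :
    h.radEnd χ (x : A ⧸ h.rad χ) = ((ρ x : A) : A ⧸ h.rad χ) := rfl

theorem radEnd_pow_mk (h : Quad sq ρ r m) (χ : Z →+ ZMod 2) : ∀ (i : ℕ) (x : A),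
    (h.radEnd χ ^ i) (x : A ⧸ h.rad χ) = (((ρ ^ i) x : A) : A ⧸ h.rad χ)
  | 0, _ => rfl
  | i + 1, x => by
    rw [pow_succ', pow_succ', AddMonoid.End.coe_mul, AddMonoid.End.coe_mul, Function.comp_apply,
      Function.comp_apply, radEnd_pow_mk h χ i x, h.radEnd_mk]

/-- The induced form on the quotient by the radical. -/
noncomputable def radForm (h : Quad sq ρ r m) (χ : Z →+ ZMod 2) (x : A ⧸ h.rad χ) : ZMod 2 :=
  χ (sq x.out)

theorem radForm_mk {h : Quad sq ρ r m} {χ : Z →+ ZMod 2} (hg : h.Good χ) (x : A) :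
    h.radForm χ (x : A ⧸ h.rad χ) = χ (sq x) := by
  have hmem : -((x : A ⧸ h.rad χ).out) + x ∈ h.rad χ :=
    QuotientAddGroup.eq.1 (QuotientAddGroup.out_eq' _)
  set o := (x : A ⧸ h.rad χ).out with ho
  have hx : x = o + (-o + x) := by abel
  show χ (sq o) = χ (sq x)
  conv_rhs => rw [hx, sq_add (sq := sq), map_add, map_add, hg.singular _ hmem, bz_comm, hmem o]
  rw [add_zero, add_zero]

variable [Finite A]

theorem Good.line {h : Quad sq ρ r m} {χ : Z →+ ZMod 2} (hg : h.Good χ) :
    Line (h.radForm χ) (h.radEnd χ) r m where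
  prime := h.prime
  eq_two_pow := h.eq_two_pow
  pos := h.pos
  pow_eq := by
    refine AddMonoidHom.ext fun x => ?_
    induction x using QuotientAddGroup.induction_on with
    | H a => exact (h.radEnd_pow_mk χ r a).trans (by rw [h.pow_eq]; rfl)
  fpf := by
    intro x
    induction x using QuotientAddGroup.induction_on with
    | H a =>
      intro ha
      rw [h.radEnd_mk, eq_comm, QuotientAddGroup.eq] at ha
      -- the orbit sum of `a` is fixed and congruent to `r a`
      have hmem : ∀ i, -a + (ρ ^ i) a ∈ h.rad χ := by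
        intro i
        induction i with
        | zero => simp
        | succ i ih =>
          have h1 := h.invSub_rad χ _ ih
          rw [map_add, map_neg] at h1
          rw [pow_succ', AddMonoid.End.coe_mul, Function.comp_apply]
          have h2 := add_mem ha h1
          have e : -a + ρ a + (-ρ a + ρ ((ρ ^ i) a)) = -a + ρ ((ρ ^ i) a) := by abel
          rwa [e] at h2
      set t := ∑ i ∈ range r, (ρ ^ i) a with ht
      have ht0 : t = 0 := by
        apply h.fpf
        rw [ht, map_sum]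
        have h1 := Finset.sum_range_succ (fun i => (ρ ^ i) a) r
        rw [Finset.sum_range_succ'] at h1
        simp only [h.pow_eq, pow_zero] at h1
        have h2 : ∀ i, ρ ((ρ ^ i) a) = (ρ ^ (i + 1)) a := fun i => by
          rw [pow_succ', AddMonoid.End.coe_mul, Function.comp_apply]
        simp only [h2]
        exact add_right_cancel h1
      have h3 : ∑ i ∈ range r, (-a + (ρ ^ i) a) ∈ h.rad χ := sum_mem fun i _ => hmem i
      rw [Finset.sum_add_distrib, ← ht, ht0, add_zero, Finset.sum_const, Finset.card_range,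
        h.negA] at h3
      have hr : r • a = a := by
        rw [h.eq_two_pow, add_nsmul, one_nsmul]
        obtain ⟨m', hm'⟩ := Nat.exists_eq_succ_of_ne_zero h.pos.ne'
        rw [hm', pow_succ, mul_nsmul, two_nsmul]
        simp [h.twoA]
      rw [hr] at h3
      exact (QuotientAddGroup.eq_zero_iff a).2 h3
  two := fun x => by
    induction x using QuotientAddGroup.induction_on with
    | H a => rw [← QuotientAddGroup.mk_add, h.twoA, QuotientAddGroup.mk_zero]
  card := hg.card
  q_zero := by rw [← QuotientAddGroup.mk_zero, radForm_mk hg, h.sq_zero, map_zero]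
  add_left := fun x y z => by
    induction x using QuotientAddGroup.induction_on with | H a =>
    induction y using QuotientAddGroup.induction_on with | H b =>
    induction z using QuotientAddGroup.induction_on with | H c =>
    simp only [bil, ← QuotientAddGroup.mk_add, radForm_mk hg]
    have := congrArg χ (h.add_left a b c)
    rw [map_add, ← bil_form (sq := sq), ← bil_form (sq := sq), ← bil_form (sq := sq)] at this
    exact this
  nondeg := fun x hx => by
    induction x using QuotientAddGroup.induction_on with | H a =>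
    rw [QuotientAddGroup.eq_zero_iff]
    intro y
    have := hx (y : A ⧸ h.rad χ)
    simp only [bil, ← QuotientAddGroup.mk_add, radForm_mk hg] at this
    rw [← bil_form (sq := sq)]
    exact this
  q_map := fun x => by
    induction x using QuotientAddGroup.induction_on with | H a =>
    rw [h.radEnd_mk, radForm_mk hg, radForm_mk hg, h.sq_map]

/-- An invariant subgroup lies in the radical of a good functional or covers the quotient. -/
theorem Good.le_rad_or {h : Quad sq ρ r m} {χ : Z →+ ZMod 2} (hg : h.Good χ) {N : AddSubgroup A}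
    (hN : InvSub ρ N) : N ≤ h.rad χ ∨ N.map (QuotientAddGroup.mk' (h.rad χ)) = ⊤ := by
  rcases hg.line.eq_bot_or_top (N.map (QuotientAddGroup.mk' (h.rad χ))) (by
    rintro _ ⟨x, hx, rfl⟩
    exact ⟨ρ x, hN x hx, rfl⟩) with hb | ht
  · left
    intro x hx
    have : (x : A ⧸ h.rad χ) ∈ N.map (QuotientAddGroup.mk' (h.rad χ)) := ⟨x, hx, rfl⟩
    rwa [hb, AddSubgroup.mem_bot, QuotientAddGroup.eq_zero_iff] at this
  · exact Or.inr ht

/-- A non-zero minimal invariant subgroup. -/
structure Irred (ρ : AddMonoid.End A) (N : AddSubgroup A) : Prop where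
  inv : InvSub ρ N
  ne_bot : N ≠ ⊥
  min : ∀ T : AddSubgroup A, InvSub ρ T → T ≤ N → T = ⊥ ∨ T = N

theorem exists_irred {M : AddSubgroup A} (hM : InvSub ρ M) (hne : M ≠ ⊥) :
    ∃ N ≤ M, Irred ρ N := by
  obtain ⟨N, ⟨hN, hNne, hNM⟩, hmin⟩ := (wellFounded_lt (α := AddSubgroup A)).has_min
    {T | InvSub ρ T ∧ T ≠ ⊥ ∧ T ≤ M} ⟨M, hM, hne, le_rfl⟩
  refine ⟨N, hNM, hN, hNne, fun T hT hTN => ?_⟩
  by_contra! hcon
  exact hmin T ⟨hT, hcon.1, hTN.trans hNM⟩ (lt_of_le_of_ne hTN hcon.2)

/-- A vanishing polar form forces the form to vanish. -/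
theorem form_eq_zero_of_bz (h : Quad sq ρ r m) {N : AddSubgroup A} (hN : InvSub ρ N)
    (χ : Z →+ ZMod 2) (hb : ∀ x ∈ N, ∀ y ∈ N, χ (bz sq x y) = 0) : ∀ x ∈ N, χ (sq x) = 0 := by
  have hadd : ∀ x ∈ N, ∀ y ∈ N, χ (sq (x + y)) = χ (sq x) + χ (sq y) := fun x hx y hy => by
    rw [sq_add (sq := sq), map_add, map_add, hb x hx y hy, add_zero]
  intro x hx
  set t := ∑ i ∈ range r, (ρ ^ i) x with ht
  have ht0 : t = 0 := by
    apply h.fpf
    rw [ht, map_sum]
    have h1 := Finset.sum_range_succ (fun i => (ρ ^ i) x) r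
    rw [Finset.sum_range_succ'] at h1
    simp only [h.pow_eq, pow_zero] at h1
    have h2 : ∀ i, ρ ((ρ ^ i) x) = (ρ ^ (i + 1)) x := fun i => by
      rw [pow_succ', AddMonoid.End.coe_mul, Function.comp_apply]
    simp only [h2]
    exact add_right_cancel h1
  have hsum : ∀ n, χ (sq (∑ i ∈ range n, (ρ ^ i) x)) = n • χ (sq x) := by
    intro n
    induction n with
    | zero => simp [h.sq_zero]
    | succ n ih =>
      rw [Finset.sum_range_succ, hadd _ (sum_mem fun i _ => invSub_pow hN hx i) _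
        (invSub_pow hN hx n), ih, h.sq_pow, succ_nsmul]
  have h3 := hsum r
  rw [← ht, ht0, h.sq_zero, map_zero] at h3
  rw [h.eq_two_pow, add_nsmul, one_nsmul] at h3
  obtain ⟨m', hm'⟩ := Nat.exists_eq_succ_of_ne_zero h.pos.ne'
  rw [hm', pow_succ, mul_nsmul, two_nsmul] at h3
  simpa [zmod2_add_self] using h3.symm

/-- Irreducible subgroups have order `2 ^ (2 * m)`, the good functionals separating. -/
theorem card_irred (h : Quad sq ρ r m) (hsep : h.Sep) (hnd : ∀ x : A, (∀ y, bz sq x y = 0) → x = 0)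
    {N : AddSubgroup A} (hN : Irred ρ N) : Nat.card N = 2 ^ (2 * m) := by
  obtain ⟨χ, hg, hχ⟩ : ∃ χ, h.Good χ ∧ ¬ N ≤ h.rad χ := by
    by_contra! hall
    obtain ⟨x, hx⟩ := AddSubgroup.ne_bot_iff_exists_ne_zero.1 hN.ne_bot
    exact hx (Subtype.ext (hnd x fun y => hsep _ fun χ hg => hall χ hg x.2 y))
  have htop := (hg.le_rad_or hN.inv).resolve_left hχ
  have hinf : N ⊓ h.rad χ = ⊥ := by
    rcases hN.min (N ⊓ h.rad χ) (fun x hx => ⟨hN.inv x hx.1, h.invSub_rad χ x hx.2⟩) inf_le_left with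
      hb | ht
    · exact hb
    · exact absurd (ht ▸ inf_le_right) hχ
  have hbij : Function.Bijective fun x : N => ((x : A) : A ⧸ h.rad χ) := by
    refine ⟨fun x y hxy => ?_, fun q => ?_⟩
    · have hm : -(x : A) + y ∈ N ⊓ h.rad χ :=
        ⟨N.add_mem (N.neg_mem x.2) y.2, QuotientAddGroup.eq.1 hxy⟩
      rw [hinf, AddSubgroup.mem_bot, neg_add_eq_zero] at hm
      exact Subtype.ext hm
    · have hq : q ∈ N.map (QuotientAddGroup.mk' (h.rad χ)) := htop ▸ AddSubgroup.mem_top q
      obtain ⟨x, hx, rfl⟩ := hq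
      exact ⟨⟨x, hx⟩, rfl⟩
  rw [Nat.card_eq_of_bijective _ hbij, hg.card]

/-- The automorphism of an invariant subgroup. -/
def subEnd {N : AddSubgroup A} (hN : InvSub ρ N) : AddMonoid.End N :=
  ((ρ : A →+ A).comp N.subtype).codRestrict N fun x => hN x x.2

theorem subEnd_pow {N : AddSubgroup A} (hN : InvSub ρ N) :
    ∀ (i : ℕ) (x : N), ((subEnd hN ^ i) x : A) = (ρ ^ i) (x : A)
  | 0, _ => rfl
  | i + 1, x => by
    rw [pow_succ', pow_succ', AddMonoid.End.coe_mul, AddMonoid.End.coe_mul, Function.comp_apply,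
      Function.comp_apply, ← subEnd_pow hN i x]
    rfl

/-- A non-zero form on an irreducible subgroup is a line. -/
theorem line_irred (h : Quad sq ρ r m) {N : AddSubgroup A} (hN : Irred ρ N)
    (hcard : Nat.card N = 2 ^ (2 * m)) (χ : Z →+ ZMod 2) (hne : ∃ x ∈ N, χ (sq x) ≠ 0) :
    Line (fun x : N => χ (sq (x : A)))
      (subEnd hN.inv) r m where
  prime := h.prime
  eq_two_pow := h.eq_two_pow
  pos := h.pos
  pow_eq := AddMonoidHom.ext fun x => Subtype.ext
    ((subEnd_pow hN.inv r x).trans (by rw [h.pow_eq]; rfl))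
  fpf := fun x hx => Subtype.ext (h.fpf _ (congrArg Subtype.val hx))
  two := fun x => Subtype.ext (h.twoA _)
  card := hcard
  q_zero := by simp [h.sq_zero]
  add_left := fun x y z => by
    have := congrArg χ (h.add_left (x : A) y z)
    rw [map_add, ← bil_form (sq := sq), ← bil_form (sq := sq), ← bil_form (sq := sq)] at this
    exact this
  nondeg := fun x hx => by
    let T : AddSubgroup A :=
      { carrier := {a | a ∈ N ∧ ∀ b ∈ N, χ (bz sq a b) = 0}
        zero_mem' := ⟨N.zero_mem, fun b _ => by rw [h.bz_zero, map_zero]⟩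
        add_mem' := fun ha hb => ⟨N.add_mem ha.1 hb.1, fun c hc => by
          rw [h.add_left, map_add, ha.2 c hc, hb.2 c hc, add_zero]⟩
        neg_mem' := fun ha => by rw [h.negA]; exact ha }
    have hT : InvSub ρ T := fun a ha => ⟨hN.inv a ha.1, fun b hb => by
      have h1 : (ρ ^ r) b = b := by rw [h.pow_eq]; rfl
      rw [← h1, ← Nat.sub_add_cancel h.prime.pos, pow_succ', AddMonoid.End.coe_mul,
        Function.comp_apply]
      have h2 := h.bz_pow 1 a ((ρ ^ (r - 1)) b)
      rw [pow_one] at h2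
      rw [h2]
      exact ha.2 _ (invSub_pow hN.inv hb _)⟩
    have hxT : (x : A) ∈ T := ⟨x.2, fun b hb => by
      rw [← bil_form (sq := sq)]; exact hx ⟨b, hb⟩⟩
    rcases hN.min T hT (fun a ha => ha.1) with hb | ht
    · rw [hb, AddSubgroup.mem_bot] at hxT
      exact Subtype.ext hxT
    · obtain ⟨a, ha, hne⟩ := hne
      exact absurd (h.form_eq_zero_of_bz hN.inv χ
        (fun u hu v hv => (show u ∈ T from ht.symm ▸ hu).2 v hv) a ha) hne
  q_map := fun x => congrArg χ (h.sq_map _)

/-- The restriction of the forms to `N`. -/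
def formsHom (sq : A → Z) (N : AddSubgroup A) : (Z →+ ZMod 2) →+ (N → ZMod 2) :=
  AddMonoidHom.mk' (fun χ x => χ (sq (x : A))) fun χ η => rfl

/-- At most `2 ^ m` forms on an irreducible subgroup. -/
theorem card_range_forms [Finite Z] (h : Quad sq ρ r m) {N : AddSubgroup A} (hN : Irred ρ N)
    (hcard : Nat.card N = 2 ^ (2 * m)) : Nat.card (formsHom sq N).range ≤ 2 ^ m := by
  classical
  haveI := Fintype.ofFinite N
  haveI : Finite (N → ZMod 2) := inferInstance
  refine card_le_of_sum_eq (by rw [← Nat.card_eq_fintype_card, hcard])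
    (formsHom sq N).range.subtype ?_ 0 ?_
  · rintro ⟨f, χ, rfl⟩ hne
    refine (h.line_irred hN hcard χ ?_).sum_sgn
    by_contra! hall
    exact hne (Subtype.ext (funext fun x => hall x x.2))
  · rintro ⟨f, χ, rfl⟩
    show χ (sq ((0 : N) : A)) = 0
    rw [AddSubgroup.coe_zero, h.sq_zero, map_zero]

/-- If the functionals `n ↦ χ (bz n d)` on `N` are determined by the forms on `N`, then some `n`
orthogonal to `d` is not singular for any given non-zero form. -/
theorem exists_kernel_nonsingular [Finite Z] (h : Quad sq ρ r m) {N : AddSubgroup A}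
    (hN : Irred ρ N) (hcard : Nat.card N = 2 ^ (2 * m)) (d : A)
    (hdet : ∀ χ : Z →+ ZMod 2, (∀ n ∈ N, χ (sq n) = 0) → ∀ n ∈ N, χ (bz sq n d) = 0)
    (χ : Z →+ ZMod 2) (hne : ∃ x ∈ N, χ (sq x) ≠ 0) :
    ∃ n ∈ N, bz sq n d = 0 ∧ χ (sq n) ≠ 0 := by
  classical
  haveI := Fintype.ofFinite N
  let β : N →+ Z := AddMonoidHom.mk' (fun n => bz sq (n : A) d) fun x y => h.add_left _ _ _
  -- the image of `β` is small
  have himg : Nat.card β.range ≤ 2 ^ m := by
    rw [← card_addHom_zmodTwo (B := β.range) fun b => Subtype.ext (h.twoZ _)]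
    refine le_trans ?_ (h.card_range_forms hN hcard)
    haveI : Finite (Z →+ ZMod 2) := Finite.of_injective _ DFunLike.coe_injective
    haveI : Finite (β.range →+ ZMod 2) := Finite.of_injective _ DFunLike.coe_injective
    choose ext hext using fun f : β.range →+ ZMod 2 => exists_extend_zmodTwo h.twoZ β.range f
    refine Nat.card_le_card_of_injective
      (fun f => (⟨formsHom sq N (ext f), ext f, rfl⟩ : (formsHom sq N).range)) fun f g hfg => ?_
    have h0 : ∀ n ∈ N, (ext f + ext g) (sq n) = 0 := fun n hn => by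
      have := congrFun (congrArg Subtype.val hfg) ⟨n, hn⟩
      show ext f (sq n) + ext g (sq n) = 0
      rw [show ext f (sq n) = ext g (sq n) from this, zmod2_add_self]
    refine AddMonoidHom.ext fun b => ?_
    obtain ⟨_, n, rfl⟩ := b
    have h1 := hdet _ h0 n n.2
    rw [← hext f, ← hext g]
    have h2 : ext f (bz sq (n : A) d) + ext g (bz sq (n : A) d) = 0 := h1
    have key : ∀ a b : ZMod 2, a + b = 0 → a = b := by decide
    exact key _ _ h2
  -- so its kernel is too big to be singular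
  by_contra! hall
  have hlt := (h.line_irred hN hcard χ hne).card_lt_of_singular β.ker fun x hx =>
    hall x x.2 (AddMonoidHom.mem_ker.1 hx)
  have hprod := β.ker.card_mul_index
  rw [AddSubgroup.index_ker, hcard, two_mul, pow_add] at hprod
  have : Nat.card β.ker * Nat.card β.range < 2 ^ m * 2 ^ m :=
    lt_of_lt_of_le (Nat.mul_lt_mul_of_pos_right hlt Nat.card_pos) (Nat.mul_le_mul_left _ himg)
  omega

section sym

omit [Finite A]

/-- The generator `ρ ^ i + ρ ^ (-i)`. -/
def symGen (ρ : AddMonoid.End A) (r i : ℕ) : AddMonoid.End A := ρ ^ i + ρ ^ (i * (r - 1))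

/-- The additive span of the `ρ ^ i + ρ ^ (-i)`. -/
def symSpan (ρ : AddMonoid.End A) (r : ℕ) : AddSubgroup (AddMonoid.End A) :=
  AddSubgroup.closure (Set.range (symGen ρ r))

theorem symGen_mem (i : ℕ) : symGen ρ r i ∈ symSpan ρ r := AddSubgroup.subset_closure ⟨i, rfl⟩

theorem pow_congr (h : Quad sq ρ r m) {i j : ℕ} (hij : i % r = j % r) : ρ ^ i = ρ ^ j := by
  rw [← Nat.mod_add_div i r, ← Nat.mod_add_div j r, hij, pow_add, pow_add, pow_mul, pow_mul,
    h.pow_eq, one_pow, one_pow]

theorem pow_neg_mul (h : Quad sq ρ r m) (i : ℕ) : ρ ^ i * ρ ^ (i * (r - 1)) = 1 := by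
  have : i + i * (r - 1) = r * i := by
    have := h.prime.pos
    obtain ⟨r', rfl⟩ : ∃ r', r = r' + 1 := ⟨r - 1, by omega⟩
    simp; ring
  rw [← pow_add, this, pow_mul, h.pow_eq, one_pow]

theorem bz_pow_adj (h : Quad sq ρ r m) (i : ℕ) (x y : A) :
    bz sq ((ρ ^ i) x) y = bz sq x ((ρ ^ (i * (r - 1))) y) := by
  rw [← h.bz_pow i x ((ρ ^ (i * (r - 1))) y)]
  congr 1
  show y = (ρ ^ i * ρ ^ (i * (r - 1))) y
  rw [h.pow_neg_mul]
  rfl

theorem bz_sym (h : Quad sq ρ r m) {f : AddMonoid.End A} (hf : f ∈ symSpan ρ r) (x y : A) :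
    bz sq (f x) y = bz sq x (f y) := by
  induction hf using AddSubgroup.closure_induction with
  | mem f hf =>
    obtain ⟨i, rfl⟩ := hf
    show bz sq ((ρ ^ i) x + (ρ ^ (i * (r - 1))) x) y =
      bz sq x ((ρ ^ i) y + (ρ ^ (i * (r - 1))) y)
    rw [h.add_left, h.add_right, h.bz_pow_adj, add_comm]
    congr 1
    conv_rhs => rw [bz_comm, h.bz_pow_adj, bz_comm]
  | zero => show bz sq 0 y = bz sq x 0; rw [h.bz_zero, bz_comm, h.bz_zero]
  | add f g _ _ hf hg =>
    show bz sq (f x + g x) y = bz sq x (f y + g y)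
    rw [h.add_left, h.add_right, hf, hg]
  | neg f _ hf =>
    show bz sq (-(f x)) y = bz sq x (-(f y))
    rw [h.negA, h.negA, hf]

theorem bz_sym_self (h : Quad sq ρ r m) {f : AddMonoid.End A} (hf : f ∈ symSpan ρ r) (x : A) :
    bz sq x (f x) = 0 := by
  induction hf using AddSubgroup.closure_induction with
  | mem f hf =>
    obtain ⟨i, rfl⟩ := hf
    show bz sq x ((ρ ^ i) x + (ρ ^ (i * (r - 1))) x) = 0
    rw [h.add_right, ← h.bz_pow_adj, bz_comm x, h.twoZ]
  | zero => show bz sq x 0 = 0; rw [bz_comm, h.bz_zero]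
  | add f g _ _ hf hg => show bz sq x (f x + g x) = 0; rw [h.add_right, hf, hg, add_zero]
  | neg f _ hf => show bz sq x (-(f x)) = 0; rw [h.negA, hf]

theorem sym_mul_comm {f : AddMonoid.End A} (hf : f ∈ symSpan ρ r) : Commute f ρ := by
  induction hf using AddSubgroup.closure_induction with
  | mem f hf =>
    obtain ⟨i, rfl⟩ := hf
    exact (Commute.pow_self ρ i).add_left (Commute.pow_self ρ _)
  | zero => exact Commute.zero_left ρ
  | add f g _ _ hf hg => exact hf.add_left hg
  | neg f _ hf => exact hf.neg_left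

theorem sym_mul_mem (h : Quad sq ρ r m) {f g : AddMonoid.End A} (hf : f ∈ symSpan ρ r)
    (hg : g ∈ symSpan ρ r) : f * g ∈ symSpan ρ r := by
  induction hf using AddSubgroup.closure_induction with
  | mem f hf =>
    obtain ⟨i, rfl⟩ := hf
    induction hg using AddSubgroup.closure_induction with
    | mem g hg =>
      obtain ⟨j, rfl⟩ := hg
      have e : symGen ρ r i * symGen ρ r j = symGen ρ r (i + j) + symGen ρ r (i + j * (r - 1)) := by
        have e2 : ρ ^ ((i + j * (r - 1)) * (r - 1)) = ρ ^ (i * (r - 1) + j) := by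
          apply h.pow_congr
          obtain ⟨r', rfl⟩ : ∃ r', r = r' + 1 := ⟨r - 1, by have := h.prime.pos; omega⟩
          simp only [Nat.add_sub_cancel]
          rw [← Nat.ModEq]
          have hr' : r' * r' ≡ 1 [MOD r' + 1] := by
            rcases r' with _ | k
            · simp [Nat.ModEq]
            · exact Nat.ModEq.symm ((Nat.modEq_iff_dvd' (Nat.one_le_iff_ne_zero.2 (by simp))).2
                ⟨k, by ring_nf; omega⟩)
          rw [add_mul, mul_assoc]
          exact Nat.ModEq.add_left _ (by simpa using hr'.mul_left j)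
        simp only [symGen, add_mul, mul_add, ← pow_add]
        rw [← add_mul i j (r - 1) , add_mul i (j * (r - 1)) (r - 1), ← add_mul] at *
        rw [e2]
        abel
      rw [e]
      exact add_mem (symGen_mem _) (symGen_mem _)
    | zero => rw [mul_zero]; exact zero_mem _
    | add g g' _ _ hg hg' => rw [mul_add]; exact add_mem hg hg'
    | neg g _ hg => rw [mul_neg]; exact neg_mem hg
  | zero => rw [zero_mul]; exact zero_mem _
  | add f f' _ _ hf hf' => rw [add_mul]; exact add_mem hf hf'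
  | neg f _ hf => rw [neg_mul]; exact neg_mem hf

theorem endAdd_self (h : Quad sq ρ r m) (f : AddMonoid.End A) : f + f = 0 :=
  AddMonoidHom.ext fun _ => h.twoA _

theorem sum_pow_eq_zero (h : Quad sq ρ r m) : ∑ i ∈ range r, ρ ^ i = 0 := by
  refine AddMonoidHom.ext fun a => h.fpf _ ?_
  show ρ ((∑ i ∈ range r, ρ ^ i) a) = (∑ i ∈ range r, ρ ^ i) a
  have e : ρ * ∑ i ∈ range r, ρ ^ i = ∑ i ∈ range r, ρ ^ i := by
    have h1 := Finset.sum_range_succ (fun i => ρ ^ i) r
    rw [Finset.sum_range_succ'] at h1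
    simp only [h.pow_eq, pow_zero] at h1
    rw [Finset.mul_sum]
    simp only [← pow_succ']
    exact add_right_cancel h1
  exact congrArg (fun f : AddMonoid.End A => f a) e

theorem one_mem_symSpan (h : Quad sq ρ r m) : (1 : AddMonoid.End A) ∈ symSpan ρ r := by
  obtain ⟨m', rfl⟩ := Nat.exists_eq_succ_of_ne_zero h.pos.ne'
  set c := 2 ^ m' with hc
  have hr : r = (c + c) + 1 := by rw [h.eq_two_pow, hc, pow_succ]; omega
  have hgen : ∀ i < c, symGen ρ r (i + 1) = ρ ^ (i + 1) + ρ ^ (c + (c - 1 - i) + 1) := by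
    intro i hi
    rw [symGen]
    congr 1
    apply h.pow_congr
    rw [← Nat.ModEq]
    have e : (i + 1) * (r - 1) = r * i + (c + (c - 1 - i) + 1) := by
      obtain ⟨d, hd⟩ : ∃ d, c = i + 1 + d := ⟨c - (i + 1), by omega⟩
      rw [hr, hd]
      simp only [Nat.add_sub_cancel]
      have : i + 1 + d - 1 - i = d := by omega
      rw [this]; ring
    rw [e, Nat.ModEq, Nat.mul_add_mod]
  have hsum : ∑ i ∈ range c, symGen ρ r (i + 1) = 1 := by
    rw [Finset.sum_congr rfl fun i hi => hgen i (Finset.mem_range.1 hi), Finset.sum_add_distrib,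
      Finset.sum_range_reflect (fun i => ρ ^ (c + i + 1)) c]
    have h0 := h.sum_pow_eq_zero
    rw [hr, Finset.sum_range_succ', pow_zero, Finset.sum_range_add] at h0
    calc _ = (∑ i ∈ range c, ρ ^ (i + 1) + ∑ i ∈ range c, ρ ^ (c + i + 1)) + (1 + 1) := by
          rw [h.endAdd_self, add_zero]
      _ = 1 := by rw [← add_assoc, h0, zero_add]
  rw [← hsum]
  exact sum_mem fun i _ => symGen_mem _

theorem mul_self_eq (h : Quad sq ρ r m) : ρ * ρ = symGen ρ r 1 * ρ + 1 := by
  have e : ρ ^ (1 * (r - 1)) * ρ = 1 := by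
    rw [one_mul, ← pow_succ, Nat.sub_add_cancel h.prime.pos, h.pow_eq]
  rw [symGen, add_mul, pow_one, e, add_assoc, h.endAdd_self, add_zero]

/-- Evaluation at `x` modulo the radical. -/
def evalRad (h : Quad sq ρ r m) (χ : Z →+ ZMod 2) (x : A) : AddMonoid.End A →+ A ⧸ h.rad χ :=
  AddMonoidHom.mk' (fun f => ((f x : A) : A ⧸ h.rad χ)) fun _ _ => rfl

theorem evalRad_apply (h : Quad sq ρ r m) (χ : Z →+ ZMod 2) (x : A) (f : AddMonoid.End A) :
    h.evalRad χ x f = ((f x : A) : A ⧸ h.rad χ) := rfl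

/-- The orbit of a point under the self-adjoint span is big in every quotient where it is non-zero. -/
theorem Good.card_image_sym [Finite A] {h : Quad sq ρ r m} {χ : Z →+ ZMod 2} (hg : h.Good χ) {x : A}
    (hx : x ∉ h.rad χ) :
    2 ^ m ≤ Nat.card ((symSpan ρ r).map (h.evalRad χ x)) := by
  classical
  set φ := h.evalRad χ x with hφ
  set W := (symSpan ρ r).map φ with hW
  set T : AddSubgroup (A ⧸ h.rad χ) := W ⊔ W.map (h.radEnd χ : A ⧸ h.rad χ →+ A ⧸ h.rad χ) with hT
  have hφρ : ∀ f : AddMonoid.End A, h.radEnd χ (φ f) = φ (ρ * f) := fun f => rfl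
  have hTinv : ∀ w ∈ T, h.radEnd χ w ∈ T := by
    intro w hw
    obtain ⟨u, hu, v, hv, rfl⟩ := AddSubgroup.mem_sup.1 hw
    obtain ⟨_, ⟨f, hf, rfl⟩, rfl⟩ := hv
    rw [map_add]
    refine add_mem (AddSubgroup.mem_sup_right ⟨u, hu, rfl⟩) ?_
    have hsg := h.sym_mul_mem (symGen_mem (ρ := ρ) (r := r) 1) hf
    have e : ρ * (ρ * f) = ρ * (symGen ρ r 1 * f) + f := by
      rw [← mul_assoc, h.mul_self_eq, add_mul, one_mul,
        (sym_mul_comm (symGen_mem (ρ := ρ) (r := r) 1)).eq, mul_assoc]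
    show h.radEnd χ (h.radEnd χ (φ f)) ∈ T
    rw [hφρ, hφρ, e, map_add]
    exact add_mem (AddSubgroup.mem_sup_right ⟨_, ⟨_, hsg, rfl⟩, hφρ _⟩)
      (AddSubgroup.mem_sup_left ⟨f, hf, rfl⟩)
  have htop : T = ⊤ := (hg.line.eq_bot_or_top T hTinv).resolve_left fun hb => by
    have : φ 1 ∈ T := AddSubgroup.mem_sup_left ⟨1, h.one_mem_symSpan, rfl⟩
    rw [hb, AddSubgroup.mem_bot] at this
    exact hx ((QuotientAddGroup.eq_zero_iff x).1 this)
  let g : W × W → A ⧸ h.rad χ := fun p => p.1.1 + h.radEnd χ p.2.1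
  have hgs : Function.Surjective g := by
    intro q
    obtain ⟨u, hu, v, ⟨w, hw, rfl⟩, rfl⟩ := AddSubgroup.mem_sup.1
      (htop ▸ AddSubgroup.mem_top q : q ∈ T)
    exact ⟨(⟨u, hu⟩, ⟨w, hw⟩), rfl⟩
  have hle := Nat.card_le_card_of_surjective g hgs
  rw [hg.card, Nat.card_prod, two_mul, pow_add] at hle
  by_contra! hlt
  exact absurd hle (not_le.2 (Nat.mul_lt_mul_of_lt_of_lt hlt hlt))

end sym

end Quad

end CfsgLib.HHShult
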