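import Cfsg.Agent.HHShult.Module
import Cfsg.Agent.HHShult.Quad
import Cfsg.Agent.ShultGross.Monomial

/-!
# A moved `2`-group `D` on the module: the quadratic map `D / Z → Z`

`Frame σ r ψ s D`: `D` is an invariant `2`-group with `[D,σ] = D`, the characteristic is odd.
`FA D = D / D'`, `FZ D = Z(D)`, `sqA` squaring, `rhoA` the action of `σ`.  `fE χ` is the eigenspace
of a character `χ` of `Z(D)`.
-/

set_option autoImplicit false
set_option linter.style.haveILetI false
set_option linter.unusedSectionVars false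

open Finset Module Subgroup
open scoped commutatorElement

namespace CfsgLib.HHShult

universe u v w

variable {K : Type u} [Field K] {V : Type v} [AddCommGroup V] [Module K V]
variable {G : Type w} [Group G]

/-- The centre is commutative. -/
scoped instance centerCommGroup (H : Type w) [Group H] : CommGroup ↥(Subgroup.center H) :=
  { (Subgroup.center H).toGroup with
    mul_comm := fun a b => Subtype.ext (Subgroup.mem_center_iff.1 b.2 a) }

/-- `D / D'`, written additively. -/
abbrev FA (D : Subgroup G) : Type w := Additive (Abelianization ↥D)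

/-- `Z(D)`, written additively. -/
abbrev FZ (D : Subgroup G) : Type w := Additive ↥(Subgroup.center ↥D)

/-- The projection `D → D / D'`. -/
def piA {D : Subgroup G} (x : ↥D) : FA D := Additive.ofMul (Abelianization.of x)

theorem piA_mul {D : Subgroup G} (x y : ↥D) : piA (x * y) = piA x + piA y := by
  simp [piA]

theorem piA_one {D : Subgroup G} : piA (1 : ↥D) = 0 := by simp [piA]

theorem piA_inv {D : Subgroup G} (x : ↥D) : piA x⁻¹ = -piA x := by simp [piA]

theorem piA_surjective {D : Subgroup G} : Function.Surjective (piA (D := D)) := fun a => by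
  obtain ⟨x, hx⟩ := QuotientGroup.mk'_surjective (commutator ↥D) (Additive.toMul a)
  exact ⟨x, congrArg Additive.ofMul hx⟩

theorem piA_eq_zero_iff {D : Subgroup G} (x : ↥D) : piA x = 0 ↔ x ∈ commutator ↥D :=
  QuotientGroup.eq_one_iff x

open scoped Classical in
/-- An element of `D` as an element of `Z(D)`, junk outside. -/
noncomputable def toFZ {D : Subgroup G} (x : ↥D) : FZ D :=
  if h : x ∈ Subgroup.center ↥D then Additive.ofMul ⟨x, h⟩ else 0

theorem toFZ_of_mem {D : Subgroup G} {x : ↥D} (h : x ∈ Subgroup.center ↥D) :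
    toFZ x = Additive.ofMul ⟨x, h⟩ := dif_pos h

theorem toFZ_mul {D : Subgroup G} {x y : ↥D} (hx : x ∈ Subgroup.center ↥D)
    (hy : y ∈ Subgroup.center ↥D) : toFZ (x * y) = toFZ x + toFZ y := by
  rw [toFZ_of_mem hx, toFZ_of_mem hy, toFZ_of_mem (mul_mem hx hy)]
  rfl

theorem toFZ_inj {D : Subgroup G} {x : ↥D} (hx : x ∈ Subgroup.center ↥D) (h : toFZ x = 0) :
    x = 1 := by
  rw [toFZ_of_mem hx] at h
  exact congrArg Subtype.val (congrArg Additive.toMul h)

/-- Squaring. -/
noncomputable def sqA (D : Subgroup G) (a : FA D) : FZ D :=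
  toFZ ((Function.surjInv (piA_surjective (D := D)) a) ^ 2)

/-- The sign as an element of `K`. -/
def sK (K : Type u) [Field K] (a : ZMod 2) : K := if a = 0 then 1 else -1

theorem sK_add (a b : ZMod 2) : sK K (a + b) = sK K a * sK K b := by
  rcases zmod2_cases a with rfl | rfl <;> rcases zmod2_cases b with rfl | rfl <;>
    simp [sK, zmod2_add_self]

theorem sK_zero : sK K (0 : ZMod 2) = 1 := by simp [sK]

theorem sK_one : sK K (1 : ZMod 2) = -1 := by simp [sK]

theorem sK_eq_one_iff (h2 : (2 : K) ≠ 0) (a : ZMod 2) : sK K a = 1 ↔ a = 0 := by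
  rcases zmod2_cases a with rfl | rfl
  · simp [sK]
  · simp only [sK_one, one_ne_zero, iff_false]
    intro h
    exact h2 (by linear_combination (-1 : K) * h)

/-- The character of `Z(D)` with values in `K`. -/
def kchar (K : Type u) [Field K] {D : Subgroup G} (χ : FZ D →+ ZMod 2) :
    ↥(Subgroup.center ↥D) →* K where
  toFun z := sK K (χ (Additive.ofMul z))
  map_one' := by simp [sK]
  map_mul' a b := by rw [ofMul_mul, map_add, sK_add]

/-- The representation restricted to `Z(D)`. -/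
def psiZ (ψ : G →* Module.End K V) (D : Subgroup G) : ↥(Subgroup.center ↥D) →* Module.End K V :=
  (ψ.comp D.subtype).comp (Subgroup.center ↥D).subtype

/-- The eigenspace of a character of `Z(D)`. -/
def fE (ψ : G →* Module.End K V) {D : Subgroup G} (χ : FZ D →+ ZMod 2) : Submodule K V :=
  eigen (psiZ ψ D) (kchar K χ)

theorem mem_fE {ψ : G →* Module.End K V} {D : Subgroup G} {χ : FZ D →+ ZMod 2} {v : V} :
    v ∈ fE ψ χ ↔ ∀ x : ↥D, x ∈ Subgroup.center ↥D → ψ (x : G) v = sK K (χ (toFZ x)) • v := by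
  constructor
  · intro hv x hx
    rw [toFZ_of_mem hx]
    exact hv ⟨x, hx⟩
  · intro hv z
    have h := hv z.1 z.2
    rw [toFZ_of_mem z.2] at h
    exact h

/-- The hypotheses on `D`. -/
structure Frame (σ : MulAut G) (r : ℕ) (ψ : G →* Module.End K V) (s : Module.End K V)
    (D : Subgroup G) : Prop where
  act : Act σ r ψ s
  two_ne : (2 : K) ≠ 0
  inv : Inv σ D
  isPGroup : IsPGroup 2 ↥D
  moved_eq : moved σ D = D

/-- Commuting operators normalised by an operator without fixed vectors are invariant. -/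
theorem apply_eq_of_comm_image {H : Type*} [Group H] [Finite H] {τ : MulAut H} {r : ℕ}
    (hc : Cop τ r) (hH : (Nat.card H : K) ≠ 0) {W : Type*} [AddCommGroup W] [Module K W]
    [FiniteDimensional K W] [IsAlgClosed K] (φ : H →* Module.End K W)
    (hcomm : ∀ a b, φ a * φ b = φ b * φ a) (t : Module.End K W) (ht : t ^ r = 1)
    (hsum : ∑ i ∈ Finset.range r, t ^ i = 0) (hr : (r : K) ≠ 0)
    (hcompat : ∀ a, t * φ a = φ (τ a) * t) (a : H) : φ (τ a) = φ a := by
  have hker : Inv τ φ.ker := fun a ha => by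
    rw [MonoidHom.mem_ker] at ha ⊢
    calc φ (τ a) = φ (τ a) * (t * t ^ (r - 1)) := by
          rw [← pow_succ', Nat.sub_add_cancel hc.prime.pos, ht, mul_one]
      _ = 1 := by
          rw [← mul_assoc, ← hcompat, ha, mul_one, ← pow_succ',
            Nat.sub_add_cancel hc.prime.pos, ht]
  let φ' : H ⧸ φ.ker →* Module.End K W := QuotientGroup.lift φ.ker φ le_rfl
  have hA : Act hker.quotAut r φ' t :=
    { cop := hc.quotient hker
      inj := fun q q' => by
        induction q using QuotientGroup.induction_on with | H a =>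
        induction q' using QuotientGroup.induction_on with | H b =>
        intro he
        rw [QuotientGroup.eq, MonoidHom.mem_ker, map_mul]
        change φ a = φ b at he
        rw [← he, ← map_mul, inv_mul_cancel, map_one]
      compat := fun q => by
        induction q using QuotientGroup.induction_on with
        | H a => rw [hker.quotAut_mk]; exact hcompat a
      pow_eq := ht
      sum_eq := hsum
      rne := hr }
  have hfix : (⊤ : Subgroup (H ⧸ φ.ker)) ≤ fixedSub hker.quotAut := by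
    refine hA.fixed_of_abelian inv_top (fun a _ b _ => ?_) ?_
    · induction a using QuotientGroup.induction_on with | H a =>
      induction b using QuotientGroup.induction_on with | H b =>
      apply hA.inj
      rw [map_mul, map_mul]
      exact hcomm a b
    · intro h0
      apply hH
      obtain ⟨c, hc'⟩ := Subgroup.card_quotient_dvd_card φ.ker
      rw [Nat.card_congr Subgroup.topEquiv.toEquiv] at h0
      rw [hc', Nat.cast_mul, h0, zero_mul]
  have h1 : φ' (hker.quotAut (a : H ⧸ φ.ker)) = φ' (a : H ⧸ φ.ker) := by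
    rw [mem_fixedSub.1 (hfix (Subgroup.mem_top _))]
  exact h1

variable [Finite G] [IsAlgClosed K] [FiniteDimensional K V]
variable {σ : MulAut G} {r : ℕ} {ψ : G →* Module.End K V} {s : Module.End K V} {D : Subgroup G}

namespace Frame

variable (F : Frame σ r ψ s D)
include F

theorem m2 : Moved2 F.inv.aut r where
  cop := F.act.cop.restrict F.inv
  isPGroup := F.isPGroup
  eq_top := by
    apply Subgroup.map_injective D.subtype_injective
    rw [F.inv.map_moved_top, F.moved_eq, ← MonoidHom.range_eq_map, range_subtype]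
  abelian := fun A hA hab => by
    refine (F.act.restrict F.inv).fixed_of_abelian hA hab ?_
    obtain ⟨n, hn⟩ := IsPGroup.iff_card.1 (F.isPGroup.to_subgroup A)
    rw [hn]
    push_cast
    exact pow_ne_zero _ F.two_ne

theorem center_iff (x : ↥D) : x ∈ Subgroup.center ↥D ↔ σ (x : G) = x := by
  rw [F.m2.center_eq_fixed, mem_fixedSub]
  exact ⟨fun h => congrArg Subtype.val h, fun h => Subtype.ext h⟩

theorem sq_mem (x : ↥D) : x ^ 2 ∈ Subgroup.center ↥D := F.m2.sq_mem_center x

theorem comm_mem (x y : ↥D) : ⁅x, y⁆ ∈ Subgroup.center ↥D :=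
  F.m2.commutator_le_center (commutator_mem_commutator (Subgroup.mem_top x) (Subgroup.mem_top y))

theorem center_sq {z : ↥D} (hz : z ∈ Subgroup.center ↥D) : z * z = 1 := by
  rw [← sq]; exact F.m2.center_pow_two hz

theorem piA_eq_zero (x : ↥D) : piA x = 0 ↔ x ∈ Subgroup.center ↥D := by
  rw [piA_eq_zero_iff, F.m2.commutator_eq_center]

theorem piA_eq_iff (x y : ↥D) : piA x = piA y ↔ x⁻¹ * y ∈ Subgroup.center ↥D := by
  rw [← F.piA_eq_zero, piA_mul, piA_inv, neg_add_eq_zero]

theorem sq_of_central {x z : ↥D} (hz : z ∈ Subgroup.center ↥D) : (x * z) ^ 2 = x ^ 2 := by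
  rw [Commute.mul_pow (Subgroup.mem_center_iff.1 hz x), sq z, F.center_sq hz, mul_one]

theorem sqA_piA (x : ↥D) : sqA D (piA x) = toFZ (x ^ 2) := by
  unfold sqA
  congr 1
  set y := Function.surjInv (piA_surjective (D := D)) (piA x)
  have hy : piA y = piA x := Function.surjInv_eq _ _
  conv_lhs => rw [show y = x * (x⁻¹ * y) by group]
  exact F.sq_of_central ((F.piA_eq_iff x y).1 hy.symm)

theorem sq_mul (x y : ↥D) : (x * y) ^ 2 = x ^ 2 * y ^ 2 * ⁅y, x⁆ := by
  have hc := Subgroup.mem_center_iff.1 (F.comm_mem y x)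
  calc (x * y) ^ 2 = x * (⁅y, x⁆ * (x * y)) * y := by
        rw [sq, commutatorElement_def]; group
    _ = x * ((x * y) * ⁅y, x⁆) * y := by rw [hc]
    _ = x * (x * (y * (⁅y, x⁆ * y))) := by group
    _ = x * (x * (y * (y * ⁅y, x⁆))) := by rw [hc y]
    _ = x ^ 2 * y ^ 2 * ⁅y, x⁆ := by simp only [sq]; group

theorem toFZ_add_self {x : ↥D} (hx : x ∈ Subgroup.center ↥D) : toFZ x + toFZ x = 0 := by
  rw [← toFZ_mul hx hx, F.center_sq hx, toFZ_of_mem (one_mem _)]
  rfl

theorem twoZ (z : FZ D) : z + z = 0 := by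
  have h := F.toFZ_add_self (Additive.toMul z).2
  rwa [toFZ_of_mem (Additive.toMul z).2] at h

theorem negFZ (z : FZ D) : -z = z := neg_eq_of_add_eq_zero_left (F.twoZ z)

theorem bz_piA (x y : ↥D) : bz (sqA D) (piA x) (piA y) = toFZ ⁅y, x⁆ := by
  rw [bz, ← piA_mul, F.sqA_piA, F.sqA_piA, F.sqA_piA, F.sq_mul,
    toFZ_mul (mul_mem (F.sq_mem x) (F.sq_mem y)) (F.comm_mem y x), toFZ_mul (F.sq_mem x) (F.sq_mem y)]
  abel

theorem comm_mul (x y g : ↥D) : ⁅g, x * y⁆ = ⁅g, x⁆ * ⁅g, y⁆ := by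
  have hc := Subgroup.mem_center_iff.1 (F.comm_mem g y) x
  calc ⁅g, x * y⁆ = ⁅g, x⁆ * (x * ⁅g, y⁆) * x⁻¹ := by simp only [commutatorElement_def]; group
    _ = ⁅g, x⁆ * (⁅g, y⁆ * x) * x⁻¹ := by rw [hc]
    _ = ⁅g, x⁆ * ⁅g, y⁆ := by group

/-- The action of `σ` on `D / D'`. -/
noncomputable def rhoA : AddMonoid.End (FA D) :=
  MonoidHom.toAdditive (Abelianization.map F.inv.aut.toMonoidHom)

theorem rhoA_piA (x : ↥D) : F.rhoA (piA x) = piA (F.inv.aut x) := rfl

theorem rhoA_pow_piA : ∀ (i : ℕ) (x : ↥D), (F.rhoA ^ i) (piA x) = piA ((F.inv.aut ^ i) x)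
  | 0, _ => rfl
  | i + 1, x => by
    rw [pow_succ', pow_succ', AddMonoid.End.coe_mul, Function.comp_apply, rhoA_pow_piA i x,
      MulAut.mul_apply]
    rfl

theorem fixed_center {z : ↥D} (hz : z ∈ Subgroup.center ↥D) : F.inv.aut z = z :=
  Subtype.ext ((F.center_iff z).1 hz)

theorem quad {m : ℕ} (hm : 0 < m) (hr : r = 2 ^ m + 1) : Quad (sqA D) F.rhoA r m where
  prime := F.act.cop.prime
  eq_two_pow := hr
  pos := hm
  pow_eq := by
    refine AddMonoidHom.ext fun a => ?_
    obtain ⟨x, rfl⟩ := piA_surjective a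
    refine (F.rhoA_pow_piA r x).trans ?_
    rw [(F.act.cop.restrict F.inv).pow_eq]
    rfl
  fpf := by
    intro a ha
    obtain ⟨x, rfl⟩ := piA_surjective a
    rw [F.rhoA_piA, eq_comm, F.piA_eq_iff] at ha
    have hci : Inv F.inv.aut (Subgroup.center ↥D) := fun z hz => by rw [F.fixed_center hz]; exact hz
    obtain ⟨k, hk, hfix⟩ := (F.act.cop.restrict F.inv).exists_mem_fixed_coset hci ha
    have h1 : x * k ∈ Subgroup.center ↥D := (F.center_iff _).2 (congrArg Subtype.val hfix)
    exact (F.piA_eq_zero x).2 ((mul_mem_cancel_right hk).1 h1)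
  twoA := fun a => by
    obtain ⟨x, rfl⟩ := piA_surjective a
    rw [← piA_mul, F.piA_eq_zero, ← sq]
    exact F.sq_mem x
  twoZ := F.twoZ
  sq_zero := by
    rw [← piA_one (D := D), F.sqA_piA, one_pow, toFZ_of_mem (one_mem _)]
    rfl
  add_left := fun a b c => by
    obtain ⟨x, rfl⟩ := piA_surjective a
    obtain ⟨y, rfl⟩ := piA_surjective b
    obtain ⟨z, rfl⟩ := piA_surjective c
    rw [← piA_mul, F.bz_piA, F.bz_piA, F.bz_piA, F.comm_mul, toFZ_mul (F.comm_mem z x) (F.comm_mem z y)]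
  sq_map := fun a => by
    obtain ⟨x, rfl⟩ := piA_surjective a
    rw [F.rhoA_piA, F.sqA_piA, F.sqA_piA, ← map_pow, F.fixed_center (F.sq_mem x)]

/-- The radical of a character, as a subgroup of `D`. -/
noncomputable def radSub (χ : FZ D →+ ZMod 2) : Subgroup ↥D where
  carrier := {x : ↥D | ∀ y : ↥D, χ (toFZ ⁅y, x⁆) = 0}
  one_mem' := fun y => by
    rw [commutatorElement_one_right, toFZ_of_mem (one_mem _)]
    exact χ.map_zero
  mul_mem' := fun {a b} ha hb y => by
    rw [F.comm_mul, toFZ_mul (F.comm_mem y a) (F.comm_mem y b), map_add, ha y, hb y, add_zero]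
  inv_mem' := fun {a} ha y => by
    have h : χ (toFZ ⁅y, a * a⁻¹⁆) = 0 := by
      rw [mul_inv_cancel, commutatorElement_one_right, toFZ_of_mem (one_mem _)]
      exact χ.map_zero
    rwa [F.comm_mul, toFZ_mul (F.comm_mem y a) (F.comm_mem y a⁻¹), map_add, ha y, zero_add] at h

theorem mem_radSub {χ : FZ D →+ ZMod 2} {x : ↥D} :
    x ∈ F.radSub χ ↔ ∀ y : ↥D, χ (toFZ ⁅y, x⁆) = 0 := Iff.rfl

theorem center_le_radSub (χ : FZ D →+ ZMod 2) : Subgroup.center ↥D ≤ F.radSub χ := by
  intro x hx y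
  rw [commutatorElement_eq_one_iff_mul_comm.2 (Subgroup.mem_center_iff.1 hx y),
    toFZ_of_mem (one_mem _)]
  exact χ.map_zero

theorem mem_radSub_iff {m : ℕ} (hm : 0 < m) (hr : r = 2 ^ m + 1) (χ : FZ D →+ ZMod 2) (x : ↥D) :
    x ∈ F.radSub χ ↔ piA x ∈ (F.quad hm hr).rad χ := by
  constructor
  · intro hx b
    obtain ⟨y, rfl⟩ := piA_surjective b
    rw [F.bz_piA]
    exact hx y
  · intro hx y
    have := hx (piA y)
    rwa [F.bz_piA] at this

theorem inv_radSub (χ : FZ D →+ ZMod 2) : Inv F.inv.aut (F.radSub χ) := by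
  intro x hx y
  obtain ⟨y, rfl⟩ := F.inv.aut.surjective y
  rw [← map_commutatorElement, F.fixed_center (F.comm_mem y x)]
  exact hx y

theorem radSub_normal (χ : FZ D →+ ZMod 2) : (F.radSub χ).Normal := by
  refine ⟨fun x hx g => ?_⟩
  have h : g * x * g⁻¹ = ⁅g, x⁆ * x := by rw [commutatorElement_def]; group
  rw [h]
  exact mul_mem (F.center_le_radSub χ (F.comm_mem g x)) hx

theorem mapsTo_fE (χ : FZ D →+ ZMod 2) (x : ↥D) {v : V} (hv : v ∈ fE ψ χ) :
    ψ (x : G) v ∈ fE ψ χ := by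
  rw [mem_fE] at hv ⊢
  intro z hz
  have hc : z * x = x * z := (Subgroup.mem_center_iff.1 hz x).symm
  rw [← Module.End.mul_apply, ← map_mul, ← Subgroup.coe_mul, hc, Subgroup.coe_mul, map_mul,
    Module.End.mul_apply, hv z hz, map_smul]

theorem s_mapsTo_fE (χ : FZ D →+ ZMod 2) {v : V} (hv : v ∈ fE ψ χ) : s v ∈ fE ψ χ := by
  rw [mem_fE] at hv ⊢
  intro z hz
  have h1 : ψ (z : G) * s = s * ψ (z : G) := by
    rw [F.act.compat, (F.center_iff z).1 hz]
  rw [← Module.End.mul_apply, h1, Module.End.mul_apply, hv z hz, map_smul]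

theorem comm_apply (χ : FZ D →+ ZMod 2) (x y : ↥D) {v : V} (hv : v ∈ fE ψ χ) :
    ψ (x : G) (ψ (y : G) v) = sK K (χ (toFZ ⁅x, y⁆)) • ψ (y : G) (ψ (x : G) v) := by
  have he : x * y = y * x * ⁅x, y⁆ := by
    rw [Subgroup.mem_center_iff.1 (F.comm_mem x y) (y * x), commutatorElement_def]
    group
  rw [← Module.End.mul_apply, ← map_mul, ← Subgroup.coe_mul, he, Subgroup.coe_mul, map_mul,
    Module.End.mul_apply, mem_fE.1 hv _ (F.comm_mem x y), map_smul, Subgroup.coe_mul, map_mul,
    Module.End.mul_apply]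

/-- `[R_χ, σ]` acts trivially on the eigenspace of `χ`. -/
theorem apply_moved_radSub {χ : FZ D →+ ZMod 2} {x : ↥D}
    (hx : x ∈ moved F.inv.aut (F.radSub χ)) {v : V} (hv : v ∈ fE ψ χ) : ψ (x : G) v = v := by
  set Rd := F.radSub χ with hRd
  have hRi := F.inv_radSub χ
  let φ : ↥Rd →* Module.End K (fE ψ χ) :=
    { toFun := fun a => (ψ ((a : ↥D) : G)).restrict fun w hw => F.mapsTo_fE χ _ hw
      map_one' := by ext w; simp
      map_mul' := fun a b => by ext w; simp }
  have hφ : ∀ (a : ↥Rd) (w : fE ψ χ), ((φ a w : fE ψ χ) : V) = ψ ((a : ↥D) : G) w := fun a w => rfl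
  let s' : Module.End K (fE ψ χ) := s.restrict fun w hw => F.s_mapsTo_fE χ hw
  have hs' : ∀ (n : ℕ) (w : fE ψ χ), ((s' ^ n) w : V) = (s ^ n) (w : V) := by
    intro n
    induction n with
    | zero => intro w; rfl
    | succ n ih =>
      intro w
      rw [pow_succ', pow_succ', Module.End.mul_apply, Module.End.mul_apply, ← ih]
      rfl
  have hinv : ∀ a, φ (hRi.aut a) = φ a := by
    refine apply_eq_of_comm_image ((F.act.cop.restrict F.inv).restrict hRi) ?_ φ ?_ s' ?_ ?_
      F.act.rne ?_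
    · obtain ⟨n, hn⟩ := IsPGroup.iff_card.1 (F.isPGroup.to_subgroup Rd)
      rw [hn]
      push_cast
      exact pow_ne_zero _ F.two_ne
    · intro a b
      refine LinearMap.ext fun w => Subtype.ext ?_
      show ψ ((a : ↥D) : G) (ψ ((b : ↥D) : G) (w : V)) = ψ ((b : ↥D) : G) (ψ ((a : ↥D) : G) (w : V))
      rw [F.comm_apply χ _ _ w.2, b.2 (a : ↥D), sK_zero, one_smul]
    · exact LinearMap.ext fun w => Subtype.ext (by rw [hs', F.act.pow_eq]; rfl)
    · refine LinearMap.ext fun w => Subtype.ext ?_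
      have h1 := congrArg (fun f : Module.End K V => f (w : V)) F.act.sum_eq
      simp only [LinearMap.sum_apply, LinearMap.zero_apply] at h1 ⊢
      rw [Submodule.coe_sum]
      simp only [hs']
      exact h1
    · intro a
      refine LinearMap.ext fun w => Subtype.ext ?_
      show s (ψ ((a : ↥D) : G) (w : V)) = ψ (σ ((a : ↥D) : G)) (s (w : V))
      rw [← Module.End.mul_apply, F.act.compat, Module.End.mul_apply]
  have hle : moved F.inv.aut Rd ≤ φ.ker.map Rd.subtype := by
    rw [moved, closure_le]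
    rintro _ ⟨a, ha, rfl⟩
    refine ⟨(⟨a, ha⟩ : ↥Rd)⁻¹ * hRi.aut ⟨a, ha⟩, ?_, rfl⟩
    rw [SetLike.mem_coe, MonoidHom.mem_ker, map_mul, hinv, ← map_mul, inv_mul_cancel, map_one]
  obtain ⟨a, ha, rfl⟩ := hle hx
  have h1 := congrArg (fun f : Module.End K (fE ψ χ) => ((f ⟨v, hv⟩ : fE ψ χ) : V))
    (MonoidHom.mem_ker.1 ha)
  simp only [hφ] at h1
  exact h1

/-- `R_χ` acts by signs on the eigenspace of `χ`. -/
theorem exists_scalar {χ : FZ D →+ ZMod 2} {x : ↥D} (hx : x ∈ F.radSub χ) :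
    ∃ a : ZMod 2, (∀ v ∈ fE ψ χ, ψ (x : G) v = sK K a • v) ∧
      ∃ c ∈ Subgroup.center ↥D, x ^ 2 = (x * c) ^ 2 ∧ x * c ∈ moved F.inv.aut (F.radSub χ) := by
  obtain ⟨m, hm, c, hc, hcf, rfl⟩ := (F.act.cop.restrict F.inv).decomp (F.inv_radSub χ) hx
  have hcz : c ∈ Subgroup.center ↥D := (F.center_iff c).2 (congrArg Subtype.val hcf)
  refine ⟨χ (toFZ c), fun v hv => ?_, c, hcz, (F.sq_of_central hcz).symm, ?_⟩
  · rw [Subgroup.coe_mul, map_mul, Module.End.mul_apply, mem_fE.1 hv c hcz, map_smul,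
      F.apply_moved_radSub hm hv]
  · rwa [mul_assoc, F.center_sq hcz, mul_one]

theorem singular {χ : FZ D →+ ZMod 2} (hocc : fE ψ χ ≠ ⊥) {x : ↥D} (hx : x ∈ F.radSub χ) :
    χ (toFZ (x ^ 2)) = 0 := by
  obtain ⟨-, -, c, -, he, hm⟩ := F.exists_scalar hx
  rw [he]
  obtain ⟨v, hv, hv0⟩ := (Submodule.ne_bot_iff _).1 hocc
  have h1 := mem_fE.1 hv _ (F.sq_mem (x * c))
  rw [Subgroup.coe_pow, map_pow, sq, Module.End.mul_apply, F.apply_moved_radSub hm hv,
    F.apply_moved_radSub hm hv] at h1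
  rw [← sK_eq_one_iff F.two_ne]
  exact smul_left_injective K hv0 (h1.symm.trans (one_smul K v).symm)

theorem radSub_ne_top {χ : FZ D →+ ZMod 2} (hocc : fE ψ χ ≠ ⊥) (hne : χ ≠ 0) :
    F.radSub χ ≠ ⊤ := by
  intro htop
  obtain ⟨v, hv, hv0⟩ := (Submodule.ne_bot_iff _).1 hocc
  apply hne
  refine AddMonoidHom.ext fun z => ?_
  have hm : ((Additive.toMul z : ↥(Subgroup.center ↥D)) : ↥D) ∈ moved F.inv.aut (F.radSub χ) := by
    rw [htop, F.m2.eq_top]; exact Subgroup.mem_top _
  have h1 := F.apply_moved_radSub hm hv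
  rw [mem_fE.1 hv _ (Additive.toMul z).2, toFZ_of_mem (Additive.toMul z).2] at h1
  rw [AddMonoidHom.zero_apply, ← sK_eq_one_iff F.two_ne]
  exact smul_left_injective K hv0 (h1.trans (one_smul K v).symm)

/-- A non-trivial occurring character gives `r = 2 ^ m + 1` and `|D / R_χ| = 2 ^ (2 m)`. -/
theorem exists_exponent {χ : FZ D →+ ZMod 2} (hocc : fE ψ χ ≠ ⊥) (hne : χ ≠ 0) :
    ∃ m, 0 < m ∧ r = 2 ^ m + 1 ∧ Nat.card (↥D ⧸ F.radSub χ) = 2 ^ (2 * m) := by
  classical
  haveI := F.radSub_normal χ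
  obtain ⟨v₀, hv₀, hv₀0⟩ := (Submodule.ne_bot_iff _).1 hocc
  haveI : Nontrivial (fE ψ χ) := ⟨⟨⟨v₀, hv₀⟩, 0, fun e => hv₀0 (congrArg Subtype.val e)⟩⟩
  let ψE : ↥D →* Module.End K (fE ψ χ) :=
    { toFun := fun x => (ψ (x : G)).restrict fun w hw => F.mapsTo_fE χ x hw
      map_one' := by ext w; simp
      map_mul' := fun a b => by ext w; simp }
  choose lamf hlam hrest using fun x : ↥(F.radSub χ) => F.exists_scalar x.2
  have hscal : ∀ x : ↥(F.radSub χ), ψE x = sK K (lamf x) • 1 := fun x =>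
    LinearMap.ext fun w => Subtype.ext (hlam x w w.2)
  have huniq : ∀ {a b : K}, a • (1 : Module.End K (fE ψ χ)) = b • 1 → a = b := fun {a b} he =>
    smul_left_injective K (show (⟨v₀, hv₀⟩ : fE ψ χ) ≠ 0 from fun e => hv₀0 (congrArg Subtype.val e))
      (LinearMap.congr_fun he ⟨v₀, hv₀⟩)
  let lam : ↥(F.radSub χ) →* K :=
    { toFun := fun x => sK K (lamf x)
      map_one' := huniq (by rw [← hscal, one_smul]; exact map_one ψE)
      map_mul' := fun a b => huniq (by
        rw [← hscal, Subgroup.coe_mul, map_mul, hscal a, hscal b, smul_mul_smul_comm, one_mul]) }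
  have hcen : ∀ {z : ↥D} (hz : z ∈ Subgroup.center ↥D),
      lam ⟨z, F.center_le_radSub χ hz⟩ = sK K (χ (toFZ z)) := fun {z} hz => huniq (by
    show sK K (lamf _) • (1 : Module.End K (fE ψ χ)) = _
    rw [← hscal]
    exact LinearMap.ext fun w => Subtype.ext (mem_fE.1 w.2 z hz))
  have hcomm : commutator ↥D ≤ F.radSub χ := by
    rw [F.m2.commutator_eq_center]; exact F.center_le_radSub χ
  have hnd : ∀ x, x ∉ F.radSub χ →
      ∃ (y : ↥D) (h : x * y * x⁻¹ * y⁻¹ ∈ F.radSub χ), lam ⟨_, h⟩ ≠ 1 := by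
    intro x hx
    rw [F.mem_radSub] at hx
    push Not at hx
    obtain ⟨y, hy⟩ := hx
    have hmem : x * y * x⁻¹ * y⁻¹ ∈ Subgroup.center ↥D := by
      rw [← commutatorElement_def]; exact F.comm_mem x y
    refine ⟨y, F.center_le_radSub χ hmem, ?_⟩
    rw [hcen hmem, Ne, sK_eq_one_iff F.two_ne, ← commutatorElement_def]
    intro h0
    apply hy
    rw [← commutatorElement_inv, toFZ_of_mem (inv_mem (F.comm_mem x y))]
    rw [toFZ_of_mem (F.comm_mem x y)] at h0
    show χ (-Additive.ofMul (⟨⁅x, y⁆, F.comm_mem x y⟩ : ↥(Subgroup.center ↥D))) = 0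
    rw [map_neg, h0, neg_zero]
  have hfpf : ∀ i ∈ Finset.Ico 1 r, ∀ q : ↥D,
      q⁻¹ * (F.inv.aut ^ i) q ∈ F.radSub χ → q ∈ F.radSub χ := by
    intro i hi q hq
    rw [Finset.mem_Ico] at hi
    have hR := F.inv_radSub χ
    have hcp := (F.act.cop.restrict F.inv).quotient hR
    have h1 : (hR.quotAut ^ i) (q : ↥D ⧸ F.radSub χ) = q := by
      rw [hR.quotAut_pow_mk, eq_comm, QuotientGroup.eq]
      exact hq
    obtain ⟨j, hj⟩ := Nat.exists_mul_mod_eq_one_of_coprime
      (Nat.coprime_of_lt_prime (by omega) hi.2 F.act.cop.prime).symm F.act.cop.prime.one_lt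
    have h2 : ∀ n, ((hR.quotAut ^ i) ^ n) (q : ↥D ⧸ F.radSub χ) = q := by
      intro n
      induction n with
      | zero => rfl
      | succ n ih => rw [pow_succ, MulAut.mul_apply, h1, ih]
    have h3 := h2 j
    rw [← pow_mul, ← Nat.mod_add_div (i * j) r, hj.2, pow_add, pow_mul, hcp.pow_eq, one_pow,
      mul_one, pow_one] at h3
    obtain ⟨c, hcf, hce⟩ := (F.act.cop.restrict F.inv).exists_fixed_lift hR h3
    rw [← QuotientGroup.eq_one_iff, ← hce, QuotientGroup.eq_one_iff]
    exact F.center_le_radSub χ ((F.center_iff c).2 (congrArg Subtype.val hcf))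
  let s' : Module.End K (fE ψ χ) := s.restrict fun w hw => F.s_mapsTo_fE χ hw
  have hs' : ∀ (n : ℕ) (w : fE ψ χ), ((s' ^ n) w : V) = (s ^ n) (w : V) := by
    intro n
    induction n with
    | zero => intro w; rfl
    | succ n ih =>
      intro w
      rw [pow_succ', pow_succ', Module.End.mul_apply, Module.End.mul_apply, ← ih]
      rfl
  obtain ⟨n, hn⟩ := IsPGroup.iff_card.1 F.isPGroup
  obtain ⟨⟨d, hd, hcard⟩, -⟩ := CfsgLib.ShultGross.monomial_exception (F.radSub χ)
    (V := fE ψ χ) (by rw [hn]; push_cast; exact pow_ne_zero _ F.two_ne) lam ψE hscal hcomm hnd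
    (F.radSub_ne_top hocc hne) F.inv.aut (F.inv_radSub χ) F.act.rne s'
    (LinearMap.ext fun w => Subtype.ext (by rw [hs', F.act.pow_eq]; rfl))
    (fun q => LinearMap.ext fun w => Subtype.ext (by
      show s (ψ (q : G) (w : V)) = ψ (σ (q : G)) (s (w : V))
      rw [← Module.End.mul_apply, F.act.compat, Module.End.mul_apply]))
    (LinearMap.ext fun w => Subtype.ext (by
      have h1 := congrArg (fun f : Module.End K V => f (w : V)) F.act.sum_eq
      simp only [LinearMap.sum_apply, LinearMap.zero_apply] at h1 ⊢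
      rw [Submodule.coe_sum]
      simp only [hs']
      exact h1)) hfpf
  obtain ⟨e, he⟩ := IsPGroup.iff_card.1 (F.isPGroup.to_quotient (F.radSub χ))
  rw [he] at hcard
  have hddvd : d ∣ 2 ^ e := hcard ▸ dvd_pow_self d two_ne_zero
  obtain ⟨m, -, rfl⟩ := (Nat.dvd_prime_pow Nat.prime_two).1 hddvd
  refine ⟨m, Nat.pos_of_ne_zero fun h0 => ?_, hd.symm, ?_⟩
  · subst h0
    rw [pow_zero, one_pow, ← he, ← Subgroup.index_eq_card, Subgroup.index_eq_one] at hcard
    exact F.radSub_ne_top hocc hne hcard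
  · rw [he, hcard, ← pow_mul, mul_comm]

theorem natCast_card_ne : (Nat.card ↥(Subgroup.center ↥D) : K) ≠ 0 := by
  obtain ⟨n, hn⟩ := IsPGroup.iff_card.1 (F.isPGroup.to_subgroup (Subgroup.center ↥D))
  rw [hn]
  push_cast
  exact pow_ne_zero _ F.two_ne

/-- Every `K`-valued character of `Z(D)` is a sign character. -/
theorem exists_kchar (η : ↥(Subgroup.center ↥D) →* K) :
    ∃ χ : FZ D →+ ZMod 2, kchar K χ = η := by
  classical
  have hpm : ∀ z, η z = 1 ∨ η z = -1 := fun z => by
    have hz : z * z = 1 := Subtype.ext (F.center_sq z.2)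
    have : η z * η z = 1 := by rw [← map_mul, hz, map_one]
    exact mul_self_eq_one_iff.1 this
  let c : ↥(Subgroup.center ↥D) → ZMod 2 := fun z => if η z = 1 then 0 else 1
  have hc : ∀ z, sK K (c z) = η z := fun z => by
    rcases hpm z with h | h
    · simp [c, h, sK]
    · have hne : ¬ (η z = 1) := by
        rw [h]; intro e; exact F.two_ne (by linear_combination (-1 : K) * e)
      show sK K (c z) = η z
      rw [show c z = 1 from if_neg hne, sK_one, h]
  have hinj : ∀ a b : ZMod 2, sK K a = sK K b → a = b := by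
    intro a b hab
    rcases zmod2_cases a with rfl | rfl <;> rcases zmod2_cases b with rfl | rfl
    · rfl
    · rw [sK_zero] at hab; exact ((sK_eq_one_iff F.two_ne 1).1 hab.symm).symm
    · rw [sK_zero] at hab; exact (sK_eq_one_iff F.two_ne 1).1 hab
    · rfl
  refine ⟨AddMonoidHom.mk' (fun z => c (Additive.toMul z)) fun a b => hinj _ _ ?_,
    MonoidHom.ext fun z => hc z⟩
  rw [sK_add, hc, hc, hc, toMul_add, map_mul]

theorem kchar_injective {χ η : FZ D →+ ZMod 2} (h : kchar K χ = kchar K η) : χ = η := by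
  refine AddMonoidHom.ext fun z => ?_
  have h1 : sK K (χ z) = sK K (η z) := DFunLike.congr_fun h (Additive.toMul z)
  rcases zmod2_cases (χ z) with ha | ha <;> rcases zmod2_cases (η z) with hb | hb <;>
    rw [ha, hb] at h1 ⊢
  · rw [sK_zero] at h1; exact ((sK_eq_one_iff F.two_ne 1).1 h1.symm).symm
  · rw [sK_zero] at h1; exact (sK_eq_one_iff F.two_ne 1).1 h1

/-- Vectors are determined by their components. -/
theorem ext_fE {f g : Module.End K V}
    (h : ∀ χ : FZ D →+ ZMod 2, ∀ v ∈ fE ψ χ, f v = g v) : f = g := by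
  classical
  haveI := Fintype.ofFinite ↥(Subgroup.center ↥D)
  haveI : Finite (↥(Subgroup.center ↥D) →* K) := finite_hom
  haveI := Fintype.ofFinite (↥(Subgroup.center ↥D) →* K)
  refine LinearMap.ext fun v => ?_
  have hc : (Fintype.card ↥(Subgroup.center ↥D) : K) ≠ 0 := by
    rw [← Nat.card_eq_fintype_card]; exact F.natCast_card_ne
  rw [← sum_eproj_apply (psiZ ψ D) hc v, map_sum, map_sum]
  refine Finset.sum_congr rfl fun η _ => ?_
  obtain ⟨χ, rfl⟩ := F.exists_kchar η
  exact h χ _ (eproj_mem _ _ v)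

/-- The exponent exists unless `Z(D)`, and with it `D`, is trivial. -/
theorem exists_m (hD : D ≠ ⊥) : ∃ m, 0 < m ∧ r = 2 ^ m + 1 := by
  by_contra hno
  have hall : ∀ χ : FZ D →+ ZMod 2, fE ψ χ ≠ ⊥ → χ = 0 := fun χ hocc => by
    by_contra hne
    obtain ⟨m, h1, h2, -⟩ := F.exists_exponent hocc hne
    exact hno ⟨m, h1, h2⟩
  apply hD
  rw [eq_bot_iff, ← F.moved_eq]
  refine (moved_le F.inv).trans fun x hx => ?_
  rw [Subgroup.mem_bot]
  have hxm : (⟨x, hx⟩ : ↥D) ∈ moved F.inv.aut ⊤ := by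
    rw [F.m2.eq_top]; exact Subgroup.mem_top _
  refine F.act.inj ?_
  rw [map_one]
  refine F.ext_fE fun χ v hv => ?_
  by_cases hocc : fE ψ χ = ⊥
  · rw [hocc, Submodule.mem_bot] at hv
    rw [hv, map_zero, map_zero]
  · have hχ := hall χ hocc
    have htop : F.radSub χ = ⊤ := eq_top_iff.2 fun y _ z => by rw [hχ]; rfl
    exact F.apply_moved_radSub (x := ⟨x, hx⟩) (by rw [htop]; exact hxm) hv

theorem good {m : ℕ} (hm : 0 < m) (hr : r = 2 ^ m + 1) {χ : FZ D →+ ZMod 2} (hocc : fE ψ χ ≠ ⊥)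
    (hne : χ ≠ 0) : (F.quad hm hr).Good χ where
  singular := fun a ha => by
    obtain ⟨x, rfl⟩ := piA_surjective a
    rw [F.sqA_piA]
    exact F.singular hocc ((F.mem_radSub_iff hm hr χ x).2 ha)
  card := by
    obtain ⟨m', -, hr', hc⟩ := F.exists_exponent hocc hne
    obtain rfl : m' = m := Nat.pow_right_injective le_rfl (by show 2 ^ m' = 2 ^ m; omega)
    rw [← hc]
    let f : ↥D → FA D ⧸ (F.quad hm hr).rad χ := fun x => (piA x : FA D ⧸ _)
    have hf : ∀ x y : ↥D, f x = f y ↔ (x : ↥D ⧸ F.radSub χ) = y := fun x y => by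
      rw [QuotientGroup.eq, F.mem_radSub_iff hm hr, piA_mul, piA_inv]
      exact QuotientAddGroup.eq
    refine (Nat.card_eq_of_bijective (Quotient.lift f fun x y hxy => (hf x y).2 (Quotient.sound hxy))
      ⟨?_, ?_⟩).symm
    · intro a b
      induction a using QuotientGroup.induction_on with | H a =>
      induction b using QuotientGroup.induction_on with | H b =>
      exact (hf a b).1
    · intro q
      induction q using QuotientAddGroup.induction_on with | H a =>
      obtain ⟨x, rfl⟩ := piA_surjective a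
      exact ⟨(x : ↥D ⧸ F.radSub χ), rfl⟩

theorem sep {m : ℕ} (hm : 0 < m) (hr : r = 2 ^ m + 1) : (F.quad hm hr).Sep := by
  intro z hz
  have hz1 : (((Additive.toMul z : ↥(Subgroup.center ↥D)) : ↥D) : G) = 1 := by
    refine F.act.inj ?_
    rw [map_one]
    refine F.ext_fE fun χ v hv => ?_
    rw [mem_fE.1 hv _ (Additive.toMul z).2, toFZ_of_mem (Additive.toMul z).2]
    by_cases hocc : fE ψ χ = ⊥
    · rw [hocc, Submodule.mem_bot] at hv
      rw [hv, smul_zero, map_zero]
    · have h0 : χ z = 0 := by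
        by_cases hχ : χ = 0
        · rw [hχ]; rfl
        · exact hz χ (F.good hm hr hocc hχ)
      show sK K (χ z) • v = _
      rw [h0, sK_zero, one_smul, Module.End.one_apply]
  have h2 : (Additive.toMul z : ↥(Subgroup.center ↥D)) = 1 :=
    Subtype.ext (Subtype.ext hz1)
  exact congrArg Additive.ofMul h2

theorem nondeg (a : FA D) (ha : ∀ b, bz (sqA D) a b = 0) : a = 0 := by
  obtain ⟨x, rfl⟩ := piA_surjective a
  rw [F.piA_eq_zero, Subgroup.mem_center_iff]
  intro y
  have h := ha (piA y)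
  rw [F.bz_piA] at h
  exact commutatorElement_eq_one_iff_mul_comm.1 (toFZ_inj (F.comm_mem y x) h)

end Frame

end CfsgLib.HHShult
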