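import Cfsg.Agent.HHShult.Eigen

/-!
# A Frobenius group on a vector space without fixed points of the kernel

`mul_le_finrank`: if the abelian group `B` has no fixed vector on `W`, `ρ` of prime order `r`
normalises it and fixes no non-trivial character of `B`, then `r * dim C_W(ρ) ≤ dim W`;
`fixed_ne_bot`: and `C_W(ρ) ≠ 0`.
-/

set_option autoImplicit false
set_option linter.style.haveILetI false
set_option linter.unusedSectionVars false

open Finset Module

namespace CfsgLib.HHShult

universe u v w

/-- The data. -/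
structure FreeData (F : Type u) [Field F] (W : Type v) [AddCommGroup W] [Module F W]
    (B : Type w) [CommGroup B] [Fintype B] (τ : MulAut B) (r : ℕ) (φ : B →* Module.End F W)
    (ρ : Module.End F W) : Prop where
  prime : r.Prime
  card_ne : (Fintype.card B : F) ≠ 0
  tau_pow : τ ^ r = 1
  pow_eq : ρ ^ r = 1
  compat : ∀ b, ρ * φ b = φ (τ b) * ρ
  sum_eq : ∑ b : B, φ b = 0
  moved : ∀ H : Subgroup B, (∀ b, b⁻¹ * τ b ∈ H) → H = ⊤

section closed

variable {K : Type u} [Field K] [IsAlgClosed K] {V : Type v} [AddCommGroup V] [Module K V]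
  [FiniteDimensional K V] {B : Type w} [CommGroup B] [Fintype B] {τ : MulAut B} {r : ℕ}
  {φ : B →* Module.End K V} {s : Module.End K V}

theorem FreeData.eigen_one_eq_bot (h : FreeData K V B τ r φ s) : eigen φ (1 : B →* K) = ⊥ := by
  rw [eq_bot_iff]
  intro v hv
  have h1 := congrArg (fun f : Module.End K V => f v) h.sum_eq
  simp only [LinearMap.sum_apply, LinearMap.zero_apply] at h1
  rw [Finset.sum_congr rfl fun b _ => (hv b).trans (by rw [MonoidHom.one_apply, one_smul]),
    Finset.sum_const, Finset.card_univ, ← Nat.cast_smul_eq_nsmul K] at h1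
  exact (smul_eq_zero.1 h1).resolve_left h.card_ne

theorem FreeData.tau_pow_apply (h : FreeData K V B τ r φ s) : ∀ (n : ℕ) (b : B),
    s ^ n * φ b = φ ((τ ^ n) b) * s ^ n
  | 0, b => by simp
  | n + 1, b => by
    rw [pow_succ', mul_assoc, tau_pow_apply h n b, ← mul_assoc, h.compat, mul_assoc, pow_succ' τ,
      MulAut.mul_apply]

/-- Only the trivial character is fixed by a proper power of `τ`. -/
theorem FreeData.eq_one_of_fixed (h : FreeData K V B τ r φ s) {η : B →* K} {i : ℕ}
    (hi : ¬ r ∣ i) (he : ∀ b, η ((τ ^ i) b) = η b) : η = 1 := by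
  have hit : ∀ n b, η (((τ ^ i) ^ n) b) = η b := by
    intro n
    induction n with
    | zero => intro b; rfl
    | succ n ih => intro b; rw [pow_succ', MulAut.mul_apply, he, ih]
  obtain ⟨j, hj⟩ := Nat.exists_mul_mod_eq_one_of_coprime
    ((Nat.Prime.coprime_iff_not_dvd h.prime).2 hi).symm h.prime.one_lt
  have hτ : ∀ b, η (τ b) = η b := fun b => by
    have h1 := hit j b
    rwa [← pow_mul, ← Nat.mod_add_div (i * j) r, hj.2, pow_add, pow_mul, h.tau_pow, one_pow, mul_one,
      pow_one] at h1
  have hker : η.ker = ⊤ := h.moved _ fun b => by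
    rw [MonoidHom.mem_ker, map_mul, hτ, ← map_mul, inv_mul_cancel, map_one]
  exact MonoidHom.ext fun b => (hker ▸ Subgroup.mem_top b : b ∈ η.ker)

theorem FreeData.pow_apply_mem (h : FreeData K V B τ r φ s) {η : B →* K} {v : V}
    (hv : v ∈ eigen φ η) {i : ℕ} (hi : i ≤ r) :
    (s ^ i) v ∈ eigen φ (η.comp (τ ^ (r - i)).toMonoidHom) := fun b => by
  show φ b ((s ^ i) v) = η ((τ ^ (r - i)) b) • (s ^ i) v
  have e : (τ ^ i) ((τ ^ (r - i)) b) = b := by
    rw [← MulAut.mul_apply, ← pow_add, Nat.add_sub_cancel' hi, h.tau_pow, MulAut.one_apply]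
  conv_lhs => rw [← e]
  rw [← Module.End.mul_apply, ← h.tau_pow_apply, Module.End.mul_apply, hv, map_smul]

theorem FreeData.sum_ne_zero (h : FreeData K V B τ r φ s) [Nontrivial V] :
    ∑ i ∈ range r, s ^ i ≠ 0 := by
  classical
  haveI : Finite (B →* K) := finite_hom
  haveI := Fintype.ofFinite (B →* K)
  intro h0
  obtain ⟨η, v, -, hv0, hv⟩ := exists_eigenvector φ ⊤ (stable_top φ) top_ne_bot
  have h1 := congrArg (fun f : Module.End K V => eproj φ η (f v)) h0
  simp only [LinearMap.sum_apply, LinearMap.zero_apply, map_zero, map_sum] at h1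
  rw [Finset.sum_eq_single 0] at h1
  · rw [pow_zero, Module.End.one_apply, eproj_of_mem φ h.card_ne hv, if_pos rfl] at h1
    exact hv0 h1
  · intro i hi hi0
    have hi' := Finset.mem_range.1 hi
    rw [eproj_of_mem φ h.card_ne (h.pow_apply_mem hv hi'.le), if_neg]
    intro he
    have hη : η = 1 := h.eq_one_of_fixed (i := r - i)
      (fun hd => by have := Nat.le_of_dvd (by omega) hd; omega)
      fun b => (DFunLike.congr_fun he b).symm
    rw [hη, h.eigen_one_eq_bot, Submodule.mem_bot] at hv
    exact hv0 hv
  · exact fun h' => absurd (Finset.mem_range.2 h.prime.pos) h'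

/-- `r * dim ker (s - 1) ≤ dim V`. -/
theorem FreeData.mul_finrank_le (h : FreeData K V B τ r φ s) :
    r * finrank K (LinearMap.ker (s - 1)) ≤ finrank K V := by
  classical
  haveI : Finite (B →* K) := finite_hom
  haveI := Fintype.ofFinite (B →* K)
  -- the orbits of characters
  let act : ℕ → (B →* K) → (B →* K) := fun i η => η.comp (τ ^ i).toMonoidHom
  have hact : ∀ i j η, act i (act j η) = act (j + i) η := fun i j η => MonoidHom.ext fun b => by
    show η ((τ ^ j) ((τ ^ i) b)) = η ((τ ^ (j + i)) b)
    rw [pow_add, MulAut.mul_apply]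
  have hactr : ∀ η, act r η = η := fun η => MonoidHom.ext fun b => by
    show η ((τ ^ r) b) = η b
    rw [h.tau_pow, MulAut.one_apply]
  have hmodr : ∀ i η, act (i % r) η = act i η := fun i η => by
    show η.comp (τ ^ (i % r)).toMonoidHom = η.comp (τ ^ i).toMonoidHom
    congr 2
    conv_rhs => rw [← Nat.mod_add_div i r, pow_add, pow_mul, h.tau_pow, one_pow, mul_one]
  let rel : (B →* K) → (B →* K) → Prop := fun η μ => ∃ i, act i η = μ
  have hequiv : Equivalence rel :=
    ⟨fun η => ⟨0, MonoidHom.ext fun b => rfl⟩,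
      fun {η μ} ⟨i, hi⟩ => ⟨r - i % r, by
        rw [← hi, hact, ← hmodr]
        have hlt := Nat.mod_lt i h.prime.pos
        have : (i + (r - i % r)) % r = 0 := by
          rw [Nat.add_mod, ← Nat.add_mod_mod, Nat.mod_mod, ← Nat.add_mod]
          have h2 : i + (r - i % r) = r * (i / r) + r := by
            have := Nat.mod_add_div i r; omega
          rw [h2]; simp
        rw [this]; exact MonoidHom.ext fun b => rfl⟩,
      fun {η μ ν} ⟨i, hi⟩ ⟨j, hj⟩ => ⟨i + j, by rw [← hact, hi, hj]⟩⟩
  let st : Setoid (B →* K) := ⟨rel, hequiv⟩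
  let rep : (B →* K) → (B →* K) := fun η => (Quotient.mk st η).out
  have hrep : ∀ η, ∃ i, act i η = rep η := fun η =>
    hequiv.symm (Quotient.mk_out (s := st) η)
  have hrepc : ∀ i η, rep (act i η) = rep η := fun i η => by
    show (Quotient.mk st _).out = (Quotient.mk st _).out
    congr 1
    exact Quotient.sound (hequiv.symm ⟨i, rfl⟩)
  let Λ : Finset (B →* K) := univ.filter fun η => η ≠ 1 ∧ rep η = η
  let π : Module.End K V := ∑ η ∈ Λ, eproj φ η
  set T := LinearMap.ker (s - 1) with hT
  have hTs : ∀ v ∈ T, ∀ i, (s ^ i) v = v := by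
    intro v hv i
    rw [hT, LinearMap.mem_ker, LinearMap.sub_apply, Module.End.one_apply, sub_eq_zero] at hv
    induction i with
    | zero => rfl
    | succ i ih => rw [pow_succ, Module.End.mul_apply, hv, ih]
  -- projections of fixed vectors along an orbit
  have hproj : ∀ v ∈ T, ∀ η : B →* K, ∀ i ≤ r,
      (s ^ i) (eproj φ η v) = eproj φ (act (r - i) η) v := by
    intro v hv η i hi
    conv_rhs => rw [← sum_eproj_apply φ h.card_ne v]
    have hvi : (s ^ i) v = v := hTs v hv i
    have h1 : eproj φ (act (r - i) η) ((s ^ i) v) = (s ^ i) (eproj φ η v) := by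
      conv_lhs => rw [← sum_eproj_apply φ h.card_ne v, map_sum, map_sum]
      rw [Finset.sum_eq_single η]
      · rw [eproj_of_mem φ h.card_ne (h.pow_apply_mem (eproj_mem φ η v) hi), if_pos rfl]
      · intro μ _ hμ
        rw [eproj_of_mem φ h.card_ne (h.pow_apply_mem (eproj_mem φ μ v) hi), if_neg]
        intro he
        apply hμ
        have h2 := congrArg (act i) he
        rw [hact, show (μ.comp (τ ^ (r - i)).toMonoidHom) = act (r - i) μ from rfl, hact,
          Nat.sub_add_cancel hi, hactr, hactr] at h2
        exact h2.symm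
      · exact fun h' => absurd (mem_univ η) h'
    rw [sum_eproj_apply φ h.card_ne v, ← h1, hvi]
  have hπ : ∀ v ∈ T, π v = 0 → v = 0 := by
    intro v hv h0
    rw [← sum_eproj_apply φ h.card_ne v]
    refine Finset.sum_eq_zero fun η _ => ?_
    by_cases hη : η = 1
    · have := eproj_mem φ η v
      rw [hη, h.eigen_one_eq_bot, Submodule.mem_bot] at this
      rw [hη, this]
    obtain ⟨i, hi⟩ := hrep η
    have hrΛ : rep η ∈ Λ := by
      refine Finset.mem_filter.2 ⟨mem_univ _, fun he => hη ?_, ?_⟩
      · rw [← hi] at he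
        refine MonoidHom.ext fun b => ?_
        have h1 := DFunLike.congr_fun he ((τ ^ i).symm b)
        rw [MonoidHom.one_apply] at h1 ⊢
        show η b = 1
        rw [← h1]
        exact congrArg η ((τ ^ i).apply_symm_apply b).symm
      · rw [← hi, hrepc, hi]
    have hz : eproj φ (rep η) v = 0 := by
      have h1 := congrArg (eproj φ (rep η)) h0
      rw [map_zero, show π v = ∑ μ ∈ Λ, eproj φ μ v by simp [π, LinearMap.sum_apply], map_sum,
        Finset.sum_congr rfl fun μ _ => eproj_of_mem φ h.card_ne (eproj_mem φ μ v),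
        Finset.sum_ite_eq, if_pos hrΛ] at h1
      exact h1
    have hi2 : (s ^ (i % r)) (eproj φ (rep η) v) =
        eproj φ (act (r - i % r) (rep η)) v := hproj v hv _ _ (Nat.mod_lt i h.prime.pos).le
    rw [hz, map_zero] at hi2
    rw [← hi, ← hmodr i, hact, Nat.add_sub_cancel' (Nat.mod_lt i h.prime.pos).le, hactr] at hi2
    exact hi2.symm
  -- the injective map
  let f : (Fin r → T) →ₗ[K] V :=
    ∑ i : Fin r, ((s ^ (i : ℕ)) ∘ₗ π ∘ₗ T.subtype) ∘ₗ LinearMap.proj i
  have hf : Function.Injective f := by
    rw [← LinearMap.ker_eq_bot, Submodule.eq_bot_iff]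
    intro g hg
    rw [LinearMap.mem_ker] at hg
    funext i
    apply Subtype.ext
    refine hπ _ (g i).2 ?_
    show π (g i : V) = 0
    simp only [π, LinearMap.sum_apply]
    refine Finset.sum_eq_zero fun η hη => ?_
    rw [Finset.mem_filter] at hη
    have hsinj : Function.Injective (s ^ (i : ℕ)) := fun a b hab => by
      have h1 := congrArg (s ^ (r - (i : ℕ))) hab
      rwa [← Module.End.mul_apply, ← Module.End.mul_apply, ← pow_add,
        Nat.sub_add_cancel i.2.le, h.pow_eq] at h1
    apply hsinj
    rw [map_zero]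
    have hterm : ∀ j : Fin r, eproj φ (act (r - (i : ℕ)) η)
        ((s ^ (j : ℕ)) (π (g j : V))) =
          if j = i then (s ^ (i : ℕ)) (eproj φ η (g i : V)) else 0 := by
      intro j
      simp only [π, LinearMap.sum_apply, map_sum]
      have hin : ∀ μ : B →* K, (s ^ (j : ℕ)) (eproj φ μ (g j : V)) ∈
          eigen φ (act (r - (j : ℕ)) μ) := fun μ => h.pow_apply_mem (eproj_mem φ μ _) j.2.le
      rw [Finset.sum_congr rfl fun μ _ => eproj_of_mem φ h.card_ne (hin μ)]
      split_ifs with hji
      · subst hji
        rw [Finset.sum_eq_single η]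
        · rw [if_pos rfl]
        · intro μ _ hμ
          rw [if_neg]
          intro he
          apply hμ
          have h2 := congrArg (act (j : ℕ)) he
          rwa [hact, hact, Nat.sub_add_cancel j.2.le, hactr, hactr, eq_comm] at h2
        · exact fun h' => absurd (Finset.mem_filter.2 hη) h'
      · refine Finset.sum_eq_zero fun μ hμ => if_neg fun he => ?_
        rw [Finset.mem_filter] at hμ
        have h2 := congrArg rep he
        rw [hrepc, hrepc, hη.2.2, hμ.2.2] at h2
        subst h2
        have h3 := congrArg (act (i : ℕ)) he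
        rw [hact, hact, Nat.sub_add_cancel i.2.le, hactr] at h3
        refine hη.2.1 (h.eq_one_of_fixed (i := r - (j : ℕ) + (i : ℕ)) ?_
          fun b => (DFunLike.congr_fun h3 b).symm)
        intro hd
        apply hji
        apply Fin.ext
        obtain ⟨c, hc⟩ := hd
        have hi2 := i.2
        have hj2 := j.2
        rcases Nat.lt_or_ge c 2 with hc2 | hc2
        · rcases (show c = 0 ∨ c = 1 by omega) with rfl | rfl
          · omega
          · omega
        · have : r * 2 ≤ r * c := Nat.mul_le_mul_left r hc2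
          omega
    have h4 := congrArg (eproj φ (act (r - (i : ℕ)) η)) hg
    rw [map_zero] at h4
    simp only [f, LinearMap.sum_apply, LinearMap.comp_apply, LinearMap.proj_apply,
      Submodule.subtype_apply, map_sum] at h4
    rw [Finset.sum_congr rfl fun j _ => hterm j, Finset.sum_ite_eq', if_pos (mem_univ i)] at h4
    exact h4
  have hle := LinearMap.finrank_le_finrank_of_injective hf
  rwa [Module.finrank_pi_fintype, Finset.sum_const, Finset.card_univ, Fintype.card_fin,
    smul_eq_mul] at hle

end closed

section descent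

variable {F : Type u} [Field F] {W : Type v} [AddCommGroup W] [Module F W] [FiniteDimensional F W]
  {B : Type w} [CommGroup B] [Fintype B] {τ : MulAut B} {r : ℕ}
  {φ : B →* Module.End F W} {ρ : Module.End F W}

open scoped TensorProduct in
/-- The bound over any field. -/
theorem FreeData.bound (h : FreeData F W B τ r φ ρ) [Nontrivial W] :
    r * finrank F (LinearMap.ker (ρ - 1)) ≤ finrank F W ∧ LinearMap.ker (ρ - 1) ≠ ⊥ := by
  classical
  let K := AlgebraicClosure F
  let Θ : Module.End F W →ₐ[F] Module.End K (K ⊗[F] W) := Module.End.baseChangeHom F K W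
  let φ' : B →* Module.End K (K ⊗[F] W) := Θ.toMonoidHom.comp φ
  have h' : FreeData K (K ⊗[F] W) B τ r φ' (Θ ρ) :=
    { prime := h.prime
      card_ne := by
        rw [← map_natCast (algebraMap F K)]
        exact (map_ne_zero _).2 h.card_ne
      tau_pow := h.tau_pow
      pow_eq := by rw [← map_pow, h.pow_eq, map_one]
      compat := fun b => by
        show Θ ρ * Θ (φ b) = Θ (φ (τ b)) * Θ ρ
        rw [← map_mul, ← map_mul, h.compat]
      sum_eq := by
        show ∑ b : B, Θ (φ b) = 0
        rw [← map_sum, h.sum_eq, map_zero]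
      moved := h.moved }
  have hfin : finrank K (K ⊗[F] W) = finrank F W := Module.finrank_baseChange
  have hker : finrank F (LinearMap.ker (ρ - 1)) ≤ finrank K (LinearMap.ker (Θ ρ - 1)) := by
    set T := LinearMap.ker (ρ - 1) with hT
    let j : K ⊗[F] T →ₗ[K] K ⊗[F] W := LinearMap.baseChange K T.subtype
    have hj : Function.Injective j := by
      have h1 : Function.Injective (LinearMap.lTensor K T.subtype) :=
        Module.Flat.lTensor_preserves_injective_linearMap _ T.injective_subtype
      exact h1
    have hrange : LinearMap.range j ≤ LinearMap.ker (Θ ρ - 1) := by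
      rintro _ ⟨x, rfl⟩
      induction x using TensorProduct.induction_on with
      | zero => rw [map_zero]; exact zero_mem _
      | add x y hx hy => rw [map_add]; exact add_mem hx hy
      | tmul c t =>
        have ht : ρ (t : W) = t := by
          have h2 : (ρ - 1) (t : W) = 0 := LinearMap.mem_ker.1 t.2
          rwa [LinearMap.sub_apply, Module.End.one_apply, sub_eq_zero] at h2
        rw [LinearMap.mem_ker, LinearMap.sub_apply, Module.End.one_apply, sub_eq_zero]
        show (LinearMap.baseChange K ρ) (c ⊗ₜ[F] (t : W)) = c ⊗ₜ[F] (t : W)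
        rw [LinearMap.baseChange_tmul, ht]
    calc finrank F T = finrank K (K ⊗[F] T) := Module.finrank_baseChange.symm
      _ = finrank K (LinearMap.range j) := (LinearMap.finrank_range_of_inj hj).symm
      _ ≤ _ := Submodule.finrank_mono hrange
  refine ⟨(Nat.mul_le_mul_left r hker).trans (h'.mul_finrank_le.trans hfin.le), fun hbot => ?_⟩
  haveI : Nontrivial (K ⊗[F] W) := Module.nontrivial_of_finrank_pos (R := K) (by
    rw [hfin]; exact Module.finrank_pos)
  apply h'.sum_ne_zero
  show ∑ i ∈ range r, (Θ ρ) ^ i = 0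
  rw [Finset.sum_congr rfl fun i _ => (map_pow Θ ρ i).symm, ← map_sum]
  convert map_zero Θ
  refine LinearMap.ext fun v => ?_
  have hmem : (∑ i ∈ range r, ρ ^ i) v ∈ LinearMap.ker (ρ - 1) := by
    rw [LinearMap.mem_ker, ← Module.End.mul_apply]
    have e : (ρ - 1) * ∑ i ∈ range r, ρ ^ i = 0 := by
      rw [mul_geom_sum, h.pow_eq, sub_self]
    rw [e, LinearMap.zero_apply]
  rw [hbot, Submodule.mem_bot] at hmem
  exact hmem

end descent

end CfsgLib.HHShult
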