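import Cfsg.Agent.HHShult.Uniq

/-!
# Fusion in the home subgroup

`Home σ D H`: `H` is the largest proper invariant subgroup containing `D`.
`Good σ D y`: `y` is conjugate to a non-central element of `C_D(σ)`.
`Dec σ D y d t`: `y = d t`, `d ∈ D`, `t` fixed and normalising `D`;
`Bad σ D y d t`: in addition `y` is good and not in `C_D(σ)`.

* `Home.fusion`: non-central elements of `C_D(σ)` are fused only in `H`;
* `Bad.not_mem`: a bad element comes from outside `H`;
* `Home.exists_transport`: elements commuting with a bad element, seen from its frame.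
-/

set_option autoImplicit false
set_option linter.style.haveILetI false
set_option linter.unusedSectionVars false

open Finset Module Subgroup CfsgLib.ConjFunctor
open scoped commutatorElement CfsgLib.ConjFunctor Pointwise

namespace CfsgLib.HHShult

universe u v w

variable {G : Type w} [Group G] [Finite G]

/-- `H` is the largest proper invariant subgroup containing `D`. -/
structure Home (σ : MulAut G) (D H : Subgroup G) : Prop where
  mem : KMem σ D H
  max : ∀ L, KMem σ D L → L ≤ H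

/-- A conjugate of a non-central fixed element of `D`. -/
def Good (σ : MulAut G) (D : Subgroup G) (y : G) : Prop :=
  ∃ g z, z ∈ zsub σ D ∧ z ∉ Subgroup.center G ∧ y = g * z * g⁻¹

/-- `y = d t` with `d ∈ D` and `t` a fixed element normalising `D`. -/
structure Dec (σ : MulAut G) (D : Subgroup G) (y d t : G) : Prop where
  eq : y = d * t
  mem : d ∈ D
  fix : σ t = t
  norm : t ∈ normalizer (D : Set G)

/-- A good element of `N(D)` outside `C_D(σ)`. -/
structure Bad (σ : MulAut G) (D : Subgroup G) (y d t : G) : Prop extends Dec σ D y d t where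
  good : Good σ D y
  not_zsub : y ∉ zsub σ D

theorem Dec.mem_normalizer {σ : MulAut G} {D : Subgroup G} {y d t : G} (h : Dec σ D y d t) :
    y ∈ normalizer (D : Set G) := by
  rw [h.eq]
  exact mul_mem (le_normalizer h.mem) h.norm

theorem Dec.sq {σ : MulAut G} {D : Subgroup G} {y d t : G} (h : Dec σ D y d t) :
    Dec σ D (y * y) (d * (t * d * t⁻¹)) (t * t) where
  eq := by rw [h.eq]; group
  mem := mul_mem h.mem ((mem_normalizer_iff.1 h.norm d).1 h.mem)
  fix := by rw [map_mul, h.fix]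
  norm := mul_mem h.norm h.norm

variable {K : Type u} [Field K] [IsAlgClosed K] {V : Type v} [AddCommGroup V] [Module K V]
  [FiniteDimensional K V]
variable {p : ℕ} [hp : Fact p.Prime] {σ : MulAut G} {r : ℕ} {ψ : G →* Module.End K V}
  {s : Module.End K V}

namespace Good

variable (X : Cx p σ r ψ s) {D : Subgroup G} (hD : IsStdD σ D) {y : G}
include X hD

theorem sq_eq (hy : Good σ D y) : y * y = 1 := by
  obtain ⟨g, z, hz, -, rfl⟩ := hy
  calc g * z * g⁻¹ * (g * z * g⁻¹) = g * (z * z) * g⁻¹ := by group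
    _ = 1 := by rw [X.zsub_sq hD hz, mul_one, mul_inv_cancel]

omit X hD in
theorem conj (hy : Good σ D y) (a : G) : Good σ D (a * y * a⁻¹) := by
  obtain ⟨g, z, hz, hzc, rfl⟩ := hy
  exact ⟨a * g, z, hz, hzc, by group⟩

omit X hD in
theorem not_center (hy : Good σ D y) : y ∉ Subgroup.center G := by
  obtain ⟨g, z, -, hzc, rfl⟩ := hy
  intro h
  refine hzc ?_
  have hn : (Subgroup.center G).Normal := inferInstance
  have := hn.conj_mem _ h g⁻¹
  rwa [show g⁻¹ * (g * z * g⁻¹) * g⁻¹⁻¹ = z by group] at this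

end Good

theorem good_of_mem {D : Subgroup G} {z : G} (hz : z ∈ zsub σ D) (hzc : z ∉ Subgroup.center G) :
    Good σ D z := ⟨1, z, hz, hzc, by group⟩

namespace Home

variable (X : Cx p σ r ψ s) {D H : Subgroup G} (hD : IsStdD σ D) (hH : Home σ D H)
include X hD hH

theorem normalizer_le : normalizer (D : Set G) ≤ H := hH.max _ (X.kmem_normalizer_D hD)

theorem centralizer_le {e : G} (he : e ∈ zsub σ D) (hec : e ∉ Subgroup.center G) :
    centralizer ({e} : Set G) ≤ H := hH.max _ (X.kmem_centralizer hD he hec)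

/-- A fixed element mapping `D` into `H` lies in `H`. -/
theorem mem_of_cj_le {c : G} (hc : σ c = c) (hle : c *• D ≤ H) : c ∈ H := by
  have h1 : c *• D ≤ moved σ H := by
    rw [← X.moved_D hD, ← moved_cj hc]; exact moved_mono hle
  obtain ⟨u, hu, -, hle'⟩ := X.exists_le_cj hD hH.mem.inv hH.mem.ne_top hH.mem.le
    ((X.inv_D hD).cj hc) (isPGroup_cj c (X.isPGroup_D hD)) h1
  have heq : c *• D = u *• D := eq_of_le_of_card_ge hle' (by rw [card_cj, card_cj])
  have hn : u⁻¹ * c ∈ normalizer (D : Set G) := mem_normalizer_iff_cj.2 (by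
    rw [← cj_cj, heq, cj_inv_cj])
  have := mul_mem (X.ucore_le hH.mem.inv hu) (hH.normalizer_le X hD hn)
  rwa [mul_inv_cancel_left] at this

/-- **Fusion.** -/
theorem fusion {z₁ z₂ : G} (h1 : z₁ ∈ zsub σ D) (hc1 : z₁ ∉ Subgroup.center G)
    (h2 : z₂ ∈ zsub σ D) (hc2 : z₂ ∉ Subgroup.center G) {g : G} (hg : g * z₁ * g⁻¹ = z₂) :
    g ∈ H := by
  have hC := X.kmem_centralizer hD h1 hc1
  have hco : g⁻¹ * σ g ∈ centralizer ({z₁} : Set G) := by
    rw [mem_centralizer_singleton_iff]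
    have h3 : σ g * z₁ * (σ g)⁻¹ = z₂ := by
      have := congrArg σ hg
      rwa [map_mul, map_mul, map_inv, h1.2, h2.2] at this
    calc g⁻¹ * σ g * z₁ = g⁻¹ * (σ g * z₁ * (σ g)⁻¹) * σ g := by group
      _ = g⁻¹ * (g * z₁ * g⁻¹) * σ g := by rw [h3, hg]
      _ = z₁ * (g⁻¹ * σ g) := by group
  obtain ⟨k, hk, hkf⟩ := X.act.cop.exists_mem_fixed_coset hC.inv hco
  have hk' := mem_centralizer_singleton_iff.1 hk
  have hle : (g * k) *• D ≤ H := by
    refine cj_le_iff.2 fun d hd => hH.centralizer_le X hD h2 hc2 ?_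
    rw [mem_centralizer_singleton_iff, ← hg]
    have hz : d * z₁ = z₁ * d := X.zsub_comm hD h1 hd
    calc g * k * d * (g * k)⁻¹ * (g * z₁ * g⁻¹)
        = g * k * d * (k⁻¹ * z₁) * g⁻¹ := by group
      _ = g * k * d * (z₁ * k⁻¹) * g⁻¹ := by rw [(Commute.inv_left (show Commute k z₁ from hk')).eq]
      _ = g * k * (d * z₁) * k⁻¹ * g⁻¹ := by group
      _ = g * (k * z₁) * d * k⁻¹ * g⁻¹ := by rw [hz]; group
      _ = _ := by rw [hk']; group
  have := mul_mem (hH.mem_of_cj_le X hD hkf hle) (inv_mem (hH.centralizer_le X hD h1 hc1 hk))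
  rwa [mul_inv_cancel_right] at this

/-- `U` moves no element of `C_D(σ)` into `N(D)`. -/
theorem conj_eq {e u : G} (he : e ∈ zsub σ D) (hu : u ∈ ucore p σ H)
    (hn : u * e * u⁻¹ ∈ normalizer (D : Set G)) : u * e * u⁻¹ = e := by
  set e' := u * e * u⁻¹ with he'
  have hee : e * e = 1 := X.zsub_sq hD he
  have he'2 : e' * e' = 1 := by
    calc e' * e' = u * (e * e) * u⁻¹ := by rw [he']; group
      _ = 1 := by rw [hee, mul_one, mul_inv_cancel]
  set x := e' * e with hx
  have hxU : x ∈ ucore p σ H := by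
    have h1 : e * u⁻¹ * e⁻¹ ∈ ucore p σ H :=
      (mem_normalizer_iff.1 (X.le_normalizer_ucore (hH.mem.le he.1)) _).1 (inv_mem hu)
    have e1 : x = u * (e * u⁻¹ * e⁻¹) := by
      rw [hx, he', inv_eq_of_mul_eq_one_right hee]; group
    rw [e1]
    exact mul_mem hu h1
  have hconj : e' * e * e'⁻¹ ∈ D := (mem_normalizer_iff.1 hn e).1 he.1
  have hx2 : x * x ∈ D := by
    have e2 : x * x = (e' * e * e'⁻¹) * ((e' * e') * e) := by rw [hx]; group
    rw [e2, he'2, one_mul]
    exact mul_mem hconj he.1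
  obtain ⟨n, hn2⟩ := X.isPGroup_D hD ⟨x * x, hx2⟩
  obtain ⟨k, hk⟩ := X.isPGroup_ucore hH.mem.inv hH.mem.ne_top ⟨x, hxU⟩
  have h2 : x ^ (2 ^ (n + 1)) = 1 := by
    rw [pow_succ', pow_mul, sq]; exact congrArg Subtype.val hn2
  have hx1 : x = 1 := eq_one_of_pow_pow hp.out Nat.prime_two X.p_ne_two (congrArg Subtype.val hk) h2
  calc e' = x * e⁻¹ := by rw [hx]; group
    _ = e := by rw [hx1, one_mul, inv_eq_of_mul_eq_one_right hee]

/-- An `H`-conjugate of an element of `C_D(σ)` lying in `N(D)` lies in `C_D(σ)`. -/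
theorem mem_zsub_of_conj {y h z : G} (hy : y ∈ normalizer (D : Set G)) (hh : h ∈ H)
    (hz : z ∈ zsub σ D) (hyz : y = h * z * h⁻¹) : y ∈ zsub σ D := by
  obtain ⟨u, hu, d, hd, c, -, hcf, hcn, rfl⟩ :=
    X.exists_decomp hD hH.mem.inv hH.mem.ne_top hH.mem.le hh
  have hz' : c * z * c⁻¹ ∈ zsub σ D := X.mem_normalizer_zsub hD hcf hcn hz
  have e : y = u * (c * z * c⁻¹) * u⁻¹ := by
    rw [hyz]
    calc u * d * c * z * (u * d * c)⁻¹ = u * (d * (c * z * c⁻¹)) * d⁻¹ * u⁻¹ := by group
      _ = _ := by rw [X.zsub_comm hD hz' hd]; group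
  rw [e] at hy ⊢
  rwa [hH.conj_eq X hD hz' hu hy]

/-- Seen from the frame of `g z g⁻¹`, a commuting `2`-element decomposes. -/
theorem exists_transport {L : Subgroup G} (hL : KMem σ D L) {x : G} (hx : x ∈ L) {a : ℕ}
    (hxa : x ^ (2 ^ a) = 1) : ∃ k ∈ L, ∃ d t, Dec σ D (k⁻¹ * x * k) d t := by
  haveI : Fact (Nat.Prime 2) := ⟨Nat.prime_two⟩
  obtain ⟨T, hDT, hT, hTs⟩ :=
    X.act.cop.exists_sylow (p := 2) hL.inv hL.le (X.isPGroup_D hD) (X.inv_D hD)
  have hTD : moved σ T = D := (eq_of_le_of_card_ge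
    (by rw [← X.moved_D hD]; exact moved_mono hDT) (X.card_moved_two_le hD hT hTs.2.1)).symm
  have hxp : IsPGroup 2 (zpowers x) := by
    rintro ⟨y, i, rfl⟩
    refine ⟨a, Subtype.ext ?_⟩
    show (x ^ i) ^ (2 ^ a) = 1
    rw [← zpow_natCast, ← zpow_mul, mul_comm, zpow_mul, zpow_natCast, hxa, one_zpow]
  obtain ⟨b, hb, hle⟩ := hTs.exists_cj_le (zpowers_le.2 hx) hxp
  have hxT : b * x * b⁻¹ ∈ T := hle (conj_mem_cj b (mem_zpowers x))
  obtain ⟨d, hd, t, ht, htf, he⟩ := X.act.cop.decomp hT hxT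
  exact ⟨b⁻¹, inv_mem hb, d, t, ⟨by rw [inv_inv]; exact he, hTD ▸ hd, htf,
    hTD ▸ le_normalizer_moved ht⟩⟩

end Home

namespace Bad

variable (X : Cx p σ r ψ s) {D H : Subgroup G} (hD : IsStdD σ D) (hH : Home σ D H) {y d t : G}
include X hD hH

/-- A bad element comes from outside `H`. -/
theorem not_mem (hb : Bad σ D y d t) {g z : G} (hz : z ∈ zsub σ D) (hyz : y = g * z * g⁻¹) :
    g ∉ H := fun hg => hb.not_zsub (hH.mem_zsub_of_conj X hD hb.mem_normalizer hg hz hyz)

omit hH in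
theorem sq_mem (hb : Bad σ D y d t) : t * t ∈ zsub σ D := by
  refine ⟨?_, by show σ (t * t) = t * t; rw [map_mul, hb.fix]⟩
  have h1 := hb.good.sq_eq X hD
  have h2 : t * t = (d * (t * d * t⁻¹))⁻¹ * (y * y) := by rw [hb.eq]; group
  rw [h2, h1, mul_one]
  exact D.inv_mem (mul_mem hb.mem ((mem_normalizer_iff.1 hb.norm d).1 hb.mem))

/-- A bad element centralising `D` is not fixed. -/
theorem not_fixed_centralizer (hb : Bad σ D y d t) (hf : σ y = y) :
    y ∉ centralizer (D : Set G) := by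
  intro hc
  obtain ⟨g, z, hz, hzc, hyz⟩ := hb.good
  refine hb.not_mem X hD hH hz hyz ?_
  have hC := X.kmem_centralizer hD hz hzc
  have hco : g⁻¹ * σ g ∈ centralizer ({z} : Set G) := by
    rw [mem_centralizer_singleton_iff]
    have h3 : σ g * z * (σ g)⁻¹ = g * z * g⁻¹ := by
      rw [hyz, map_mul, map_mul, map_inv, hz.2] at hf; exact hf
    calc g⁻¹ * σ g * z = g⁻¹ * (σ g * z * (σ g)⁻¹) * σ g := by group
      _ = z * (g⁻¹ * σ g) := by rw [h3]; group
  obtain ⟨k, hk, hkf⟩ := X.act.cop.exists_mem_fixed_coset hC.inv hco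
  have hk' := mem_centralizer_singleton_iff.1 hk
  have hle : (g * k)⁻¹ *• D ≤ H := by
    refine cj_le_iff.2 fun d' hd' => hH.centralizer_le X hD hz hzc ?_
    rw [mem_centralizer_singleton_iff]
    have hzy : z = (g * k)⁻¹ * y * (g * k) := by
      calc z = k⁻¹ * (k * z) := by group
        _ = k⁻¹ * (z * k) := by rw [hk']
        _ = _ := by rw [hyz]; group
    rw [hzy]
    calc _ = (g * k)⁻¹ * (d' * y) * (g * k) := by group
      _ = (g * k)⁻¹ * (y * d') * (g * k) := by rw [mem_centralizer_iff.1 hc d' hd']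
      _ = _ := by group
  have h4 : (g * k)⁻¹ ∈ H := hH.mem_of_cj_le X hD (by rw [map_inv, hkf]) hle
  have := mul_mem (inv_mem h4) (inv_mem (hH.centralizer_le X hD hz hzc hk))
  rwa [inv_inv, mul_inv_cancel_right] at this

/-- From the frame of a bad `y`: a commuting `x` becomes `x' = d' t'`; if `x * x` is non-central in
`C_D(σ)`, then `x' * x'` is bad. -/
theorem exists_frame (hb : Bad σ D y d t) {x : G} (hxy : x * y = y * x) {a : ℕ}
    (hxa : x ^ (2 ^ a) = 1) : ∃ g' x' d' t', g' ∉ H ∧ Dec σ D x' d' t' ∧ x = g' * x' * g'⁻¹ ∧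
      ∀ e, e ∈ zsub σ D → e ∉ Subgroup.center G →
        (e = x → Bad σ D x' d' t') ∧
        (e = x * x → Bad σ D (x' * x') (d' * (t' * d' * t'⁻¹)) (t' * t')) := by
  obtain ⟨g, z, hz, hzc, hyz⟩ := hb.good
  have hC := X.kmem_centralizer hD hz hzc
  have hxC : g⁻¹ * x * g ∈ centralizer ({z} : Set G) := by
    rw [mem_centralizer_singleton_iff]
    calc g⁻¹ * x * g * z = g⁻¹ * (x * (g * z * g⁻¹)) * g := by group
      _ = g⁻¹ * ((g * z * g⁻¹) * x) * g := by rw [← hyz, hxy]
      _ = _ := by group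
  obtain ⟨k, hk, d', t', hdec⟩ := hH.exists_transport X hD hC hxC (a := a) (by
    have h1 := conj_pow (a := g⁻¹) (b := x) (i := 2 ^ a)
    rw [inv_inv] at h1
    rw [h1, hxa, mul_one, inv_mul_cancel])
  have hg' : g * k ∉ H := fun h => hb.not_mem X hD hH hz hyz (by
    have := mul_mem h (inv_mem (hH.centralizer_le X hD hz hzc hk))
    rwa [mul_inv_cancel_right] at this)
  refine ⟨g * k, _, d', t', hg', hdec, by group, fun e he hec => ⟨fun hex => ?_, fun hex => ?_⟩⟩
  · subst hex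
    exact ⟨hdec, ⟨(g * k)⁻¹, e, he, hec, by group⟩, fun hin => hg' (hH.fusion X hD hin (fun h' => by
      refine hec ?_
      have hn : (Subgroup.center G).Normal := inferInstance
      have := hn.conj_mem _ h' (g * k)
      rwa [show g * k * (k⁻¹ * (g⁻¹ * e * g) * k) * (g * k)⁻¹ = e by group] at this) he hec
        (by group))⟩
  · subst hex
    exact ⟨hdec.sq, ⟨(g * k)⁻¹, x * x, he, hec, by group⟩, fun hin => hg' (hH.fusion X hD hin
      (fun h' => by
        refine hec ?_
        have hn : (Subgroup.center G).Normal := inferInstance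
        have := hn.conj_mem _ h' (g * k)
        rwa [show g * k * ((k⁻¹ * (g⁻¹ * x * g) * k) * (k⁻¹ * (g⁻¹ * x * g) * k)) * (g * k)⁻¹ =
          x * x by group] at this) he hec (by group))⟩

end Bad

end CfsgLib.HHShult
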