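import Cfsg.Agent.HHShult.NoP

/-!
# The index of the fixed points

* `Cx.relIndex_fixed_D`, `Cx.relIndex_fixed_home`: `|D : C_D| = |H : C_H| = 2 ^ (2 m)`;
* `Cx.relIndex_fixed_dvd`: `|L : C_L|` is controlled by the invariant Sylow subgroups of `L`;
* `Cx.index_fixed`: `|G : C| = 2 ^ (2 m) B` with `B = |P : C_P|`, `B ≡ 1 (mod r)`, `B > 1`;
* `Cx.index_home`: `|G : H| = B |C : C_H|`.
-/

set_option autoImplicit false
set_option linter.style.haveILetI false
set_option linter.unusedSectionVars false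

open Finset Module Subgroup CfsgLib.ConjFunctor
open scoped commutatorElement CfsgLib.ConjFunctor

namespace CfsgLib.HHShult

universe u v w

variable {G : Type w} [Group G] [Finite G]
variable {K : Type u} [Field K] [IsAlgClosed K] {V : Type v} [AddCommGroup V] [Module K V]
  [FiniteDimensional K V]
variable {p : ℕ} [hp : Fact p.Prime] {σ : MulAut G} {r : ℕ} {ψ : G →* Module.End K V}
  {s : Module.End K V}

/-- The fixed points have the same index in `S` and in `D` if `S = D C_S`. -/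
theorem relIndex_fixed_eq {D S : Subgroup G} (hle : D ≤ S)
    (h : ∀ x ∈ S, ∃ d ∈ D, ∃ c, σ c = c ∧ x = d * c) :
    (fixedSub σ).relIndex S = (fixedSub σ).relIndex D := by
  symm
  let f : ↥D ⧸ (fixedSub σ).subgroupOf D → ↥S ⧸ (fixedSub σ).subgroupOf S :=
    Quotient.map' (Subgroup.inclusion hle) fun a b hab => by
      rw [QuotientGroup.leftRel_apply] at hab ⊢
      exact hab
  refine Nat.card_eq_of_bijective f ⟨fun a b => ?_, fun q => ?_⟩
  · induction a using QuotientGroup.induction_on with | H a =>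
    induction b using QuotientGroup.induction_on with | H b =>
    intro hab
    have h1 : ((Subgroup.inclusion hle a : ↥S) : ↥S ⧸ (fixedSub σ).subgroupOf S) =
        (Subgroup.inclusion hle b : ↥S) := hab
    rw [QuotientGroup.eq] at h1 ⊢
    exact h1
  · induction q using QuotientGroup.induction_on with | H x =>
    obtain ⟨d, hd, c, hc, he⟩ := h x x.2
    refine ⟨((⟨d, hd⟩ : ↥D) : ↥D ⧸ (fixedSub σ).subgroupOf D), ?_⟩
    show ((Subgroup.inclusion hle ⟨d, hd⟩ : ↥S) : ↥S ⧸ (fixedSub σ).subgroupOf S) = x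
    rw [QuotientGroup.eq, mem_subgroupOf]
    show σ (d⁻¹ * (x : G)) = d⁻¹ * (x : G)
    rw [he, inv_mul_cancel_left, hc]

/-- The index of the fixed points in a `q`-group is a power of `q`. -/
theorem exists_relIndex_eq_pow {q : ℕ} [Fact q.Prime] {A : Subgroup G} (hA : IsPGroup q A) :
    ∃ i, (fixedSub σ).relIndex A = q ^ i := by
  obtain ⟨n, hn⟩ := IsPGroup.iff_card.1 hA
  obtain ⟨i, -, hi⟩ := (Nat.dvd_prime_pow (Fact.out : q.Prime)).1
    (hn ▸ (by rw [relIndex]; exact index_dvd_card _ : (fixedSub σ).relIndex A ∣ Nat.card A))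
  exact ⟨i, hi⟩

namespace Cx

variable (X : Cx p σ r ψ s)
include X

/-- `|L : C_L|` divides every common multiple of the `|T : C_T|`. -/
theorem relIndex_fixed_dvd {L : Subgroup G} (hL : Inv σ L) {N : ℕ}
    (h : ∀ q : ℕ, q.Prime → ∀ T : Subgroup G, Inv σ T → IsSylowIn q T L →
      (fixedSub σ).relIndex T ∣ N) :
    (fixedSub σ).relIndex L ∣ N := by
  set C := fixedSub σ with hC
  refine (Nat.dvd_iff_prime_pow_dvd_dvd _ _).2 fun q e hq hd => ?_
  haveI := Fact.mk hq
  obtain ⟨T, -, hT, hTs⟩ := X.act.cop.exists_sylow (p := q) hL bot_le IsPGroup.of_bot inv_bot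
  have h1 := relIndex_mul_relIndex (T ⊓ C) T L inf_le_left hTs.1
  have h2 := relIndex_mul_relIndex (T ⊓ C) (L ⊓ C) L (inf_le_inf_right _ hTs.1) inf_le_left
  rw [inf_relIndex_left] at h1 h2
  have h4 : q ^ e ∣ C.relIndex T * T.relIndex L := by
    rw [h1, ← h2]
    exact hd.trans (dvd_mul_left _ _)
  exact (Nat.Coprime.dvd_of_dvd_mul_right
    (Nat.Coprime.pow_left _ (hq.coprime_iff_not_dvd.2 hTs.2.2)) h4).trans (h q hq T hT hTs)

variable {D H : Subgroup G} (hD : IsStdD σ D) (hH : Home σ D H)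
include hD hH

theorem relIndex_fixed_D {m : ℕ} (hm : 0 < m) (hr : r = 2 ^ m + 1) :
    (fixedSub σ).relIndex D = 2 ^ (2 * m) := by
  obtain ⟨-, hcard, -, -, -⟩ := X.aniso hD hH hm hr
  have F := X.frame hD
  have e : (fixedSub σ).subgroupOf D = commutator ↥D := by
    ext x
    rw [mem_subgroupOf, F.m2.commutator_eq_center, F.center_iff]
    rfl
  rw [Subgroup.relIndex, e, ← hcard]
  exact Nat.card_congr Additive.ofMul

/-- An element of `H` is a product of one of `D` and a fixed one normalising `D`. -/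
theorem home_decomp {x : G} (hx : x ∈ H) :
    ∃ d ∈ D, ∃ c ∈ gam σ D, x = d * c := by
  obtain ⟨u, hu, d, hd, c, -, hcf, hcn, he⟩ :=
    X.exists_decomp hD hH.mem.inv hH.mem.ne_top hH.mem.le hx
  rw [(X.home_eq hD hH).1, mem_bot] at hu
  exact ⟨d, hd, c, ⟨hcf, hcn⟩, by rw [he, hu, one_mul]⟩

theorem relIndex_fixed_home {m : ℕ} (hm : 0 < m) (hr : r = 2 ^ m + 1) :
    (fixedSub σ).relIndex H = 2 ^ (2 * m) := by
  rw [relIndex_fixed_eq hH.mem.le fun x hx => ?_, X.relIndex_fixed_D hD hH hm hr]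
  obtain ⟨d, hd, c, hc, he⟩ := X.home_decomp hD hH hx
  exact ⟨d, hd, c, hc.1, he⟩

omit hH in
/-- The invariant Sylow `2`-subgroups: `|T : C_T| ∣ |D : C_D|`. -/
theorem relIndex_fixed_two {T : Subgroup G} (hT : Inv σ T) (hT2 : IsPGroup 2 T) :
    (fixedSub σ).relIndex T ∣ (fixedSub σ).relIndex D := by
  haveI : Fact (Nat.Prime 2) := ⟨Nat.prime_two⟩
  obtain ⟨S, hS, hSs, hSD⟩ := hD
  obtain ⟨c, -, hcf, hle⟩ := X.act.cop.exists_cj_fixed_le inv_top (le_top : T ≤ ⊤) hT2 hT hS hSs
  have hSD' : (fixedSub σ).relIndex S = (fixedSub σ).relIndex D := by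
    refine relIndex_fixed_eq (hSD ▸ moved_le hS) fun x hx => ?_
    obtain ⟨d, hd, c', -, hc', he⟩ := X.act.cop.decomp hS hx
    exact ⟨d, hSD ▸ hd, c', hc', he⟩
  have h1 : (fixedSub σ).relIndex (c *• T) = (fixedSub σ).relIndex T := by
    have hC : c *• fixedSub σ = fixedSub σ :=
      cj_eq_of_mem_normalizer (le_normalizer (mem_fixedSub.2 hcf))
    conv_lhs => rw [← hC, relIndex_cj]
  rw [← h1, ← hSD']
  obtain ⟨i, hi⟩ := exists_relIndex_eq_pow (σ := σ) hSs.2.1
  obtain ⟨j, hj⟩ := exists_relIndex_eq_pow (σ := σ) (hSs.2.1.to_le hle)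
  rw [hi, hj]
  exact pow_dvd_pow 2 ((Nat.pow_le_pow_iff_right (by norm_num)).1
    (hi ▸ hj ▸ relIndex_le_of_le_right hle index_ne_zero_of_finite))

omit hD hH in
theorem relIndex_fixed_le_sylow {P T : Subgroup G} (hP : Inv σ P) (hPs : IsSylowIn p P ⊤)
    (hT : Inv σ T) (hTp : IsPGroup p T) :
    (fixedSub σ).relIndex T ∣ (fixedSub σ).relIndex P := by
  obtain ⟨c, -, hcf, hle⟩ := X.act.cop.exists_cj_fixed_le inv_top (le_top : T ≤ ⊤) hTp hT hP hPs
  have hC : c *• fixedSub σ = fixedSub σ :=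
    cj_eq_of_mem_normalizer (le_normalizer (mem_fixedSub.2 hcf))
  have h1 : (fixedSub σ).relIndex (c *• T) = (fixedSub σ).relIndex T := by
    conv_lhs => rw [← hC, relIndex_cj]
  rw [← h1]
  obtain ⟨i, hi⟩ := exists_relIndex_eq_pow (σ := σ) hPs.2.1
  obtain ⟨j, hj⟩ := exists_relIndex_eq_pow (σ := σ) (hPs.2.1.to_le hle)
  rw [hi, hj]
  exact pow_dvd_pow p ((Nat.pow_le_pow_iff_right hp.out.one_lt).1
    (hi ▸ hj ▸ relIndex_le_of_le_right hle index_ne_zero_of_finite))

theorem index_fixed {m : ℕ} (hm : 0 < m) (hr : r = 2 ^ m + 1) {P : Subgroup G} (hP : Inv σ P)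
    (hPs : IsSylowIn p P ⊤) :
    (fixedSub σ).index = 2 ^ (2 * m) * (fixedSub σ).relIndex P ∧
      (fixedSub σ).relIndex P % r = 1 ∧ 1 < (fixedSub σ).relIndex P := by
  haveI : Fact (Nat.Prime 2) := ⟨Nat.prime_two⟩
  have hC2 := X.relIndex_fixed_D hD hH hm hr
  obtain ⟨i, hi⟩ := exists_relIndex_eq_pow (σ := σ) hPs.2.1
  refine ⟨?_, ?_, ?_⟩
  · apply Nat.dvd_antisymm
    · rw [← relIndex_top_right]
      refine X.relIndex_fixed_dvd inv_top fun q hq T hT hTs => ?_
      haveI := Fact.mk hq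
      by_cases hq2 : q = 2
      · subst hq2
        exact (hC2 ▸ X.relIndex_fixed_two hD hT hTs.2.1).trans (dvd_mul_right _ _)
      by_cases hqp : q = p
      · subst hqp
        exact (X.relIndex_fixed_le_sylow hP hPs hT hTs.2.1).trans (dvd_mul_left _ _)
      rw [relIndex_eq_one.2 (X.fixed_of_prime hq2 hqp hT hTs.2.1)]
      exact one_dvd _
    · refine Nat.Coprime.mul_dvd_of_dvd_of_dvd ?_ ?_ ?_
      · rw [hi]
        exact Nat.Coprime.pow _ _ ((Nat.coprime_primes Nat.prime_two hp.out).2 X.p_ne_two.symm)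
      · obtain ⟨S, hS, hSs, hSD⟩ := hD
        rw [← hC2, ← relIndex_fixed_eq (σ := σ) (hSD ▸ moved_le hS) fun x hx => by
          obtain ⟨d, hd, c', -, hc', he⟩ := X.act.cop.decomp hS hx
          exact ⟨d, hSD ▸ hd, c', hc', he⟩, ← relIndex_top_right]
        exact X.relIndex_dvd_relIndex ⟨S, hS, hSs, hSD⟩ inv_top hS hSs
      · rw [← relIndex_top_right]
        exact X.relIndex_dvd_relIndex hD inv_top hP hPs
  · have hCi : ∀ x ∈ (fixedSub σ).subgroupOf P, hP.aut x ∈ (fixedSub σ).subgroupOf P := by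
      intro x hx
      show σ (σ (x : G)) = σ (x : G)
      rw [show σ (x : G) = x from hx]
      exact hx
    let f : ↥P ⧸ (fixedSub σ).subgroupOf P → ↥P ⧸ (fixedSub σ).subgroupOf P :=
      Quotient.map' hP.aut fun a b hab => by
        rw [QuotientGroup.leftRel_apply] at hab ⊢
        rw [← map_inv, ← map_mul]
        exact hCi _ hab
    have hpow : ∀ (n : ℕ) (x : ↥P), f^[n] (x : ↥P ⧸ (fixedSub σ).subgroupOf P) =
        ((hP.aut ^ n) x : ↥P) := by
      intro n
      induction n with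
      | zero => intro x; rfl
      | succ n ih => intro x; rw [Function.iterate_succ_apply', ih, pow_succ']; rfl
    have hfr : f^[r] = id := funext fun q => by
      induction q using QuotientGroup.induction_on with | H x =>
      rw [hpow, (X.act.cop.restrict hP).pow_eq]
      rfl
    have hfb : Function.Bijective f := by
      have hrpos : 0 < r := X.act.cop.prime.pos
      obtain ⟨r', hr'⟩ := Nat.exists_eq_succ_of_ne_zero hrpos.ne'
      rw [hr'] at hfr
      exact ⟨fun a b h => by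
          have := congrArg (f^[r']) h
          rwa [← Function.iterate_succ_apply, ← Function.iterate_succ_apply, hfr] at this,
        fun b => ⟨f^[r'] b, by rw [← Function.iterate_succ_apply' f r', hfr]; rfl⟩⟩
    refine card_mod_of_unique_fixed X.act.cop.prime (Equiv.ofBijective f hfb)
      (Equiv.ext fun q => by
        rw [show (Equiv.ofBijective f hfb ^ r) q = f^[r] q from by
          rw [Equiv.Perm.coe_pow]; rfl, hfr]
        rfl)
      ((1 : ↥P) : ↥P ⧸ (fixedSub σ).subgroupOf P) (by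
        show ((hP.aut 1 : ↥P) : ↥P ⧸ (fixedSub σ).subgroupOf P) = _
        rw [map_one]) ?_
    intro q
    induction q using QuotientGroup.induction_on with | H x =>
    intro hq
    have h1 : (hP.aut x : ↥P) = (x : ↥P ⧸ (fixedSub σ).subgroupOf P) := hq
    rw [eq_comm, QuotientGroup.eq] at h1
    have h2 : (x : G)⁻¹ * σ (x : G) ∈ P ⊓ fixedSub σ :=
      mem_inf.2 ⟨mul_mem (inv_mem x.2) (hP _ x.2), h1⟩
    obtain ⟨k, hk, hkf⟩ := X.act.cop.exists_mem_fixed_coset (hP.inf inv_fixedSub) h2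
    rw [QuotientGroup.eq, mul_one, inv_mem_iff, mem_subgroupOf, mem_fixedSub]
    have h3 : σ k = k := hk.2
    rw [map_mul, h3] at hkf
    exact mul_right_cancel hkf
  · rcases i with _ | i
    · exfalso
      apply X.not_two
      refine X.top_le_of_others_fixed fun q hq hq2 T hT hTq => ?_
      haveI := Fact.mk hq
      by_cases hqp : q = p
      · subst hqp
        have := X.relIndex_fixed_le_sylow hP hPs hT hTq
        rw [hi, pow_zero, Nat.dvd_one] at this
        exact relIndex_eq_one.1 this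
      · exact X.fixed_of_prime hq2 hqp hT hTq
    · rw [hi]
      exact Nat.one_lt_pow i.succ_ne_zero hp.out.one_lt

/-- `|G : H| |H : C_H| = |C : C_H| |G : C|`. -/
theorem index_home {m : ℕ} (hm : 0 < m) (hr : r = 2 ^ m + 1) {P : Subgroup G} (hP : Inv σ P)
    (hPs : IsSylowIn p P ⊤) :
    H.index = (fixedSub σ).relIndex P * H.relIndex (fixedSub σ) := by
  have h1 := relIndex_mul_index (inf_le_left : H ⊓ fixedSub σ ≤ H)
  have h2 := relIndex_mul_index (inf_le_right : H ⊓ fixedSub σ ≤ fixedSub σ)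
  rw [inf_relIndex_left, X.relIndex_fixed_home hD hH hm hr] at h1
  rw [inf_relIndex_right, (X.index_fixed hD hH hm hr hP hPs).1] at h2
  refine Nat.eq_of_mul_eq_mul_left (show 0 < 2 ^ (2 * m) by positivity) ?_
  rw [h1, ← h2]
  ring

end Cx

end CfsgLib.HHShult
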