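import Cfsg.Agent.HHShult.Duo

/-!
# No singular classes

`Duo.false_of_iso`: if the stabiliser of every element with square in `Z0` is transitive on the
classes, no non-zero element has square in `Z0`.  Otherwise all occurring characters restrict to one
form on a singular line, no four of them add up to `0`, and counting leaves `4` or `16` classes.
-/

set_option autoImplicit false
set_option linter.style.haveILetI false
set_option linter.unusedSectionVars false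

open Finset

namespace CfsgLib.HHShult

/-- The algebra of the elimination: characteristic two. -/
theorem elim_ring {R : Type*} [CommRing R] [CharP R 2] {u v a b : R}
    (h1 : (1 + b) * (u + a) + (1 + a) * (v + b) = 0)
    (h2 : v * (1 + b) * (u + a) + u * (1 + a) * (v + b) = 0) :
    (1 + a) * ((u + a) * ((u + v) * (1 + v))) = 0 := by
  have h20 : (2 : R) = 0 := CharTwo.two_eq_zero
  have h40 : (4 : R) = 0 := by linear_combination (2 : R) * h20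
  linear_combination (norm := (ring_nf; simp only [h20, h40, mul_zero, neg_zero, sub_zero, add_zero, sub_self]))
    (1 + u) * h2 + (v * (u + a) + (1 + a) * u) * h1

theorem zmod2_add_eq_zero {a b : ZMod 2} (h : a + b = 0) : a = b := CharTwo.add_eq_zero.1 h

namespace Duo

variable {A Z Γ : Type*} [AddCommGroup A] [Finite A] [AddCommGroup Z] [Group Γ] [Finite Γ]
  {sq : A → Z}
  {ρ : AddMonoid.End A} {r m : ℕ} {Z0 : AddSubgroup Z} {Φ : Finset (Z →+ ZMod 2)}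
  {actA : Γ →* AddMonoid.End A} {actZ : Γ →* AddMonoid.End Z}

/-- The stabiliser of an element with square in `Z0` is transitive on the classes. -/
def IsoTrans (sq : A → Z) (Z0 : AddSubgroup Z) (actA : Γ →* AddMonoid.End A)
    (actZ : Γ →* AddMonoid.End Z) : Prop :=
  ∀ a, a ≠ 0 → sq a ∈ Z0 → ∀ z w, z ∉ Z0 → w ∉ Z0 → ∃ c, actA c a = a ∧ actZ c z + w ∈ Z0

/-- A singular irreducible subgroup with the projections of all occurring characters on it. -/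
structure Proj {sq : A → Z} {ρ : AddMonoid.End A} {r m : ℕ} (h : Quad sq ρ r m)
    (Z0 : AddSubgroup Z) (Φ : Finset (Z →+ ZMod 2)) (N₀ : AddSubgroup A) (z₁ : Z)
    (φ : (Z →+ ZMod 2) → A →+ A) : Prop where
  irr : Quad.Irred ρ N₀
  card : Nat.card N₀ = 2 ^ (2 * m)
  z1_mem : z₁ ∈ Z0
  z1_ne : z₁ ≠ 0
  sq_mem : ∀ n ∈ N₀, sq n ∈ Z0
  exists_z1 : ∃ n ∈ N₀, sq n = z₁
  phi_mem : ∀ χ ∈ Φ, ∀ a, φ χ a ∈ N₀
  phi_rad : ∀ χ ∈ Φ, ∀ a, a + φ χ a ∈ h.rad χ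

variable (U : Duo sq ρ r m Z0 Φ actA actZ)
include U

theorem sep' : U.quad.Sep := fun z hz => U.sep z fun χ hχ => by
  by_cases h0 : χ = 0
  · rw [h0]; rfl
  · exact hz χ (U.good χ hχ h0)

/-- The span of an element with square in `Z0` consists of such elements. -/
theorem sq_mem_spanR (hI : IsoTrans sq Z0 actA actZ) {a x : A} (hsq : sq a ∈ Z0)
    (hx : x ∈ spanR ρ a) : sq x ∈ Z0 := by
  by_cases ha : a = 0
  · have h := spanR_le (N := ⊥) (ρ := ρ) (fun y hy => by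
      rw [AddSubgroup.mem_bot] at hy ⊢
      rw [hy, map_zero]) (AddSubgroup.mem_bot.2 ha) hx
    rw [AddSubgroup.mem_bot] at h
    rw [h, U.quad.sq_zero]
    exact zero_mem _
  by_contra hz
  obtain ⟨w, hw, hwz⟩ : ∃ w, w ∉ Z0 ∧ sq x + w ∉ Z0 := by
    obtain ⟨b, c, hb, hc, hbc⟩ := U.classes
    by_cases h : sq x + b ∈ Z0
    · refine ⟨c, hc, fun h' => hbc ?_⟩
      have := add_mem h h'
      rwa [show sq x + b + (sq x + c) = (sq x + sq x) + (b + c) by abel, U.quad.twoZ, zero_add]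
        at this
    · exact ⟨b, hb, h⟩
  obtain ⟨c, hca, hcz⟩ := hI a ha hsq _ _ hz hw
  rw [← U.sq_act, U.fix_spanR hca hx] at hcz
  exact hwz hcz

open scoped Classical in
theorem exists_proj (hI : IsoTrans sq Z0 actA actZ) {a : A} (ha : a ≠ 0)
    (hsq : sq a ∈ Z0) : ∃ N₀ z₁ φ, Proj U.quad Z0 Φ N₀ z₁ φ := by
  classical
  obtain ⟨N₀, hle, hirr⟩ := Quad.exists_irred (invSub_spanR ρ a) (fun h => ha (by
    have := mem_spanR_self ρ a
    rwa [h, AddSubgroup.mem_bot] at this))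
  have hsqm : ∀ n ∈ N₀, sq n ∈ Z0 := fun n hn => U.sq_mem_spanR hI hsq (hle hn)
  obtain ⟨χ₀, hχ₀, hnr⟩ : ∃ χ ∈ Φ, ¬ N₀ ≤ U.quad.rad χ := by
    by_contra! hall
    obtain ⟨x, hx⟩ := AddSubgroup.ne_bot_iff_exists_ne_zero.1 hirr.ne_bot
    exact hx (Subtype.ext (U.nondeg x fun b => U.sep _ fun χ hχ => hall χ hχ x.2 b))
  obtain ⟨n₀, hn₀, hn₀χ⟩ : ∃ n ∈ N₀, χ₀ (sq n) ≠ 0 := by
    by_contra! hall
    refine hnr fun x hx => ?_
    rcases hirr.min (N₀ ⊓ U.quad.rad χ₀) (fun y hy => ⟨hirr.inv y hy.1, U.quad.invSub_rad χ₀ y hy.2⟩)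
      inf_le_left with hb | ht
    · -- the image is everything, so the form is the whole form
      exfalso
      have hχ0 : χ₀ ≠ 0 := fun h => hnr fun y _ b => by rw [h]; rfl
      have hg := U.good χ₀ hχ₀ hχ0
      haveI := Fintype.ofFinite (A ⧸ U.quad.rad χ₀)
      obtain ⟨q, hq⟩ := hg.line.exists_nonsingular
      obtain ⟨n, hn, rfl⟩ : q ∈ N₀.map (QuotientAddGroup.mk' (U.quad.rad χ₀)) :=
        ((hg.le_rad_or hirr.inv).resolve_left hnr) ▸ AddSubgroup.mem_top q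
      rw [QuotientAddGroup.mk'_apply, Quad.radForm_mk hg, hall n hn] at hq
      exact zero_ne_one hq
    · exact (ht.symm ▸ hx : x ∈ N₀ ⊓ U.quad.rad χ₀).2
  have hne : sq n₀ ≠ 0 := fun h => hn₀χ (by rw [h, map_zero])
  have hex : ∀ χ ∈ Φ, ∃ φ : A →+ A, (∀ x, φ x ∈ N₀) ∧ ∀ x, x + φ x ∈ U.quad.rad χ := by
    intro χ hχ
    have h1 : χ (sq n₀) = 1 := U.odd _ (hsqm _ hn₀) hne χ hχ
    have hnle : ¬ N₀ ≤ U.quad.rad χ := fun hle' => by
      have := U.quad.form_eq_zero_of_bz hirr.inv χ (fun x hx y _ => hle' hx y) n₀ hn₀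
      rw [h1] at this
      exact one_ne_zero this
    have hg := U.good χ hχ fun h => by rw [h] at h1; exact zero_ne_one h1
    have htop := (hg.le_rad_or hirr.inv).resolve_left hnle
    let e : N₀ →+ A ⧸ U.quad.rad χ := (QuotientAddGroup.mk' (U.quad.rad χ)).comp N₀.subtype
    have hbij : Function.Bijective e := by
      refine ⟨fun x y hxy => ?_, fun q => ?_⟩
      · have hm : -(x : A) + y ∈ N₀ ⊓ U.quad.rad χ :=
          ⟨N₀.add_mem (N₀.neg_mem x.2) y.2, QuotientAddGroup.eq.1 hxy⟩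
        rcases hirr.min (N₀ ⊓ U.quad.rad χ)
          (fun y hy => ⟨hirr.inv y hy.1, U.quad.invSub_rad χ y hy.2⟩) inf_le_left with hb | ht
        · rw [hb, AddSubgroup.mem_bot, neg_add_eq_zero] at hm
          exact Subtype.ext hm
        · exact absurd (inf_eq_left.1 ht) hnle
      · obtain ⟨x, hx, rfl⟩ : q ∈ N₀.map (QuotientAddGroup.mk' (U.quad.rad χ)) :=
          htop ▸ AddSubgroup.mem_top q
        exact ⟨⟨x, hx⟩, rfl⟩
    let E := AddEquiv.ofBijective e hbij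
    refine ⟨N₀.subtype.comp (E.symm.toAddMonoidHom.comp (QuotientAddGroup.mk' (U.quad.rad χ))),
      fun x => SetLike.coe_mem _, fun x => ?_⟩
    have h2 : e (E.symm (x : A ⧸ U.quad.rad χ)) = (x : A ⧸ U.quad.rad χ) := E.apply_symm_apply _
    have h3 := QuotientAddGroup.eq.1 h2.symm
    rwa [U.quad.negA] at h3
  choose φ hφ1 hφ2 using hex
  refine ⟨N₀, sq n₀, fun χ => if h : χ ∈ Φ then φ χ h else 0, hirr,
    U.quad.card_irred U.sep' U.nondeg hirr, hsqm _ hn₀, hne, hsqm, ⟨n₀, hn₀, rfl⟩, ?_, ?_⟩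
  · intro χ hχ x; rw [dif_pos hχ]; exact hφ1 χ hχ x
  · intro χ hχ x; rw [dif_pos hχ]; exact hφ2 χ hχ x

variable {N₀ : AddSubgroup A} {z₁ : Z} {φ : (Z →+ ZMod 2) → A →+ A}
  (P : Proj U.quad Z0 Φ N₀ z₁ φ)
include P

theorem z0_cases {z : Z} (hz : z ∈ Z0) : z = 0 ∨ z = z₁ := by
  by_cases h : z = 0
  · exact Or.inl h
  · refine Or.inr ((U.eq_of_sum z z₁).1 (U.sep _ fun χ hχ => ?_))
    rw [map_add, U.odd z hz h χ hχ, U.odd z₁ P.z1_mem P.z1_ne χ hχ, zmod2_add_self]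

theorem same {z : Z} (hz : z ∈ Z0) {χ χ' : Z →+ ZMod 2} (hχ : χ ∈ Φ) (hχ' : χ' ∈ Φ) :
    χ z = χ' z := by
  by_cases h : z = 0
  · rw [h, map_zero, map_zero]
  · rw [U.odd z hz h χ hχ, U.odd z hz h χ' hχ']

theorem mem_z0_of_const {z : Z} {c : ZMod 2} (h : ∀ χ ∈ Φ, χ z = c) : z ∈ Z0 := by
  rcases zmod2_cases c with rfl | rfl
  · rw [U.sep z h]; exact zero_mem _
  · have h1 : z + z₁ = 0 := U.sep _ fun χ hχ => by
      rw [map_add, h χ hχ, U.odd z₁ P.z1_mem P.z1_ne χ hχ, zmod2_add_self]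
    rw [(U.eq_of_sum z z₁).1 h1]
    exact P.z1_mem

theorem bz_mem {n n' : A} (hn : n ∈ N₀) (hn' : n' ∈ N₀) : bz sq n n' ∈ Z0 :=
  sub_mem (sub_mem (P.sq_mem _ (add_mem hn hn')) (P.sq_mem _ hn)) (P.sq_mem _ hn')

theorem phi_good {χ : Z →+ ZMod 2} (hχ : χ ∈ Φ) : U.quad.Good χ :=
  U.good χ hχ fun h => by
    have := U.odd z₁ P.z1_mem P.z1_ne χ hχ
    rw [h] at this
    exact zero_ne_one this

theorem inf_rad {χ : Z →+ ZMod 2} (hχ : χ ∈ Φ) {n : A} (hn : n ∈ N₀) (hr : n ∈ U.quad.rad χ) :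
    n = 0 := by
  rcases P.irr.min (N₀ ⊓ U.quad.rad χ)
    (fun y hy => ⟨P.irr.inv y hy.1, U.quad.invSub_rad χ y hy.2⟩) inf_le_left with hb | ht
  · exact (AddSubgroup.mem_bot.1 (hb ▸ (⟨hn, hr⟩ : n ∈ N₀ ⊓ U.quad.rad χ)))
  · exfalso
    obtain ⟨n₀, hn₀, he⟩ := P.exists_z1
    have := U.quad.form_eq_zero_of_bz P.irr.inv χ
      (fun x hx y _ => (inf_eq_left.1 ht) hx y) n₀ hn₀
    rw [he, U.odd z₁ P.z1_mem P.z1_ne χ hχ] at this
    exact one_ne_zero this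

theorem phi_eq {χ : Z →+ ZMod 2} (hχ : χ ∈ Φ) {a n : A} (hn : n ∈ N₀)
    (h : a + n ∈ U.quad.rad χ) : φ χ a = n := by
  rw [← sub_eq_zero]
  refine U.inf_rad P hχ (N₀.sub_mem (P.phi_mem χ hχ a) hn) ?_
  rw [show φ χ a - n = (a + φ χ a) - (a + n) by abel]
  exact sub_mem (P.phi_rad χ hχ a) h

theorem phi_id {χ : Z →+ ZMod 2} (hχ : χ ∈ Φ) {n : A} (hn : n ∈ N₀) : φ χ n = n :=
  U.phi_eq P hχ hn (by rw [U.quad.twoA]; exact zero_mem _)

theorem phi_comm {χ : Z →+ ZMod 2} (hχ : χ ∈ Φ) (a : A) : φ χ (ρ a) = ρ (φ χ a) :=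
  U.phi_eq P hχ (P.irr.inv _ (P.phi_mem χ hχ a)) (by
    rw [← map_add]; exact U.quad.invSub_rad χ _ (P.phi_rad χ hχ a))

theorem phi_sq {χ : Z →+ ZMod 2} (hχ : χ ∈ Φ) (a : A) : χ (sq a) = χ (sq (φ χ a)) := by
  have e : ((a : A) : A ⧸ U.quad.rad χ) = (φ χ a : A) := by
    rw [QuotientAddGroup.eq, U.quad.negA]; exact P.phi_rad χ hχ a
  rw [← Quad.radForm_mk (U.phi_good P hχ), e, Quad.radForm_mk (U.phi_good P hχ)]

theorem phi_bz {χ : Z →+ ZMod 2} (hχ : χ ∈ Φ) (a b : A) :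
    χ (bz sq a b) = χ (bz sq (φ χ a) (φ χ b)) := by
  simp only [bz, map_sub, ← map_add, ← U.phi_sq P hχ]

theorem nd {χ : Z →+ ZMod 2} (hχ : χ ∈ Φ) {n : A} (hn : n ∈ N₀)
    (h : ∀ n' ∈ N₀, χ (bz sq n n') = 0) : n = 0 :=
  U.inf_rad P hχ hn fun b => by
    rw [U.phi_bz P hχ, U.phi_id P hχ hn]; exact h _ (P.phi_mem χ hχ b)

/-- Characters with the same projection are equal. -/
theorem phi_inj {χ χ' : Z →+ ZMod 2} (hχ : χ ∈ Φ) (hχ' : χ' ∈ Φ) (h : ∀ a, φ χ a = φ χ' a) :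
    χ = χ' := by
  refine AddMonoidHom.ext fun z => zmod2_add_eq_zero ?_
  refine DFunLike.congr_fun (U.span (χ + χ') fun a b => ?_) z
  rw [AddMonoidHom.add_apply, U.phi_bz P hχ, U.phi_bz P hχ', ← h a, ← h b,
    U.same P (U.bz_mem P (P.phi_mem χ hχ a) (P.phi_mem χ hχ b)) hχ hχ', zmod2_add_self]

theorem not_rad_le {χ χ' : Z →+ ZMod 2} (hχ : χ ∈ Φ) (hχ' : χ' ∈ Φ) (hne : χ ≠ χ') :
    ¬ U.quad.rad χ ≤ U.quad.rad χ' := fun h => hne (U.phi_inj P hχ hχ' fun a =>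
  (U.phi_eq P hχ' (P.phi_mem χ hχ a) (h (P.phi_rad χ hχ a))).symm)

theorem line {χ : Z →+ ZMod 2} (hχ : χ ∈ Φ) :
    Line (fun x : N₀ => χ (sq (x : A))) (Quad.subEnd P.irr.inv) r m :=
  U.quad.line_irred P.irr P.card χ (by
    obtain ⟨n₀, hn₀, he⟩ := P.exists_z1
    exact ⟨n₀, hn₀, by rw [he, U.odd z₁ P.z1_mem P.z1_ne χ hχ]; exact one_ne_zero⟩)

/-- On the span of an element with square in `Z0` the projections differ by powers of `ρ`. -/
theorem exists_pow (hI : IsoTrans sq Z0 actA actZ) {x : A} (hx : sq x ∈ Z0) {χ χ' : Z →+ ZMod 2}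
    (hχ : χ ∈ Φ) (hχ' : χ' ∈ Φ) :
    ∃ k : ℕ, ∀ s ∈ spanR ρ x, φ χ' s = (ρ ^ k) (φ χ s) := by
  set S := spanR ρ x with hS
  have hq : ∀ s ∈ S, χ' (sq (φ χ' s)) = χ (sq (φ χ s)) := fun s hs => by
    rw [← U.phi_sq P hχ', ← U.phi_sq P hχ]; exact U.same P (U.sq_mem_spanR hI hx hs) hχ' hχ
  have hker : ∀ s ∈ S, φ χ s = 0 → φ χ' s = 0 := by
    intro s hs h0
    let T : AddSubgroup A := (S ⊓ (φ χ).ker).map (φ χ')
    have hT : Quad.InvSub ρ T := by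
      rintro _ ⟨t, ⟨ht, ht0⟩, rfl⟩
      refine ⟨ρ t, ⟨invSub_spanR ρ x t ht, ?_⟩, U.phi_comm P hχ' t⟩
      show φ χ (ρ t) = 0
      rw [U.phi_comm P hχ, show φ χ t = 0 from ht0, map_zero]
    have hTN : T ≤ N₀ := by rintro _ ⟨t, -, rfl⟩; exact P.phi_mem χ' hχ' t
    rcases P.irr.min T hT hTN with hb | ht
    · have h1 : φ χ' s ∈ T := ⟨s, ⟨hs, h0⟩, rfl⟩
      rwa [hb, AddSubgroup.mem_bot] at h1
    · exfalso
      obtain ⟨n₀, hn₀, he⟩ := P.exists_z1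
      obtain ⟨t, ⟨hts, ht0⟩, htn⟩ : n₀ ∈ T := ht.symm ▸ hn₀
      have := hq t hts
      rw [htn, show φ χ t = 0 from ht0, U.quad.sq_zero, map_zero, he,
        U.odd z₁ P.z1_mem P.z1_ne χ' hχ'] at this
      exact one_ne_zero this
  rcases P.irr.min (S.map (φ χ)) (by
      rintro _ ⟨t, ht, rfl⟩
      exact ⟨ρ t, invSub_spanR ρ x t ht, U.phi_comm P hχ t⟩)
      (by rintro _ ⟨t, -, rfl⟩; exact P.phi_mem χ hχ t) with hb | ht
  · refine ⟨0, fun s hs => ?_⟩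
    have h0 : φ χ s = 0 := by
      have h1 : φ χ s ∈ S.map (φ χ) := ⟨s, hs, rfl⟩
      rwa [hb, AddSubgroup.mem_bot] at h1
    rw [hker s hs h0, h0, map_zero]
  · have hsur : ∀ n : N₀, ∃ s ∈ S, φ χ s = n := fun n => (ht.symm ▸ n.2 : (n : A) ∈ S.map (φ χ))
    choose g hgS hg using hsur
    have huniq : ∀ (n : N₀) (s : A), s ∈ S → φ χ s = n → φ χ' (g n) = φ χ' s := by
      intro n s hs he
      rw [← sub_eq_zero, ← map_sub]
      exact hker _ (S.sub_mem (hgS n) hs) (by rw [map_sub, hg, he, sub_self])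
    let c : AddMonoid.End N₀ := AddMonoidHom.mk' (fun n => ⟨φ χ' (g n), P.phi_mem χ' hχ' _⟩)
      fun n n' => Subtype.ext (by
        show φ χ' (g (n + n')) = φ χ' (g n) + φ χ' (g n')
        rw [huniq (n + n') (g n + g n') (S.add_mem (hgS n) (hgS n'))
          (by rw [map_add, hg, hg]; rfl), map_add])
    obtain ⟨k, hk⟩ := (U.line P hχ).exists_eq_pow c (AddMonoidHom.ext fun n => Subtype.ext (by
        show φ χ' (g (Quad.subEnd P.irr.inv n)) = ρ (φ χ' (g n))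
        rw [huniq _ (ρ (g n)) (invSub_spanR ρ x _ (hgS n)) (by rw [U.phi_comm P hχ, hg]; rfl),
          U.phi_comm P hχ'])) fun n => by
        show χ (sq (φ χ' (g n))) = χ (sq (n : A))
        rw [U.same P (P.sq_mem _ (P.phi_mem χ' hχ' _)) hχ hχ', hq _ (hgS n), hg]
    refine ⟨k, fun s hs => ?_⟩
    have h1 := congrArg (fun f : AddMonoid.End N₀ => ((f ⟨φ χ s, P.phi_mem χ hχ s⟩ : N₀) : A)) hk
    simp only [Quad.subEnd_pow] at h1
    rw [← h1]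
    exact (huniq _ s hs rfl).symm

variable [Fintype A] [Fintype Z] [Fintype (Z →+ ZMod 2)]

/-- Some element with square in `Z0` has two different given projections. -/
theorem exists_iso_ne {χ χ' : Z →+ ZMod 2} (hχ : χ ∈ Φ) (hχ' : χ' ∈ Φ) (hne : χ ≠ χ') :
    ∃ x, sq x ∈ Z0 ∧ φ χ x ≠ φ χ' x := by
  classical
  set f : A →+ A := φ χ + φ χ' with hf
  have hrange : f.range = N₀ := by
    rcases P.irr.min f.range (by
        rintro _ ⟨t, rfl⟩
        exact ⟨ρ t, by simp [hf, U.phi_comm P hχ, U.phi_comm P hχ', map_add]⟩)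
        (by rintro _ ⟨t, rfl⟩; exact add_mem (P.phi_mem χ hχ t) (P.phi_mem χ' hχ' t)) with hb | ht
    · refine absurd (U.phi_inj P hχ hχ' fun a => ?_) hne
      have h1 : f a ∈ f.range := ⟨a, rfl⟩
      rw [hb, AddSubgroup.mem_bot] at h1
      rw [← sub_eq_zero, sub_eq_add_neg, U.quad.negA]
      exact h1
    · exact ht
  have hker : Nat.card f.ker * 2 ^ (2 * m) = Fintype.card A := by
    have h1 := f.ker.card_mul_index
    rwa [AddSubgroup.index_ker, hrange, P.card, Nat.card_eq_fintype_card (α := A)] at h1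
  by_contra! hall
  have hη : χ + χ' ∈ evens Z0 := mem_evens.2 fun z hz => by
    rw [AddMonoidHom.add_apply, U.same P hz hχ hχ', zmod2_add_self]
  have hη0 : χ + χ' ≠ 0 := fun h => hne (AddMonoidHom.ext fun z =>
    zmod2_add_eq_zero (DFunLike.congr_fun h z))
  have hS := (gsum_pair (U.phi_good P hχ) (U.phi_good P hχ') (U.not_rad_le P hχ hχ' hne)).1
  have hcount := U.count hη hη0
  have hle : (Finset.univ.filter fun a => sq a ∈ Z0).card ≤ Nat.card f.ker := by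
    rw [← Nat.card_eq_finsetCard]
    refine Nat.card_le_card_of_injective
      (fun a => (⟨a.1, by
        rw [AddMonoidHom.mem_ker, hf, AddMonoidHom.add_apply,
          hall a.1 (Finset.mem_filter.1 a.2).2, U.quad.twoA]⟩ : f.ker)) fun a b h => ?_
    exact Subtype.ext (congrArg (fun k : f.ker => (k : A)) h)
  have hJ : (3 : ℤ) ≤ (Z0.index : ℤ) := by exact_mod_cast U.index_ge
  have hq : (4 : ℤ) ≤ 2 ^ (2 * m) := by
    have : 2 ^ 2 ≤ 2 ^ (2 * m) := Nat.pow_le_pow_right (by norm_num)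
      (by have := U.quad.pos; omega)
    exact_mod_cast this
  have hk : (1 : ℤ) ≤ Nat.card f.ker := by exact_mod_cast (Nat.card_pos : 0 < Nat.card f.ker)
  have hcardA : (Fintype.card A : ℤ) = Nat.card f.ker * 2 ^ (2 * m) := by exact_mod_cast hker.symm
  have hle' : ((Finset.univ.filter fun a => sq a ∈ Z0).card : ℤ) ≤ Nat.card f.ker := by
    exact_mod_cast hle
  have hS' : gsum sq (χ + χ') = (Nat.card f.ker : ℤ) := by
    refine mul_right_cancel₀ (b := (2 : ℤ) ^ (2 * m)) (by positivity) ?_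
    rw [hS, hcardA]
  rw [hS', hcardA] at hcount
  nlinarith [mul_le_mul_of_nonneg_left hle' (by linarith : (0 : ℤ) ≤ Z0.index),
    mul_le_mul_of_nonneg_left hq (by linarith : (0 : ℤ) ≤ (Nat.card f.ker : ℤ))]

theorem adj {χ : Z →+ ZMod 2} (i : ℕ) (a b : A) :
    χ (bz sq ((ρ ^ i) a) b) = χ (bz sq a ((ρ ^ (i * (r - 1))) b)) :=
  congrArg χ (U.quad.bz_pow_adj i a b)

/-- The special case of `no_four`. -/
theorem no_four_key {χ₁ χ₂ χ₃ χ₄ : Z →+ ZMod 2} (h1 : χ₁ ∈ Φ) (h2 : χ₂ ∈ Φ) (h3 : χ₃ ∈ Φ)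
    (h4 : χ₄ ∈ Φ) (h13 : χ₁ ≠ χ₃) (hsum : ∀ z, χ₁ z + χ₃ z + (χ₂ z + χ₄ z) = 0) {d : ℕ}
    (hd : ∀ n ∈ N₀, n ≠ 0 → (ρ ^ d) n ≠ n)
    (hrel : ∀ a, φ χ₂ a + φ χ₄ a = (ρ ^ d) (φ χ₁ a + φ χ₃ a)) : False := by
  classical
  set d' := d * (r - 1) with hd'
  let u : A →+ A := φ χ₁ + φ χ₃
  let w : A →+ A := φ χ₁ + (ρ ^ d' : AddMonoid.End A).comp (φ χ₂)
  have hu : ∀ a, u a ∈ N₀ := fun a => add_mem (P.phi_mem _ h1 a) (P.phi_mem _ h3 a)
  have hw : ∀ a, w a ∈ N₀ := fun a =>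
    add_mem (P.phi_mem _ h1 a) (Quad.invSub_pow P.irr.inv (P.phi_mem _ h2 a) _)
  -- a form identity
  have hdiag : ∀ a, χ₁ (bz sq (w a) (u a)) = 0 := by
    intro a
    have e3 : φ χ₃ a = φ χ₁ a + u a := by
      show φ χ₃ a = φ χ₁ a + (φ χ₁ a + φ χ₃ a)
      rw [← add_assoc, U.quad.twoA, zero_add]
    have e4 : φ χ₄ a = φ χ₂ a + (ρ ^ d) (u a) := by
      show φ χ₄ a = φ χ₂ a + (ρ ^ d) (φ χ₁ a + φ χ₃ a)
      rw [← hrel, ← add_assoc, U.quad.twoA, zero_add]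
    have hs := hsum (sq a)
    rw [U.phi_sq P h1, U.phi_sq P h2, U.phi_sq P h3, U.phi_sq P h4, e3, e4,
      U.same P (P.sq_mem _ (add_mem (P.phi_mem _ h1 a) (hu a))) h3 h1,
      U.same P (P.sq_mem _ (P.phi_mem _ h2 a)) h2 h1,
      U.same P (P.sq_mem _ (add_mem (P.phi_mem _ h2 a) (Quad.invSub_pow P.irr.inv (hu a) d))) h4 h1,
      Quad.sq_add (sq := sq), Quad.sq_add (sq := sq), U.quad.sq_pow] at hs
    show χ₁ (bz sq (φ χ₁ a + (ρ ^ d') (φ χ₂ a)) (u a)) = 0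
    rw [U.quad.add_left, map_add, Quad.bz_comm (x := (ρ ^ d') (φ χ₂ a)), ← U.quad.bz_pow_adj,
      Quad.bz_comm (x := (ρ ^ d) (u a))]
    simp only [map_add] at hs
    calc χ₁ (bz sq (φ χ₁ a) (u a)) + χ₁ (bz sq (φ χ₂ a) ((ρ ^ d) (u a)))
        = (χ₁ (sq (φ χ₁ a)) + χ₁ (sq (φ χ₁ a))) + (χ₁ (sq (φ χ₂ a)) + χ₁ (sq (φ χ₂ a))) +
          (χ₁ (sq (u a)) + χ₁ (sq (u a))) +
          (χ₁ (bz sq (φ χ₁ a) (u a)) + χ₁ (bz sq (φ χ₂ a) ((ρ ^ d) (u a)))) := by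
          simp only [zmod2_add_self, zero_add]
      _ = 0 := by rw [← hs]; abel
  have hsym : ∀ a b, χ₁ (bz sq (w a) (u b)) + χ₁ (bz sq (w b) (u a)) = 0 := by
    intro a b
    have := hdiag (a + b)
    rw [map_add, map_add, U.quad.add_left, U.quad.add_right, U.quad.add_right, map_add, map_add,
      map_add, hdiag, hdiag, zero_add, add_zero] at this
    exact this
  -- `w` is bijective on `N₀`
  have hwN : ∀ n ∈ N₀, w n = n + (ρ ^ d') n := fun n hn => by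
    show φ χ₁ n + (ρ ^ d') (φ χ₂ n) = _
    rw [U.phi_id P h1 hn, U.phi_id P h2 hn]
  have hd'N : ∀ n ∈ N₀, n + (ρ ^ d') n = 0 → n = 0 := by
    intro n hn h
    by_contra hn0
    apply hd n hn hn0
    rw [add_eq_zero_iff_eq_neg, U.quad.negA] at h
    conv_lhs => rw [h]
    show (ρ ^ d * ρ ^ d') n = n
    rw [U.quad.pow_neg_mul]
    rfl
  let g : N₀ → N₀ := fun n => ⟨w n, hw n⟩
  have hg : Function.Injective g := fun n n' h => by
    have h' : w (n : A) = w (n' : A) := congrArg Subtype.val h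
    refine Subtype.ext (sub_eq_zero.1 (hd'N _ (N₀.sub_mem n.2 n'.2) ?_))
    rw [← hwN _ (N₀.sub_mem n.2 n'.2), map_sub, h', sub_self]
  have hgs := Finite.injective_iff_surjective.1 hg
  refine h13 (U.phi_inj P h1 h3 fun a => ?_)
  obtain ⟨n, hn⟩ := hgs ⟨w a, hw a⟩
  have hn' : w (n : A) = w a := congrArg Subtype.val hn
  have hu0 : u (a + n) = 0 := by
    refine U.nd P h1 (hu _) fun n' hn'' => ?_
    obtain ⟨b, hb⟩ := hgs ⟨n', hn''⟩
    have hb' : w (b : A) = n' := congrArg Subtype.val hb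
    have := hsym (a + n) b
    rw [show w (a + n) = 0 by rw [map_add, hn', U.quad.twoA], U.quad.bz_zero, map_zero, zero_add,
      hb'] at this
    rw [Quad.bz_comm]
    exact this
  have hun : u (n : A) = 0 := by
    show φ χ₁ n + φ χ₃ n = 0
    rw [U.phi_id P h1 n.2, U.phi_id P h3 n.2, U.quad.twoA]
  rw [map_add, hun, add_zero] at hu0
  rw [← sub_eq_zero, sub_eq_add_neg, U.quad.negA]
  exact hu0

/-- No four different occurring characters add up to `0`. -/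
theorem no_four (hI : IsoTrans sq Z0 actA actZ) {χ₁ χ₂ χ₃ χ₄ : Z →+ ZMod 2} (h1 : χ₁ ∈ Φ)
    (h2 : χ₂ ∈ Φ) (h3 : χ₃ ∈ Φ) (h4 : χ₄ ∈ Φ) (h12 : χ₁ ≠ χ₂) (h13 : χ₁ ≠ χ₃) (h14 : χ₁ ≠ χ₄)
    (hsum : ∀ z, χ₁ z + χ₂ z + χ₃ z + χ₄ z = 0) : False := by
  classical
  obtain ⟨x, hx, hx12⟩ := U.exists_iso_ne P h1 h2 h12
  obtain ⟨k₂, hk₂⟩ := U.exists_pow P hI hx h1 h2
  obtain ⟨k₃, hk₃⟩ := U.exists_pow P hI hx h1 h3
  obtain ⟨k₄, hk₄⟩ := U.exists_pow P hI hx h1 h4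
  have hxS := mem_spanR_self ρ x
  set y := φ χ₁ x with hy
  have hy0 : y ≠ 0 := fun h => hx12 (by rw [hk₂ x hxS, ← hy, h, map_zero])
  -- the image of the span is everything
  have himg : (spanR ρ x).map (φ χ₁) = N₀ := (P.irr.min _ (by
      rintro _ ⟨t, ht, rfl⟩
      exact ⟨ρ t, invSub_spanR ρ x t ht, U.phi_comm P h1 t⟩)
      (by rintro _ ⟨t, -, rfl⟩; exact P.phi_mem χ₁ h1 t)).resolve_left fun hb => hy0 (by
        have : y ∈ (spanR ρ x).map (φ χ₁) := ⟨x, hxS, rfl⟩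
        rwa [hb, AddSubgroup.mem_bot] at this)
  -- the operator identity
  have hop : ∀ a, φ χ₁ a + (ρ ^ (k₂ * (r - 1))) (φ χ₂ a) + (ρ ^ (k₃ * (r - 1))) (φ χ₃ a) +
      (ρ ^ (k₄ * (r - 1))) (φ χ₄ a) = 0 := by
    intro a
    have hpow : ∀ χ (hχ : χ ∈ Φ) (i : ℕ), (ρ ^ i) (φ χ a) ∈ N₀ := fun χ hχ i =>
      Quad.invSub_pow P.irr.inv (P.phi_mem χ hχ a) i
    refine U.nd P h1 (add_mem (add_mem (add_mem (P.phi_mem _ h1 a) (hpow _ h2 _)) (hpow _ h3 _))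
      (hpow _ h4 _)) fun n hn => ?_
    obtain ⟨s, hs, rfl⟩ : n ∈ (spanR ρ x).map (φ χ₁) := himg.symm ▸ hn
    have hs' := hsum (bz sq a s)
    rw [U.phi_bz P h1, U.phi_bz P h2, U.phi_bz P h3, U.phi_bz P h4, hk₂ s hs, hk₃ s hs, hk₄ s hs,
      U.same P (U.bz_mem P (P.phi_mem _ h2 a) (Quad.invSub_pow P.irr.inv (P.phi_mem _ h1 s) _)) h2 h1,
      U.same P (U.bz_mem P (P.phi_mem _ h3 a) (Quad.invSub_pow P.irr.inv (P.phi_mem _ h1 s) _)) h3 h1,
      U.same P (U.bz_mem P (P.phi_mem _ h4 a) (Quad.invSub_pow P.irr.inv (P.phi_mem _ h1 s) _)) h4 h1]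
      at hs'
    have hadj : ∀ (i : ℕ) (p q : A), bz sq ((ρ ^ (i * (r - 1))) p) q = bz sq p ((ρ ^ i) q) :=
      fun i p q => by rw [Quad.bz_comm, ← U.quad.bz_pow_adj, Quad.bz_comm]
    rw [U.quad.add_left, U.quad.add_left, U.quad.add_left, hadj, hadj, hadj, map_add, map_add,
      map_add]
    exact hs'
  set ρ₀ := Quad.subEnd P.irr.inv with hρ₀
  have hL := U.line P h1
  have hop0 : ρ₀ ^ 0 + ρ₀ ^ (k₂ * (r - 1)) + ρ₀ ^ (k₃ * (r - 1)) + ρ₀ ^ (k₄ * (r - 1)) = 0 := by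
    refine AddMonoidHom.ext fun n => Subtype.ext ?_
    show ((ρ₀ ^ 0) n : A) + ((ρ₀ ^ (k₂ * (r - 1))) n : A) + ((ρ₀ ^ (k₃ * (r - 1))) n : A) +
      ((ρ₀ ^ (k₄ * (r - 1))) n : A) = 0
    simp only [hρ₀, Quad.subEnd_pow, pow_zero, AddMonoid.End.coe_one, id_eq]
    have := hop n
    rwa [U.phi_id P h1 n.2, U.phi_id P h2 n.2, U.phi_id P h3 n.2, U.phi_id P h4 n.2] at this
  have hval : ∀ {i j : ℕ}, ρ₀ ^ i = ρ₀ ^ j → ∀ n ∈ N₀, (ρ ^ i) n = (ρ ^ j) n := by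
    intro i j h n hn
    have := congrArg (fun f : AddMonoid.End N₀ => ((f ⟨n, hn⟩ : N₀) : A)) h
    simpa only [hρ₀, Quad.subEnd_pow] using this
  set d := k₂ with hd_def
  have hdne : ∀ n ∈ N₀, n ≠ 0 → (ρ ^ d) n ≠ n := by
    intro n hn hn0 h
    apply hx12
    have h1' : ρ₀ ^ d = ρ₀ ^ 0 := hL.pow_eq_pow_of_apply (a := ⟨n, hn⟩)
      (fun e => hn0 (congrArg Subtype.val e)) (Subtype.ext (by
        simp only [hρ₀, Quad.subEnd_pow, pow_zero, AddMonoid.End.coe_one, id_eq]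
        exact h))
    have := hval h1' y (P.phi_mem _ h1 x)
    rw [pow_zero, AddMonoid.End.coe_one, id_eq] at this
    rw [hk₂ x hxS, ← hy]
    exact this.symm
  have hflip : ∀ (n : A) (p q : A), q = (ρ ^ (d * (r - 1))) p → (ρ ^ d) q = p := fun _ p q h => by
    rw [h]
    show (ρ ^ d * ρ ^ (d * (r - 1))) p = p
    rw [U.quad.pow_neg_mul]; rfl
  rcases hL.pairing hop0 with ⟨he, -⟩ | ⟨he, he'⟩ | ⟨he, he'⟩
  · obtain ⟨n, hn⟩ := AddSubgroup.ne_bot_iff_exists_ne_zero.1 P.irr.ne_bot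
    have hn0 : (n : A) ≠ 0 := fun e => hn (Subtype.ext e)
    have := hval he n n.2
    rw [pow_zero, AddMonoid.End.coe_one, id_eq] at this
    exact hdne n n.2 hn0 (hflip n n n this)
  all_goals
    have key : ∀ a, ∀ χ ∈ Φ, ∀ χ' ∈ Φ,
        φ χ₁ a + (ρ ^ (d * (r - 1))) (φ χ₂ a) + φ χ a + (ρ ^ (d * (r - 1))) (φ χ' a) = 0 →
        φ χ₂ a + φ χ' a = (ρ ^ d) (φ χ₁ a + φ χ a) := by
      intro a χ _ χ' _ h
      refine (hflip a _ _ ?_).symm
      rw [map_add, ← sub_eq_zero, sub_eq_add_neg, U.quad.negA, ← h]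
      abel
  · refine U.no_four_key P h1 h2 h3 h4 h13 (fun z => ?_) hdne fun a => key a χ₃ h3 χ₄ h4 ?_
    · rw [← hsum z]; abel
    · have e3 := hval he.symm _ (P.phi_mem _ h3 a)
      rw [pow_zero, AddMonoid.End.coe_one, id_eq] at e3
      have e4 := hval he'.symm _ (P.phi_mem _ h4 a)
      have := hop a
      rwa [e3, e4] at this
  · refine U.no_four_key P h1 h2 h4 h3 h14 (fun z => ?_) hdne fun a => key a χ₄ h4 χ₃ h3 ?_
    · rw [← hsum z]; abel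
    · have e4 := hval he.symm _ (P.phi_mem _ h4 a)
      rw [pow_zero, AddMonoid.End.coe_one, id_eq] at e4
      have e3 := hval he'.symm _ (P.phi_mem _ h3 a)
      have := hop a
      rw [e3, e4] at this
      rw [← this]
      abel

end Duo

end CfsgLib.HHShult
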