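import Cfsg.Agent.HHShult.IsoAlg

/-!
# No singular classes: the count

`Duo.index_cases`: the number of classes is `4` or `16`; `Duo.false_of_iso`.
-/

set_option autoImplicit false
set_option linter.style.haveILetI false
set_option linter.unusedSectionVars false

open Finset

namespace CfsgLib.HHShult

/-- The only powers of two of the form `s ^ 4 + 3 s ^ 2 + 4`, `s ≠ 0`. -/
theorem s_cases {t e : ℕ} (ht : 1 ≤ t) (h : (t * t + 2) * (t * t + 1) + 2 = 2 ^ e) : t ≤ 2 := by
  have hge : t ≤ t * t := Nat.le_mul_self t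
  obtain ⟨a, ha⟩ : ∃ a, a + t = t * t + 2 := ⟨t * t + 2 - t, by omega⟩
  have hprod : a * (a + 2 * t) = 2 ^ e := by
    rw [← h]
    nlinarith
  obtain ⟨i, -, hi⟩ := (Nat.dvd_prime_pow Nat.prime_two).1 (Dvd.intro _ hprod)
  obtain ⟨k, -, hk⟩ := (Nat.dvd_prime_pow Nat.prime_two).1 (Dvd.intro_left _ hprod)
  have hik : i ≤ k := (Nat.pow_le_pow_iff_right (by norm_num)).1 (by omega : 2 ^ i ≤ 2 ^ k)
  have hd : a ∣ a + 2 * t := by rw [hk, hi]; exact pow_dvd_pow 2 hik
  have hd' : a ∣ 2 * t := (Nat.dvd_add_right (dvd_refl a)).1 hd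
  have hle := Nat.le_of_dvd (by omega) hd'
  by_contra! h3
  nlinarith

namespace Duo

variable {A Z Γ : Type*} [AddCommGroup A] [Fintype A] [AddCommGroup Z] [Fintype Z]
  [Fintype (Z →+ ZMod 2)] [Group Γ] [Finite Γ] {sq : A → Z} {ρ : AddMonoid.End A} {r m : ℕ}
  {Z0 : AddSubgroup Z} {Φ : Finset (Z →+ ZMod 2)} {actA : Γ →* AddMonoid.End A}
  {actZ : Γ →* AddMonoid.End Z} (U : Duo sq ρ r m Z0 Φ actA actZ)
  {N₀ : AddSubgroup A} {z₁ : Z} {φ : (Z →+ ZMod 2) → A →+ A}
  (P : Proj U.quad Z0 Φ N₀ z₁ φ)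
include U P

theorem exists_ne_mem : ∃ χ ∈ Φ, ∃ χ' ∈ Φ, χ ≠ χ' := by
  obtain ⟨a, -, ha, -, -⟩ := U.classes
  by_contra! hall
  by_cases hΦ : Φ.Nonempty
  · obtain ⟨χ₀, hχ₀⟩ := hΦ
    exact ha (U.mem_z0_of_const P (c := χ₀ a) fun χ hχ => by rw [hall χ hχ χ₀ hχ₀])
  · exact ha (U.mem_z0_of_const P (c := 0) fun χ hχ => absurd ⟨χ, hχ⟩ hΦ)

theorem card_z0 : Nat.card Z0 = 2 := by
  rw [Nat.card_eq_two_iff]
  refine ⟨0, ⟨z₁, P.z1_mem⟩, fun h => P.z1_ne (congrArg Subtype.val h).symm, ?_⟩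
  ext ⟨z, hz⟩
  simp only [Set.mem_insert_iff, Set.mem_singleton_iff, Set.mem_univ, iff_true]
  rcases U.z0_cases P hz with rfl | rfl
  · exact Or.inl rfl
  · exact Or.inr rfl

/-- Ordered pairs of occurring characters correspond twice to the non-zero functionals killing
`Z0`. -/
theorem card_pairs (hI : IsoTrans sq Z0 actA actZ) :
    Φ.card * Φ.card = Φ.card + 2 * (Z0.index - 1) := by
  classical
  obtain ⟨χa, ha, χb, hb, hab⟩ := U.exists_ne_mem P
  have hev : ∀ {χ χ' : Z →+ ZMod 2}, χ ∈ Φ → χ' ∈ Φ → χ ≠ χ' → χ + χ' ∈ (evens Z0).erase 0 :=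
    fun {χ χ'} h h' hne => Finset.mem_erase.2 ⟨fun e => hne (AddMonoidHom.ext fun z =>
      zmod2_add_eq_zero (DFunLike.congr_fun e z)), mem_evens.2 fun z hz => by
        rw [AddMonoidHom.add_apply, U.same P hz h h', zmod2_add_self]⟩
  have hf : ∀ p ∈ Φ.offDiag, p.1 + p.2 ∈ (evens Z0).erase 0 := fun p hp => by
    obtain ⟨h1, h2, h3⟩ := Finset.mem_offDiag.1 hp
    exact hev h1 h2 h3
  have hfib : ∀ η ∈ (evens Z0).erase 0,
      (Φ.offDiag.filter fun p => p.1 + p.2 = η).card = 2 := by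
    intro η hη
    obtain ⟨hη0, hηe⟩ := Finset.mem_erase.1 hη
    obtain ⟨hη0', hηe'⟩ := Finset.mem_erase.1 (hev ha hb hab)
    obtain ⟨c, hc⟩ := U.dual_trans hηe' hη0' hηe hη0
    obtain ⟨p, hp, q, hq, hpq, hη'⟩ : ∃ p ∈ Φ, ∃ q ∈ Φ, p ≠ q ∧ p + q = η :=
      ⟨_, U.phi_act c _ ha, _, U.phi_act c _ hb, fun h => hab (AddMonoidHom.ext fun z => by
        have h' : χa (actZ c (actZ c⁻¹ z)) = χb (actZ c (actZ c⁻¹ z)) :=
          DFunLike.congr_fun h (actZ c⁻¹ z)
        rwa [U.actZ_inv_apply] at h'), hc⟩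
    rw [Finset.card_eq_two]
    refine ⟨(p, q), (q, p), fun h => hpq (congrArg Prod.fst h), ?_⟩
    ext ⟨u, v⟩
    simp only [Finset.mem_filter, Finset.mem_offDiag, Finset.mem_insert, Finset.mem_singleton,
      Prod.mk.injEq]
    constructor
    · rintro ⟨⟨hu, hv, huv⟩, he⟩
      have key : ∀ z, p z + q z + u z + v z = 0 := fun z => by
        have h1 := DFunLike.congr_fun (hη'.trans he.symm) z
        rw [AddMonoidHom.add_apply, AddMonoidHom.add_apply] at h1
        rw [add_assoc, h1]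
        exact zmod2_add_self _
      have hsol : ∀ {x : Z →+ ZMod 2}, (∀ z, x z = p z) → x = p := fun h => AddMonoidHom.ext h
      have arith : ∀ a b c d : ZMod 2, a + b + c + d = 0 → a = c → b = d := by decide
      have arith' : ∀ a b c d : ZMod 2, a + b + c + d = 0 → a = d → b = c := by decide
      by_cases hup : u = p
      · exact Or.inl ⟨hup, AddMonoidHom.ext fun z => (arith _ _ _ _ (key z) (by rw [hup])).symm⟩
      by_cases hvp : v = p
      · exact Or.inr ⟨AddMonoidHom.ext fun z => (arith' _ _ _ _ (key z) (by rw [hvp])).symm, hvp⟩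
      exfalso
      exact U.no_four P hI hp hq hu hv hpq (Ne.symm hup) (Ne.symm hvp) key
    · rintro (⟨rfl, rfl⟩ | ⟨rfl, rfl⟩)
      · exact ⟨⟨hp, hq, hpq⟩, hη'⟩
      · exact ⟨⟨hq, hp, hpq.symm⟩, by rw [add_comm]; exact hη'⟩
  have hcard := Finset.card_eq_sum_card_fiberwise hf
  rw [Finset.sum_congr rfl hfib, Finset.sum_const, smul_eq_mul, Finset.offDiag_card,
    Finset.card_erase_of_mem (mem_evens.2 fun _ _ => rfl), U.card_evens_eq_index] at hcard
  have := Nat.le_mul_self Φ.card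
  omega

/-- There are `4` or `16` classes. -/
theorem index_cases (hI : IsoTrans sq Z0 actA actZ) : Z0.index = 4 ∨ Z0.index = 16 := by
  classical
  set n := Φ.card with hn
  set J := Z0.index with hJ
  have hJ3 : 3 ≤ J := U.index_ge
  let S : Z → ℤ := fun z => ∑ χ ∈ Φ, sgn (χ z)
  obtain ⟨a₀, -, ha₀, -, -⟩ := U.classes
  have hshift : ∀ z, ∀ w ∈ Z0, S (z + w) * S (z + w) = S z * S z := by
    intro z w hw
    rcases U.z0_cases P hw with rfl | rfl
    · rw [add_zero]
    · have : S (z + w) = -S z := by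
        show ∑ χ ∈ Φ, sgn (χ (z + w)) = -∑ χ ∈ Φ, sgn (χ z)
        rw [← Finset.sum_neg_distrib]
        refine Finset.sum_congr rfl fun χ hχ => ?_
        rw [map_add, U.odd w hw P.z1_ne χ hχ, sgn_add, sgn_one, mul_neg, mul_one]
      rw [this, neg_mul_neg]
  have hinv : ∀ c, S (actZ c a₀) = S a₀ := by
    intro c
    refine Finset.sum_bij' (fun χ _ => χ.comp (actZ c : Z →+ Z))
      (fun χ _ => χ.comp (actZ c⁻¹ : Z →+ Z)) (fun χ hχ => U.phi_act c χ hχ)
      (fun χ hχ => U.phi_act c⁻¹ χ hχ) (fun χ _ => AddMonoidHom.ext fun z => ?_)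
      (fun χ _ => AddMonoidHom.ext fun z => ?_) fun χ _ => rfl
    · show χ (actZ c (actZ c⁻¹ z)) = χ z
      rw [U.actZ_inv_apply]
    · show χ (actZ c⁻¹ (actZ c z)) = χ z
      have := U.actZ_inv_apply c⁻¹ z
      rw [inv_inv] at this
      rw [this]
  have hout : ∀ z, z ∉ Z0 → S z * S z = S a₀ * S a₀ := by
    intro z hz
    obtain ⟨c, hc⟩ := U.trans a₀ z ha₀ hz
    have e : z = actZ c a₀ + (actZ c a₀ + z) := by rw [← add_assoc, U.quad.twoZ, zero_add]
    rw [e, hshift _ _ hc, hinv]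
  have hin : ∀ z ∈ Z0, S z * S z = (n : ℤ) * n := by
    intro z hz
    have h0 : S 0 = n := by simp [S, hn]
    have := hshift 0 z hz
    rwa [zero_add, h0] at this
  have horth : ∑ z, S z * S z = (n : ℤ) * Fintype.card Z := by
    show ∑ z, (∑ χ ∈ Φ, sgn (χ z)) * (∑ χ ∈ Φ, sgn (χ z)) = _
    simp_rw [Finset.sum_mul_sum, ← sgn_add]
    rw [Finset.sum_comm]
    have hcol : ∀ χ ∈ Φ, ∑ z, ∑ η ∈ Φ, sgn (χ z + η z) = (Fintype.card Z : ℤ) := fun χ hχ => by
      rw [Finset.sum_comm, Finset.sum_eq_single χ]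
      · simp [zmod2_add_self]
      · intro η _ hne
        refine sum_sgn_eq_zero (χ + η) ?_
        by_contra! h
        exact hne (AddMonoidHom.ext fun z => (zmod2_add_eq_zero (h z)).symm)
      · exact fun h => absurd hχ h
    rw [Finset.sum_congr rfl hcol, Finset.sum_const, nsmul_eq_mul]
  have hcardZ : Fintype.card Z = 2 * J := by
    rw [← Nat.card_eq_fintype_card, ← Z0.card_mul_index, U.card_z0 P]
  have hk : (Finset.univ.filter fun z => z ∈ Z0).card = 2 := by
    rw [← U.card_z0 P, ← Nat.card_eq_finsetCard]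
    exact Nat.card_congr (Equiv.subtypeEquivRight fun w => by simp)
  rw [← Finset.sum_filter_add_sum_filter_not Finset.univ (fun z => z ∈ Z0),
    Finset.sum_congr rfl fun z hz => hin z (Finset.mem_filter.1 hz).2,
    Finset.sum_congr (s₁ := Finset.univ.filter fun z => z ∉ Z0) rfl
      fun z hz => hout z (Finset.mem_filter.1 hz).2,
    Finset.sum_const, Finset.sum_const, hk, Finset.filter_not, Finset.card_univ_diff, hk,
    hcardZ, nsmul_eq_mul, nsmul_eq_mul] at horth
  push_cast [Nat.cast_sub (show 2 ≤ 2 * J by omega)] at horth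
  have hp := U.card_pairs P hI
  rw [← hn, ← hJ] at hp
  zify [show 1 ≤ J by omega] at hp
  have hs : S a₀ * S a₀ = (n : ℤ) - 2 := by
    refine mul_left_cancel₀ (show ((J : ℤ) - 1) * 2 ≠ 0 by
      have : (3 : ℤ) ≤ J := by exact_mod_cast hJ3
      omega) ?_
    linear_combination horth - 2 * hp
  set t := (S a₀).natAbs with ht
  have htn : (t : ℤ) * t = (n : ℤ) - 2 := by rw [ht, ← Int.natCast_mul, Int.natAbs_mul_self, hs]
  have hn2 : n = t * t + 2 := by
    have : ((n : ℕ) : ℤ) = ((t * t + 2 : ℕ) : ℤ) := by push_cast; linarith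
    exact_mod_cast this
  obtain ⟨e, he⟩ : ∃ e, Fintype.card Z = 2 ^ e := by
    letI : Module (ZMod 2) Z := AddCommGroup.zmodModule fun z => by rw [two_nsmul, U.quad.twoZ]
    haveI : Module.Finite (ZMod 2) Z := Module.Finite.of_finite
    exact ⟨_, by rw [← Nat.card_eq_fintype_card, Module.natCard_eq_pow_finrank (K := ZMod 2),
      Nat.card_zmod]⟩
  have hJeq : (t * t + 2) * (t * t + 1) + 2 = 2 * J := by
    have : (((t * t + 2) * (t * t + 1) + 2 : ℕ) : ℤ) = ((2 * J : ℕ) : ℤ) := by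
      rw [hn2] at hp
      push_cast at hp ⊢
      linear_combination hp
    exact_mod_cast this
  rcases Nat.eq_zero_or_pos t with h0 | hpos
  · exfalso
    rw [h0] at hJeq
    omega
  have hle := s_cases hpos (hJeq.trans (hcardZ.symm.trans he))
  rcases (show t = 1 ∨ t = 2 by omega) with h | h <;> rw [h] at hJeq
  · left; omega
  · right; omega

/-- `n ↦ χ (bz n u)` and `n ↦ χ (bz n v)`: if the kernel of the first lies in that of the second,
then `v ∈ {0, u}`. -/
theorem perp_perp {χ : Z →+ ZMod 2} (hχ : χ ∈ Φ) {u v : A} (hu : u ∈ N₀) (hv : v ∈ N₀)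
    (h : ∀ n ∈ N₀, χ (bz sq n u) = 0 → χ (bz sq n v) = 0) : v = 0 ∨ v = u := by
  by_cases hv0 : ∀ n ∈ N₀, χ (bz sq n v) = 0
  · exact Or.inl (U.nd P hχ hv fun n hn => by rw [Quad.bz_comm]; exact hv0 n hn)
  right
  push Not at hv0
  obtain ⟨n₁, hn₁, hn₁v⟩ := hv0
  have h1u : χ (bz sq n₁ u) = 1 := (zmod2_cases _).resolve_left fun e => hn₁v (h n₁ hn₁ e)
  have h1v : χ (bz sq n₁ v) = 1 := (zmod2_cases _).resolve_left hn₁v
  rw [← sub_eq_zero, sub_eq_add_neg, U.quad.negA]
  refine U.nd P hχ (add_mem hv hu) fun n hn => ?_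
  rw [Quad.bz_comm, U.quad.add_right, map_add]
  rcases zmod2_cases (χ (bz sq n u)) with e | e
  · rw [h n hn e, e, add_zero]
  · have h2 : χ (bz sq (n + n₁) u) = 0 := by
      rw [U.quad.add_left, map_add, e, h1u, zmod2_add_self]
    have h3 := h _ (add_mem hn hn₁) h2
    rw [U.quad.add_left, map_add, h1v] at h3
    rw [e]
    exact h3

theorem false_of_proj (hI : IsoTrans sq Z0 actA actZ) (hdvd : ¬ r ∣ Z0.index - 1) : False := by
  classical
  have hr := U.quad.eq_two_pow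
  have hJq : Z0.index < 2 ^ (2 * m) ∧ 2 ≤ m := by
    rcases U.index_cases P hI with h | h <;> rw [h] at hdvd ⊢
    · have hm : 2 ≤ m := by
        by_contra hlt
        have : m = 1 := by have := U.quad.pos; omega
        subst this
        exact hdvd (by rw [hr]; norm_num)
      exact ⟨lt_of_lt_of_le (by norm_num : 4 < 2 ^ 4) (Nat.pow_le_pow_right (by norm_num) (by omega)),
        hm⟩
    · have hm : 3 ≤ m := by
        by_contra hlt
        have hm : m = 1 ∨ m = 2 := by have := U.quad.pos; omega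
        rcases hm with rfl | rfl <;> exact hdvd (by rw [hr]; norm_num)
      exact ⟨lt_of_lt_of_le (by norm_num : 16 < 2 ^ 6) (Nat.pow_le_pow_right (by norm_num) (by omega)),
        by omega⟩
  obtain ⟨χ₁, h1, χ₂, h2, h12⟩ := U.exists_ne_mem P
  obtain ⟨x, hx, hx12⟩ := U.exists_iso_ne P h1 h2 h12
  set y := φ χ₁ x with hy
  set y' := φ χ₂ x with hy'
  have hyN : y ∈ N₀ := P.phi_mem _ h1 x
  have hy'N : y' ∈ N₀ := P.phi_mem _ h2 x
  have hxS := mem_spanR_self ρ x
  -- elements of `N₀` that can be added to `x`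
  let K : AddSubgroup A :=
    { carrier := {n | n ∈ N₀ ∧ bz sq n x ∈ Z0}
      zero_mem' := ⟨zero_mem _, by rw [U.quad.bz_zero]; exact zero_mem _⟩
      add_mem' := fun {a b} ha hb => ⟨add_mem ha.1 hb.1, by
        rw [U.quad.add_left]; exact add_mem ha.2 hb.2⟩
      neg_mem' := fun {a} ha => by rw [U.quad.negA]; exact ha }
  have hiso : ∀ n ∈ K, sq (n + x) ∈ Z0 := fun n hn => by
    rw [Quad.sq_add (sq := sq)]
    exact add_mem (add_mem (P.sq_mem n hn.1) hx) hn.2
  obtain ⟨n, hnK, hn0⟩ : ∃ n ∈ K, n ≠ 0 := by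
    let β : N₀ →+ Z ⧸ Z0 := (QuotientAddGroup.mk' Z0).comp
      (AddMonoidHom.mk' (fun a : N₀ => bz sq (a : A) x) fun a b => U.quad.add_left _ _ _)
    have hne : β.ker ≠ ⊥ := by
      intro hb
      have := Nat.card_le_card_of_injective β ((AddMonoidHom.ker_eq_bot_iff β).1 hb)
      rw [P.card] at this
      exact absurd hJq.1 (not_lt.2 this)
    obtain ⟨k, hk⟩ := AddSubgroup.ne_bot_iff_exists_ne_zero.1 hne
    exact ⟨(k : N₀), ⟨(k : N₀).2, (QuotientAddGroup.eq_zero_iff _).1 (AddMonoidHom.mem_ker.1 k.2)⟩,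
      fun e => hk (Subtype.ext (Subtype.ext e))⟩
  -- only two projections
  set ρ₀ := Quad.subEnd P.irr.inv with hρ₀
  have hL := U.line P h1
  let R := Subring.closure ({ρ₀} : Set (AddMonoid.End N₀))
  letI : CommRing R := Subring.closureCommRingOfComm fun a ha b hb => by
    rw [Set.mem_singleton_iff.1 ha, Set.mem_singleton_iff.1 hb]
  let g : R := ⟨ρ₀, Subring.subset_closure rfl⟩
  haveI : Nontrivial N₀ := hL.nontrivial
  haveI : CharP R 2 := CharTwo.of_one_ne_zero_of_two_eq_zero (fun h => by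
    obtain ⟨a, ha⟩ := exists_ne (0 : N₀)
    exact ha (congrArg (fun e : R => (e : AddMonoid.End N₀) a) h)) (by
    rw [← one_add_one_eq_two]
    exact Subtype.ext (AddMonoidHom.ext fun a => hL.two a))
  have hcomm : ∀ f : R, ∀ a : N₀, (f : AddMonoid.End N₀) (ρ₀ a) = ρ₀ ((f : AddMonoid.End N₀) a) :=
    fun f a => congrArg (fun e : R => (e : AddMonoid.End N₀) a) (mul_comm f g)
  have hzero : ∀ (f : R) (a : N₀), a ≠ 0 → (f : AddMonoid.End N₀) a = 0 → f = 0 := by
    intro f a ha hfa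
    rcases hL.eq_bot_or_top ((f : AddMonoid.End N₀) : N₀ →+ N₀).ker (fun b hb => by
        show (f : AddMonoid.End N₀) (ρ₀ b) = 0
        rw [hcomm, show (f : AddMonoid.End N₀) b = 0 from hb, map_zero]) with hb | ht
    · exact absurd (AddSubgroup.mem_bot.1 (hb ▸ (show a ∈ ((f : AddMonoid.End N₀) : N₀ →+ N₀).ker
        from hfa))) ha
    · exact Subtype.ext (AddMonoidHom.ext fun b => (ht.symm ▸ AddSubgroup.mem_top b :
        b ∈ ((f : AddMonoid.End N₀) : N₀ →+ N₀).ker))
  have hmul : ∀ (f f' : R), f * f' = 0 → f = 0 ∨ f' = 0 := by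
    intro f f' hff
    by_cases h : f' = 0
    · exact Or.inr h
    obtain ⟨a, ha⟩ := exists_ne (0 : N₀)
    refine Or.inl (hzero f ((f' : AddMonoid.End N₀) a) (fun h0 => h (hzero f' a ha h0)) ?_)
    exact congrArg (fun e : R => (e : AddMonoid.End N₀) a) hff
  have hgpow : ∀ (i : ℕ) (a : N₀), (((g ^ i : R) : AddMonoid.End N₀) a : A) = (ρ ^ i) (a : A) :=
    fun i a => by
      rw [SubmonoidClass.coe_pow]
      exact Quad.subEnd_pow P.irr.inv i a
  have heqpow : ∀ {i j : ℕ}, g ^ i + g ^ j = 0 → ∀ a ∈ N₀, (ρ ^ i) a = (ρ ^ j) a := by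
    intro i j h a ha
    have := congrArg (fun e : R => (((e : AddMonoid.End N₀) ⟨a, ha⟩ : N₀) : A)) h
    rw [← sub_eq_zero, sub_eq_add_neg, U.quad.negA]
    rw [← hgpow i ⟨a, ha⟩, ← hgpow j ⟨a, ha⟩]
    exact this
  have htwo : ∀ χ ∈ Φ, φ χ x = y ∨ φ χ x = y' := by
    by_contra! hex
    obtain ⟨χ, hχ, hχy, hχy'⟩ := hex
    obtain ⟨k, hk⟩ := U.exists_pow P hI hx h1 h2
    obtain ⟨k', hk'⟩ := U.exists_pow P hI hx h1 hχ
    obtain ⟨l, hl⟩ := U.exists_pow P hI (hiso n hnK) h1 h2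
    obtain ⟨l', hl'⟩ := U.exists_pow P hI (hiso n hnK) h1 hχ
    have e1 := hl (n + x) (mem_spanR_self _ _)
    have e2 := hl' (n + x) (mem_spanR_self _ _)
    rw [map_add, map_add, U.phi_id P h1 hnK.1, U.phi_id P h2 hnK.1, hk x hxS, map_add, ← hy] at e1
    rw [map_add, map_add, U.phi_id P h1 hnK.1, U.phi_id P hχ hnK.1, hk' x hxS, map_add, ← hy] at e2
    have hk0 : (ρ ^ k) y ≠ y := fun h => hx12 (by rw [hy', hk x hxS, ← hy, h])
    have hk'0 : (ρ ^ k') y ≠ y := fun h => hχy (by rw [hk' x hxS, ← hy, h])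
    have hkk : (ρ ^ k) y ≠ (ρ ^ k') y := fun h => hχy' (by rw [hy', hk' x hxS, hk x hxS, ← hy, h])
    have hy0 : y ≠ 0 := fun h => hk0 (by rw [h, map_zero])
    set yy : N₀ := ⟨y, hyN⟩
    set nn : N₀ := ⟨n, hnK.1⟩
    have hyy : yy ≠ 0 := fun e => hy0 (congrArg Subtype.val e)
    set u := g ^ k with hu
    set v := g ^ k' with hv
    set a := g ^ l with ha'
    set b := g ^ l' with hb'
    have h2A : ∀ {p q : A}, p = q → p + q = 0 := fun {p q} h => by rw [h, U.quad.twoA]
    have f1 : ((1 + a : R) : AddMonoid.End N₀) nn + ((u + a : R) : AddMonoid.End N₀) yy = 0 := by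
      refine Subtype.ext ?_
      show (n + ((((g ^ l : R) : AddMonoid.End N₀) nn : N₀) : A)) +
        (((((g ^ k : R) : AddMonoid.End N₀) yy : N₀) : A) +
          ((((g ^ l : R) : AddMonoid.End N₀) yy : N₀) : A)) = 0
      rw [hgpow, hgpow, hgpow, ← h2A e1]
      abel
    have f2 : ((1 + b : R) : AddMonoid.End N₀) nn + ((v + b : R) : AddMonoid.End N₀) yy = 0 := by
      refine Subtype.ext ?_
      show (n + ((((g ^ l' : R) : AddMonoid.End N₀) nn : N₀) : A)) +
        (((((g ^ k' : R) : AddMonoid.End N₀) yy : N₀) : A) +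
          ((((g ^ l' : R) : AddMonoid.End N₀) yy : N₀) : A)) = 0
      rw [hgpow, hgpow, hgpow, ← h2A e2]
      abel
    have F1 : (1 + b) * (u + a) + (1 + a) * (v + b) = 0 := by
      refine hzero _ yy hyy ?_
      have h1' := congrArg (fun w : N₀ => ((1 + b : R) : AddMonoid.End N₀) w) f1
      have h2' := congrArg (fun w : N₀ => ((1 + a : R) : AddMonoid.End N₀) w) f2
      simp only [map_add, map_zero] at h1' h2'
      have hc : ((1 + b : R) : AddMonoid.End N₀) (((1 + a : R) : AddMonoid.End N₀) nn) =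
          ((1 + a : R) : AddMonoid.End N₀) (((1 + b : R) : AddMonoid.End N₀) nn) :=
        congrArg (fun e : R => (e : AddMonoid.End N₀) nn) (mul_comm (1 + b) (1 + a))
      show ((1 + b : R) : AddMonoid.End N₀) (((u + a : R) : AddMonoid.End N₀) yy) +
        ((1 + a : R) : AddMonoid.End N₀) (((v + b : R) : AddMonoid.End N₀) yy) = 0
      rw [(hL.add_eq_zero_iff _ _).1 h1'] at hc
      rw [hc, (hL.add_eq_zero_iff _ _).1 h2']
      exact hL.two _
    -- the adjoint equation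
    let B : R → N₀ → N₀ → ZMod 2 := fun f p q =>
      χ₁ (bz sq ((((f : AddMonoid.End N₀) p : N₀)) : A) (q : A))
    have Badd : ∀ f f' p q, B (f + f') p q = B f p q + B f' p q := fun f f' p q => by
      show χ₁ (bz sq ((((f : AddMonoid.End N₀) p : N₀) : A) +
        (((f' : AddMonoid.End N₀) p : N₀) : A)) (q : A)) = _
      rw [U.quad.add_left, map_add]
    have Bpow : ∀ i p q, B (g ^ i) p q = B (g ^ (i * (r - 1))) q p := fun i p q => by
      show χ₁ (bz sq _ _) = χ₁ (bz sq _ _)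
      rw [hgpow, hgpow, U.quad.bz_pow_adj, Quad.bz_comm]
    set u' := g ^ (k * (r - 1))
    set v' := g ^ (k' * (r - 1))
    set a' := g ^ (l * (r - 1))
    set b' := g ^ (l' * (r - 1))
    have hinv : ∀ i : ℕ, g ^ i * g ^ (i * (r - 1)) = 1 := fun i => by
      refine Subtype.ext (AddMonoidHom.ext fun q => Subtype.ext ?_)
      rw [← pow_add]
      refine (hgpow (i + i * (r - 1)) q).trans ?_
      show (ρ ^ (i + i * (r - 1))) (q : A) = q
      rw [pow_add, U.quad.pow_neg_mul]; rfl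
    have F1' : (1 + b') * (u' + a') + (1 + a') * (v' + b') = 0 := by
      refine hzero _ yy hyy (Subtype.ext (U.nd P h1 (SetLike.coe_mem _) fun q hq => ?_))
      show B _ yy ⟨q, hq⟩ = 0
      have h0 : B ((1 + b) * (u + a) + (1 + a) * (v + b)) ⟨q, hq⟩ yy = 0 := by
        rw [F1]
        show χ₁ (bz sq (0 : A) _) = 0
        rw [U.quad.bz_zero, map_zero]
      rw [← h0, ← pow_zero g]
      simp only [add_mul, mul_add, hu, hv, ha', hb', u', v', a', b', ← pow_add, Badd]
      simp only [zero_add]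
      rw [Bpow k, Bpow l, Bpow (l' + k), Bpow (l' + l), Bpow k', Bpow l', Bpow (l + k'),
        Bpow (l + l')]
      simp only [add_mul]
    have hu1 := hinv k
    have hv1 := hinv k'
    have ha1 := hinv l
    have hb1 := hinv l'
    have F2 : v * (1 + b) * (u + a) + u * (1 + a) * (v + b) = 0 := by
      linear_combination (u * v * a * b) * F1' - (v * a * (1 + b)) * hu1 - (u * v * (1 + b)) * ha1 -
        (u * b * (1 + a)) * hv1 - (u * v * (1 + a)) * hb1 -
        (u' * u * v * a + a' * u * v * a) * hb1 - (v' * u * v * b + b' * u * v * b) * ha1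
    rcases hmul _ _ (elim_ring F1 F2) with h | h
    · apply hk0
      have hl0 := heqpow (i := 0) (j := l) (by rw [pow_zero]; exact h)
      have e3 : (ρ ^ l) n = n := by
        rw [← hl0 n hnK.1, pow_zero]; rfl
      have e4 : (ρ ^ l) y = y := by
        rw [← hl0 y hyN, pow_zero]; rfl
      rw [e3, e4] at e1
      exact add_left_cancel e1
    rcases hmul _ _ h with h | h
    · apply hk0
      have hkl := heqpow h
      rw [← hkl y hyN, ← hkl n hnK.1] at e1
      have e3 : (ρ ^ k) n = n := (add_right_cancel e1).symm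
      have e4 : ρ₀ ^ k = ρ₀ ^ 0 := hL.pow_eq_pow_of_apply (a := nn)
        (fun e => hn0 (congrArg Subtype.val e)) (Subtype.ext (by
          simp only [hρ₀, Quad.subEnd_pow, pow_zero, AddMonoid.End.coe_one, id_eq]
          exact e3))
      have := congrArg (fun f : AddMonoid.End N₀ => ((f yy : N₀) : A)) e4
      simp only [hρ₀, Quad.subEnd_pow, pow_zero, AddMonoid.End.coe_one, id_eq] at this
      exact this
    rcases hmul _ _ h with h | h
    · exact hkk (heqpow h y hyN)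
    · apply hk'0
      rw [← heqpow (i := 0) (j := k') (by rw [pow_zero]; exact h) y hyN, pow_zero]
      rfl
  -- the kernel of `(-, y + y')` is stable under the symmetric span
  set w := y + y' with hw
  have hwN : w ∈ N₀ := add_mem hyN hy'N
  have hw0 : w ≠ 0 := fun h => hx12 (by
    rw [← sub_eq_zero, sub_eq_add_neg, U.quad.negA]; exact h)
  have hKperp : ∀ p ∈ N₀, p ∈ K ↔ χ₁ (bz sq p w) = 0 := by
    intro p hp
    have hval : ∀ χ ∈ Φ, χ (bz sq p x) = χ₁ (bz sq p (φ χ x)) := fun χ hχ => by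
      rw [U.phi_bz P hχ, U.phi_id P hχ hp,
        U.same P (U.bz_mem P hp (P.phi_mem χ hχ x)) hχ h1]
    rw [hw, U.quad.add_right, map_add]
    constructor
    · intro hpK
      rw [← hval χ₁ h1, hy', ← hval χ₂ h2, U.same P hpK.2 h2 h1, zmod2_add_self]
    · intro h
      have he := zmod2_add_eq_zero h
      refine ⟨hp, U.mem_z0_of_const P (c := χ₁ (bz sq p y)) fun χ hχ => ?_⟩
      rw [hval χ hχ]
      rcases htwo χ hχ with e | e <;> rw [e]
      exact he.symm
  have hsym : ∀ f ∈ Quad.symSpan ρ r, ∀ p ∈ K, f p ∈ K := by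
    intro f hf
    induction hf using AddSubgroup.closure_induction with
    | mem f hf =>
      obtain ⟨i, rfl⟩ := hf
      intro p hp
      refine ⟨add_mem (Quad.invSub_pow P.irr.inv hp.1 _) (Quad.invSub_pow P.irr.inv hp.1 _), ?_⟩
      have hS : ∀ q ∈ spanR ρ (p + x), sq q ∈ Z0 := fun q hq => U.sq_mem_spanR hI (hiso p hp) hq
      have hb : bz sq ((ρ ^ i) (p + x)) (p + x) ∈ Z0 := sub_mem
        (sub_mem (hS _ (add_mem (Quad.invSub_pow (invSub_spanR ρ _) (mem_spanR_self ρ _) i)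
          (mem_spanR_self ρ _))) (hS _ (Quad.invSub_pow (invSub_spanR ρ _) (mem_spanR_self ρ _) i)))
        (hiso p hp)
      have hbx : bz sq ((ρ ^ i) x) x ∈ Z0 := by
        have hS' : ∀ q ∈ spanR ρ x, sq q ∈ Z0 := fun q hq => U.sq_mem_spanR hI hx hq
        exact sub_mem (sub_mem (hS' _ (add_mem (Quad.invSub_pow (invSub_spanR ρ _) hxS i) hxS))
          (hS' _ (Quad.invSub_pow (invSub_spanR ρ _) hxS i))) hx
      have hbp : bz sq ((ρ ^ i) p) p ∈ Z0 :=
        U.bz_mem P (Quad.invSub_pow P.irr.inv hp.1 i) hp.1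
      show bz sq ((ρ ^ i) p + (ρ ^ (i * (r - 1))) p) x ∈ Z0
      rw [map_add, U.quad.add_left, U.quad.add_right, U.quad.add_right] at hb
      rw [U.quad.add_left]
      have e : bz sq ((ρ ^ (i * (r - 1))) p) x = bz sq ((ρ ^ i) x) p := by
        rw [Quad.bz_comm, ← U.quad.bz_pow_adj]
      rw [e]
      have := sub_mem (sub_mem hb hbp) hbx
      convert this using 1
      abel
    | zero => intro p _; exact zero_mem _
    | add f f' _ _ hf hf' => intro p hp; exact add_mem (hf p hp) (hf' p hp)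
    | neg f _ hf => intro p hp; exact neg_mem (hf p hp)
  have hg := U.phi_good P h1
  have hcard := hg.card_image_sym (x := w) fun h => hw0 (U.inf_rad P h1 hwN h)
  have hle : Nat.card ((Quad.symSpan ρ r).map (U.quad.evalRad χ₁ w)) ≤ 2 := by
    have hval : ∀ f ∈ Quad.symSpan ρ r, f w = 0 ∨ f w = w := fun f hf =>
      U.perp_perp P h1 hwN (Quad.symSpan_mem P.irr.inv hf hwN) fun p hp h => by
        rw [← U.quad.bz_sym hf]
        exact (hKperp _ (Quad.symSpan_mem P.irr.inv hf hp)).1 (hsym f hf p ((hKperp p hp).2 h))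
    let ι : ↥((Quad.symSpan ρ r).map (U.quad.evalRad χ₁ w)) → Bool := fun q =>
      decide ((q : A ⧸ U.quad.rad χ₁) = 0)
    have hι : Function.Injective ι := by
      rintro ⟨_, f, hf, rfl⟩ ⟨_, f', hf', rfl⟩ hqq
      refine Subtype.ext ?_
      simp only [ι, decide_eq_decide] at hqq
      show ((f w : A) : A ⧸ U.quad.rad χ₁) = (f' w : A)
      have hq0 : ((w : A) : A ⧸ U.quad.rad χ₁) ≠ 0 := fun h =>
        hw0 (U.inf_rad P h1 hwN ((QuotientAddGroup.eq_zero_iff w).1 h))
      change ((f w : A) : A ⧸ U.quad.rad χ₁) = 0 ↔ ((f' w : A) : A ⧸ U.quad.rad χ₁) = 0 at hqq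
      rcases hval f hf with e | e <;> rcases hval f' hf' with e' | e' <;> rw [e, e'] at hqq ⊢
      · exact absurd (hqq.1 rfl) hq0
      · exact absurd (hqq.2 rfl) hq0
    simpa using Nat.card_le_card_of_injective ι hι
  have : 2 ^ 2 ≤ 2 ^ m := Nat.pow_le_pow_right (by norm_num) hJq.2
  omega

omit P

/-- No non-zero element has square in `Z0`. -/
theorem false_of_iso (hI : IsoTrans sq Z0 actA actZ) (hdvd : ¬ r ∣ Z0.index - 1) {a : A}
    (ha : a ≠ 0) (hsq : sq a ∈ Z0) : False := by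
  obtain ⟨N₀, z₁, φ, P⟩ := U.exists_proj hI ha hsq
  exact U.false_of_proj P hI hdvd

end Duo

end CfsgLib.HHShult
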