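import Cfsg.Agent.HHShult.Weights

/-!
# Lifts of elements fixed by `t`

* `Frame.exists_lift_sym`: an element of `symSpan · a`, `a` fixed by `t`, has a lift commuting with
  `t` that is trivial on the eigenspaces whose radical contains `a`;
* `Frame.nD_center_of_nA`: if `t` is trivial on `D / D'`, it centralises `Z(D)`;
* `finrank_ker_conj`: eigenspaces of conjugate elements.
-/

set_option autoImplicit false
set_option linter.style.haveILetI false
set_option linter.unusedSectionVars false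

open Finset Module Subgroup
open scoped commutatorElement

namespace CfsgLib.HHShult

universe u v w

variable {G : Type w} [Group G] [Finite G]

theorem Quad.symSpan_mem {A : Type*} [AddCommGroup A] {ρ : AddMonoid.End A}
    {r : ℕ} {N : AddSubgroup A} (hN : Quad.InvSub ρ N) {f : AddMonoid.End A}
    (hf : f ∈ Quad.symSpan ρ r) {x : A} (hx : x ∈ N) : f x ∈ N := by
  induction hf using AddSubgroup.closure_induction with
  | mem f hf =>
    obtain ⟨i, rfl⟩ := hf
    exact N.add_mem (Quad.invSub_pow hN hx i) (Quad.invSub_pow hN hx _)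
  | zero => exact N.zero_mem
  | add f g _ _ hf hg => exact N.add_mem hf hg
  | neg f _ hf => exact N.neg_mem hf

variable {K : Type u} [Field K] [IsAlgClosed K] {V : Type v} [AddCommGroup V] [Module K V]
  [FiniteDimensional K V]
variable {σ : MulAut G} {r : ℕ} {ψ : G →* Module.End K V} {s : Module.End K V} {D : Subgroup G}

theorem apply_injective (ψ : G →* Module.End K V) (g : G) : Function.Injective (ψ g) :=
  fun a b hab => by
    have := congrArg (ψ g⁻¹) hab
    simpa [← Module.End.mul_apply, ← map_mul] using this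

theorem finrank_ker_conj (ψ : G →* Module.End K V) (g x : G) (lam : K) :
    finrank K (LinearMap.ker (ψ (g * x * g⁻¹) - lam • 1) : Submodule K V) =
      finrank K (LinearMap.ker (ψ x - lam • 1) : Submodule K V) := by
  have e : (LinearMap.ker (ψ x - lam • 1)).map (ψ g) =
      LinearMap.ker (ψ (g * x * g⁻¹) - lam • 1) := by
    ext v
    simp only [Submodule.mem_map, LinearMap.mem_ker, LinearMap.sub_apply, LinearMap.smul_apply,
      Module.End.one_apply, sub_eq_zero]
    constructor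
    · rintro ⟨w, hw, rfl⟩
      rw [← Module.End.mul_apply, ← map_mul, show g * x * g⁻¹ * g = g * x by group, map_mul,
        Module.End.mul_apply, hw, map_smul]
    · intro hv
      refine ⟨ψ g⁻¹ v, ?_, by rw [← Module.End.mul_apply, ← map_mul, mul_inv_cancel, map_one]; rfl⟩
      rw [← Module.End.mul_apply, ← map_mul, show x * g⁻¹ = g⁻¹ * (g * x * g⁻¹) by group, map_mul,
        Module.End.mul_apply, hv, map_smul]
  rw [← e]
  exact (LinearEquiv.finrank_eq (Submodule.equivMapOfInjective _ (apply_injective ψ g) _)).symm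

namespace Frame

variable (F : Frame σ r ψ s D)
include F

theorem nA_of_mem {g : G} (hgD : g ∈ D) (hg : g ∈ normalizer (D : Set G)) (a : FA D) :
    nA hg a = a := by
  obtain ⟨x, rfl⟩ := piA_surjective a
  rw [nA_piA, show nD hg x = (⟨g, hgD⟩ : ↥D) * x * (⟨g, hgD⟩ : ↥D)⁻¹ from Subtype.ext rfl,
    piA_mul, piA_mul, piA_inv]
  abel

/-- If `g` is trivial on `D / D'`, it centralises `Z(D)`. -/
theorem nD_center_of_nA {g : G} (hg : g ∈ normalizer (D : Set G)) (h : ∀ a, nA hg a = a)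
    {z : ↥D} (hz : z ∈ Subgroup.center ↥D) : nD hg z = z := by
  have hz' : z ∈ commutator ↥D := by rw [F.m2.commutator_eq_center]; exact hz
  have hle : commutator ↥D ≤ ((nD hg).toMonoidHom.eqLocus (MonoidHom.id ↥D)) := by
    rw [commutator_eq_closure, closure_le]
    rintro _ ⟨a, b, rfl⟩
    show nD hg ⁅a, b⁆ = ⁅a, b⁆
    rw [map_commutatorElement]
    have hc : ∀ a : ↥D, a⁻¹ * nD hg a ∈ Subgroup.center ↥D := fun a => by
      rw [← F.piA_eq_iff, ← nA_piA, h]
    have key : ∀ a b c : ↥D, c ∈ Subgroup.center ↥D → ⁅a, b * c⁆ = ⁅a, b⁆ := fun a b c hc => by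
      rw [F.comm_mul, commutatorElement_eq_one_iff_mul_comm.2 (Subgroup.mem_center_iff.1 hc a),
        mul_one]
    have e : ∀ a, nD hg a = a * (a⁻¹ * nD hg a) := fun a => by rw [mul_inv_cancel_left]
    rw [e b, key _ _ _ (hc b), ← commutatorElement_inv, e a, key _ _ _ (hc a),
      commutatorElement_inv]
  exact hle hz'

/-- On `V_χ`, `σ ^ i (u)` acts like `u ∈ R_χ`. -/
theorem apply_pow_radSub {χ : FZ D →+ ZMod 2} {u : ↥D} (hu : u ∈ F.radSub χ) {a : ZMod 2}
    (ha : ∀ v ∈ fE ψ χ, ψ (u : G) v = sK K a • v) :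
    ∀ (i : ℕ), ∀ v ∈ fE ψ χ, ψ (((F.inv.aut ^ i) u : ↥D) : G) v = sK K a • v
  | 0 => ha
  | i + 1 => by
    intro v hv
    have hs : ∀ n, ∀ w ∈ fE ψ χ, (s ^ n) w ∈ fE ψ χ := by
      intro n
      induction n with
      | zero => exact fun w hw => hw
      | succ n ih =>
        intro w hw
        rw [pow_succ', Module.End.mul_apply]
        exact F.s_mapsTo_fE χ (ih w hw)
    have hv' : v = s ((s ^ (r - 1)) v) := by
      rw [← Module.End.mul_apply, ← pow_succ', Nat.sub_add_cancel F.act.cop.prime.pos,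
        F.act.pow_eq, Module.End.one_apply]
    rw [pow_succ', MulAut.mul_apply, Inv.aut_apply]
    conv_lhs => rw [hv', ← Module.End.mul_apply, ← F.act.compat, Module.End.mul_apply,
      apply_pow_radSub hu ha i _ (hs _ v hv), map_smul, ← hv']

theorem nD_aut_pow {g : G} (hgf : σ g = g) (hg : g ∈ normalizer (D : Set G)) :
    ∀ (i : ℕ) (x : ↥D), nD hg ((F.inv.aut ^ i) x) = (F.inv.aut ^ i) (nD hg x)
  | 0, _ => rfl
  | i + 1, x => by
    rw [pow_succ', MulAut.mul_apply, MulAut.mul_apply, ← nD_aut_pow hgf hg i x]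
    apply Subtype.ext
    show g * σ ((((F.inv.aut ^ i) x : ↥D) : G)) * g⁻¹ = σ (g * (((F.inv.aut ^ i) x : ↥D) : G) * g⁻¹)
    rw [map_mul, map_mul, map_inv, hgf]

theorem aut_pow_center {z : ↥D} (hz : z ∈ Subgroup.center ↥D) :
    ∀ i : ℕ, (F.inv.aut ^ i) z = z
  | 0 => rfl
  | i + 1 => by rw [pow_succ', MulAut.mul_apply, aut_pow_center hz i, F.fixed_center hz]

/-- The product `σ ^ i (u) σ ^ j (u)`. -/
theorem exists_lift_pair {g : G} (hgf : σ g = g) (hg : g ∈ normalizer (D : Set G)) {a : FA D}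
    (ha : nA hg a = a) (i j : ℕ) :
    ∃ x : ↥D, piA x = (F.rhoA ^ i) a + (F.rhoA ^ j) a ∧ nD hg x = x ∧
      ∀ χ : FZ D →+ ZMod 2, (∀ u : ↥D, piA u = a → u ∈ F.radSub χ) →
        ∀ v ∈ fE ψ χ, ψ (x : G) v = v := by
  obtain ⟨u, rfl⟩ := piA_surjective a
  refine ⟨(F.inv.aut ^ i) u * (F.inv.aut ^ j) u, by rw [piA_mul, F.rhoA_pow_piA, F.rhoA_pow_piA],
    ?_, fun χ hχ v hv => ?_⟩
  · obtain ⟨c, hc, he⟩ : ∃ c ∈ Subgroup.center ↥D, nD hg u = u * c :=
      ⟨u⁻¹ * nD hg u, (F.piA_eq_iff _ _).1 (by rw [← nA_piA, ha]), by rw [mul_inv_cancel_left]⟩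
    rw [map_mul, F.nD_aut_pow hgf, F.nD_aut_pow hgf, he, map_mul, map_mul, F.aut_pow_center hc,
      F.aut_pow_center hc]
    have hcc : ∀ y, y * c = c * y := Subgroup.mem_center_iff.1 hc
    calc (F.inv.aut ^ i) u * c * ((F.inv.aut ^ j) u * c)
        = (F.inv.aut ^ i) u * (c * (F.inv.aut ^ j) u) * c := by simp only [mul_assoc]
      _ = (F.inv.aut ^ i) u * ((F.inv.aut ^ j) u * c) * c := by rw [hcc ((F.inv.aut ^ j) u)]
      _ = (F.inv.aut ^ i) u * (F.inv.aut ^ j) u * (c * c) := by simp only [mul_assoc]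
      _ = _ := by rw [F.center_sq hc, mul_one]
  · have hu := hχ u rfl
    obtain ⟨a', ha', -⟩ := F.exists_scalar hu
    rw [Subgroup.coe_mul, map_mul, Module.End.mul_apply, F.apply_pow_radSub hu ha' j v hv, map_smul,
      F.apply_pow_radSub hu ha' i v hv, smul_smul, ← sK_add, zmod2_add_self, sK_zero, one_smul]

/-- Elements of `symSpan · a` have good lifts. -/
theorem exists_lift_sym {g : G} (hgf : σ g = g) (hg : g ∈ normalizer (D : Set G)) {a : FA D}
    (ha : nA hg a = a) {f : AddMonoid.End (FA D)} (hf : f ∈ Quad.symSpan F.rhoA r) :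
    ∃ x : ↥D, piA x = f a ∧ nD hg x = x ∧
      ∀ χ : FZ D →+ ZMod 2, (∀ u : ↥D, piA u = a → u ∈ F.radSub χ) →
        ∀ v ∈ fE ψ χ, ψ (x : G) v = v := by
  induction hf using AddSubgroup.closure_induction with
  | mem f hf =>
    obtain ⟨i, rfl⟩ := hf
    exact F.exists_lift_pair hgf hg ha i (i * (r - 1))
  | zero =>
    exact ⟨1, piA_one, map_one _, fun χ _ v _ => by simp⟩
  | add f f' _ _ hf hf' =>
    obtain ⟨x, h1, h2, h3⟩ := hf
    obtain ⟨x', h1', h2', h3'⟩ := hf'
    refine ⟨x * x', by rw [piA_mul, h1, h1']; rfl, by rw [map_mul, h2, h2'], fun χ hχ v hv => ?_⟩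
    rw [Subgroup.coe_mul, map_mul, Module.End.mul_apply, h3' χ hχ v hv, h3 χ hχ v hv]
  | neg f _ hf =>
    obtain ⟨x, h1, h2, h3⟩ := hf
    refine ⟨x⁻¹, by rw [piA_inv, h1]; rfl, by rw [map_inv, h2], fun χ hχ v hv => ?_⟩
    conv_lhs => rw [← h3 χ hχ v hv]
    rw [← Module.End.mul_apply, ← map_mul, Subgroup.coe_inv, inv_mul_cancel, map_one,
      Module.End.one_apply]

/-- Lifts commuting with `d` and `t` commute with `d t`. -/
theorem commute_dec {y d t : G} (h : Dec σ D y d t) {x : ↥D} (ht : nD h.norm x = x)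
    (hd : bz (sqA D) (piA x) (piA ⟨d, h.mem⟩) = 0) : (x : G) * y = y * x := by
  rw [F.bz_piA] at hd
  have h1 := congrArg Subtype.val
    (commutatorElement_eq_one_iff_mul_comm.1 (toFZ_inj (F.comm_mem _ _) hd))
  have h2 : t * (x : G) * t⁻¹ = x := congrArg Subtype.val ht
  simp only [Subgroup.coe_mul] at h1
  rw [h.eq]
  calc (x : G) * (d * t) = (x : G) * d * t := by rw [mul_assoc]
    _ = d * (x : G) * t := by rw [h1]
    _ = d * (t * (x : G) * t⁻¹) * t := by rw [h2]
    _ = _ := by group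

/-- On `V_χ` outside the radical, `x` anticommutes with some element. -/
theorem exists_anti_mem {χ : FZ D →+ ZMod 2} {x : ↥D} (hx : x ∉ F.radSub χ) :
    ∃ u : ↥D, ∀ v ∈ fE ψ χ, ψ (x : G) (ψ (u : G) v) = -ψ (u : G) (ψ (x : G) v) := by
  obtain ⟨u, hu⟩ : ∃ u : ↥D, χ (toFZ ⁅u, x⁆) = 1 := by
    by_contra! hall
    exact hx fun z => (zmod2_cases _).resolve_right (hall z)
  refine ⟨u, fun v hv => ?_⟩
  have h := F.comm_apply χ u x hv
  rw [hu, sK_one, neg_smul, one_smul] at h
  rw [h, neg_neg]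

end Frame

end CfsgLib.HHShult
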