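import Cfsg.Agent.HHShult.Sum

/-!
# A quadratic space with an irreducible fixed-point-free automorphism

`Line q ρ r m`: `A` has order `2 ^ (2 * m)`, `r = 2 ^ m + 1` is prime, `ρ` has order `r`, fixes only
`0` and preserves the non-degenerate quadratic map `q`.

* `eq_bot_or_top`: `A` is irreducible;
* `sum_sgn`: the sign sum of `q` is `-2 ^ m`;
* `exists_eq_pow`: every endomorphism commuting with `ρ` and preserving `q` is a power of `ρ`;
* `card_lt_of_singular`: totally singular subgroups have order less than `2 ^ m`;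
* `pairing`: four powers of `ρ` adding to zero are equal in pairs.
-/

set_option autoImplicit false

open Finset

namespace CfsgLib.HHShult

variable {A : Type*} [AddCommGroup A]

/-- An elementary abelian `2`-group has as many functionals as elements. -/
theorem card_addHom_zmodTwo {B : Type*} [AddCommGroup B] [Finite B] (h2 : ∀ b : B, b + b = 0) :
    Nat.card (B →+ ZMod 2) = Nat.card B := by
  letI : Module (ZMod 2) B := AddCommGroup.zmodModule fun b => by rw [two_nsmul, h2]
  haveI : Module.Finite (ZMod 2) B := Module.Finite.of_finite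
  let e : (B →+ ZMod 2) ≃ Module.Dual (ZMod 2) B :=
    { toFun := fun f => f.toZModLinearMap 2
      invFun := fun f => f.toAddMonoidHom
      left_inv := fun f => rfl
      right_inv := fun f => rfl }
  rw [Nat.card_congr e, Module.natCard_eq_pow_finrank (K := ZMod 2),
    Module.natCard_eq_pow_finrank (K := ZMod 2) (V := B), Subspace.dual_finrank_eq]

/-- Functionals extend from subgroups of an elementary abelian `2`-group. -/
theorem exists_extend_zmodTwo {B : Type*} [AddCommGroup B] (h2 : ∀ b : B, b + b = 0)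
    (T : AddSubgroup B) (f : T →+ ZMod 2) : ∃ g : B →+ ZMod 2, ∀ t : T, g t = f t := by
  letI : Module (ZMod 2) B := AddCommGroup.zmodModule fun b => by rw [two_nsmul, h2]
  let T' : Submodule (ZMod 2) B := AddSubgroup.toZModSubmodule 2 T
  let f' : T' →ₗ[ZMod 2] ZMod 2 :=
    (AddMonoidHom.mk' (fun t : T' => f ⟨t.1, t.2⟩) fun a b => f.map_add ⟨a.1, a.2⟩ ⟨b.1, b.2⟩)
      |>.toZModLinearMap 2
  obtain ⟨g, hg⟩ := f'.exists_extend
  exact ⟨g.toAddMonoidHom, fun t => LinearMap.congr_fun hg ⟨t.1, t.2⟩⟩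

/-- The polar form. -/
def bil (q : A → ZMod 2) (x y : A) : ZMod 2 := q (x + y) + q x + q y

/-- An irreducible quadratic space with automorphism of order `r = 2 ^ m + 1`. -/
structure Line (q : A → ZMod 2) (ρ : AddMonoid.End A) (r m : ℕ) : Prop where
  prime : r.Prime
  eq_two_pow : r = 2 ^ m + 1
  pos : 0 < m
  pow_eq : ρ ^ r = 1
  fpf : ∀ a, ρ a = a → a = 0
  two : ∀ a : A, a + a = 0
  card : Nat.card A = 2 ^ (2 * m)
  q_zero : q 0 = 0
  add_left : ∀ x y z, bil q (x + y) z = bil q x z + bil q y z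
  nondeg : ∀ x, (∀ y, bil q x y = 0) → x = 0
  q_map : ∀ a, q (ρ a) = q a

namespace Line

variable {q : A → ZMod 2} {ρ : AddMonoid.End A} {r m : ℕ}

theorem bil_comm (x y : A) : bil q x y = bil q y x := by
  simp only [bil, add_comm x y]; ring

theorem q_add (x y : A) : q (x + y) = q x + q y + bil q x y := by
  have h1 := zmod2_add_self (q x)
  have h2 := zmod2_add_self (q y)
  simp only [bil]
  linear_combination (-1 : ZMod 2) * h1 - h2

theorem neg_eq (h : Line q ρ r m) (a : A) : -a = a := (eq_neg_of_add_eq_zero_left (h.two a)).symm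

theorem add_eq_zero_iff (h : Line q ρ r m) (a b : A) : a + b = 0 ↔ a = b := by
  rw [add_eq_zero_iff_eq_neg, h.neg_eq]

theorem finite (h : Line q ρ r m) : Finite A := Nat.finite_of_card_ne_zero (by rw [h.card]; positivity)

theorem nontrivial (h : Line q ρ r m) : Nontrivial A := by
  haveI := h.finite
  rw [← Finite.one_lt_card_iff_nontrivial, h.card]
  exact Nat.one_lt_two_pow (by have := h.pos; omega)

theorem add_right (h : Line q ρ r m) (x y z : A) : bil q x (y + z) = bil q x y + bil q x z := by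
  rw [bil_comm, h.add_left, bil_comm y, bil_comm z]

/-- `b x` as an additive map. -/
def bilHom (h : Line q ρ r m) (x : A) : A →+ ZMod 2 := AddMonoidHom.mk' (bil q x) (h.add_right x)

@[simp] theorem bilHom_apply (h : Line q ρ r m) (x y : A) : h.bilHom x y = bil q x y := rfl

theorem bil_zero (h : Line q ρ r m) (x : A) : bil q x 0 = 0 := (h.bilHom x).map_zero

theorem pow_map (h : Line q ρ r m) (i : ℕ) (a : A) : q ((ρ ^ i) a) = q a := by
  induction i with
  | zero => simp
  | succ i ih => rw [pow_succ', AddMonoid.End.coe_mul, Function.comp_apply, h.q_map, ih]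

theorem bil_map (h : Line q ρ r m) (i : ℕ) (x y : A) :
    bil q ((ρ ^ i) x) ((ρ ^ i) y) = bil q x y := by
  simp only [bil, ← map_add, h.pow_map]

theorem pow_injective (h : Line q ρ r m) (i : ℕ) : Function.Injective (ρ ^ i) := by
  intro x y hxy
  rw [← sub_eq_zero]
  refine h.nondeg _ fun z => ?_
  have h0 : (ρ ^ i) (x - y) = 0 := by rw [map_sub, hxy, sub_self]
  rw [← h.bil_map i, h0, bil_comm, h.bil_zero]

theorem pow_mod (h : Line q ρ r m) (i : ℕ) : ρ ^ (i % r) = ρ ^ i := by
  conv_rhs => rw [← Nat.mod_add_div i r, pow_add, pow_mul, h.pow_eq, one_pow, mul_one]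

/-- A proper power of `ρ` fixes only `0`. -/
theorem fpf_pow (h : Line q ρ r m) {i : ℕ} (hi : ¬ r ∣ i) {a : A} (ha : (ρ ^ i) a = a) : a = 0 := by
  apply h.fpf
  have hcop : Nat.Coprime i r := ((Nat.Prime.coprime_iff_not_dvd h.prime).2 hi).symm
  obtain ⟨j, hj⟩ := Nat.exists_mul_mod_eq_one_of_coprime hcop h.prime.one_lt
  have : ∀ n, (ρ ^ (i * n)) a = a := by
    intro n
    induction n with
    | zero => simp
    | succ n ih =>
      rw [Nat.mul_succ, pow_add, AddMonoid.End.coe_mul, Function.comp_apply, ha, ih]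
  have hj1 : (i * j) % r = 1 := hj.2
  have h2 := this j
  rwa [← h.pow_mod, hj1, pow_one] at h2

theorem pow_eq_pow_of_apply (h : Line q ρ r m) {i j : ℕ} {a : A} (ha : a ≠ 0)
    (hij : (ρ ^ i) a = (ρ ^ j) a) : ρ ^ i = ρ ^ j := by
  wlog hle : i ≤ j generalizing i j
  · exact (this hij.symm (le_of_not_ge hle)).symm
  obtain ⟨d, rfl⟩ := Nat.exists_eq_add_of_le hle
  rw [pow_add, AddMonoid.End.coe_mul, Function.comp_apply] at hij
  have hd : (ρ ^ d) a = a := (h.pow_injective i hij).symm
  by_cases hdr : r ∣ d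
  · obtain ⟨e, rfl⟩ := hdr
    rw [pow_add, pow_mul, h.pow_eq, one_pow, mul_one]
  · exact absurd (h.fpf_pow hdr hd) ha

end Line

/-- A power of two congruent to `1` modulo a prime `2 ^ m + 1`, at most `2 ^ (2 * m)`, is `1` or
`2 ^ (2 * m)`. -/
theorem two_pow_mod {r m a : ℕ} (hr : r = 2 ^ m + 1) (hm : 0 < m) (ha : a ≤ 2 * m)
    (h : 2 ^ a % r = 1) : a = 0 ∨ a = 2 * m := by
  have h2m : 2 ≤ 2 ^ m := Nat.le_self_pow hm.ne' 2
  rcases lt_or_ge a m with ham | ham
  · left
    have hlt : 2 ^ a < r := by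
      have := Nat.pow_lt_pow_right (by norm_num : 1 < 2) ham
      omega
    rw [Nat.mod_eq_of_lt hlt] at h
    simpa using Nat.pow_eq_one.1 h
  · obtain ⟨c, rfl⟩ := Nat.exists_eq_add_of_le ham
    rcases Nat.lt_or_ge c m with hcm | hcm
    · exfalso
      -- `2 ^ (m + c) ≡ - 2 ^ c`
      have h1 : 2 ^ (m + c) + 2 ^ c = 2 ^ c * r := by rw [hr, pow_add]; ring
      have h3 : (2 ^ (m + c) + 2 ^ c) % r = 0 := by rw [h1]; exact Nat.mul_mod_left _ _
      have hlt : 2 ^ c < r := by
        have := Nat.pow_lt_pow_right (by norm_num : 1 < 2) hcm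
        omega
      rw [Nat.add_mod, h, Nat.mod_eq_of_lt hlt] at h3
      have h4 : 1 + 2 ^ c < r := by
        have := Nat.pow_lt_pow_right (by norm_num : 1 < 2) hcm
        have h5 : 2 * 2 ^ c ≤ 2 ^ m := by
          rw [← pow_succ']; exact Nat.pow_le_pow_right (by norm_num) hcm
        have := Nat.one_le_two_pow (n := c)
        omega
      rw [Nat.mod_eq_of_lt h4] at h3
      simp at h3
    · right; omega

/-- A set permuted by a map of prime order with a single fixed point has `1` mod `r` elements. -/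
theorem card_mod_of_unique_fixed {X : Type*} [Finite X] {r : ℕ} (hr : r.Prime) (f : Equiv.Perm X)
    (hf : f ^ r = 1) (x₀ : X) (h0 : f x₀ = x₀) (huniq : ∀ x, f x = x → x = x₀) :
    Nat.card X % r = 1 := by
  classical
  haveI := Fact.mk hr
  haveI := Fintype.ofFinite X
  have hP : IsPGroup r (Subgroup.zpowers f) := by
    intro g
    refine ⟨1, ?_⟩
    obtain ⟨g, k, rfl⟩ := g
    apply Subtype.ext
    show (f ^ k) ^ (r ^ 1) = 1
    rw [pow_one, ← zpow_natCast, ← zpow_mul, mul_comm, zpow_mul, zpow_natCast, hf, one_zpow]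
  have hfix : MulAction.fixedPoints (Subgroup.zpowers f) X = {x₀} := by
    ext x
    simp only [MulAction.mem_fixedPoints, Set.mem_singleton_iff]
    constructor
    · intro hx; exact huniq x (hx ⟨f, Subgroup.mem_zpowers f⟩)
    · rintro rfl ⟨g, k, rfl⟩
      show (f ^ k) x = x
      exact Equiv.Perm.zpow_apply_eq_self_of_apply_eq_self h0 k
  have h := hP.card_modEq_card_fixedPoints X
  rw [hfix, Nat.card_eq_fintype_card (α := ({x₀} : Set X)), Set.card_singleton] at h
  rw [h]
  exact Nat.mod_eq_of_lt hr.one_lt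

/-- The sum of a function invariant under a map of prime order with a single fixed point. -/
theorem dvd_sum_sub_of_unique_fixed {X : Type*} [Fintype X] {r : ℕ} (hr : r.Prime) (f : Equiv.Perm X)
    (hf : f ^ r = 1) (x₀ : X) (h0 : f x₀ = x₀) (huniq : ∀ x, f x = x → x = x₀) (g : X → ℤ)
    (hg : ∀ x, g (f x) = g x) : (r : ℤ) ∣ ∑ x, g x - g x₀ := by
  classical
  set F : ℤ → Finset X := fun c => (univ.erase x₀).filter fun x => g x = c with hF
  have hFf : ∀ c x, f x ∈ F c ↔ x ∈ F c := by
    intro c x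
    simp only [hF, mem_filter, mem_erase, mem_univ, and_true, hg]
    refine and_congr_left fun _ => not_congr ⟨fun h => ?_, fun h => by rw [h, h0]⟩
    exact f.injective (h.trans h0.symm)
  have hdiv : ∀ c, r ∣ (F c).card := by
    intro c
    let f' : Equiv.Perm {x // x ∈ F c} := f.subtypePerm fun x => hFf c x
    have hf' : f' ^ r = 1 := by
      rw [Equiv.Perm.subtypePerm_pow]
      ext x
      simp [hf]
    haveI := Fact.mk hr
    have hP : IsPGroup r (Subgroup.zpowers f') := by
      intro g'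
      refine ⟨1, ?_⟩
      obtain ⟨g', k, rfl⟩ := g'
      apply Subtype.ext
      show (f' ^ k) ^ (r ^ 1) = 1
      rw [pow_one, ← zpow_natCast, ← zpow_mul, mul_comm, zpow_mul, zpow_natCast, hf', one_zpow]
    have hemp : IsEmpty (MulAction.fixedPoints (Subgroup.zpowers f') {x // x ∈ F c}) := by
      refine ⟨fun x => ?_⟩
      have h1 := x.2 ⟨f', Subgroup.mem_zpowers f'⟩
      have h2 : f (x.1 : X) = x.1 := congrArg Subtype.val h1
      have h3 := (mem_erase.1 (mem_filter.1 x.1.2).1).1
      exact h3 (huniq _ h2)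
    have h := hP.card_modEq_card_fixedPoints {x // x ∈ F c}
    rw [Nat.card_of_isEmpty (α := MulAction.fixedPoints _ _), Nat.card_eq_fintype_card,
      Fintype.card_coe] at h
    exact Nat.modEq_zero_iff_dvd.1 h
  have hs : ∑ x, g x - g x₀ = ∑ x ∈ univ.erase x₀, g x := by
    rw [← Finset.add_sum_erase _ _ (mem_univ x₀)]; ring
  have e := Finset.sum_fiberwise_of_maps_to' (t := (univ.erase x₀).image g)
    (fun x hx => mem_image_of_mem g hx) fun c : ℤ => c
  rw [hs, ← e]
  refine dvd_sum fun c _ => ?_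
  rw [Finset.sum_const, nsmul_eq_mul]
  exact Dvd.dvd.mul_right (by exact_mod_cast hdiv c) _

namespace Line

variable {q : A → ZMod 2} {ρ : AddMonoid.End A} {r m : ℕ}

/-- `ρ` as a permutation. -/
noncomputable def perm (h : Line q ρ r m) : Equiv.Perm A :=
  Equiv.ofBijective ρ (by
    haveI := h.finite
    have := h.pow_injective 1
    rw [pow_one] at this
    exact Finite.injective_iff_bijective.1 this)

theorem perm_apply (h : Line q ρ r m) (a : A) : h.perm a = ρ a := rfl

theorem perm_pow_apply (h : Line q ρ r m) (i : ℕ) (a : A) : (h.perm ^ i) a = (ρ ^ i) a := by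
  induction i generalizing a with
  | zero => simp
  | succ i ih =>
    rw [pow_succ, pow_succ, Equiv.Perm.mul_apply, AddMonoid.End.coe_mul, Function.comp_apply, ih,
      h.perm_apply]

theorem perm_pow (h : Line q ρ r m) : h.perm ^ r = 1 := by
  ext a
  rw [h.perm_pow_apply, h.pow_eq]
  rfl

/-- `A` is irreducible. -/
theorem eq_bot_or_top (h : Line q ρ r m) (T : AddSubgroup A) (hT : ∀ x ∈ T, ρ x ∈ T) :
    T = ⊥ ∨ T = ⊤ := by
  haveI := h.finite
  have hinj : Function.Injective fun x : T => (⟨ρ x, hT _ x.2⟩ : T) := fun x y hxy =>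
    Subtype.ext (by
      have := h.pow_injective 1 (a₁ := (x : A)) (a₂ := (y : A))
      rw [pow_one] at this
      exact this (congrArg Subtype.val hxy))
  let f : Equiv.Perm T := Equiv.ofBijective _ (Finite.injective_iff_bijective.1 hinj)
  have hfp : ∀ (i : ℕ) (x : T), ((f ^ i) x : A) = (ρ ^ i) x := by
    intro i
    induction i with
    | zero => intro x; simp
    | succ i ih =>
      intro x
      rw [pow_succ, pow_succ, Equiv.Perm.mul_apply, AddMonoid.End.coe_mul, Function.comp_apply, ih]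
      rfl
  have hmod := card_mod_of_unique_fixed h.prime f
    (Equiv.ext fun x => Subtype.ext (by rw [hfp, h.pow_eq]; rfl)) 0
    (Subtype.ext (map_zero ρ)) fun x hx => Subtype.ext (h.fpf _ (congrArg Subtype.val hx))
  have hdvd := AddSubgroup.card_addSubgroup_dvd_card T
  rw [h.card] at hdvd
  obtain ⟨a, ha, hTa⟩ := (Nat.dvd_prime_pow Nat.prime_two).1 hdvd
  rw [hTa] at hmod
  rcases two_pow_mod h.eq_two_pow h.pos ha hmod with rfl | rfl
  · left; exact AddSubgroup.eq_bot_of_card_eq _ hTa
  · right; exact AddSubgroup.eq_top_of_card_eq _ (hTa.trans h.card.symm)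

section Fintype

variable [Fintype A]

theorem fintype_card (h : Line q ρ r m) : (Fintype.card A : ℤ) = 2 ^ m * 2 ^ m := by
  rw [← Nat.card_eq_fintype_card, h.card]
  push_cast
  rw [two_mul, pow_add]

/-- The sign sum of `q`. -/
theorem sum_sgn (h : Line q ρ r m) : ∑ a : A, sgn (q a) = -2 ^ m := by
  classical
  set S := ∑ a : A, sgn (q a) with hS
  have hsq : S * S = (Fintype.card A : ℤ) := by
    calc S * S = ∑ x : A, ∑ y : A, sgn (q x) * sgn (q (x + y)) := by
          rw [hS, Finset.sum_mul]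
          refine Finset.sum_congr rfl fun x _ => ?_
          rw [Finset.mul_sum]
          exact (Equiv.sum_comp (Equiv.addLeft x) fun y => sgn (q x) * sgn (q y)).symm
      _ = ∑ y : A, sgn (q y) * ∑ x : A, sgn (h.bilHom y x) := by
          rw [Finset.sum_comm]
          refine Finset.sum_congr rfl fun y _ => ?_
          rw [Finset.mul_sum]
          refine Finset.sum_congr rfl fun x _ => ?_
          rw [bilHom_apply, ← sgn_add, ← sgn_add, Line.q_add (q := q), bil_comm y]
          congr 1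
          linear_combination zmod2_add_self (q x)
      _ = (Fintype.card A : ℤ) := by
          rw [Finset.sum_eq_single (0 : A)]
          · have : ∀ x : A, bil q 0 x = 0 := fun x => by rw [bil_comm, h.bil_zero]
            simp [h.q_zero, this, Finset.card_univ]
          · intro y _ hy
            rw [sum_sgn_eq_zero (h.bilHom y), mul_zero]
            by_contra! hh
            exact hy (h.nondeg y hh)
          · simp
  have hfix0 : h.perm 0 = 0 := map_zero ρ
  have hdvd : (r : ℤ) ∣ S - 1 := by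
    have := dvd_sum_sub_of_unique_fixed h.prime h.perm h.perm_pow 0 hfix0
      (fun x hx => h.fpf x hx) (fun a => sgn (q a)) fun a => by rw [h.perm_apply, h.q_map]
    simpa [h.q_zero, hS] using this
  rw [h.fintype_card] at hsq
  rcases mul_self_eq_mul_self_iff.1 hsq with h1 | h1
  · exfalso
    rw [h1, h.eq_two_pow] at hdvd
    push_cast at hdvd
    have h2 : ((2 : ℤ) ^ m + 1) ∣ 2 := by
      have h3 : ((2 : ℤ) ^ m + 1) ∣ (2 ^ m + 1) - (2 ^ m - 1) := dvd_sub dvd_rfl hdvd
      have h4 : ((2 : ℤ) ^ m + 1) - (2 ^ m - 1) = 2 := by ring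
      rwa [h4] at h3
    have h5 := Int.le_of_dvd (by norm_num) h2
    have : (2 : ℤ) ≤ 2 ^ m := by
      exact_mod_cast Nat.le_self_pow h.pos.ne' 2
    omega
  · exact h1

theorem two_mul_card_nonsingular (h : Line q ρ r m) :
    2 * ((univ.filter fun a : A => q a = 1).card : ℤ) = 2 ^ m * r := by
  classical
  have h1 : ∀ a : A, sgn (q a) = 1 - 2 * (if q a = 1 then 1 else 0) := by
    intro a
    rcases zmod2_cases (q a) with h0 | h0 <;> simp [h0]
  have h2 := h.sum_sgn
  rw [Finset.sum_congr rfl fun a _ => h1 a, Finset.sum_sub_distrib, ← Finset.mul_sum,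
    Finset.sum_boole, Finset.sum_const, Finset.card_univ, nsmul_eq_mul, mul_one] at h2
  rw [h.fintype_card] at h2
  rw [h.eq_two_pow]
  push_cast
  linarith

theorem exists_nonsingular (h : Line q ρ r m) : ∃ a : A, q a = 1 := by
  classical
  have h1 := h.two_mul_card_nonsingular
  have h2 : (univ.filter fun a : A => q a = 1).card ≠ 0 := by
    intro h0
    rw [h0, h.eq_two_pow] at h1
    push_cast at h1
    have : (0 : ℤ) < 2 ^ m * (2 ^ m + 1) := by positivity
    linarith
  obtain ⟨a, ha⟩ := Finset.card_ne_zero.1 h2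
  exact ⟨a, (Finset.mem_filter.1 ha).2⟩

/-- A totally singular subgroup has order less than `2 ^ m`. -/
theorem card_lt_of_singular (h : Line q ρ r m) (T : AddSubgroup A) (hT : ∀ x ∈ T, q x = 0) :
    Nat.card T < 2 ^ m := by
  classical
  by_contra! hle
  have hbT : ∀ x ∈ T, ∀ y ∈ T, bil q x y = 0 := fun x hx y hy => by
    simp [bil, hT _ (add_mem hx hy), hT _ hx, hT _ hy]
  -- `∑ sgn (q x)` is a multiple of `|T|` supported on the orthogonal of `T`
  let Tp : AddSubgroup A :=
    { carrier := {x | ∀ t ∈ T, bil q x t = 0}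
      zero_mem' := fun t _ => by rw [bil_comm, h.bil_zero]
      add_mem' := fun ha hb t ht => by rw [h.add_left, ha t ht, hb t ht, add_zero]
      neg_mem' := fun ha => by rw [h.neg_eq]; exact ha }
  have hsum : (Nat.card T : ℤ) * ∑ x : A, sgn (q x) =
      (Nat.card T : ℤ) * ∑ x ∈ univ.filter (· ∈ Tp), sgn (q x) := by
    have h1 : ∑ x : A, ∑ t : T, sgn (q (x + t)) = (Nat.card T : ℤ) * ∑ x : A, sgn (q x) := by
      rw [Finset.sum_comm]
      have : ∀ t : T, ∑ x : A, sgn (q (x + t)) = ∑ x : A, sgn (q x) := fun t =>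
        Equiv.sum_comp (Equiv.addRight (t : A)) fun x => sgn (q x)
      rw [Finset.sum_congr rfl fun t _ => this t, Finset.sum_const, Finset.card_univ,
        Nat.card_eq_fintype_card, nsmul_eq_mul]
    have h2 : ∀ x : A, ∑ t : T, sgn (q (x + t)) =
        if x ∈ Tp then (Nat.card T : ℤ) * sgn (q x) else 0 := by
      intro x
      have h3 : ∀ t : T, sgn (q (x + t)) = sgn (q x) * sgn ((h.bilHom x).comp T.subtype t) := by
        intro t
        rw [Line.q_add (q := q), hT _ t.2, add_zero, sgn_add]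
        rfl
      rw [Finset.sum_congr rfl fun t _ => h3 t, ← Finset.mul_sum]
      split_ifs with hx
      · have : ∀ t : T, (h.bilHom x).comp T.subtype t = 0 := fun t => hx t t.2
        simp [this, Finset.card_univ, mul_comm]
      · rw [sum_sgn_eq_zero _ ?_, mul_zero]
        by_contra! hh
        exact hx fun t ht => hh ⟨t, ht⟩
    rw [← h1, Finset.sum_congr rfl fun x _ => h2 x, ← Finset.sum_filter, Finset.mul_sum]
  have hT0 : (Nat.card T : ℤ) ≠ 0 := by exact_mod_cast Nat.card_pos.ne'
  have hS := mul_left_cancel₀ hT0 hsum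
  -- the orthogonal is `T` itself
  have hTT : T ≤ Tp := fun x hx t ht => hbT x hx t ht
  have hcard : Nat.card Tp * Nat.card T ≤ Nat.card A := by
    let φ : A →+ (Tp →+ ZMod 2) :=
      AddMonoidHom.mk' (fun x => (h.bilHom x).comp Tp.subtype) fun x y => by
        ext t; exact h.add_left x y t
    let ψ : A →+ (T →+ ZMod 2) :=
      AddMonoidHom.mk' (fun x => (h.bilHom x).comp T.subtype) fun x y => by
        ext t; exact h.add_left x y t
    have hker : ψ.ker = Tp := by
      ext x
      constructor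
      · intro hx t ht; exact congrFun (congrArg DFunLike.coe hx) ⟨t, ht⟩
      · intro hx; ext t; exact hx t t.2
    have hinj : Function.Injective fun x : A => h.bilHom x := fun x y hxy => by
      rw [← sub_eq_zero]
      refine h.nondeg _ fun z => ?_
      have := congrFun (congrArg DFunLike.coe hxy) z
      simp only [bilHom_apply] at this
      rw [sub_eq_add_neg, h.neg_eq, h.add_left, this, zmod2_add_self]
    -- restriction of functionals to `T` is onto, so `|A : T^⊥| = |T|`
    have hidx : Nat.card T ≤ Tp.index := by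
      rw [← hker, AddSubgroup.index_ker]
      haveI : Finite (T →+ ZMod 2) := Finite.of_injective _ DFunLike.coe_injective
      haveI : Finite (A →+ ZMod 2) := Finite.of_injective _ DFunLike.coe_injective
      have hsurj : Function.Surjective fun x : A => h.bilHom x := by
        apply ((Nat.bijective_iff_injective_and_card _).2 ⟨hinj, ?_⟩).2
        exact (card_addHom_zmodTwo h.two).symm
      have htop : ψ.range = ⊤ := by
        rw [AddMonoidHom.range_eq_top]
        intro f
        obtain ⟨g, hg⟩ := exists_extend_zmodTwo h.two T f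
        obtain ⟨x, hx⟩ := hsurj g
        refine ⟨x, ?_⟩
        simp only at hx
        ext t
        show h.bilHom x t = f t
        rw [hx, hg]
      rw [htop, Nat.card_congr AddSubgroup.topEquiv.toEquiv, card_addHom_zmodTwo fun t : T =>
        Subtype.ext (h.two t)]
    calc Nat.card Tp * Nat.card T ≤ Nat.card Tp * Tp.index := Nat.mul_le_mul_left _ hidx
      _ = Nat.card A := Tp.card_mul_index
  have hle2 : Nat.card Tp ≤ 2 ^ m := by
    rw [h.card] at hcard
    have h1 : Nat.card Tp * 2 ^ m ≤ 2 ^ m * 2 ^ m := by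
      rw [← pow_add, ← two_mul]
      exact le_trans (Nat.mul_le_mul_left _ hle) hcard
    exact Nat.le_of_mul_le_mul_right h1 (by positivity)
  have heq : T = Tp := AddSubgroup.eq_of_le_of_card_ge hTT (hle2.trans hle)
  have hval : ∑ x ∈ univ.filter (· ∈ Tp), sgn (q x) = (Nat.card T : ℤ) := by
    have : ∀ x ∈ univ.filter (· ∈ Tp), sgn (q x) = 1 := fun x hx => by
      rw [hT x (heq ▸ (Finset.mem_filter.1 hx).2)]; rfl
    rw [Finset.sum_congr rfl this, Finset.sum_const, nsmul_eq_mul, mul_one, heq,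
      Nat.card_eq_fintype_card, Fintype.card_subtype]
  rw [h.sum_sgn, hval] at hS
  have : (0 : ℤ) ≤ Nat.card T := Nat.cast_nonneg _
  have : (0 : ℤ) < 2 ^ m := by positivity
  omega

end Fintype

/-- An endomorphism commuting with `ρ` and preserving `q` is a power of `ρ`. -/
theorem exists_eq_pow (h : Line q ρ r m) (c : AddMonoid.End A) (hc : c * ρ = ρ * c)
    (hq : ∀ a, q (c a) = q a) : ∃ i : ℕ, c = ρ ^ i := by
  classical
  haveI := h.finite
  haveI := Fintype.ofFinite A
  haveI : Finite (AddMonoid.End A) :=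
    Finite.of_injective (fun f : AddMonoid.End A => (f : A → A)) DFunLike.coe_injective
  -- the group of such endomorphisms
  let G : Submonoid (AddMonoid.End A) :=
    { carrier := {c | c * ρ = ρ * c ∧ ∀ a, q (c a) = q a}
      one_mem' := ⟨by rw [one_mul, mul_one], fun a => rfl⟩
      mul_mem' := fun {a b} ha hb => ⟨by rw [mul_assoc, hb.1, ← mul_assoc, ha.1, mul_assoc],
        fun x => by rw [AddMonoid.End.coe_mul, Function.comp_apply, ha.2, hb.2]⟩ }
  have hρG : ρ ∈ G := ⟨rfl, h.q_map⟩
  have hinjG : ∀ c ∈ G, Function.Injective c := by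
    intro c hc x y hxy
    rw [← sub_eq_zero]
    refine h.nondeg _ fun z => ?_
    have h0 : c (x - y) = 0 := by rw [map_sub, hxy, sub_self]
    have : bil q (c (x - y)) (c z) = bil q (x - y) z := by simp only [bil, ← map_add, hc.2]
    rw [← this, h0, bil_comm, h.bil_zero]
  -- agreeing with another element at one non-zero point means equality
  have hagree : ∀ c ∈ G, ∀ d ∈ G, ∀ a : A, a ≠ 0 → c a = d a → c = d := by
    intro c hc d hd a ha hcd
    let T : AddSubgroup A := AddMonoidHom.eqLocus c d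
    have hT : ∀ x ∈ T, ρ x ∈ T := by
      intro x hx
      show c (ρ x) = d (ρ x)
      have h1 := congrFun (congrArg DFunLike.coe hc.1) x
      have h2 := congrFun (congrArg DFunLike.coe hd.1) x
      simp only [AddMonoid.End.coe_mul, Function.comp_apply] at h1 h2
      rw [h1, h2, show c x = d x from hx]
    rcases h.eq_bot_or_top T hT with hb | ht
    · exfalso
      have hm : a ∈ T := hcd
      rw [hb, AddSubgroup.mem_bot] at hm
      exact ha hm
    · exact AddMonoidHom.ext fun x => (ht ▸ AddSubgroup.mem_top x : x ∈ T)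
  -- free action on the non-singular and on the non-zero vectors
  let U : Subgroup (AddMonoid.End A)ˣ :=
    { carrier := {u | (u : AddMonoid.End A) ∈ G}
      one_mem' := G.one_mem
      mul_mem' := fun ha hb => G.mul_mem ha hb
      inv_mem' := fun {u} hu => by
        obtain ⟨n, hn⟩ : ∃ n, u⁻¹ = u ^ n := ⟨orderOf u - 1, by
          rw [inv_eq_iff_mul_eq_one, ← pow_succ', Nat.sub_add_cancel (orderOf_pos u),
            pow_orderOf_eq_one]⟩
        show ((u⁻¹ : (AddMonoid.End A)ˣ) : AddMonoid.End A) ∈ G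
        rw [hn, Units.val_pow_eq_pow_val]
        exact G.pow_mem hu n }
  letI : MulAction U A :=
    { smul := fun u a => (u : (AddMonoid.End A)ˣ).val a
      one_smul := fun a => rfl
      mul_smul := fun u v a => rfl }
  have hfree : ∀ (Y : Finset A), (∀ u : U, ∀ y ∈ Y, u • y ∈ Y) → (0 : A) ∉ Y →
      Nat.card U ∣ Y.card := by
    intro Y hY h0
    letI : MulAction U {y // y ∈ Y} :=
      { smul := fun u y => ⟨u • y.1, hY u _ y.2⟩
        one_smul := fun y => Subtype.ext (one_smul U y.1)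
        mul_smul := fun u v y => Subtype.ext (mul_smul u v y.1) }
    have hst : ∀ y : {y // y ∈ Y}, MulAction.stabilizer U y = ⊥ := fun y => by
      rw [eq_bot_iff]
      intro u hu
      refine Subgroup.mem_bot.2 (Subtype.ext (Units.ext ?_))
      exact hagree _ u.2 1 G.one_mem y.1 (fun hy => h0 (hy ▸ y.2))
        (congrArg Subtype.val (MulAction.mem_stabilizer_iff.1 hu))
    have := Nat.card_congr (MulAction.selfEquivSigmaOrbits U {y // y ∈ Y})
    rw [Nat.card_eq_fintype_card, Fintype.card_coe, Nat.card_sigma] at this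
    rw [this]
    refine Finset.dvd_sum fun ω _ => ?_
    rw [Nat.card_congr (MulAction.orbitEquivQuotientStabilizer U _), hst]
    exact dvd_of_eq (Nat.card_congr (QuotientGroup.quotientBot (G := U)).toEquiv).symm
  have hsmul : ∀ (u : U) (a : A), q (u • a) = q a := fun u a => u.2.2 a
  have h1 : Nat.card U ∣ (univ.filter fun a : A => q a = 1).card :=
    hfree _ (fun u y hy => by
      rw [Finset.mem_filter] at hy ⊢
      exact ⟨mem_univ _, by rw [hsmul, hy.2]⟩)
      fun h0 => by simp [h.q_zero] at h0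
  have h2 : Nat.card U ∣ (univ.erase (0 : A)).card :=
    hfree _ (fun u y hy => by
      rw [Finset.mem_erase] at hy ⊢
      refine ⟨fun he => hy.1 (hinjG _ u.2 (he.trans (map_zero _).symm)), mem_univ _⟩)
      (by simp)
  -- hence the group has order dividing `r`
  have hns := h.two_mul_card_nonsingular
  have h1' : Nat.card U ∣ 2 ^ m * r := by
    refine (h1.mul_left 2).trans (dvd_of_eq ?_)
    exact_mod_cast hns
  have hodd : Odd (Nat.card U) := by
    refine Odd.of_dvd_nat ?_ h2
    rw [Finset.card_erase_of_mem (mem_univ _), Finset.card_univ, ← Nat.card_eq_fintype_card,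
      h.card]
    exact Nat.Even.sub_odd Nat.one_le_two_pow
      (Nat.even_pow.2 ⟨even_two, by have := h.pos; omega⟩) odd_one
  have hUr : Nat.card U ∣ r :=
    (Nat.Coprime.pow_right m (Nat.coprime_two_right.2 hodd)).dvd_of_dvd_mul_left h1'
  -- so it is generated by `ρ`
  have hr0 : 0 < r := h.prime.pos
  let ρu : (AddMonoid.End A)ˣ := ⟨ρ, ρ ^ (r - 1),
    by rw [← pow_succ', Nat.sub_add_cancel hr0, h.pow_eq],
    by rw [← pow_succ, Nat.sub_add_cancel hr0, h.pow_eq]⟩
  let ρU : U := ⟨ρu, hρG⟩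
  have hne : ρU ≠ 1 := by
    intro he
    obtain ⟨a, ha⟩ := h.exists_nonsingular
    have ha0 : a ≠ 0 := fun e => by rw [e, h.q_zero] at ha; exact zero_ne_one ha
    refine ha0 (h.fpf a ?_)
    exact congrFun (congrArg DFunLike.coe (congrArg (fun u : U => u.1.val) he)) a
  have hord : orderOf ρU = r := by
    rcases (Nat.dvd_prime h.prime).1 ((orderOf_dvd_natCard ρU).trans hUr) with h1 | h1
    · exact absurd (orderOf_eq_one_iff.1 h1) hne
    · exact h1
  have hcard : Nat.card U = r :=
    Nat.dvd_antisymm hUr (hord ▸ orderOf_dvd_natCard ρU)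
  have hgen : Subgroup.zpowers ρU = ⊤ :=
    Subgroup.eq_top_of_card_eq _ (by rw [Nat.card_zpowers, hord, hcard])
  have hcinj := hinjG c ⟨hc, hq⟩
  obtain ⟨cu, hcu⟩ : IsUnit c := by
    have hb := Finite.injective_iff_bijective.1 hcinj
    let e := AddEquiv.ofBijective c hb
    exact ⟨⟨c, e.symm.toAddMonoidHom, AddMonoidHom.ext e.apply_symm_apply,
      AddMonoidHom.ext e.symm_apply_apply⟩, rfl⟩
  have hcU : (⟨cu, by show (cu : AddMonoid.End A) ∈ G; rw [hcu]; exact ⟨hc, hq⟩⟩ : U) ∈
      Subgroup.zpowers ρU := hgen ▸ Subgroup.mem_top _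
  obtain ⟨i, hi⟩ := (Submonoid.mem_powers_iff _ _).1 ((mem_powers_iff_mem_zpowers).2 hcU)
  refine ⟨i, ?_⟩
  have := congrArg (fun u : U => u.1.val) hi
  simp only [SubmonoidClass.coe_pow, Units.val_pow_eq_pow_val] at this
  rw [← hcu, ← this]

/-- Four powers of `ρ` adding to zero on a non-zero vector are equal in pairs. -/
theorem pairing (h : Line q ρ r m) {a b c d : ℕ} (hs : ρ ^ a + ρ ^ b + ρ ^ c + ρ ^ d = 0) :
    (ρ ^ a = ρ ^ b ∧ ρ ^ c = ρ ^ d) ∨ (ρ ^ a = ρ ^ c ∧ ρ ^ b = ρ ^ d) ∨
      (ρ ^ a = ρ ^ d ∧ ρ ^ b = ρ ^ c) := by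
  have hE : ∀ f g : AddMonoid.End A, f + g = 0 → f = g := fun f g hfg =>
    AddMonoidHom.ext fun x => (h.add_eq_zero_iff _ _).1
      (congrFun (congrArg DFunLike.coe hfg) x)
  have happ : ∀ (i j : ℕ) (x : A), (ρ ^ i + ρ ^ j) x = (ρ ^ i) x + (ρ ^ j) x := fun _ _ _ => rfl
  have hsum : ρ ^ a + ρ ^ b = ρ ^ c + ρ ^ d := hE _ _ (by rw [← hs]; abel)
  by_cases hab : ρ ^ a = ρ ^ b
  · refine Or.inl ⟨hab, hE _ _ ?_⟩
    rw [← hsum, hab]
    exact AddMonoidHom.ext fun x => h.two _
  -- `s = ρ ^ a + ρ ^ b` is injective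
  set s := ρ ^ a + ρ ^ b with hsdef
  have hsinj : ∀ x, s x = 0 → x = 0 := by
    intro x hx
    by_contra hx0
    exact hab (h.pow_eq_pow_of_apply hx0 ((h.add_eq_zero_iff _ _).1 hx))
  -- exponents: `a + b ≡ c + d`
  have hinv : ∀ i, ∀ x y, bil q ((ρ ^ i) x) y = bil q x ((ρ ^ (i * (r - 1))) y) := by
    intro i x y
    rw [← h.bil_map i x ((ρ ^ (i * (r - 1))) y)]
    congr 1
    show y = (ρ ^ i * ρ ^ (i * (r - 1))) y
    rw [← pow_add]
    have : i + i * (r - 1) = r * i := by
      have := h.prime.pos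
      obtain ⟨r', rfl⟩ : ∃ r', r = r' + 1 := ⟨r - 1, by omega⟩
      simp; ring
    rw [this, pow_mul, h.pow_eq, one_pow]
    rfl
  have hadj : ρ ^ (a * (r - 1)) + ρ ^ (b * (r - 1)) = ρ ^ (c * (r - 1)) + ρ ^ (d * (r - 1)) := by
    refine hE _ _ (AddMonoidHom.ext fun y => h.nondeg _ fun x => ?_)
    have hxy : bil q (s x) y = bil q ((ρ ^ c + ρ ^ d) x) y := by rw [hsum]
    rw [hsdef, happ, happ, h.add_left, h.add_left, hinv, hinv, hinv, hinv, ← h.add_right,
      ← h.add_right] at hxy
    show bil q (((ρ ^ (a * (r - 1))) y + (ρ ^ (b * (r - 1))) y) +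
      ((ρ ^ (c * (r - 1))) y + (ρ ^ (d * (r - 1))) y)) x = 0
    rw [h.add_left, bil_comm, hxy, bil_comm x]
    exact zmod2_add_self _
  have hshift : ∀ i : ℕ, ρ ^ i * ρ ^ (i * (r - 1)) = 1 := by
    intro i
    have : i + i * (r - 1) = r * i := by
      have := h.prime.pos
      obtain ⟨r', rfl⟩ : ∃ r', r = r' + 1 := ⟨r - 1, by omega⟩
      simp; ring
    rw [← pow_add, this, pow_mul, h.pow_eq, one_pow]
  have hmul : ∀ i j : ℕ, ρ ^ (i + j) * (ρ ^ (i * (r - 1)) + ρ ^ (j * (r - 1))) = ρ ^ i + ρ ^ j := by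
    intro i j
    rw [mul_add, add_comm (ρ ^ i) (ρ ^ j)]
    congr 1
    · rw [add_comm i j, pow_add, mul_assoc, hshift, mul_one]
    · rw [pow_add, mul_assoc, hshift, mul_one]
  set t := ρ ^ (a * (r - 1)) + ρ ^ (b * (r - 1))
  have hst : ρ ^ (a + b) * t = ρ ^ (c + d) * t := by
    rw [hmul]
    conv_rhs => rw [hadj, hmul, ← hsum]
  have habcd : ρ ^ (a + b) = ρ ^ (c + d) := by
    haveI := h.nontrivial
    obtain ⟨x, hx⟩ := exists_ne (0 : A)
    refine h.pow_eq_pow_of_apply (a := t x) ?_ (congrFun (congrArg DFunLike.coe hst) x)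
    intro ht
    apply hx (hsinj x ?_)
    have := congrFun (congrArg DFunLike.coe (hmul a b)) x
    rw [hsdef, ← this, AddMonoid.End.coe_mul, Function.comp_apply, ht, map_zero]
  -- `(ρ^a + ρ^c) (ρ^a + ρ^d) = 0`
  have hprod : (ρ ^ a + ρ ^ c) * (ρ ^ a + ρ ^ d) = 0 := by
    have e : (ρ ^ a + ρ ^ c) * (ρ ^ a + ρ ^ d) =
        ρ ^ a * ρ ^ a + ρ ^ a * (ρ ^ c + ρ ^ d) + ρ ^ c * ρ ^ d := by
      rw [add_mul, mul_add, mul_add, mul_add, (Commute.pow_pow (Commute.refl ρ) c a).eq]
      abel
    rw [e, ← hsum, ← pow_add ρ c d, ← habcd, mul_add, ← pow_add, ← pow_add]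
    exact AddMonoidHom.ext fun x => by
      show (ρ ^ (a + a)) x + ((ρ ^ (a + a)) x + (ρ ^ (a + b)) x) + (ρ ^ (a + b)) x = 0
      rw [← add_assoc, h.two, zero_add, h.two]
  by_cases hac : ρ ^ a = ρ ^ c
  · refine Or.inr (Or.inl ⟨hac, hE _ _ ?_⟩)
    have := hs
    rw [← hac] at this
    rw [← this]
    refine AddMonoidHom.ext fun x => ?_
    show (ρ ^ b) x + (ρ ^ d) x = (ρ ^ a) x + (ρ ^ b) x + (ρ ^ a) x + (ρ ^ d) x
    rw [show (ρ ^ a) x + (ρ ^ b) x + (ρ ^ a) x = ((ρ ^ a) x + (ρ ^ a) x) + (ρ ^ b) x by abel,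
      h.two, zero_add]
  · have had : ρ ^ a = ρ ^ d := by
      haveI := h.nontrivial
      obtain ⟨x, hx⟩ := exists_ne (0 : A)
      by_contra had
      have h1 := congrFun (congrArg DFunLike.coe hprod) x
      rw [AddMonoid.End.coe_mul, Function.comp_apply] at h1
      have h2 : (ρ ^ a) ((ρ ^ a + ρ ^ d) x) = (ρ ^ c) ((ρ ^ a + ρ ^ d) x) :=
        (h.add_eq_zero_iff _ _).1 h1
      by_cases h0 : (ρ ^ a + ρ ^ d) x = 0
      · exact had (h.pow_eq_pow_of_apply hx ((h.add_eq_zero_iff _ _).1 h0))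
      · exact hac (h.pow_eq_pow_of_apply h0 h2)
    refine Or.inr (Or.inr ⟨had, hE _ _ ?_⟩)
    have := hs
    rw [← had] at this
    rw [← this]
    refine AddMonoidHom.ext fun x => ?_
    show (ρ ^ b) x + (ρ ^ c) x = (ρ ^ a) x + (ρ ^ b) x + (ρ ^ c) x + (ρ ^ a) x
    rw [show (ρ ^ a) x + (ρ ^ b) x + (ρ ^ c) x + (ρ ^ a) x
      = ((ρ ^ a) x + (ρ ^ a) x) + ((ρ ^ b) x + (ρ ^ c) x) by abel, h.two, zero_add]

end Line

end CfsgLib.HHShult
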