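import Cfsg.Agent.HHShult.Small
import Cfsg.Agent.HHShult.IsoEnd
import Cfsg.Agent.HHShult.AnisoAlg

/-!
# The pair `D / D'`, `C_D(σ)` is anisotropic

* `Cx.exists_good_cmod`: an element of `H` fixing a second coset commutes modulo the centre with a
  good element outside `H`;
* `Cx.exists_fixed_conj_of_sq`: the stabiliser of an element of `D` with central square is
  transitive on the classes of `C_D(σ)`;
* `Cx.aniso`: no element of `D` outside `C_D(σ)` has central square; the consequences.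
-/

set_option autoImplicit false
set_option linter.style.haveILetI false
set_option linter.unusedSectionVars false

open Finset Module Subgroup CfsgLib.ConjFunctor
open scoped commutatorElement CfsgLib.ConjFunctor

namespace CfsgLib.HHShult

universe u v w

variable {G : Type w} [Group G] [Finite G]
variable {K : Type u} [Field K] [IsAlgClosed K] {V : Type v} [AddCommGroup V] [Module K V]
  [FiniteDimensional K V]
variable {p : ℕ} [hp : Fact p.Prime] {σ : MulAut G} {r : ℕ} {ψ : G →* Module.End K V}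
  {s : Module.End K V}

/-- The fixed part of `N(D)`. -/
def gam (σ : MulAut G) (D : Subgroup G) : Subgroup G := fixedSub σ ⊓ normalizer (D : Set G)

/-- The action on `D / D'`. -/
noncomputable def actA (σ : MulAut G) (D : Subgroup G) : ↥(gam σ D) →* AddMonoid.End (FA D) where
  toFun c := nA (mem_inf.1 c.2).2
  map_one' := AddMonoidHom.ext fun a => by
    obtain ⟨x, rfl⟩ := piA_surjective a
    show piA (nD (mem_inf.1 (one_mem (gam σ D))).2 x) = piA x
    exact congrArg piA (Subtype.ext (by rw [nD_apply, one_mul, inv_one, mul_one]))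
  map_mul' c c' := AddMonoidHom.ext fun a => nA_mul_apply (mem_inf.1 c.2).2 (mem_inf.1 c'.2).2 a

theorem actA_apply {D : Subgroup G} (c : ↥(gam σ D)) (a : FA D) :
    actA σ D c a = nA (mem_inf.1 c.2).2 a := rfl

/-- The action on `Z(D)`. -/
noncomputable def actZ (σ : MulAut G) (D : Subgroup G) : ↥(gam σ D) →* AddMonoid.End (FZ D) where
  toFun c := nZ (mem_inf.1 c.2).2
  map_one' := AddMonoidHom.ext fun z => nZ_one _ z
  map_mul' c c' := AddMonoidHom.ext fun z => nZ_mul_apply (mem_inf.1 c.2).2 (mem_inf.1 c'.2).2 z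

/-- The part of `Z(D)` central in `G`. -/
def z0 (D : Subgroup G) : AddSubgroup (FZ D) :=
  Subgroup.toAddSubgroup ((Subgroup.center G).comap (D.subtype.comp (Subgroup.center ↥D).subtype))

theorem toFZ_mem_z0 {D : Subgroup G} {x : ↥D} (hx : x ∈ Subgroup.center ↥D) :
    toFZ x ∈ z0 D ↔ (x : G) ∈ Subgroup.center G := by rw [toFZ_of_mem hx]; rfl

theorem exists_toFZ {D : Subgroup G} (z : FZ D) : ∃ x ∈ Subgroup.center ↥D, toFZ x = z :=
  ⟨(Additive.toMul z).1, (Additive.toMul z).2, by rw [toFZ_of_mem (Additive.toMul z).2]; rfl⟩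

open scoped Classical in
/-- The occurring characters. -/
noncomputable def occ (ψ : G →* Module.End K V) (D : Subgroup G) :
    Finset (FZ D →+ ZMod 2) := Finset.univ.filter fun χ => fE ψ χ ≠ ⊥

theorem mem_occ {D : Subgroup G} {χ : FZ D →+ ZMod 2} : χ ∈ occ ψ D ↔ fE ψ χ ≠ ⊥ := by simp [occ]

namespace Cx

variable (X : Cx p σ r ψ s) {D H : Subgroup G} (hD : IsStdD σ D) (hH : Home σ D H)
include X hD hH

theorem center_le_home : Subgroup.center G ≤ H :=
  fun _ hc => hH.normalizer_le X hD (Subgroup.center_le_normalizer _ hc)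

/-- An element of `H` fixing a second coset commutes modulo the centre with a good element outside
`H`. -/
theorem exists_good_cmod {e : G} {a : ℕ} (hea : e ^ (2 ^ a) = 1)
    (hee : e * e ∈ Subgroup.center G) {g : G} (hg : g ∉ H) (hge : g⁻¹ * e * g ∈ H) :
    ∃ b, Good σ D b ∧ b ∈ cmod e ∧ b ∉ H := by
  obtain ⟨k, hk, d, t, hdec⟩ := hH.exists_transport X hD hH.mem hge (a := a) (by
    have h1 := conj_pow (a := g⁻¹) (b := e) (i := 2 ^ a)
    rw [inv_inv] at h1
    rw [h1, hea, mul_one, inv_mul_cancel])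
  set e' := k⁻¹ * (g⁻¹ * e * g) * k with he'
  have hee' : e' * e' ∈ Subgroup.center G := by
    have hn : (Subgroup.center G).Normal := inferInstance
    have := hn.conj_mem _ hee (g * k)⁻¹
    rwa [show (g * k)⁻¹ * (e * e) * (g * k)⁻¹⁻¹ = e' * e' by rw [he']; group] at this
  obtain ⟨z₀, hz₀, hz₀c⟩ := X.exists_noncentral_zsub hD hH
  have hmap : ∀ {z : G}, z ∈ zsub σ D → e' * z * e'⁻¹ ∈ zsub σ D := fun {z} hz => by
    have h1 := X.mem_normalizer_zsub hD hdec.fix hdec.norm hz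
    have e : e' * z * e'⁻¹ = t * z * t⁻¹ := by
      rw [hdec.eq]
      calc d * t * z * (d * t)⁻¹ = d * (t * z * t⁻¹) * d⁻¹ := by group
        _ = _ := by rw [X.zsub_comm hD h1 hdec.mem, mul_inv_cancel_right]
    rwa [e]
  -- a class fixed by `e'`
  obtain ⟨z, hz, hzc, hzfix⟩ : ∃ z ∈ zsub σ D, z ∉ Subgroup.center G ∧ z ∈ cmod e' := by
    by_cases hcase : z₀ ∈ cmod e'
    · exact ⟨z₀, hz₀, hz₀c, hcase⟩
    set w := e' * z₀ * e'⁻¹ with hw
    have hwz : w ∈ zsub σ D := hmap hz₀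
    have hcomm : z₀ * w = w * z₀ := X.zsub_comm hD hwz hz₀.1
    have hz2 := X.zsub_sq hD hz₀
    refine ⟨z₀ * w, mul_mem hz₀ hwz, fun h => hcase ?_, ?_⟩
    · rw [mem_cmod, commutatorElement_def, ← hw, inv_eq_of_mul_eq_one_right hz2, ← hcomm]
      exact h
    · have e1 : e' * (z₀ * w) * e'⁻¹ = z₀ * w := by
        calc e' * (z₀ * w) * e'⁻¹ = w * ((e' * e') * z₀ * (e' * e')⁻¹) := by rw [hw]; group
          _ = w * z₀ := by rw [← Subgroup.mem_center_iff.1 hee' z₀, mul_inv_cancel_right]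
          _ = _ := hcomm.symm
      exact mem_cmod_of_commute (mul_inv_eq_iff_eq_mul.1 e1).symm
  refine ⟨g * k * z * (g * k)⁻¹, (good_of_mem hz hzc).conj (g * k), ?_, fun hb => hg ?_⟩
  · have := (conj_mem_cmod_iff (g * k)).2 hzfix
    rwa [show g * k * e' * (g * k)⁻¹ = e by rw [he']; group] at this
  · have h1 := X.mem_of_conj_mem hD hH hz hzc (g := (g * k)⁻¹) (by rwa [inv_inv])
    have := mul_mem (inv_mem h1) (inv_mem hk)
    rwa [inv_inv, mul_inv_cancel_right] at this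

/-- If `d` with central square commutes modulo the centre with something outside `H`, its
stabiliser is transitive. -/
theorem trans_of_not_le {d : G} (hd : d ∈ D) (hdd : d * d ∈ Subgroup.center G)
    (hnle : ¬ cmod d ≤ H) {z₁ z₂ : G} (h1 : z₁ ∈ zsub σ D) (hc1 : z₁ ∉ Subgroup.center G)
    (h2 : z₂ ∈ zsub σ D) (hc2 : z₂ ∉ Subgroup.center G) :
    ∃ c, σ c = c ∧ ∃ hc : c ∈ normalizer (D : Set G),
      nA hc (piA ⟨d, hd⟩) = piA ⟨d, hd⟩ ∧ z₂⁻¹ * (c * z₁ * c⁻¹) ∈ Subgroup.center G := by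
  haveI : Fact (Nat.Prime 2) := ⟨Nat.prime_two⟩
  obtain ⟨y, hyd, hyH⟩ := Set.not_subset.1 hnle
  obtain ⟨a, ha⟩ := X.isPGroup_D hD ⟨d, hd⟩
  have hda : d ^ (2 ^ a) = 1 := congrArg Subtype.val ha
  obtain ⟨b, hb, hbd, hbH⟩ := X.exists_good_cmod hD hH hda hdd hyH (by
    have hc : ⁅d, y⁆ ∈ Subgroup.center G := hyd
    have e : y⁻¹ * d * y = ⁅d, y⁆ * d := by
      calc y⁻¹ * d * y = y⁻¹ * (⁅d, y⁆ * y * d) := by simp only [commutatorElement_def]; group
        _ = ⁅d, y⁆ * (y⁻¹ * y * d) := by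
            rw [← mul_assoc, ← mul_assoc, Subgroup.mem_center_iff.1 hc y⁻¹]; group
        _ = _ := by group
    rw [e]
    exact mul_mem (X.center_le_home hD hH hc) (hH.mem.le hd))
  obtain ⟨g, z, hz, hzc, rfl⟩ := hb
  have hg : g ∉ H := fun hgH => hbH (mul_mem (mul_mem hgH (hH.mem.le hz.1)) (inv_mem hgH))
  have hwex : ∀ {z' : G}, z' ∈ zsub σ D → z' ∉ Subgroup.center G →
      ∃ w ∈ cmod d, (g * z * g⁻¹)⁻¹ * (w * z' * w⁻¹) ∈ Subgroup.center G := fun {z'} hz' hzc' => by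
    obtain ⟨-, w, hw, hwc⟩ := X.exists_conj_of_points hD hH hz' hzc' hz hzc (g := 1) (g' := g)
      (by rwa [inv_one, one_mul])
    simp only [one_mul, inv_one, mul_one] at hw hwc
    refine ⟨w, ?_, hwc⟩
    obtain ⟨i, rfl⟩ := Subgroup.mem_zpowers_iff.1 hw
    exact zpow_mem (mul_mem (mem_cmod_of_commute (X.zsub_comm hD hz' hd).symm) hbd) i
  obtain ⟨w₁, hw₁d, hw₁⟩ := hwex h1 hc1
  obtain ⟨w₂, hw₂d, hw₂⟩ := hwex h2 hc2
  set h := w₂⁻¹ * w₁ with hh
  have hcen : z₂⁻¹ * (h * z₁ * h⁻¹) ∈ Subgroup.center G := by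
    have hn : (Subgroup.center G).Normal := inferInstance
    have := hn.conj_mem _ (mul_mem (inv_mem hw₂) hw₁) w₂⁻¹
    rwa [show w₂⁻¹ * (((g * z * g⁻¹)⁻¹ * (w₂ * z₂ * w₂⁻¹))⁻¹ *
      ((g * z * g⁻¹)⁻¹ * (w₁ * z₁ * w₁⁻¹))) * w₂⁻¹⁻¹ = z₂⁻¹ * (h * z₁ * h⁻¹) by
      rw [hh]; group] at this
  have hhd : ⁅d, h⁆ ∈ Subgroup.center G :=
    mem_cmod.1 (show h ∈ cmod d from mul_mem (inv_mem hw₂d) hw₁d)
  have hgood := (good_of_mem h1 hc1).conj h
  have hn : h * z₁ * h⁻¹ ∈ normalizer (D : Set G) := by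
    rw [show h * z₁ * h⁻¹ = z₂ * (z₂⁻¹ * (h * z₁ * h⁻¹)) by group]
    exact mul_mem (le_normalizer h2.1) (Subgroup.center_le_normalizer _ hcen)
  have hhH : h ∈ H := hH.fusion X hD h1 hc1 (X.good_mem_zsub hD hH hgood hn) hgood.not_center rfl
  obtain ⟨u, hu, d₂, hd₂, c, hc, hcf, hcn, he⟩ :=
    X.exists_decomp hD hH.mem.inv hH.mem.ne_top hH.mem.le hhH
  have hz' : c * z₁ * c⁻¹ ∈ zsub σ D := X.mem_normalizer_zsub hD hcf hcn h1
  have e : h * z₁ * h⁻¹ = u * (c * z₁ * c⁻¹) * u⁻¹ := by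
    rw [he]
    calc u * d₂ * c * z₁ * (u * d₂ * c)⁻¹ = u * (d₂ * (c * z₁ * c⁻¹)) * d₂⁻¹ * u⁻¹ := by group
      _ = _ := by rw [X.zsub_comm hD hz' hd₂]; group
  rw [e] at hn hcen
  rw [hH.conj_eq X hD hz' hu hn] at hcen
  refine ⟨c, hcf, hcn, ?_, hcen⟩
  -- the image of `d`
  set f : G := d₂ * (c * d * c⁻¹) * d₂⁻¹ with hf
  have hfD : f ∈ D := mul_mem (mul_mem hd₂ ((mem_normalizer_iff.1 hcn d).1 hd)) (inv_mem hd₂)
  set ζ := ⁅d, h⁆⁻¹ with hζ
  have hζc : ζ ∈ Subgroup.center G := inv_mem hhd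
  have hx : u * f * u⁻¹ * f⁻¹ = ζ * (d * f⁻¹) := by
    have e2 : u * f * u⁻¹ = ζ * d := by
      rw [hζ, hf, commutatorElement_def, he]; group
    rw [e2]; group
  have hxU : u * f * u⁻¹ * f⁻¹ ∈ ucore p σ H := by
    have := (mem_normalizer_iff.1 (X.le_normalizer_ucore (hH.mem.le hfD)) u⁻¹).1 (inv_mem hu)
    rw [show u * f * u⁻¹ * f⁻¹ = u * (f * u⁻¹ * f⁻¹) by group]
    exact mul_mem hu this
  obtain ⟨k, hk⟩ := X.isPGroup_ucore hH.mem.inv hH.mem.ne_top ⟨_, hxU⟩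
  obtain ⟨l, hl⟩ := X.isPGroup_D hD ⟨d * f⁻¹, mul_mem hd (inv_mem hfD)⟩
  have hpk : (u * f * u⁻¹ * f⁻¹) ^ (p ^ k) = 1 := congrArg Subtype.val hk
  have hN : (u * f * u⁻¹ * f⁻¹) ^ (2 ^ l * Nat.card (Subgroup.center G)) = 1 := by
    have hζN : ζ ^ Nat.card (Subgroup.center G) = 1 :=
      congrArg Subtype.val (pow_card_eq_one' (x := (⟨ζ, hζc⟩ : ↥(Subgroup.center G))))
    have hl' : (d * f⁻¹) ^ (2 ^ l) = 1 := congrArg Subtype.val hl
    rw [hx, Commute.mul_pow (Subgroup.mem_center_iff.1 hζc (d * f⁻¹)).symm, pow_mul (d * f⁻¹), hl',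
      one_pow, mul_one, mul_comm, pow_mul, hζN, one_pow]
  have hco : Nat.Coprime (p ^ k) (2 ^ l * Nat.card (Subgroup.center G)) := by
    refine Nat.Coprime.pow_left _ (Nat.Coprime.mul_right ?_ ?_)
    · exact Nat.Coprime.pow_right _ ((Nat.coprime_primes hp.out Nat.prime_two).2 X.p_ne_two)
    · exact hp.out.coprime_iff_not_dvd.2 X.not_dvd_card_center
  have h1x : u * f * u⁻¹ * f⁻¹ = 1 := by
    rw [← orderOf_eq_one_iff]
    exact Nat.eq_one_of_dvd_coprimes hco (orderOf_dvd_of_pow_eq_one hpk)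
      (orderOf_dvd_of_pow_eq_one hN)
  rw [hx] at h1x
  have hfz : f = ζ * d := by
    calc f = (ζ * (d * f⁻¹)) * f := by rw [h1x, one_mul]
      _ = _ := by group
  have hζD : ζ ∈ D := by
    rw [show ζ = f * d⁻¹ by rw [hfz]; group]
    exact mul_mem hfD (inv_mem hd)
  have F := X.frame hD
  have hcd : nA hcn (piA ⟨d, hd⟩) = piA (⟨f, hfD⟩ : ↥D) := by
    rw [← F.nA_of_mem hd₂ (le_normalizer hd₂) (nA hcn (piA ⟨d, hd⟩)), nA_piA, nA_piA]
    exact congrArg piA (Subtype.ext rfl)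
  rw [hcd, show (⟨f, hfD⟩ : ↥D) = ⟨ζ, hζD⟩ * ⟨d, hd⟩ from Subtype.ext hfz, piA_mul,
    (F.piA_eq_zero _).2 ((F.center_iff (⟨ζ, hζD⟩ : ↥D)).2 (X.center_fixed hζc)), zero_add]

/-- An element with central square can be moved by `C_D(σ)` to commute with an element outside
`H`. -/
theorem exists_not_cmod_le {d : G} (hd : d ∈ D) (hdz : d ∉ zsub σ D)
    (hdd : d * d ∈ Subgroup.center G) : ∃ z' ∈ zsub σ D, ¬ cmod (d * z') ≤ H := by
  by_contra! hall
  haveI : Fact (Nat.Prime 2) := ⟨Nat.prime_two⟩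
  have hdle : cmod d ≤ H := by simpa using hall 1 (one_mem _)
  obtain ⟨z, hz, hzc⟩ := X.exists_noncentral_zsub hD hH
  obtain ⟨g, hg⟩ : ∃ g, g ∉ H := by
    by_contra! h
    exact hH.mem.ne_top (eq_top_iff.2 fun x _ => h x)
  set b := g * z * g⁻¹ with hb_def
  have hgb : Good σ D b := ⟨g, z, hz, hzc, rfl⟩
  set π := QuotientGroup.mk' (Subgroup.center G) with hπ
  have hker : ∀ {e : G}, π e = 1 ↔ e ∈ Subgroup.center G := fun {e} => QuotientGroup.eq_one_iff e
  have hd2 : π d * π d = 1 := by rw [← map_mul]; exact hker.2 hdd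
  have hb2 : π b * π b = 1 := by rw [← map_mul, hgb.sq_eq X hD, map_one]
  set x := π d * π b with hx
  have hflipd : π d * x * (π d)⁻¹ = x⁻¹ := by
    rw [hx, mul_inv_rev, inv_eq_of_mul_eq_one_right hb2, ← mul_assoc (π d), hd2, one_mul]
  have hflipb : π b * x * (π b)⁻¹ = x⁻¹ := by
    rw [hx, mul_inv_rev, inv_eq_of_mul_eq_one_right hb2, inv_eq_of_mul_eq_one_right hd2]
    calc π b * (π d * π b) * π b = π b * π d * (π b * π b) := by group
      _ = _ := by rw [hb2, mul_one]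
  have hcp : ∀ (y : G ⧸ Subgroup.center G), y * x * y⁻¹ = x⁻¹ → ∀ n : ℕ,
      y * x ^ n = (x ^ n)⁻¹ * y := fun y hy n => by
    rw [← mul_inv_eq_iff_eq_mul, ← conj_pow, hy, inv_pow]
  rcases Nat.even_or_odd (orderOf x) with ⟨l, hl⟩ | ⟨i, hi⟩
  swap
  · -- odd order: `d` is good up to the centre
    set w := (d * b) ^ i with hw
    have hwx : π w = x ^ i := by rw [hw, map_pow, map_mul]
    have e : π w * π d * (π w)⁻¹ = π b := by
      have h1 : x ^ (i + 1 + i) = 1 := by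
        rw [show i + 1 + i = orderOf x by omega, pow_orderOf_eq_one]
      have hbd : π b = π d * x := by rw [hx, ← mul_assoc, hd2, one_mul]
      rw [hwx, mul_inv_eq_iff_eq_mul, hbd, mul_assoc, ← pow_succ']
      have := hcp (π d) hflipd (i + 1)
      rw [this]
      congr 1
      rw [eq_inv_iff_mul_eq_one, ← pow_add, show i + (i + 1) = i + 1 + i by ring, h1]
    have hgood : Good σ D (w⁻¹ * b * w) := by
      have := hgb.conj w⁻¹
      rwa [inv_inv] at this
    have hcen : d⁻¹ * (w⁻¹ * b * w) ∈ Subgroup.center G := by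
      rw [← hker, map_mul, map_mul, map_mul, map_inv, map_inv, ← e]
      group
    have hzs := X.good_mem_zsub hD hH hgood (by
      rw [show w⁻¹ * b * w = d * (d⁻¹ * (w⁻¹ * b * w)) by group]
      exact mul_mem (le_normalizer hd) (Subgroup.center_le_normalizer _ hcen))
    apply hdz
    refine mem_zsub.2 ⟨hd, ?_⟩
    have hf := X.center_fixed hcen
    rw [map_mul, hzs.2, map_inv] at hf
    exact inv_injective (mul_right_cancel hf)
  -- even order
  set c := (d * b) ^ l with hc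
  have hcx : π c = x ^ l := by rw [hc, map_pow, map_mul]
  have hcne : x ^ l ≠ 1 := fun h => by
    have := orderOf_pos x
    have := Nat.le_of_dvd (by omega) (orderOf_dvd_of_pow_eq_one h)
    omega
  have hcinv : (x ^ l)⁻¹ = x ^ l := by
    rw [inv_eq_iff_mul_eq_one, ← pow_add, ← hl, pow_orderOf_eq_one]
  have hcomm : ∀ (y : G), π y * x * (π y)⁻¹ = x⁻¹ → c ∈ cmod y := fun y hy => by
    rw [mem_cmod_iff_quot]
    show π y * π c = π c * π y
    rw [hcx, hcp (π y) hy l, hcinv]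
  have hcH : c ∈ H := hdle (hcomm d hflipd)
  have hcb : c ∈ cmod b := hcomm b hflipb
  rcases Nat.even_or_odd' l with ⟨i, hi | hi⟩
  · set b' := ((d * b) ^ i)⁻¹ * b * (d * b) ^ i with hb'
    have hb'q : π b' = π b * π c := by
      rw [hb', map_mul, map_mul, map_inv, map_pow, map_mul, hcx, hi, two_mul, pow_add, ← mul_assoc,
        hcp (π b) hflipb i]
    have hgb' : Good σ D b' := by
      have := hgb.conj ((d * b) ^ i)⁻¹
      rwa [inv_inv] at this
    have hb'b : b' ∈ cmod b := by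
      rw [mem_cmod_iff_quot]
      show π b * π b' = π b' * π b
      have := mem_cmod_iff_quot.1 hcb
      rw [hb'q, mul_assoc, show π c * π b = π b * π c from this.eq.symm]
    rcases X.mul_good_or_central hD hH hgb hgb' hb'b with hgd | hcen
    · obtain ⟨g₂, z₂, hz₂, hzc₂, he⟩ := hgd
      have hbb : π (b * b') = π c := by rw [map_mul, hb'q, ← mul_assoc, hb2, one_mul]
      have hin : b * b' ∈ H := by
        have hq : c⁻¹ * (b * b') ∈ Subgroup.center G := by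
          rw [← hker, map_mul, hbb, map_inv, inv_mul_cancel]
        have := mul_mem hcH (X.center_le_home hD hH hq)
        rwa [mul_inv_cancel_left] at this
      have h2 := X.mem_of_conj_mem hD hH hz₂ hzc₂ (g := g₂⁻¹) (by rw [inv_inv, ← he]; exact hin)
      have hm : b * b' ∈ cmod b := mul_mem (mem_cmod_of_commute rfl) hb'b
      rw [he] at hm
      have h3 := X.eq_point hD hH hz hzc hz₂ hzc₂ hm
      apply hg
      have := mul_mem (inv_mem h2) (inv_mem h3)
      rw [inv_inv] at this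
      rwa [show g₂ * (g⁻¹ * g₂)⁻¹ = g by group] at this
    · apply hcne
      rw [← hcx]
      calc π c = π b * π b * π c := by rw [hb2, one_mul]
        _ = π (b * b') := by rw [mul_assoc, ← hb'q]; exact (map_mul π b b').symm
        _ = 1 := hker.2 hcen
  set W := ((d * b) ^ i)⁻¹ * b with hW
  have hWd : π W * π d * (π W)⁻¹ = π b * π c := by
    rw [hW, map_mul, map_inv, map_pow, map_mul, hcx, hi, two_mul, mul_inv_rev, inv_inv,
      inv_eq_of_mul_eq_one_right hb2, ← hx, ← hcp (π b) hflipb i, pow_succ, pow_add]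
    calc π b * x ^ i * π d * (π b * x ^ i) = π b * x ^ i * (π d * π b) * x ^ i := by group
      _ = π b * (x ^ i * x * x ^ i) := by rw [← hx]; group
      _ = π b * (x ^ i * x ^ i * x) := by
          congr 1
          rw [mul_assoc (x ^ i) x, mul_assoc (x ^ i) (x ^ i), (Commute.pow_right (Commute.refl x) i).eq]
  set z₀ := W⁻¹ * b * W with hz₀
  have hgz₀ : Good σ D z₀ := by
    have := hgb.conj W⁻¹
    rwa [inv_inv] at this
  have hbc : Commute (π b) (π c) := mem_cmod_iff_quot.1 hcb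
  have hz₀d : z₀ ∈ cmod d := by
    rw [mem_cmod_iff_quot]
    show π d * π z₀ = π z₀ * π d
    have e1 : π d = (π W)⁻¹ * (π b * π c) * π W := by rw [← hWd]; group
    have hcm : Commute (π b * π c) (π b) := (Commute.refl (π b)).mul_left hbc.symm
    rw [hz₀, map_mul, map_mul, map_inv, e1]
    calc (π W)⁻¹ * (π b * π c) * π W * ((π W)⁻¹ * π b * π W)
        = (π W)⁻¹ * ((π b * π c) * π b) * π W := by group
      _ = (π W)⁻¹ * (π b * (π b * π c)) * π W := by rw [hcm.eq]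
      _ = _ := by group
  have hz₀H : z₀ ∈ H := hdle hz₀d
  have hWg : W⁻¹ * g ∈ H := by
    have := X.mem_of_conj_mem hD hH hz hzc (g := (W⁻¹ * g)⁻¹) (by
      rw [inv_inv]
      have e : W⁻¹ * g * z * (W⁻¹ * g)⁻¹ = z₀ := by rw [hz₀, hb_def]; group
      rwa [e])
    have := inv_mem this
    rwa [inv_inv] at this
  have hWH : W ∉ H := fun h => hg (by
    have := mul_mem h hWg
    rwa [mul_inv_cancel_left] at this)
  obtain ⟨h, hh, hhz⟩ := X.exists_conj_mem_zsub hD hH hH.mem hgz₀ hz₀H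
  obtain ⟨u, hu, d₂, hd₂, c₂, -, hc₂f, hc₂n, he⟩ :=
    X.exists_decomp hD hH.mem.inv hH.mem.ne_top hH.mem.le hh
  set z' := c₂ * (h⁻¹ * z₀ * h) * c₂⁻¹ with hz'_def
  have hz' : z' ∈ zsub σ D := X.mem_normalizer_zsub hD hc₂f hc₂n hhz
  have hz₀u : z₀ = u * z' * u⁻¹ := by
    calc z₀ = u * (d₂ * z') * d₂⁻¹ * u⁻¹ := by rw [hz'_def, he]; group
      _ = _ := by rw [X.zsub_comm hD hz' hd₂]; group
  -- a conjugator commuting with `d`
  set U := ucore p σ H with hU
  have hUd : ∀ {k : G}, k ∈ U → d * k * d⁻¹ ∈ U := fun {k} hk =>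
    (mem_normalizer_iff.1 (X.le_normalizer_ucore (hH.mem.le hd)) k).1 hk
  set v := u⁻¹ * (d * u * d⁻¹) with hv
  have hvU : v ∈ U := mul_mem (inv_mem hu) (hUd hu)
  have hdz' : d * z' = z' * d := X.zsub_comm hD hz' hd
  have hvz : v * z' * v⁻¹ = z' := by
    refine hH.conj_eq X hD hz' hvU ?_
    have e1 : v * z' * v⁻¹ = u⁻¹ * (⁅d, z₀⁆ * z₀) * u := by
      rw [hz₀u, hv, commutatorElement_def]
      calc u⁻¹ * (d * u * d⁻¹) * z' * (u⁻¹ * (d * u * d⁻¹))⁻¹
          = u⁻¹ * d * u * (d⁻¹ * (z' * d)) * u⁻¹ * d⁻¹ * u := by group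
        _ = u⁻¹ * d * u * z' * u⁻¹ * d⁻¹ * u := by rw [← hdz', inv_mul_cancel_left]
        _ = _ := by group
    have hc' : ⁅d, z₀⁆ ∈ Subgroup.center G := hz₀d
    have e2 : u⁻¹ * (⁅d, z₀⁆ * z₀) * u = ⁅d, z₀⁆ * z' := by
      calc u⁻¹ * (⁅d, z₀⁆ * z₀) * u = (u⁻¹ * ⁅d, z₀⁆) * z₀ * u := by group
        _ = ⁅d, z₀⁆ * (u⁻¹ * z₀ * u) := by rw [Subgroup.mem_center_iff.1 hc' u⁻¹]; group
        _ = _ := by rw [hz₀u]; group
    rw [e1, e2]
    exact mul_mem (Subgroup.center_le_normalizer _ hc') (le_normalizer hz'.1)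
  set C' : Subgroup G := U ⊓ centralizer ({z'} : Set G) with hC'
  have hC'd : ∀ {k : G}, k ∈ C' → v * (d * k * d⁻¹) ∈ C' := fun {k} hk => by
    refine mem_inf.2 ⟨mul_mem hvU (hUd hk.1), ?_⟩
    have hd' : d ∈ centralizer ({z'} : Set G) := mem_centralizer_singleton_iff.2 hdz'
    exact mul_mem (mem_centralizer_singleton_iff.2 (mul_inv_eq_iff_eq_mul.1 hvz))
      (mul_mem (mul_mem hd' hk.2) (inv_mem hd'))
  let fC : ↥C' → ↥C' := fun k => ⟨v * (d * k * d⁻¹), hC'd k.2⟩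
  have hfC : Function.Involutive fC := fun k => Subtype.ext (by
    show v * (d * (v * (d * (k : G) * d⁻¹)) * d⁻¹) = k
    have e1 : v * (d * v * d⁻¹) = 1 := by
      rw [hv]
      calc u⁻¹ * (d * u * d⁻¹) * (d * (u⁻¹ * (d * u * d⁻¹)) * d⁻¹)
          = u⁻¹ * ((d * d) * u) * (d * d)⁻¹ := by group
        _ = u⁻¹ * (u * (d * d)) * (d * d)⁻¹ := by rw [← Subgroup.mem_center_iff.1 hdd u]
        _ = 1 := by group
    calc v * (d * (v * (d * (k : G) * d⁻¹)) * d⁻¹)
        = (v * (d * v * d⁻¹)) * ((d * d) * (k : G)) * (d * d)⁻¹ := by group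
      _ = _ := by rw [e1, ← Subgroup.mem_center_iff.1 hdd (k : G)]; group)
  obtain ⟨⟨k, hk⟩, hkfix⟩ := exists_fixed_of_not_dvd Nat.prime_two hfC.toPerm
    (Equiv.ext fun k => hfC k) (by
      obtain ⟨n, hn⟩ := IsPGroup.iff_card.1
        ((X.isPGroup_ucore hH.mem.inv hH.mem.ne_top).to_le (inf_le_left : C' ≤ U))
      rw [hn]
      exact (hp.out.odd_of_ne_two X.p_ne_two).pow.not_two_dvd_nat)
  have hkv : v * (d * k * d⁻¹) = k := congrArg Subtype.val hkfix
  set u' := u * k with hu'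
  have hdu' : d * u' = u' * d := by
    have e1 : d * u' * d⁻¹ = u' := by
      rw [hu']
      calc d * (u * k) * d⁻¹ = u * (v * (d * k * d⁻¹)) := by rw [hv]; group
        _ = _ := by rw [hkv]
    exact mul_inv_eq_iff_eq_mul.1 e1
  have hu'H : u' ∈ H := mul_mem (X.ucore_le hH.mem.inv hu) (X.ucore_le hH.mem.inv hk.1)
  have hz₀u' : z₀ = u' * z' * u'⁻¹ := by
    rw [hz₀u, hu']
    have := mem_centralizer_singleton_iff.1 hk.2
    calc u * z' * u⁻¹ = u * (z' * k) * (u * k)⁻¹ := by group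
      _ = u * (k * z') * (u * k)⁻¹ := by rw [this]
      _ = _ := by group
  obtain ⟨a, ha⟩ := X.isPGroup_D hD ⟨d * z', mul_mem hd hz'.1⟩
  have hsq : d * z' * (d * z') ∈ Subgroup.center G := by
    rw [show d * z' * (d * z') = (d * d) * (z' * z') by
      calc d * z' * (d * z') = d * (z' * d) * z' := by group
        _ = d * (d * z') * z' := by rw [hdz']
        _ = _ := by group, X.zsub_sq hD hz', mul_one]
    exact hdd
  obtain ⟨b₁, -, hb₁, hb₁H⟩ := X.exists_good_cmod hD hH (congrArg Subtype.val ha) hsq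
    (g := u'⁻¹ * W⁻¹) (fun h => hWH (by
      have := inv_mem (mul_mem hu'H h)
      rwa [mul_inv_cancel_left, inv_inv] at this)) (by
      have e1 : (u'⁻¹ * W⁻¹)⁻¹ * (d * z') * (u'⁻¹ * W⁻¹) = W * (d * z₀) * W⁻¹ := by
        rw [hz₀u']
        calc _ = W * (u' * d) * z' * u'⁻¹ * W⁻¹ := by group
          _ = W * (d * u') * z' * u'⁻¹ * W⁻¹ := by rw [hdu']
          _ = _ := by group
      rw [e1]
      have hq : c⁻¹ * (W * (d * z₀) * W⁻¹) ∈ Subgroup.center G := by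
        rw [← hker, hz₀]
        simp only [map_mul, map_inv]
        calc (π c)⁻¹ * (π W * (π d * ((π W)⁻¹ * π b * π W)) * (π W)⁻¹)
            = (π c)⁻¹ * ((π W * π d * (π W)⁻¹) * π b) := by group
          _ = (π c)⁻¹ * (π c * π b * π b) := by rw [hWd, hbc.eq]
          _ = 1 := by rw [mul_assoc, hb2, mul_one, inv_mul_cancel]
      have := mul_mem hcH (X.center_le_home hD hH hq)
      rwa [mul_inv_cancel_left] at this)
  exact hb₁H (hall z' hz' hb₁)

/-- The stabiliser of an element of `D` with central square is transitive on the classes. -/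
theorem exists_fixed_conj_of_sq {d : G} (hd : d ∈ D) (hdz : d ∉ zsub σ D)
    (hdd : d * d ∈ Subgroup.center G) {z₁ z₂ : G} (h1 : z₁ ∈ zsub σ D)
    (hc1 : z₁ ∉ Subgroup.center G) (h2 : z₂ ∈ zsub σ D) (hc2 : z₂ ∉ Subgroup.center G) :
    ∃ c, σ c = c ∧ ∃ hc : c ∈ normalizer (D : Set G),
      nA hc (piA ⟨d, hd⟩) = piA ⟨d, hd⟩ ∧ z₂⁻¹ * (c * z₁ * c⁻¹) ∈ Subgroup.center G := by
  have F := X.frame hD
  obtain ⟨z', hz', hnle⟩ := X.exists_not_cmod_le hD hH hd hdz hdd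
  have hdz' : d * z' = z' * d := X.zsub_comm hD hz' hd
  have hsq : d * z' * (d * z') ∈ Subgroup.center G := by
    rw [show d * z' * (d * z') = (d * d) * (z' * z') by
      calc d * z' * (d * z') = d * (z' * d) * z' := by group
        _ = d * (d * z') * z' := by rw [hdz']
        _ = _ := by group, X.zsub_sq hD hz', mul_one]
    exact hdd
  obtain ⟨c, hcf, hcn, hfix, hcen⟩ :=
    X.trans_of_not_le hD hH (mul_mem hd hz'.1) hsq hnle h1 hc1 h2 hc2
  refine ⟨c, hcf, hcn, ?_, hcen⟩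
  have e : piA (⟨d * z', mul_mem hd hz'.1⟩ : ↥D) = piA ⟨d, hd⟩ := by
    rw [show (⟨d * z', mul_mem hd hz'.1⟩ : ↥D) = ⟨d, hd⟩ * ⟨z', hz'.1⟩ from rfl, piA_mul,
      (F.piA_eq_zero (⟨z', hz'.1⟩ : ↥D)).2 ((F.center_iff _).2 hz'.2), add_zero]
  rwa [← e]

/-- The data of `Duo`. -/
theorem duo {m : ℕ} (hm : 0 < m) (hr : r = 2 ^ m + 1) :
    Duo (sqA D) (X.frame hD).rhoA r m (z0 D) (occ ψ D) (actA σ D) (actZ σ D) := by
  have F := X.frame hD
  have hz0 : ∀ {x : ↥D}, x ∈ Subgroup.center ↥D → toFZ x ∉ z0 D →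
      (x : G) ∈ zsub σ D ∧ (x : G) ∉ Subgroup.center G := fun {x} hx h =>
    ⟨⟨x.2, (F.center_iff x).1 hx⟩, fun hc => h ((toFZ_mem_z0 hx).2 hc)⟩
  refine ⟨F.quad hm hr, ?_, ?_, ?_, ?_, ?_, ?_, ?_, ?_, ?_, ?_, ?_⟩
  · exact fun χ hχ h0 => F.good hm hr (mem_occ.1 hχ) h0
  · intro z hz
    obtain ⟨x, hx, rfl⟩ := exists_toFZ z
    have h1 : x = 1 := Subtype.ext (X.act.inj (by
      rw [Subgroup.coe_one, map_one]
      refine F.ext_fE fun χ v hv => ?_
      rw [mem_fE.1 hv x hx, Module.End.one_apply]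
      by_cases hocc : fE ψ χ = ⊥
      · rw [hocc, Submodule.mem_bot] at hv
        rw [hv, smul_zero]
      · rw [hz χ (mem_occ.2 hocc), sK_zero, one_smul]))
    rw [h1, toFZ_of_mem (one_mem _)]
    rfl
  · exact F.nondeg
  · intro η hη
    refine AddMonoidHom.ext fun z => ?_
    obtain ⟨x, hx, rfl⟩ := exists_toFZ z
    have hx' : x ∈ commutator ↥D := by rw [F.m2.commutator_eq_center]; exact hx
    rw [commutator_eq_closure] at hx'
    show η (toFZ x) = 0
    have hsub : ∀ {y}, y ∈ Subgroup.closure {g : ↥D | ∃ a b, ⁅a, b⁆ = g} →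
        y ∈ Subgroup.center ↥D := fun {y} hy => by
      change y ∈ Subgroup.closure (commutatorSet ↥D) at hy
      rw [← commutator_eq_closure, F.m2.commutator_eq_center] at hy; exact hy
    induction hx' using Subgroup.closure_induction with
    | mem y hy =>
      obtain ⟨a, b, rfl⟩ := hy
      rw [← F.bz_piA]
      exact hη _ _
    | one => rw [toFZ_of_mem (one_mem _)]; exact η.map_zero
    | mul y y' hy hy' ih ih' =>
      rw [toFZ_mul (hsub hy) (hsub hy'), map_add, ih (hsub hy), ih' (hsub hy'), add_zero]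
    | inv y hy ih =>
      have h := hsub hy
      rw [show y⁻¹ = y from inv_eq_of_mul_eq_one_right (F.center_sq h)]
      exact ih h
  · exact fun c a => F.sqA_nA (mem_inf.1 c.2).2 a
  · exact fun c a => F.nA_comm (mem_inf.1 c.2).1 (mem_inf.1 c.2).2 a
  · intro c z hz
    obtain ⟨x, hx, rfl⟩ := exists_toFZ z
    show nZ (mem_inf.1 c.2).2 (toFZ x) ∈ z0 D
    rw [nZ_toFZ _ hx, toFZ_mem_z0 (map_center_mem _ hx), nD_apply]
    have h1 := (toFZ_mem_z0 hx).1 hz
    rw [Subgroup.mem_center_iff.1 h1 (c : G), mul_inv_cancel_right]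
    exact h1
  · intro c χ hχ
    exact mem_occ.2 (F.fE_comp_ne_bot (mem_inf.1 c.2).2 (mem_occ.1 hχ))
  · intro a b ha hb
    obtain ⟨x, hx, rfl⟩ := exists_toFZ a
    obtain ⟨y, hy, rfl⟩ := exists_toFZ b
    obtain ⟨c, hcf, hcn, -, hcen⟩ :=
      X.exists_fixed_conj hD hH (hz0 hx ha).1 (hz0 hx ha).2 (hz0 hy hb).1 (hz0 hy hb).2
    refine ⟨⟨c, mem_inf.2 ⟨hcf, hcn⟩⟩, ?_⟩
    show nZ hcn (toFZ x) + toFZ y ∈ z0 D
    rw [nZ_toFZ hcn hx, ← toFZ_mul (map_center_mem _ hx) hy,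
      toFZ_mem_z0 (mul_mem (map_center_mem _ hx) hy), Subgroup.coe_mul, nD_apply]
    have e : (y : G)⁻¹ = y := inv_eq_of_mul_eq_one_right (X.zsub_sq hD (hz0 hy hb).1)
    have hcomm : c * (x : G) * c⁻¹ * (y : G) = (y : G) * (c * (x : G) * c⁻¹) :=
      congrArg Subtype.val (Subgroup.mem_center_iff.1 hy (nD hcn x))
    rw [hcomm]
    rwa [e] at hcen
  · obtain ⟨z₁, h1, z₂, h2, hc1, hc2, h12⟩ := X.exists_two_classes hD hH
    have hx1 : (⟨z₁, h1.1⟩ : ↥D) ∈ Subgroup.center ↥D := (F.center_iff _).2 h1.2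
    have hx2 : (⟨z₂, h2.1⟩ : ↥D) ∈ Subgroup.center ↥D := (F.center_iff _).2 h2.2
    refine ⟨toFZ ⟨z₁, h1.1⟩, toFZ ⟨z₂, h2.1⟩, fun h => hc1 ((toFZ_mem_z0 hx1).1 h),
      fun h => hc2 ((toFZ_mem_z0 hx2).1 h), fun h => h12 ?_⟩
    rw [← toFZ_mul hx1 hx2, toFZ_mem_z0 (mul_mem hx1 hx2)] at h
    rw [inv_eq_of_mul_eq_one_right (X.zsub_sq hD h1)]
    exact h
  · intro z hz hz0' χ hχ
    obtain ⟨x, hx, rfl⟩ := exists_toFZ z
    have hxc : (x : G) ∈ Subgroup.center G := (toFZ_mem_z0 hx).1 hz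
    have hxf := (F.center_iff x).1 hx
    obtain ⟨k, hk⟩ := X.exists_scalar_central hxc hxf
    obtain ⟨v, hv, hv0⟩ := (Submodule.ne_bot_iff _).1 (mem_occ.1 hχ)
    have h1 := mem_fE.1 hv x hx
    rw [hk] at h1
    have h2 : k = sK K (χ (toFZ x)) := smul_left_injective K hv0 h1
    refine (zmod2_cases _).resolve_left fun h0 => hz0' ?_
    rw [h0, sK_zero] at h2
    have : (x : G) = 1 := X.act.inj (by rw [hk, h2, one_smul, map_one])
    rw [show x = 1 from Subtype.ext this, toFZ_of_mem (one_mem _)]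
    rfl

/-- No element of `D` outside `C_D(σ)` has central square; `|D / D'| = 2 ^ (2 m)`,
`|C_D(σ)| = 2 ^ m`, every non-zero character of `C_D(σ)` occurs, with trivial radical. -/
theorem aniso {m : ℕ} (hm : 0 < m) (hr : r = 2 ^ m + 1) :
    z0 D = ⊥ ∧ Nat.card (FA D) = 2 ^ (2 * m) ∧ Nat.card (FZ D) = 2 ^ m ∧
      (∀ η : FZ D →+ ZMod 2, η ≠ 0 → fE ψ η ≠ ⊥ ∧ ((X.frame hD).quad hm hr).rad η = ⊥) ∧
      ∀ a : FA D, a ≠ 0 → sqA D a ∉ z0 D := by
  classical
  have F := X.frame hD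
  have U := X.duo hD hH hm hr
  haveI := Fintype.ofFinite (FA D)
  haveI := Fintype.ofFinite (FZ D)
  haveI := Fintype.ofFinite (FZ D →+ ZMod 2)
  have hI : Duo.IsoTrans (sqA D) (z0 D) (actA σ D) (actZ σ D) := by
    intro a ha hsq z w hz hw
    obtain ⟨d, rfl⟩ := piA_surjective a
    obtain ⟨x, hx, rfl⟩ := exists_toFZ z
    obtain ⟨y, hy, rfl⟩ := exists_toFZ w
    have hdd : (d : G) * d ∈ Subgroup.center G := by
      rw [F.sqA_piA, toFZ_mem_z0 (F.sq_mem d), sq] at hsq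
      exact hsq
    have hdz : (d : G) ∉ zsub σ D := fun h => ha ((F.piA_eq_zero d).2 ((F.center_iff d).2 h.2))
    have hxz : (x : G) ∈ zsub σ D := ⟨x.2, (F.center_iff x).1 hx⟩
    have hyz : (y : G) ∈ zsub σ D := ⟨y.2, (F.center_iff y).1 hy⟩
    obtain ⟨c, hcf, hcn, hfix, hcen⟩ := X.exists_fixed_conj_of_sq hD hH d.2 hdz hdd hxz
      (fun h => hz ((toFZ_mem_z0 hx).2 h)) hyz (fun h => hw ((toFZ_mem_z0 hy).2 h))
    refine ⟨⟨c, mem_inf.2 ⟨hcf, hcn⟩⟩, hfix, ?_⟩
    show nZ hcn (toFZ x) + toFZ y ∈ z0 D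
    rw [nZ_toFZ hcn hx, ← toFZ_mul (map_center_mem _ hx) hy,
      toFZ_mem_z0 (mul_mem (map_center_mem _ hx) hy), Subgroup.coe_mul, nD_apply]
    have hcomm : c * (x : G) * c⁻¹ * (y : G) = (y : G) * (c * (x : G) * c⁻¹) :=
      congrArg Subtype.val (Subgroup.mem_center_iff.1 hy (nD hcn x))
    rw [hcomm]
    rwa [inv_eq_of_mul_eq_one_right (X.zsub_sq hD hyz)] at hcen
  have hdvd : ¬ r ∣ (z0 D).index - 1 := by
    intro hd
    refine X.act.cop.not_dvd (hd.trans (Dvd.dvd.trans ?_ (card_subgroup_dvd_card (gam σ D))))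
    haveI := Fintype.ofFinite (FZ D ⧸ z0 D)
    let hmap : ↥(gam σ D) → (FZ D ⧸ z0 D →+ FZ D ⧸ z0 D) := fun c =>
      QuotientAddGroup.map _ _ (actZ σ D c) fun z hz => U.z0_act c z hz
    have hmk : ∀ (c : ↥(gam σ D)) (z : FZ D), hmap c ((z : FZ D) : FZ D ⧸ z0 D) = ((actZ σ D c z : FZ D) : FZ D ⧸ z0 D) := fun c z => rfl
    have hne : ∀ (c : ↥(gam σ D)) (q : FZ D ⧸ z0 D), q ≠ 0 → hmap c q ≠ 0 := by
      intro c q
      induction q using QuotientAddGroup.induction_on with | H z =>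
      intro hq h
      apply hq
      rw [hmk, QuotientAddGroup.eq_zero_iff] at h
      rw [QuotientAddGroup.eq_zero_iff]
      have h' := U.z0_act c⁻¹ _ h
      have e := U.actZ_inv_apply c⁻¹ z
      rw [inv_inv] at e
      rwa [e] at h'
    letI : MulAction ↥(gam σ D) {q : FZ D ⧸ z0 D // q ≠ 0} :=
      { smul := fun c q => ⟨hmap c q, hne c q q.2⟩
        one_smul := fun q => Subtype.ext (by
          obtain ⟨q, hq⟩ := q
          induction q using QuotientAddGroup.induction_on with | H z =>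
          show hmap 1 (z : FZ D ⧸ z0 D) = z
          rw [hmk, map_one]; rfl)
        mul_smul := fun c c' q => Subtype.ext (by
          obtain ⟨q, hq⟩ := q
          induction q using QuotientAddGroup.induction_on with | H z =>
          show hmap (c * c') (z : FZ D ⧸ z0 D) = hmap c (hmap c' (z : FZ D ⧸ z0 D))
          rw [hmk, hmk, hmk, map_mul]; rfl) }
    haveI : MulAction.IsPretransitive ↥(gam σ D) {q : FZ D ⧸ z0 D // q ≠ 0} := ⟨by
      rintro ⟨q, hq⟩ ⟨q', hq'⟩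
      induction q using QuotientAddGroup.induction_on with | H z =>
      induction q' using QuotientAddGroup.induction_on with | H w =>
      rw [Ne, QuotientAddGroup.eq_zero_iff] at hq hq'
      obtain ⟨c, hc⟩ := U.trans z w hq hq'
      refine ⟨c, Subtype.ext ?_⟩
      show hmap c (z : FZ D ⧸ z0 D) = w
      rw [hmk, QuotientAddGroup.eq, U.quad.negZ]
      exact hc⟩
    obtain ⟨z, -, hz, -, -⟩ := U.classes
    have hq : (z : FZ D ⧸ z0 D) ≠ 0 := fun h => hz ((QuotientAddGroup.eq_zero_iff z).1 h)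
    have := MulAction.index_stabilizer_of_transitive ↥(gam σ D)
      (⟨(z : FZ D ⧸ z0 D), hq⟩ : {q : FZ D ⧸ z0 D // q ≠ 0})
    rw [show (z0 D).index - 1 = Nat.card {q : FZ D ⧸ z0 D // q ≠ 0} by
      rw [AddSubgroup.index, Nat.card_eq_fintype_card, Nat.card_eq_fintype_card,
        Fintype.card_subtype_compl, Fintype.card_subtype_eq], ← this]
    exact index_dvd_card _
  have hA : ∀ a, a ≠ 0 → sqA D a ∉ z0 D := fun a ha h => U.false_of_iso hI hdvd ha h
  obtain ⟨h1, h2, h3⟩ := U.aniso hA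
  refine ⟨U.aniso_bot hA, by rw [Nat.card_eq_fintype_card, h1],
    by rw [Nat.card_eq_fintype_card, h2], fun η hη => ?_, hA⟩
  exact ⟨mem_occ.1 (h3 η hη).1, (h3 η hη).2⟩

end Cx

end CfsgLib.HHShult
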