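import Cfsg.Agent.HHShult.Eigen
import Cfsg.Agent.HHShult.Class
import Cfsg.Agent.TripleFree.FpfOdd

/-!
# An automorphism without fixed vectors on a module

`Act σ r ψ s`: `ψ` is faithful, `s ψ(x) = ψ(σ x) s`, `s ^ r = 1` and `∑ i < r, s ^ i = 0`.

* `Act.fixed_of_abelian`: invariant abelian subgroups of order prime to the characteristic are fixed;
* `Act.fixed_of_odd`: so are invariant `q`-subgroups for odd `q` other than the characteristic;
* `Act.moved2`: `[Q, σ]` is a `Moved2` group for an invariant `2`-subgroup `Q`, the characteristic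
  being odd.
-/

set_option autoImplicit false
set_option linter.style.haveILetI false
set_option linter.unusedSectionVars false

open Finset Module Subgroup

namespace CfsgLib.HHShult

universe u v w

variable {K : Type u} [Field K] {V : Type v} [AddCommGroup V] [Module K V]
variable {G : Type w} [Group G]

/-- The module data. -/
structure Act (σ : MulAut G) (r : ℕ) (ψ : G →* Module.End K V) (s : Module.End K V) : Prop where
  cop : Cop σ r
  inj : Function.Injective ψ
  compat : ∀ x, s * ψ x = ψ (σ x) * s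
  pow_eq : s ^ r = 1
  sum_eq : ∑ i ∈ range r, s ^ i = 0
  rne : (r : K) ≠ 0

namespace Act

variable {σ : MulAut G} {r : ℕ} {ψ : G →* Module.End K V} {s : Module.End K V} (h : Act σ r ψ s)
include h

theorem compat_pow : ∀ (n : ℕ) (x : G), s ^ n * ψ x = ψ ((σ ^ n) x) * s ^ n
  | 0, x => by simp
  | n + 1, x => by
    rw [pow_succ', mul_assoc, compat_pow n x, ← mul_assoc, h.compat, mul_assoc, pow_succ' σ,
      MulAut.mul_apply]

theorem compat_apply (n : ℕ) (x : G) (v : V) :
    (s ^ n) (ψ x v) = ψ ((σ ^ n) x) ((s ^ n) v) := by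
  rw [← Module.End.mul_apply, h.compat_pow, Module.End.mul_apply]

theorem ext {x y : G} (hxy : ∀ v, ψ x v = ψ y v) : x = y := h.inj (LinearMap.ext hxy)

theorem restrict [Finite G] {H : Subgroup G} (hH : Inv σ H) : Act hH.aut r (ψ.comp H.subtype) s where
  cop := h.cop.restrict hH
  inj := h.inj.comp H.subtype_injective
  compat := fun x => h.compat (x : G)
  pow_eq := h.pow_eq
  sum_eq := h.sum_eq
  rne := h.rne

variable [Finite G]

variable [IsAlgClosed K] [FiniteDimensional K V]

/-- Invariant abelian subgroups of order prime to the characteristic are fixed. -/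
theorem fixed_of_abelian {A : Subgroup G} (hA : Inv σ A) (hab : ∀ a ∈ A, ∀ b ∈ A, a * b = b * a)
    (hcard : (Nat.card A : K) ≠ 0) : A ≤ fixedSub σ := by
  classical
  letI : CommGroup A := { A.toGroup with mul_comm := fun a b => Subtype.ext (hab a a.2 b b.2) }
  haveI := Fintype.ofFinite A
  rw [Nat.card_eq_fintype_card] at hcard
  haveI : Finite (A →* K) := finite_hom
  haveI := Fintype.ofFinite (A →* K)
  let ψA : A →* Module.End K V := ψ.comp A.subtype
  intro a ha
  rw [mem_fixedSub]
  refine (h.ext fun v => ?_).symm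
  conv_lhs => rw [← sum_eproj_apply ψA hcard v]
  conv_rhs => rw [← sum_eproj_apply ψA hcard v]
  rw [map_sum, map_sum]
  refine Finset.sum_congr rfl fun χ _ => ?_
  set w := eproj ψA χ v with hwdef
  have hw : w ∈ eigen ψA χ := eproj_mem ψA χ v
  have hwa : ∀ (b : G) (hb : b ∈ A), ψ b w = χ ⟨b, hb⟩ • w := fun b hb => hw ⟨b, hb⟩
  rw [hwa a ha, hwa (σ a) (hA a ha)]
  by_cases hw0 : w = 0
  · rw [hw0, smul_zero, smul_zero]
  congr 1
  -- otherwise the orbit sum of `w` is not zero
  by_contra hne
  let χi : ℕ → (A →* K) := fun i =>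
    { toFun := fun b => χ ⟨(σ ^ i) b, hA.pow_mem b.2 i⟩
      map_one' := by
        rw [show (⟨(σ ^ i) ((1 : A) : G), hA.pow_mem (one_mem A) i⟩ : A) = 1 from
          Subtype.ext (map_one _), map_one]
      map_mul' := fun b c => by
        rw [← map_mul]; congr 1; exact Subtype.ext (map_mul (σ ^ i) (b : G) c) }
  have hmov : ∀ i ≤ r, (s ^ (r - i)) w ∈ eigen ψA (χi i) := by
    intro i hi b
    show ψ (b : G) ((s ^ (r - i)) w) = _
    have he : (σ ^ (r - i)) ((σ ^ i) (b : G)) = b := by
      rw [← MulAut.mul_apply, ← pow_add, Nat.sub_add_cancel hi, h.cop.pow_eq, MulAut.one_apply]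
    conv_lhs => rw [← he]
    rw [← h.compat_apply, hwa _ (hA.pow_mem b.2 i), map_smul]
    rfl
  have hdist : ∀ i, i < r → χi i = χ → i = 0 := by
    intro i hi he
    by_contra hi0
    apply hne
    have hcop : Nat.Coprime i r := (Nat.coprime_of_lt_prime (by omega) hi h.cop.prime).symm
    obtain ⟨j, hj⟩ := Nat.exists_mul_mod_eq_one_of_coprime hcop h.cop.prime.one_lt
    have hit : ∀ n (b : A), χ ⟨(σ ^ (i * n)) (b : G), hA.pow_mem b.2 _⟩ = χ b := by
      intro n
      induction n with
      | zero => intro b; rfl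
      | succ n ih =>
        intro b
        have h1 := DFunLike.congr_fun he ⟨(σ ^ (i * n)) (b : G), hA.pow_mem b.2 _⟩
        rw [ih b] at h1
        rw [← h1]
        show χ _ = χ ⟨(σ ^ i) ((σ ^ (i * n)) (b : G)), _⟩
        congr 1
        apply Subtype.ext
        show (σ ^ (i * (n + 1))) (b : G) = (σ ^ i) ((σ ^ (i * n)) (b : G))
        rw [← MulAut.mul_apply, ← pow_add, Nat.mul_succ, add_comm]
    have h2 := hit j ⟨a, ha⟩
    have hσ : (σ ^ (i * j)) a = σ a := by
      conv_lhs => rw [← Nat.mod_add_div (i * j) r, hj.2, pow_add, pow_mul, h.cop.pow_eq, one_pow,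
        mul_one, pow_one]
    rw [← h2]
    congr 1
    exact Subtype.ext hσ
  have hsum : eproj ψA χ ((∑ i ∈ range r, s ^ i) w) = w := by
    rw [LinearMap.sum_apply, map_sum, Finset.sum_eq_single 0]
    · rw [pow_zero, Module.End.one_apply, eproj_of_mem ψA hcard hw, if_pos rfl]
    · intro i hi hi0
      have hi' : i < r := Finset.mem_range.1 hi
      have h1 := hmov (r - i) (Nat.sub_le _ _)
      rw [Nat.sub_sub_self hi'.le] at h1
      rw [eproj_of_mem ψA hcard h1, if_neg fun e => by
        have := hdist (r - i) (by omega) e.symm; omega]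
    · intro h0; exact absurd (Finset.mem_range.2 h.cop.prime.pos) h0
  rw [h.sum_eq] at hsum
  exact hw0 (by rw [← hsum, LinearMap.zero_apply, map_zero])

/-- Invariant `q`-subgroups are fixed for odd primes `q` other than the characteristic. -/
theorem fixed_of_odd {q : ℕ} [Fact q.Prime] (hq2 : q ≠ 2) (hqK : (q : K) ≠ 0) {Q : Subgroup G}
    (hQ : Inv σ Q) (hQq : IsPGroup q Q) : Q ≤ fixedSub σ := by
  haveI : Fact r.Prime := ⟨h.cop.prime⟩
  intro x hx
  by_cases hqr : q = r
  · subst hqr
    have := h.cop.not_dvd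
    by_cases hx1 : x = 1
    · rw [hx1]; exact one_mem _
    exfalso
    obtain ⟨n, hn⟩ := IsPGroup.iff_orderOf.1 hQq ⟨x, hx⟩
    rw [Subgroup.orderOf_mk] at hn
    apply this
    refine dvd_trans ?_ (orderOf_dvd_natCard x)
    rw [hn]
    refine dvd_pow_self q ?_
    intro hn0
    rw [hn0, pow_zero, orderOf_eq_one_iff] at hn
    exact hx1 hn
  rw [mem_fixedSub]
  exact congrArg Subtype.val (CfsgLib.TripleFree.aut_eq_one_of_vanishing hq2 hqr hqK h.rne
    (Nat.card Q) (Q := Q) le_rfl hQq hQ.aut (h.cop.restrict hQ).pow_eq (ψ.comp Q.subtype)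
    (h.inj.comp Q.subtype_injective) s h.pow_eq (fun y => h.compat (y : G)) h.sum_eq ⟨x, hx⟩)

/-- The moved part of an invariant `2`-subgroup. -/
theorem moved2 (h2 : (2 : K) ≠ 0) {Q : Subgroup G} (hQ : Inv σ Q) (hQ2 : IsPGroup 2 Q) :
    Moved2 hQ.moved.aut r where
  cop := h.cop.restrict hQ.moved
  isPGroup := hQ2.to_le (moved_le hQ)
  eq_top := by
    apply Subgroup.map_injective (moved σ Q).subtype_injective
    rw [hQ.moved.map_moved_top, h.cop.moved_moved hQ, ← MonoidHom.range_eq_map, range_subtype]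
  abelian := by
    intro A hA hab
    have h' := h.restrict hQ.moved
    refine h'.fixed_of_abelian hA hab ?_
    obtain ⟨n, hn⟩ := IsPGroup.iff_card.1 ((hQ2.to_le (moved_le hQ)).to_subgroup A)
    rw [hn]
    push_cast
    exact pow_ne_zero _ h2

end Act

end CfsgLib.HHShult
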