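import Cfsg.Agent.HHShult.QPart

/-!
# There are no bad elements

`Cx.no_bad`.  For a fixed bad `y` with `⁅[C_D(y),σ], D⁆` of largest order, the elements of `C_D(σ)`
commuting with `y` modulo the centre form `⁅[C_D(y),σ], D⁆`; then a `2`-group is normalised by two
frames that do not lie in one proper invariant subgroup.
-/

set_option autoImplicit false
set_option linter.style.haveILetI false
set_option linter.unusedSectionVars false

open Finset Module Subgroup CfsgLib.ConjFunctor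
open scoped commutatorElement CfsgLib.ConjFunctor

namespace CfsgLib.HHShult

universe u v w

variable {G : Type w} [Group G] [Finite G]

theorem zsub_cj {σ : MulAut G} {D : Subgroup G} {c e : G} (hc : σ c = c) (he : e ∈ zsub σ D) :
    c * e * c⁻¹ ∈ zsub σ (c *• D) :=
  ⟨conj_mem_cj c he.1, by show σ (c * e * c⁻¹) = _; rw [map_mul, map_mul, map_inv, hc, he.2]⟩

/-- Groups paired into `{1, z}` without left kernel. -/
theorem card_le_of_pairing {Y W : Subgroup G} {z : G} (hzW : z ∈ W) (hz : z ≠ 1)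
    (hz2 : z * z = 1) (hzc : ∀ g, g * z = z * g) (hWc : ∀ a ∈ W, ∀ b ∈ W, a * b = b * a)
    (hW2 : ∀ a ∈ W, a * a = 1) (hval : ∀ e ∈ Y, ∀ w ∈ W, ⁅e, w⁆ = 1 ∨ ⁅e, w⁆ = z)
    (hker : ∀ e ∈ Y, (∀ w ∈ W, ⁅e, w⁆ = 1) → e = 1 ∨ e = z) :
    Nat.card Y ≤ Nat.card W := by
  classical
  letI : CommGroup ↥W :=
    { W.toGroup with mul_comm := fun a b => Subtype.ext (hWc a a.2 b b.2) }
  have h2 : ∀ b : Additive ↥W, b + b = 0 := fun b => Subtype.ext (hW2 _ (Additive.toMul b).2)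
  let φ : G → G → ZMod 2 := fun e w => if ⁅e, w⁆ = 1 then 0 else 1
  have hφ : ∀ {e w}, e ∈ Y → w ∈ W → ⁅e, w⁆ = (if φ e w = 0 then 1 else z) := fun {e w} he hw => by
    rcases hval e he w hw with h | h
    · rw [show φ e w = 0 from if_pos h, if_pos rfl, h]
    · rw [show φ e w = 1 from if_neg (by rw [h]; exact hz), if_neg one_ne_zero, h]
  have hadd : ∀ {a b : ZMod 2}, (if a = 0 then (1 : G) else z) * (if b = 0 then 1 else z) =
      if a + b = 0 then 1 else z := fun {a b} => by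
    rcases zmod2_cases a with rfl | rfl <;> rcases zmod2_cases b with rfl | rfl <;>
      simp [hz2, zmod2_add_self]
  have hinj : ∀ a b : ZMod 2, (if a = 0 then (1 : G) else z) = (if b = 0 then 1 else z) → a = b := by
    intro a b h
    rcases zmod2_cases a with rfl | rfl <;> rcases zmod2_cases b with rfl | rfl
    · rfl
    · rw [if_pos rfl, if_neg one_ne_zero] at h; exact absurd h.symm hz
    · rw [if_neg one_ne_zero, if_pos rfl] at h; exact absurd h hz
    · rfl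
  have hcen : ∀ {e w}, e ∈ Y → w ∈ W → ∀ g, g * ⁅e, w⁆ = ⁅e, w⁆ * g := fun {e w} he hw g => by
    rcases hval e he w hw with h | h <;> rw [h]
    · rw [mul_one, one_mul]
    · exact hzc g
  have hr : ∀ {e a b}, e ∈ Y → a ∈ W → b ∈ W → φ e (a * b) = φ e a + φ e b :=
    fun {e a b} he ha hb => hinj _ _ (by
      rw [← hadd, ← hφ he (mul_mem ha hb), ← hφ he ha, ← hφ he hb]
      calc ⁅e, a * b⁆ = ⁅e, a⁆ * (a * ⁅e, b⁆ * a⁻¹) := by simp only [commutatorElement_def]; group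
        _ = _ := by rw [hcen he hb a, mul_inv_cancel_right])
  have hl : ∀ {e f a}, e ∈ Y → f ∈ Y → a ∈ W → φ (e * f) a = φ e a + φ f a :=
    fun {e f a} he hf ha => hinj _ _ (by
      rw [add_comm, ← hadd, ← hφ (mul_mem he hf) ha, ← hφ he ha, ← hφ hf ha]
      calc ⁅e * f, a⁆ = e * ⁅f, a⁆ * e⁻¹ * ⁅e, a⁆ := by simp only [commutatorElement_def]; group
        _ = _ := by rw [hcen hf ha e, mul_inv_cancel_right])
  let f : Additive ↥Y →+ (Additive ↥W →+ ZMod 2) :=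
    AddMonoidHom.mk'
      (fun e => AddMonoidHom.mk' (fun w => φ (Additive.toMul e : ↥Y) (Additive.toMul w : ↥W))
        fun a b => hr (Additive.toMul e).2 (Additive.toMul a).2 (Additive.toMul b).2)
      fun a b => AddMonoidHom.ext fun w =>
        hl (Additive.toMul a).2 (Additive.toMul b).2 (Additive.toMul w).2
  haveI : Finite (Additive ↥W →+ ZMod 2) := Finite.of_injective _ DFunLike.coe_injective
  -- the kernel
  have hkle : Nat.card f.ker ≤ 2 := by
    have hmem : ∀ k : f.ker, ((Additive.toMul k.1 : ↥Y) : G) = 1 ∨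
        ((Additive.toMul k.1 : ↥Y) : G) = z := fun k => hker _ (Additive.toMul k.1).2 fun w hw => by
      have h1 := DFunLike.congr_fun (AddMonoidHom.mem_ker.1 k.2) (Additive.ofMul (⟨w, hw⟩ : ↥W))
      rw [hφ (Additive.toMul k.1).2 hw, if_pos (show φ _ w = 0 from h1)]
    let g : f.ker → Bool := fun k => decide (((Additive.toMul k.1 : ↥Y) : G) = 1)
    have hg : Function.Injective g := fun a b hab => by
      refine Subtype.ext (Subtype.ext ?_)
      simp only [g, decide_eq_decide] at hab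
      show ((Additive.toMul a.1 : ↥Y) : G) = ((Additive.toMul b.1 : ↥Y) : G)
      rcases hmem a with h | h <;> rcases hmem b with h' | h'
      · rw [h, h']
      · exact absurd (h'.symm.trans (hab.1 h)) hz
      · exact absurd (h.symm.trans (hab.2 h')) hz
      · rw [h, h']
    simpa using Nat.card_le_card_of_injective g hg
  -- the image avoids a functional
  have hne : f.range ≠ ⊤ := by
    intro htop
    obtain ⟨χ, -, hχ⟩ := exists_functional_notMem h2 (T := ⊥)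
      (b := Additive.ofMul (⟨z, hzW⟩ : ↥W))
      (fun h => hz (congrArg (fun x : Additive ↥W => ((Additive.toMul x : ↥W) : G))
        (AddSubgroup.mem_bot.1 h)))
    obtain ⟨e, he⟩ : χ ∈ f.range := htop ▸ AddSubgroup.mem_top χ
    have h1 := DFunLike.congr_fun he (Additive.ofMul (⟨z, hzW⟩ : ↥W))
    rw [hχ] at h1
    have h2' : ⁅((Additive.toMul e : ↥Y) : G), z⁆ = 1 :=
      commutatorElement_eq_one_iff_mul_comm.2 (hzc _)
    have h3 : φ ((Additive.toMul e : ↥Y) : G) z = 1 := h1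
    rw [show φ ((Additive.toMul e : ↥Y) : G) z = 0 from if_pos h2'] at h3
    exact zero_ne_one h3
  have hidx : 1 < f.range.index :=
    Nat.one_lt_iff_ne_zero_and_ne_one.2 ⟨AddSubgroup.index_ne_zero_of_finite,
      fun h => hne (AddSubgroup.index_eq_one.1 h)⟩
  have hrange : Nat.card f.range * 2 ≤ Nat.card W := by
    calc Nat.card f.range * 2 ≤ Nat.card f.range * f.range.index := Nat.mul_le_mul_left _ hidx
      _ = Nat.card (Additive ↥W →+ ZMod 2) := f.range.card_mul_index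
      _ = Nat.card W := card_addHom_zmodTwo h2
  calc Nat.card Y = Nat.card f.ker * f.ker.index := (f.ker.card_mul_index).symm
    _ ≤ 2 * Nat.card f.range := by
        rw [AddSubgroup.index_ker]; exact Nat.mul_le_mul_right _ hkle
    _ ≤ _ := by omega

/-- Conjugation of three generators. -/
theorem le_normalizer_sup {K A B C : Subgroup G}
    (hA : ∀ k ∈ K, ∀ x ∈ A, k * x * k⁻¹ ∈ A ⊔ B ⊔ C)
    (hB : ∀ k ∈ K, ∀ x ∈ B, k * x * k⁻¹ ∈ A ⊔ B ⊔ C)
    (hC : ∀ k ∈ K, ∀ x ∈ C, k * x * k⁻¹ ∈ A ⊔ B ⊔ C) :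
    K ≤ normalizer ((A ⊔ B ⊔ C : Subgroup G) : Set G) := fun k hk =>
  mem_normalizer_of_cj_le (by
    rw [Subgroup.map_sup, Subgroup.map_sup]
    exact sup_le (sup_le (cj_le_iff.2 (hA k hk)) (cj_le_iff.2 (hB k hk))) (cj_le_iff.2 (hC k hk)))

theorem inv_zpowers {σ : MulAut G} {y : G} (hy : σ y = y) : Inv σ (zpowers y) := fun x hx => by
  obtain ⟨i, rfl⟩ := Subgroup.mem_zpowers_iff.1 hx
  exact Subgroup.mem_zpowers_iff.2 ⟨i, by rw [map_zpow, hy]⟩

variable {K : Type u} [Field K] [IsAlgClosed K] {V : Type v} [AddCommGroup V] [Module K V]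
  [FiniteDimensional K V]
variable {p : ℕ} [hp : Fact p.Prime] {σ : MulAut G} {r : ℕ} {ψ : G →* Module.End K V}
  {s : Module.End K V}

namespace Cx

variable (X : Cx p σ r ψ s) {D : Subgroup G} (hD : IsStdD σ D)
include X hD

omit hD in
theorem central_sq_cases {z₁ : G} (hz₁ : ψ z₁ = -1) {e : G} (hec : e ∈ Subgroup.center G)
    (hef : σ e = e) (he2 : e * e = 1) : e = 1 ∨ e = z₁ := by
  haveI := X.nontrivial
  obtain ⟨c, hc⟩ := X.exists_scalar_central hec hef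
  have h1 : ψ e * ψ e = 1 := by rw [← map_mul, he2, map_one]
  rw [hc, smul_mul_smul_comm, one_mul] at h1
  have h2 : c * c = 1 := by
    obtain ⟨v, hv⟩ := exists_ne (0 : V)
    exact smul_left_injective K hv
      (by simpa using LinearMap.congr_fun h1 v : (c * c) • v = (1 : K) • v)
  rcases mul_self_eq_one_iff.1 h2 with rfl | rfl
  · exact Or.inl (X.act.inj (by rw [hc, one_smul, map_one]))
  · exact Or.inr (X.act.inj (by rw [hc, hz₁, neg_smul, one_smul]))

theorem stdD_conj {D' : Subgroup G} (hD' : IsStdD σ D') : ∃ c, σ c = c ∧ D' = c *• D := by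
  obtain ⟨c, hc, hle⟩ := X.exists_moved_le_cj hD (X.inv_D hD') (X.isPGroup_D hD')
  rw [X.moved_D hD'] at hle
  have hcard : Nat.card D ≤ Nat.card (c *• D') := by
    rw [card_cj]
    have := X.card_moved_two_le hD' (X.inv_D hD) (X.isPGroup_D hD)
    rwa [X.moved_D hD] at this
  exact ⟨c⁻¹, by rw [map_inv, hc], by rw [← eq_of_le_of_card_ge hle hcard, cj_inv_cj]⟩

theorem good_transfer {D' : Subgroup G} (hD' : IsStdD σ D') {x : G} (hx : Good σ D x) :
    Good σ D' x := by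
  obtain ⟨c, hc, rfl⟩ := X.stdD_conj hD hD'
  obtain ⟨g, z, hz, hzc, rfl⟩ := hx
  refine ⟨g * c⁻¹, _, zsub_cj hc hz, fun h => hzc ?_, by group⟩
  have hn : (Subgroup.center G).Normal := inferInstance
  have := hn.conj_mem _ h c⁻¹
  rwa [show c⁻¹ * (c * z * c⁻¹) * c⁻¹⁻¹ = z by group] at this

theorem minus_one_mem {D' : Subgroup G} (hD' : IsStdD σ D') {z : G} (hz : z ∈ zsub σ D)
    (hz1 : ψ z = -1) : z ∈ zsub σ D' := by
  obtain ⟨c, hc, rfl⟩ := X.stdD_conj hD hD'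
  have := zsub_cj hc hz
  rwa [show c * z * c⁻¹ = z by
    rw [Subgroup.mem_center_iff.1 (X.central_of_minus_one hz1) c, mul_inv_cancel_right]] at this

theorem moved_sylow {L : Subgroup G} (hL : KMem σ D L) {T : Subgroup G} (hT : Inv σ T)
    (hTs : IsSylowIn 2 T L) : ∃ c ∈ L, σ c = c ∧ moved σ T = c *• D := by
  haveI : Fact (Nat.Prime 2) := ⟨Nat.prime_two⟩
  obtain ⟨T₀, hDT₀, hT₀, hT₀s⟩ :=
    X.act.cop.exists_sylow (p := 2) hL.inv hL.le (X.isPGroup_D hD) (X.inv_D hD)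
  have hT₀D : moved σ T₀ = D := (eq_of_le_of_card_ge
    (by rw [← X.moved_D hD]; exact moved_mono hDT₀) (X.card_moved_two_le hD hT₀ hT₀s.2.1)).symm
  obtain ⟨c, hc, hcf, rfl⟩ := X.act.cop.exists_cj_fixed hL.inv hT₀ hT hT₀s hTs
  exact ⟨c, hc, hcf, by rw [moved_cj hcf, hT₀D]⟩

variable {H : Subgroup G} (hH : Home σ D H)
include hH

theorem le_home_of_common {D' : Subgroup G} (hD' : IsStdD σ D') {e : G} (he : e ∈ zsub σ D)
    (he' : e ∈ zsub σ D') (hec : e ∉ Subgroup.center G) : D' ≤ H := fun _ hx =>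
  hH.centralizer_le X hD he hec (mem_centralizer_singleton_iff.2 (X.zsub_comm hD' he' hx))

theorem not_le_home {D' : Subgroup G} (hD' : IsStdD σ D') {y d t : G} (hb : Bad σ D y d t)
    (hy : y ∈ zsub σ D') : ¬ D' ≤ H := by
  intro hle
  obtain ⟨c, hc, rfl⟩ := X.stdD_conj hD hD'
  have hz := zsub_cj (σ := σ) (by rw [map_inv, hc]) hy (c := c⁻¹)
  rw [cj_inv_cj] at hz
  exact hb.not_mem X hD hH hz (by group) (hH.mem_of_cj_le X hD hc hle)

/-- A frame of a fixed bad element. -/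
theorem exists_bad_frame {y : G} (hb : Bad σ D y 1 y) :
    ∃ D', IsStdD σ D' ∧ y ∈ zsub σ D' ∧ qsub σ D y ≤ D' ∧ ysub σ D y ≤ normalizer (D' : Set G) := by
  haveI : Fact (Nat.Prime 2) := ⟨Nat.prime_two⟩
  obtain ⟨g, z, hz, hzc, hyz⟩ := hb.good
  have hC := X.kmem_centralizer hD hz hzc
  have hco : g⁻¹ * σ g ∈ centralizer ({z} : Set G) := by
    rw [mem_centralizer_singleton_iff]
    have h3 : σ g * z * (σ g)⁻¹ = g * z * g⁻¹ := by
      have h := hb.fix
      rwa [hyz, map_mul, map_mul, map_inv, hz.2] at h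
    calc g⁻¹ * σ g * z = g⁻¹ * (σ g * z * (σ g)⁻¹) * σ g := by group
      _ = z * (g⁻¹ * σ g) := by rw [h3]; group
  obtain ⟨k, hk, hkf⟩ := X.act.cop.exists_mem_fixed_coset hC.inv hco
  have hk' := mem_centralizer_singleton_iff.1 hk
  have hD₀ : IsStdD σ ((g * k) *• D) := X.stdD_cj hD hkf
  have hy₀ : y ∈ zsub σ ((g * k) *• D) := by
    have h := zsub_cj hkf hz
    rwa [show g * k * z * (g * k)⁻¹ = y by
      rw [hyz]
      calc g * k * z * (g * k)⁻¹ = g * (k * z) * k⁻¹ * g⁻¹ := by group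
        _ = g * (z * k) * k⁻¹ * g⁻¹ := by rw [hk']
        _ = _ := by group] at h
  set D₀ := (g * k) *• D
  have hyc : y ∉ Subgroup.center G := hb.good.not_center
  obtain ⟨z₁, hz1, hz1e⟩ := X.exists_minus_one hD hH hb
  -- the elements commuting with `y` up to the centre
  have hL : KMem σ D₀ (cmod y) :=
    { inv := inv_cmod hb.fix
      le := fun d hd => mem_cmod_of_commute (X.zsub_comm hD₀ hy₀ hd)
      ne_top := by
        intro htop
        apply hyc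
        let N : Subgroup G := zpowers y ⊔ Subgroup.center G
        have hN : N.Normal := by
          rw [← normalizer_eq_top_iff, eq_top_iff]
          intro x _
          refine mem_normalizer_of_cj_le ?_
          rw [Subgroup.map_sup]
          refine sup_le ?_ ?_
          · rw [MonoidHom.map_zpowers, zpowers_le]
            have hx' : x ∈ cmod y := htop ▸ mem_top x
            have hx : ⁅y, x⁆ ∈ Subgroup.center G := hx'
            show x * y * x⁻¹ ∈ N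
            have e : x * y * x⁻¹ = ⁅y, x⁆⁻¹ * y := by simp only [commutatorElement_def]; group
            rw [e]
            exact mul_mem (mem_sup_right (inv_mem hx)) (mem_sup_left (mem_zpowers y))
          · exact cj_le_iff.2 fun c hc => mem_sup_right (by
              rw [Subgroup.mem_center_iff.1 hc x, mul_inv_cancel_right]; exact hc)
        have hNi : Inv σ N := by
          exact Inv.sup (inv_zpowers hb.fix) (fun c hc => map_center_mem σ hc)
        by_cases hNtop : N = ⊤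
        · rw [Subgroup.mem_center_iff]
          intro x
          have hcomm : N ≤ centralizer ({y} : Set G) := sup_le
            (zpowers_le.2 (mem_centralizer_singleton_iff.2 rfl))
            (fun c hc => mem_centralizer_singleton_iff.2 (Subgroup.mem_center_iff.1 hc y).symm)
          exact mem_centralizer_singleton_iff.1 (hcomm (hNtop.symm ▸ mem_top x))
        · exact X.le_center_of_normal hN hNi hNtop (mem_sup_left (mem_zpowers y)) }
  set B : Subgroup G := (D ⊔ zpowers y) ⊓ cmod y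
  have hypow : IsPGroup 2 (zpowers y) := by
    rintro ⟨x, i, rfl⟩
    refine ⟨1, Subtype.ext ?_⟩
    show (y ^ i) ^ (2 ^ 1) = 1
    rw [pow_one, ← zpow_natCast, ← zpow_mul, mul_comm, zpow_mul, zpow_natCast, sq,
      hb.good.sq_eq X hD, one_zpow]
  have hBi : Inv σ B := ((X.inv_D hD).sup (inv_zpowers hb.fix)).inf (inv_cmod hb.fix)
  have hB2 : IsPGroup 2 B := ((X.isPGroup_D hD).to_sup_of_normal_left' hypow
    (zpowers_le.2 hb.norm)).to_le inf_le_left
  obtain ⟨T, hBT, hT, hTs⟩ := X.act.cop.exists_sylow (p := 2) hL.inv (inf_le_right : B ≤ cmod y) hB2 hBi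
  obtain ⟨c, hc, hcf, hTD⟩ := X.moved_sylow hD₀ hL hT hTs
  have hQB : qsub σ D y ≤ B := fun q hq => by
    have h := qsub_le (X.inv_D_inf hD hb.fix) hq
    exact ⟨mem_sup_left h.1, mem_cmod_of_commute (mem_centralizer_singleton_iff.1 h.2)⟩
  refine ⟨moved σ T, hTD ▸ X.stdD_cj hD₀ hcf, ?_, ?_, ?_⟩
  · rw [hTD]
    have h1 := zsub_cj hcf hy₀
    have hζ : ⁅y, c⁆ ∈ Subgroup.center G := hc
    have hζf : σ ⁅y, c⁆ = ⁅y, c⁆ := by rw [map_commutatorElement, hb.fix, hcf]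
    have hy2 := hb.good.sq_eq X hD
    have e : c * y * c⁻¹ = ⁅y, c⁆⁻¹ * y := by simp only [commutatorElement_def]; group
    have hζ2 : ⁅y, c⁆ * ⁅y, c⁆ = 1 := by
      have h4 : (⁅y, c⁆⁻¹ * y) * (⁅y, c⁆⁻¹ * y) = 1 := by
        rw [← e]
        calc c * y * c⁻¹ * (c * y * c⁻¹) = c * (y * y) * c⁻¹ := by group
          _ = 1 := by rw [hy2, mul_one, mul_inv_cancel]
      have hcy : y * ⁅y, c⁆⁻¹ = ⁅y, c⁆⁻¹ * y := Subgroup.mem_center_iff.1 (inv_mem hζ) y
      calc ⁅y, c⁆ * ⁅y, c⁆ = ((⁅y, c⁆⁻¹ * ⁅y, c⁆⁻¹) * (y * y))⁻¹ := by rw [hy2]; group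
        _ = ((⁅y, c⁆⁻¹ * y) * (⁅y, c⁆⁻¹ * y))⁻¹ := by
          congr 1
          calc ⁅y, c⁆⁻¹ * ⁅y, c⁆⁻¹ * (y * y) = ⁅y, c⁆⁻¹ * (⁅y, c⁆⁻¹ * y) * y := by group
            _ = ⁅y, c⁆⁻¹ * (y * ⁅y, c⁆⁻¹) * y := by rw [hcy]
            _ = _ := by group
        _ = 1 := by rw [h4, inv_one]
    have hζD : ⁅y, c⁆ ∈ zsub σ (c *• D₀) := by
      rcases X.central_sq_cases hz1e hζ hζf hζ2 with h | h
      · rw [h]; exact one_mem _
      · rw [h]; exact X.minus_one_mem hD (X.stdD_cj hD₀ hcf) hz1 hz1e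
    have := mul_mem hζD h1
    rwa [e, mul_inv_cancel_left] at this
  · rw [← X.moved_qsub hD hb.fix]
    exact moved_mono (hQB.trans hBT)
  · intro e he
    exact le_normalizer_moved (hBT ⟨mem_sup_left he.1.1, he.2⟩)

/-- The configuration seen from the frame `D'`. -/
theorem bad_in_frame {D' : Subgroup G} (hD' : IsStdD σ D') {y : G} (hb : Bad σ D y 1 y)
    (hy : y ∈ zsub σ D') (hQ : qsub σ D y ≤ D') {e : G} (he : e ∈ zsub σ D)
    (hec : e ∉ Subgroup.center G) (hen : e ∈ normalizer (D' : Set G)) :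
    Bad σ D' e 1 e ∧ qsub σ D' e = qsub σ D y := by
  obtain ⟨H', hH'm, hH'x⟩ := X.exists_home hD'
  have hH' : Home σ D' H' := ⟨hH'm, hH'x⟩
  obtain ⟨m, hm, hr⟩ := X.exists_m
  have hbad : Bad σ D' e 1 e :=
    ⟨⟨(one_mul e).symm, one_mem _, he.2, hen⟩, X.good_transfer hD hD' (good_of_mem he hec),
      fun h => X.not_le_home hD hH hD' hb hy (X.le_home_of_common hD hH hD' he h hec)⟩
  refine ⟨hbad, X.qsub_eq hD' hH' hbad hm hr (X.inv_qsub hD hb.fix) (le_inf hQ ?_)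
    (X.moved_qsub hD hb.fix) (X.relIndex_qsub hD hH hb hm hr)⟩
  intro q hq
  exact mem_centralizer_singleton_iff.2
    (X.zsub_comm hD he (qsub_le (X.inv_D_inf hD hb.fix) hq).1)

/-- With the commutator group as large as possible, it is all of `ysub`. -/
theorem ysub_eq_of_max {y : G} (hb : Bad σ D y 1 y)
    (hmax : ∀ D₁ y₁, IsStdD σ D₁ → Bad σ D₁ y₁ 1 y₁ →
      Nat.card ↥⁅qsub σ D₁ y₁, D₁⁆ ≤ Nat.card ↥⁅qsub σ D y, D⁆) :
    ysub σ D y = ⁅qsub σ D y, D⁆ ∧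
      ∀ D', IsStdD σ D' → y ∈ zsub σ D' → qsub σ D y ≤ D' →
        ysub σ D y ≤ normalizer (D' : Set G) →
        Nat.card ↥⁅qsub σ D y, D'⁆ = Nat.card ↥⁅qsub σ D y, D⁆ := by
  have hWY := X.wsub_le_ysub hD hH hb
  obtain ⟨z₁, hz, hz1⟩ := X.exists_minus_one hD hH hb
  obtain ⟨w₀, hw₀, hw₀y, -⟩ := X.exists_wsub_move hD hH hb
  have hw₀c : w₀ ∉ Subgroup.center G := fun h =>
    hw₀y (commutatorElement_eq_one_iff_mul_comm.2 (Subgroup.mem_center_iff.1 h y))
  have key : ∀ D', IsStdD σ D' → y ∈ zsub σ D' → qsub σ D y ≤ D' →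
      ysub σ D y ≤ normalizer (D' : Set G) →
      Nat.card (ysub σ D y) ≤ Nat.card ↥⁅qsub σ D y, D'⁆ ∧
        Nat.card ↥⁅qsub σ D y, D'⁆ ≤ Nat.card ↥⁅qsub σ D y, D⁆ := by
    intro D' hD' hy hQ hY
    obtain ⟨H', hH'm, hH'x⟩ := X.exists_home hD'
    have hH' : Home σ D' H' := ⟨hH'm, hH'x⟩
    have hframe : ∀ e ∈ ysub σ D y, e ∉ Subgroup.center G →
        Bad σ D' e 1 e ∧ qsub σ D' e = qsub σ D y := fun e he hec =>
      X.bad_in_frame hD hH hD' hb hy hQ he.1 hec (hY he)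
    have hsmall : Nat.card ↥⁅qsub σ D y, D'⁆ ≤ Nat.card ↥⁅qsub σ D y, D⁆ := by
      obtain ⟨h1, h2⟩ := hframe w₀ (hWY hw₀) hw₀c
      have h := hmax D' w₀ hD' h1
      rwa [h2] at h
    refine ⟨?_, hsmall⟩
    set W' := ⁅qsub σ D y, D'⁆ with hW'
    have hW'z : W' ≤ zsub σ D' := by
      obtain ⟨h1, h2⟩ := hframe w₀ (hWY hw₀) hw₀c
      rw [hW', ← h2]
      exact (X.wsub_le_ysub hD' hH' h1).trans inf_le_left
    have hval : ∀ e ∈ ysub σ D y, ∀ w ∈ W', ⁅e, w⁆ = 1 ∨ ⁅e, w⁆ = z₁ := by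
      intro e he w hw
      by_cases hec : e ∈ Subgroup.center G
      · exact Or.inl (commutatorElement_eq_one_iff_mul_comm.2 (Subgroup.mem_center_iff.1 hec w).symm)
      obtain ⟨h1, h2⟩ := hframe e he hec
      have hc : ⁅e, w⁆ ∈ Subgroup.center G :=
        (X.wsub_le_ysub hD' hH' h1 (by rw [h2]; exact hw)).2
      refine X.central_sq_cases hz1 hc (by rw [map_commutatorElement, he.1.2, (hW'z hw).2]) ?_
      have hee := X.zsub_sq hD he.1
      have hce := Subgroup.mem_center_iff.1 hc e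
      calc ⁅e, w⁆ * ⁅e, w⁆ = ⁅e, w⁆ * ⁅e, w⁆ * (w * w⁻¹) := by rw [mul_inv_cancel, mul_one]
        _ = ⁅e, w⁆ * (e * w * e⁻¹) * w⁻¹ := by simp only [commutatorElement_def]; group
        _ = (⁅e, w⁆ * e) * (w * e⁻¹ * w⁻¹) := by group
        _ = (e * ⁅e, w⁆) * (w * e⁻¹ * w⁻¹) := by rw [hce]
        _ = (e * e) * w * (e * e)⁻¹ * w⁻¹ := by simp only [commutatorElement_def]; group
        _ = 1 := by rw [hee]; group
    obtain ⟨h1, h2⟩ := hframe w₀ (hWY hw₀) hw₀c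
    obtain ⟨w, hw, hwne, hwW⟩ := X.exists_wsub_move hD' hH' h1
    rw [h2] at hw hwW
    have hzW : z₁ ∈ W' := by
      rcases hval w₀ (hWY hw₀) w hw with h | h
      · exact absurd h hwne
      · rw [← h]; exact hwW
    refine card_le_of_pairing hzW (X.ne_one_of_minus_one hz1) (X.zsub_sq hD hz)
      (Subgroup.mem_center_iff.1 (X.central_of_minus_one hz1))
      (fun a ha b hb => X.zsub_comm hD' (hW'z hb) (hW'z ha).1) (fun a ha => X.zsub_sq hD' (hW'z ha))
      hval fun e he hall => ?_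
    by_cases hec : e ∈ Subgroup.center G
    · exact X.eq_one_or_minus_one hD hH hz1 he.1 hec
    exfalso
    obtain ⟨h1', h2'⟩ := hframe e he hec
    obtain ⟨w', hw', hwne', -⟩ := X.exists_wsub_move hD' hH' h1'
    rw [h2'] at hw'
    exact hwne' (hall w' hw')
  obtain ⟨D₀, h1, h2, h3, h4⟩ := X.exists_bad_frame hD hH hb
  have heq : ysub σ D y = ⁅qsub σ D y, D⁆ :=
    (eq_of_le_of_card_ge hWY ((key D₀ h1 h2 h3 h4).1.trans (key D₀ h1 h2 h3 h4).2)).symm
  refine ⟨heq, fun D' k1 k2 k3 k4 => le_antisymm (key D' k1 k2 k3 k4).2 ?_⟩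
  have := (key D' k1 k2 k3 k4).1
  rwa [heq] at this

/-- The last step: the two frames normalise a common `2`-group. -/
theorem false_of_max_pair {D' : Subgroup G} (hD' : IsStdD σ D') {y : G} (hb : Bad σ D y 1 y)
    (hmax : ∀ D₁ y₁, IsStdD σ D₁ → Bad σ D₁ y₁ 1 y₁ →
      Nat.card ↥⁅qsub σ D₁ y₁, D₁⁆ ≤ Nat.card ↥⁅qsub σ D y, D⁆)
    (hy : y ∈ zsub σ D') (hQ : qsub σ D y ≤ D')
    (hY : ysub σ D y ≤ normalizer (D' : Set G))
    (hW' : ⁅qsub σ D y, D'⁆ ≤ normalizer (D : Set G)) : False := by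
  obtain ⟨heq, hcard⟩ := X.ysub_eq_of_max hD hH hb hmax
  obtain ⟨H', hH'm, hH'x⟩ := X.exists_home hD'
  have hH' : Home σ D' H' := ⟨hH'm, hH'x⟩
  obtain ⟨m, hm, hr⟩ := X.exists_m
  set Q := qsub σ D y with hQdef
  set W := ⁅Q, D⁆ with hW
  set W' := ⁅Q, D'⁆ with hW''
  have hQle : Q ≤ D ⊓ centralizer ({y} : Set G) := qsub_le (X.inv_D_inf hD hb.fix)
  have hWY := X.wsub_le_ysub hD hH hb
  obtain ⟨w₀, hw₀, hw₀y, -⟩ := X.exists_wsub_move hD hH hb
  have hw₀c : w₀ ∉ Subgroup.center G := fun h =>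
    hw₀y (commutatorElement_eq_one_iff_mul_comm.2 (Subgroup.mem_center_iff.1 h y))
  obtain ⟨hb₀, hq₀⟩ := X.bad_in_frame hD hH hD' hb hy hQ (hWY hw₀).1 hw₀c (hY (hWY hw₀))
  have hW'z : W' ≤ zsub σ D' := by
    rw [hW'', hQdef, ← hq₀]
    exact (X.wsub_le_ysub hD' hH' hb₀).trans inf_le_left
  have hWz : W ≤ zsub σ D := hWY.trans inf_le_left
  -- both frames
  have hDside : ∀ w ∈ W', w ∉ Subgroup.center G → ∀ x ∈ D, ⁅w, x⁆ ∈ Q ⊔ W := by
    intro w hw hwc x hx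
    have hbad : Bad σ D w 1 w :=
      ⟨⟨(one_mul w).symm, one_mem _, (hW'z hw).2, hW' hw⟩,
        X.good_transfer hD' hD (good_of_mem (hW'z hw) hwc),
        fun h => X.not_le_home hD hH hD' hb hy (X.le_home_of_common hD hH hD' h (hW'z hw) hwc)⟩
    have hq : qsub σ D w = Q := X.qsub_eq hD hH hbad hm hr (X.inv_qsub hD hb.fix)
      (le_inf (hQle.trans inf_le_left) fun q hq' => mem_centralizer_singleton_iff.2
        (X.zsub_comm hD' (hW'z hw) (hQ hq')))
      (X.moved_qsub hD hb.fix) (X.relIndex_qsub hD hH hb hm hr)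
    have h := X.comm_mem_qsub_sup hD hH hbad hx
    rw [(X.ysub_eq_of_max hD hH hbad (by rw [hq]; exact hmax)).1, hq] at h
    exact h
  have hD'side : ∀ e ∈ W, e ∉ Subgroup.center G → ∀ x ∈ D', ⁅e, x⁆ ∈ Q ⊔ W' := by
    intro e he hec x hx
    obtain ⟨hbad, hq⟩ := X.bad_in_frame hD hH hD' hb hy hQ (hWz he) hec (hY (hWY he))
    have h := X.comm_mem_qsub_sup hD' hH' hbad hx
    rw [(X.ysub_eq_of_max hD' hH' hbad (by
      rw [hq, hcard D' hD' hy hQ hY]; exact hmax)).1, hq] at h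
    exact h
  set E := Q ⊔ W ⊔ W' with hE
  have hQE : Q ≤ E := le_sup_left.trans le_sup_left
  have hWE : W ≤ E := le_sup_right.trans le_sup_left
  have hW'E : W' ≤ E := le_sup_right
  have hQD : ∀ {k x : G}, x ∈ Q → k ∈ D → k * x * k⁻¹ ∈ E := fun {k x} hx hk => by
    rw [show k * x * k⁻¹ = ⁅x, k⁆⁻¹ * x by simp only [commutatorElement_def]; group]
    exact mul_mem (hWE (inv_mem (commutator_mem_commutator hx hk))) (hQE hx)
  have hDE : D ≤ normalizer (E : Set G) := le_normalizer_sup (fun k hk x hx => hQD hx hk)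
    (fun k hk x hx => by
      rw [X.zsub_comm hD (hWz hx) hk, mul_inv_cancel_right]; exact hWE hx)
    fun k hk x hx => by
      by_cases hxc : x ∈ Subgroup.center G
      · rw [Subgroup.mem_center_iff.1 hxc k, mul_inv_cancel_right]; exact hW'E hx
      rw [show k * x * k⁻¹ = ⁅x, k⁆⁻¹ * x by simp only [commutatorElement_def]; group]
      exact mul_mem (inv_mem (sup_le hQE hWE (hDside x hx hxc k hk))) (hW'E hx)
  have hD'E : D' ≤ normalizer (E : Set G) := le_normalizer_sup (fun k hk x hx => by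
      rw [show k * x * k⁻¹ = ⁅x, k⁆⁻¹ * x by simp only [commutatorElement_def]; group]
      exact mul_mem (hW'E (inv_mem (commutator_mem_commutator hx hk))) (hQE hx))
    (fun k hk x hx => by
      by_cases hxc : x ∈ Subgroup.center G
      · rw [Subgroup.mem_center_iff.1 hxc k, mul_inv_cancel_right]; exact hWE hx
      rw [show k * x * k⁻¹ = ⁅x, k⁆⁻¹ * x by simp only [commutatorElement_def]; group]
      exact mul_mem (inv_mem (sup_le hQE hW'E (hD'side x hx hxc k hk))) (hWE hx))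
    fun k hk x hx => by
      rw [X.zsub_comm hD' (hW'z hx) hk, mul_inv_cancel_right]; exact hW'E hx
  have hEi : Inv σ E := ((X.inv_qsub hD hb.fix).sup fun x hx => by rw [(hWz hx).2]; exact hx).sup
    fun x hx => by rw [(hW'z hx).2]; exact hx
  have hEtop : normalizer (E : Set G) ≠ ⊤ := by
    intro htop
    have hn : E.Normal := normalizer_eq_top_iff.1 htop
    have hne : E ≠ ⊤ := fun e => X.not_two <| by
      have hle : E ≤ D ⊔ W' :=
        sup_le (le_trans (sup_le (hQle.trans inf_le_left) (hWz.trans inf_le_left)) le_sup_left)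
          le_sup_right
      exact (((X.isPGroup_D hD).to_sup_of_normal_left'
        ((X.isPGroup_D hD').to_le (hW'z.trans inf_le_left)) hW').to_le hle).of_equiv
          ((MulEquiv.subgroupCongr e).trans Subgroup.topEquiv)
    exact hw₀c (X.le_center_of_normal hn hEi hne (hWE hw₀))
  exact X.not_le_home hD hH hD' hb hy
    (hD'E.trans (hH.max _ ⟨hEi.normalizer, hEtop, hDE⟩))

omit hH in
/-- **No bad elements.** -/
theorem no_bad (hH : Home σ D H) {y d t : G} : ¬ Bad σ D y d t := by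
  classical
  intro hb
  obtain ⟨y', hb'⟩ := X.exists_fixed_bad hD hH hb
  -- a configuration with the largest commutator group
  let S : Set (Subgroup G × G) := {a | IsStdD σ a.1 ∧ Bad σ a.1 a.2 1 a.2}
  obtain ⟨⟨D₁, y₁⟩, hmem, hmax'⟩ :=
    (Set.toFinite S).exists_maximalFor (fun a : Subgroup G × G => Nat.card ↥⁅qsub σ a.1 a.2, a.1⁆) S
      ⟨(D, y'), hD, hb'⟩
  obtain ⟨hD₁, hb₁⟩ : IsStdD σ D₁ ∧ Bad σ D₁ y₁ 1 y₁ := hmem
  have hmax : ∀ D₂ y₂, IsStdD σ D₂ → Bad σ D₂ y₂ 1 y₂ →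
      Nat.card ↥⁅qsub σ D₂ y₂, D₂⁆ ≤ Nat.card ↥⁅qsub σ D₁ y₁, D₁⁆ := fun D₂ y₂ h1 h2 =>
    (le_total _ _).elim id fun h => hmax' (j := (D₂, y₂)) ⟨h1, h2⟩ h
  obtain ⟨H₁, hH₁m, hH₁x⟩ := X.exists_home hD₁
  have hH₁ : Home σ D₁ H₁ := ⟨hH₁m, hH₁x⟩
  obtain ⟨D', hD', hy, hQ, hY⟩ := X.exists_bad_frame hD₁ hH₁ hb₁
  obtain ⟨H', hH'm, hH'x⟩ := X.exists_home hD'
  have hH' : Home σ D' H' := ⟨hH'm, hH'x⟩
  obtain ⟨heq, hcard⟩ := X.ysub_eq_of_max hD₁ hH₁ hb₁ hmax
  set Q := qsub σ D₁ y₁ with hQdef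
  set W := ⁅Q, D₁⁆ with hW
  have hQle : Q ≤ D₁ ⊓ centralizer ({y₁} : Set G) := qsub_le (X.inv_D_inf hD₁ hb₁.fix)
  have hWY := X.wsub_le_ysub hD₁ hH₁ hb₁
  obtain ⟨w₀, hw₀, hw₀y, -⟩ := X.exists_wsub_move hD₁ hH₁ hb₁
  have hw₀c : w₀ ∉ Subgroup.center G := fun h =>
    hw₀y (commutatorElement_eq_one_iff_mul_comm.2 (Subgroup.mem_center_iff.1 h y₁))
  obtain ⟨hb₀, hq₀⟩ := X.bad_in_frame hD₁ hH₁ hD' hb₁ hy hQ (hWY hw₀).1 hw₀c (hY (hWY hw₀))
  have hW'z : ⁅Q, D'⁆ ≤ zsub σ D' := by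
    rw [hQdef, ← hq₀]
    exact (X.wsub_le_ysub hD' hH' hb₀).trans inf_le_left
  have hWz : W ≤ zsub σ D₁ := hWY.trans inf_le_left
  set E := Q ⊔ W ⊔ zpowers y₁ with hE
  have hQE : Q ≤ E := le_sup_left.trans le_sup_left
  have hWE : W ≤ E := le_sup_right.trans le_sup_left
  have hyE : y₁ ∈ E := mem_sup_right (mem_zpowers y₁)
  have hy2 := hb₁.good.sq_eq X hD₁
  have hpowi : Inv σ (zpowers y₁) := inv_zpowers hb₁.fix
  have hEi : Inv σ E :=
    ((X.inv_qsub hD₁ hb₁.fix).sup fun x hx => by rw [(hWz hx).2]; exact hx).sup hpowi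
  have hDE : D₁ ≤ normalizer (E : Set G) := le_normalizer_sup (fun k hk x hx => by
      rw [show k * x * k⁻¹ = ⁅x, k⁆⁻¹ * x by simp only [commutatorElement_def]; group]
      exact mul_mem (hWE (inv_mem (commutator_mem_commutator hx hk))) (hQE hx))
    (fun k hk x hx => by
      rw [X.zsub_comm hD₁ (hWz hx) hk, mul_inv_cancel_right]; exact hWE hx)
    fun k hk x hx => by
      obtain ⟨i, rfl⟩ := hx
      show k * y₁ ^ i * k⁻¹ ∈ E
      rw [← conj_zpow]
      refine E.zpow_mem ?_ i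
      rw [show k * y₁ * k⁻¹ = ⁅y₁, k⁆⁻¹ * y₁ by simp only [commutatorElement_def]; group]
      refine mul_mem (inv_mem (sup_le hQE ?_ (X.comm_mem_qsub_sup hD₁ hH₁ hb₁ hk))) hyE
      rw [heq]
      exact hWE
  have hypow : IsPGroup 2 (zpowers y₁) := by
    rintro ⟨x, i, rfl⟩
    refine ⟨1, Subtype.ext ?_⟩
    show (y₁ ^ i) ^ (2 ^ 1) = 1
    rw [pow_one, ← zpow_natCast, ← zpow_mul, mul_comm, zpow_mul, zpow_natCast, sq, hy2, one_zpow]
  have hE2 : IsPGroup 2 E := ((X.isPGroup_D hD₁).to_sup_of_normal_left' hypow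
    (zpowers_le.2 hb₁.norm)).to_le (sup_le (le_trans (sup_le (hQle.trans inf_le_left)
      (hWz.trans inf_le_left)) le_sup_left) le_sup_right)
  have hM : KMem σ D₁ (normalizer (E : Set G)) := ⟨hEi.normalizer, fun htop => by
    have hne : E ≠ ⊤ := fun e => X.not_two
      (hE2.of_equiv ((MulEquiv.subgroupCongr e).trans Subgroup.topEquiv))
    exact hw₀c (X.le_center_of_normal (normalizer_eq_top_iff.1 htop) hEi hne (hWE hw₀)), hDE⟩
  set M := normalizer (E : Set G) with hMdef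
  have hW'M : ⁅Q, D'⁆ ≤ M := fun w hw => mem_normalizer_of_cj_le (by
    rw [hE, Subgroup.map_sup, Subgroup.map_sup]
    refine sup_le (sup_le (cj_le_iff.2 fun x hx => ?_) (cj_le_iff.2 fun x hx => ?_))
      (cj_le_iff.2 fun x hx => ?_)
    · rw [(X.zsub_comm hD' (hW'z hw) (hQ hx)).symm, mul_inv_cancel_right]; exact hQE hx
    · -- `w x w⁻¹` is `x` up to `± 1`
      by_cases hxc : x ∈ Subgroup.center G
      · rw [Subgroup.mem_center_iff.1 hxc w, mul_inv_cancel_right]; exact hWE hx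
      obtain ⟨hbx, hqx⟩ := X.bad_in_frame hD₁ hH₁ hD' hb₁ hy hQ (hWz hx) hxc (hY (hWY hx))
      have hc : ⁅x, w⁆ ∈ Subgroup.center G :=
        (X.wsub_le_ysub hD' hH' hbx (by rw [hqx]; exact hw)).2
      rw [show w * x * w⁻¹ = ⁅x, w⁆⁻¹ * x by simp only [commutatorElement_def]; group]
      refine mul_mem (inv_mem ?_) (hWE hx)
      obtain ⟨z₁, hz, hz1⟩ := X.exists_minus_one hD₁ hH₁ hb₁
      obtain ⟨w₁, hw₁, hne₁, hmem₁⟩ := X.exists_wsub_move hD₁ hH₁ hb₁
      have hz₁W : z₁ ∈ W := by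
        have hcc : ⁅y₁, w₁⁆ ∈ Subgroup.center G := (hWY hw₁).2
        rcases X.eq_one_or_minus_one hD₁ hH₁ hz1 (hWz hmem₁) hcc with h | h
        · exact absurd h hne₁
        · rw [← h]; exact hmem₁
      have hwf : σ w = w := (hW'z hw).2
      have hcc2 : ⁅x, w⁆ * ⁅x, w⁆ = 1 := by
        have hxx := X.zsub_sq hD₁ (hWz hx)
        have hce := Subgroup.mem_center_iff.1 hc x
        calc ⁅x, w⁆ * ⁅x, w⁆ = ⁅x, w⁆ * ⁅x, w⁆ * (w * w⁻¹) := by rw [mul_inv_cancel, mul_one]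
          _ = ⁅x, w⁆ * (x * w * x⁻¹) * w⁻¹ := by simp only [commutatorElement_def]; group
          _ = (⁅x, w⁆ * x) * (w * x⁻¹ * w⁻¹) := by group
          _ = (x * ⁅x, w⁆) * (w * x⁻¹ * w⁻¹) := by rw [hce]
          _ = (x * x) * w * (x * x)⁻¹ * w⁻¹ := by simp only [commutatorElement_def]; group
          _ = 1 := by rw [hxx]; group
      rcases X.central_sq_cases hz1 hc (by rw [map_commutatorElement, (hWz hx).2, hwf]) hcc2 with
        h | h <;> rw [h]
      · exact E.one_mem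
      · exact hWE hz₁W
    · obtain ⟨i, rfl⟩ := hx
      show w * y₁ ^ i * w⁻¹ ∈ E
      rw [mul_assoc w, show y₁ ^ i * w⁻¹ = w⁻¹ * y₁ ^ i from
        (Commute.zpow_left (show Commute y₁ w⁻¹ from
          (X.zsub_comm hD' hy (D'.inv_mem (hW'z hw).1)).symm) i).eq]
      rw [mul_inv_cancel_left]
      exact E.zpow_mem hyE i)
  haveI : Fact (Nat.Prime 2) := ⟨Nat.prime_two⟩
  set B : Subgroup G := (D' ⊔ ysub σ D₁ y₁) ⊓ M
  have hYi : Inv σ (ysub σ D₁ y₁) := fun x hx => by rw [hx.1.2]; exact hx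
  have hBi : Inv σ B := ((X.inv_D hD').sup hYi).inf hM.inv
  have hB2 : IsPGroup 2 B := ((X.isPGroup_D hD').to_sup_of_normal_left'
    ((X.isPGroup_D hD₁).to_le (inf_le_left.trans inf_le_left)) hY).to_le inf_le_left
  obtain ⟨T, hBT, hT, hTs⟩ :=
    X.act.cop.exists_sylow (p := 2) hM.inv (inf_le_right : B ≤ M) hB2 hBi
  obtain ⟨c, -, hcf, hTD⟩ := X.moved_sylow hD₁ hM hT hTs
  obtain ⟨u, hu, huf, hle⟩ := X.exists_le_cj hD₁ hM.inv hM.ne_top hM.le hT.moved
    (hTs.2.1.to_le (moved_le hT)) (moved_mono hTs.1)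
  have hTu : moved σ T = u *• D₁ := eq_of_le_of_card_ge hle (by rw [hTD, card_cj, card_cj])
  -- `u` centralises `E`
  have hufix : ∀ x ∈ E, u * x * u⁻¹ = x := by
    intro x hx
    have hxM : x ∈ M := le_normalizer hx
    have h1 : u * x * u⁻¹ * x⁻¹ ∈ ucore p σ M ⊓ E := by
      refine mem_inf.2 ⟨?_, E.mul_mem ((mem_normalizer_iff.1 (X.ucore_le hM.inv hu) x).1 hx) (E.inv_mem hx)⟩
      rw [show u * x * u⁻¹ * x⁻¹ = u * (x * u⁻¹ * x⁻¹) by group]
      exact mul_mem hu ((mem_normalizer_iff.1 (X.le_normalizer_ucore hxM) _).1 (inv_mem hu))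
    rw [inf_eq_bot_of_isPGroup X.p_ne_two (X.isPGroup_ucore hM.inv hM.ne_top) hE2, mem_bot,
      mul_inv_eq_one] at h1
    exact h1
  have hD₂ : IsStdD σ (u *• D₁) := X.stdD_cj hD₁ huf
  obtain ⟨H₂, hH₂m, hH₂x⟩ := X.exists_home hD₂
  have hH₂ : Home σ (u *• D₁) H₂ := ⟨hH₂m, hH₂x⟩
  have hcjE : ∀ {A : Subgroup G}, A ≤ E → u *• A = A := fun {A} hA => by
    refine le_antisymm (cj_le_iff.2 fun x hx => by rw [hufix x (hA hx)]; exact hx) fun x hx => ?_
    have := conj_mem_cj u hx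
    rwa [hufix x (hA hx)] at this
  have hb₂ : Bad σ (u *• D₁) y₁ 1 y₁ := by
    refine ⟨⟨(one_mul y₁).symm, one_mem _, hb₁.fix, ?_⟩, X.good_transfer hD₁ hD₂ hb₁.good,
      fun h => hb₁.not_zsub ?_⟩
    · refine mem_normalizer_of_cj_le (le_of_eq ?_)
      rw [← hufix y₁ hyE, cj_cj, inv_mul_cancel_right, ← cj_cj, cj_eq_of_mem_normalizer hb₁.norm]
    · have h1 := zsub_cj (σ := σ) (by rw [map_inv, huf]) h (c := u⁻¹)
      rw [cj_inv_cj] at h1
      have h2 : u⁻¹ * y₁ * u⁻¹⁻¹ = y₁ := by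
        calc u⁻¹ * y₁ * u⁻¹⁻¹ = u⁻¹ * (u * y₁ * u⁻¹) * u⁻¹⁻¹ := by rw [hufix y₁ hyE]
          _ = y₁ := by group
      rwa [h2] at h1
  obtain ⟨m, hm, hr⟩ := X.exists_m
  have hq₂ : qsub σ (u *• D₁) y₁ = Q := by
    refine X.qsub_eq hD₂ hH₂ hb₂ hm hr (X.inv_qsub hD₁ hb₁.fix) (le_inf ?_ (hQle.trans inf_le_right))
      (X.moved_qsub hD₁ hb₁.fix) (X.relIndex_qsub hD₁ hH₁ hb₁ hm hr)
    rw [← hcjE hQE]
    exact cj_mono u (hQle.trans inf_le_left)
  have hW₂ : ⁅Q, u *• D₁⁆ = W := by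
    conv_lhs => rw [← hcjE hQE]
    rw [← map_commutator, ← hW, hcjE hWE]
  have hmax₂ : ∀ D₂ y₂, IsStdD σ D₂ → Bad σ D₂ y₂ 1 y₂ → Nat.card ↥⁅qsub σ D₂ y₂, D₂⁆ ≤
      Nat.card ↥⁅qsub σ (u *• D₁) y₁, u *• D₁⁆ := by rw [hq₂, hW₂]; exact hmax
  have heq₂ : ysub σ (u *• D₁) y₁ = W := by
    rw [(X.ysub_eq_of_max hD₂ hH₂ hb₂ hmax₂).1, hq₂, hW₂]
  refine X.false_of_max_pair hD₂ hH₂ hD' hb₂ hmax₂ hy (hq₂ ▸ hQ) ?_ ?_
  · rw [heq₂, ← heq]; exact hY
  · rw [hq₂, ← hTu]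
    intro w hw
    exact le_normalizer_moved (hBT ⟨mem_sup_left (hW'z hw).1, hW'M hw⟩)

end Cx

end CfsgLib.HHShult
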