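import Cfsg.Agent.HHShult.UniqueFix
import Cfsg.Agent.SEmbed.Swap

/-!
# `p` does not divide `|H|`

* `Cx.centralizes_of_normalizing`: if a non-trivial element of `C_D(σ)` normalises a Sylow
  `p`-subgroup of `H`, the fixed `p`-elements of `H ∩ N(D)` centralise `D`;
* `Cx.not_dvd_home`: `p ∤ |H|`, so that `H = N(D)` (`Cx.home_eq`).
-/

set_option autoImplicit false
set_option linter.style.haveILetI false
set_option linter.unusedSectionVars false

open Finset Module Subgroup CfsgLib.ConjFunctor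
open scoped commutatorElement CfsgLib.ConjFunctor

namespace CfsgLib.HHShult

universe u v w

variable {G : Type w} [Group G] [Finite G]
variable {K : Type u} [Field K] [IsAlgClosed K] {V : Type v} [AddCommGroup V] [Module K V]
  [FiniteDimensional K V]
variable {p : ℕ} [hp : Fact p.Prime] {σ : MulAut G} {r : ℕ} {ψ : G →* Module.End K V}
  {s : Module.End K V}

omit [Finite G] in
/-- Elements of `A ⊔ B` are products when `B` normalises `A`. -/
theorem mem_mul_of_sup {A B : Subgroup G} (h : B ≤ normalizer (A : Set G)) {x : G}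
    (hx : x ∈ A ⊔ B) : ∃ a ∈ A, ∃ b ∈ B, a * b = x := by
  rw [← SetLike.mem_coe, Subgroup.coe_mul_of_right_le_normalizer_left A B h] at hx
  exact hx

namespace Cx

variable (X : Cx p σ r ψ s) {D H : Subgroup G} (hD : IsStdD σ D) (hH : Home σ D H)
include X hD hH

/-- A non-trivial element of `C_D(σ)` normalising a Sylow `p`-subgroup of `H` forces the fixed
`p`-elements of `H ∩ N(D)` to centralise `D`. -/
theorem centralizes_of_normalizing {T : Subgroup G} (hTs : IsSylowIn p T H) {z : G}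
    (hz : z ∈ zsub σ D) (hz1 : z ≠ 1) (hn : z ∈ normalizer (T : Set G)) {c₀ : G} (hc₀ : c₀ ∈ H)
    (hcf : σ c₀ = c₀) (hcn : c₀ ∈ normalizer (D : Set G)) {k : ℕ} (hck : c₀ ^ (p ^ k) = 1) :
    c₀ ∈ centralizer (D : Set G) := by
  haveI : Fact (Nat.Prime 2) := ⟨Nat.prime_two⟩
  set U := ucore p σ H with hU
  have hUH : U ≤ H := X.ucore_le hH.mem.inv
  have hUp : IsPGroup p U := X.isPGroup_ucore hH.mem.inv hH.mem.ne_top
  have hHU : H ≤ normalizer (U : Set G) := X.le_normalizer_ucore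
  have hUT : U ≤ T := by
    obtain ⟨a, ha, hle⟩ := hTs.exists_cj_le hUH hUp
    rwa [cj_eq_of_mem_normalizer (hHU ha)] at hle
  have hz2 : ∀ {x : G}, x ∈ U → z * x * z⁻¹ ∈ U := fun {x} hx =>
    (mem_normalizer_iff.1 (hHU (hH.mem.le hz.1)) x).1 hx
  set M := (U ⊔ D) ⊔ kone σ D with hM
  -- `T` lies in `M`
  have hTM : T ≤ M := by
    intro x hx
    obtain ⟨u, hu, d, hd, c, -, hcf', hcn', he⟩ :=
      X.exists_decomp hD hH.mem.inv hH.mem.ne_top hH.mem.le (hTs.1 hx)
    set w := z * (c * z * c⁻¹)⁻¹ with hw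
    have hwz : w ∈ zsub σ D :=
      mul_mem hz (inv_mem (X.mem_normalizer_zsub hD hcf' hcn' hz))
    have hwU : w * u⁻¹ * w⁻¹ ∈ U :=
      (mem_normalizer_iff.1 (hHU (hH.mem.le hwz.1)) _).1 (inv_mem hu)
    have e : z * x * z⁻¹ * x⁻¹ = z * u * z⁻¹ * (w * u⁻¹ * w⁻¹) * w := by
      have hdz : d * z = z * d := X.zsub_comm hD hz hd
      have hdw : d * w = w * d := X.zsub_comm hD hwz hd
      calc z * x * z⁻¹ * x⁻¹ = z * u * z⁻¹ * ((z * d) * (c * z⁻¹ * c⁻¹) * d⁻¹) * u⁻¹ := by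
            rw [he]; group
        _ = z * u * z⁻¹ * ((d * z) * (c * z⁻¹ * c⁻¹) * d⁻¹) * u⁻¹ := by rw [hdz]
        _ = z * u * z⁻¹ * ((d * w) * d⁻¹) * u⁻¹ := by rw [hw]; group
        _ = _ := by rw [hdw]; group
    have hwT : w ∈ T := by
      have h1 : z * x * z⁻¹ * x⁻¹ ∈ T := mul_mem ((mem_normalizer_iff.1 hn x).1 hx) (inv_mem hx)
      rw [e] at h1
      exact (T.mul_mem_cancel_left (hUT (mul_mem (hz2 hu) hwU))).1 h1
    have hw1 : w = 1 := by
      have : w ∈ T ⊓ D := ⟨hwT, hwz.1⟩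
      rwa [inf_eq_bot_of_isPGroup X.p_ne_two hTs.2.1 (X.isPGroup_D hD), mem_bot] at this
    rw [hw, mul_inv_eq_one] at hw1
    have hck1 := X.mem_kone_of_fix hD hH hcf' hcn' hz hz1 (mul_inv_eq_iff_eq_mul.1 hw1.symm)
    rw [he]
    exact mul_mem (mem_sup_left (mul_mem (mem_sup_left hu) (mem_sup_right hd))) (mem_sup_right hck1)
  -- `M` is normal in `H`
  have hMn : H ≤ normalizer (M : Set G) := by
    intro x hx
    obtain ⟨u, hu, d, hd, c, hcH, hcf', hcn', rfl⟩ :=
      X.exists_decomp hD hH.mem.inv hH.mem.ne_top hH.mem.le hx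
    refine mul_mem (mul_mem (le_normalizer (mem_sup_left (mem_sup_left hu)))
      (le_normalizer (mem_sup_left (mem_sup_right hd)))) (mem_normalizer_of_cj_le ?_)
    rw [hM, Subgroup.map_sup, Subgroup.map_sup]
    refine sup_le (sup_le ?_ ?_) ?_
    · exact (cj_eq_of_mem_normalizer (hHU hcH)).le.trans (le_sup_left.trans le_sup_left)
    · exact (cj_eq_of_mem_normalizer hcn').le.trans (le_sup_right.trans le_sup_left)
    · refine cj_le_iff.2 fun k hk => mem_sup_right ⟨?_, ?_⟩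
      · refine mem_centralizer_iff.2 fun e he => ?_
        have h3 : c⁻¹ * e * c ∈ D := (mem_normalizer_iff''.1 hcn' e).1 he
        calc e * (c * k * c⁻¹) = c * ((c⁻¹ * e * c) * k) * c⁻¹ := by group
          _ = c * (k * (c⁻¹ * e * c)) * c⁻¹ := by rw [mem_centralizer_iff.1 hk.1 _ h3]
          _ = c * k * c⁻¹ * e := by group
      · show σ (c * k * c⁻¹) = c * k * c⁻¹
        rw [map_mul, map_mul, map_inv, hcf', (mem_kone.1 hk).2]
  have hMH : M ≤ H := sup_le (sup_le hUH hH.mem.le)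
    ((kone_le_gam D).trans fun c hc => hH.normalizer_le X hD hc.2)
  have hc₀M : c₀ ∈ M := by
    obtain ⟨a, ha, hle⟩ := hTs.exists_cj_le (A := zpowers c₀) (zpowers_le.2 hc₀) (by
      rintro ⟨y, i, rfl⟩
      refine ⟨k, Subtype.ext ?_⟩
      show (c₀ ^ i) ^ (p ^ k) = 1
      rw [← zpow_natCast, ← zpow_mul, mul_comm, zpow_mul, zpow_natCast, hck, one_zpow])
    have h1 : a * c₀ * a⁻¹ ∈ M := hTM (hle ⟨c₀, mem_zpowers c₀, rfl⟩)
    exact (mem_normalizer_iff.1 (hMn ha) c₀).2 h1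
  -- so `c₀ = u d k`
  have hkUD : kone σ D ≤ normalizer ((U ⊔ D : Subgroup G) : Set G) := fun c hc =>
    inf_normalizer_le_normalizer_sup U D ⟨hHU (hMH (mem_sup_right hc)),
      (kone_le_gam D hc).2⟩
  obtain ⟨y, hy, c, hc, hyc⟩ :=
    mem_mul_of_sup hkUD hc₀M
  obtain ⟨u, hu, d, hd, rfl⟩ :=
    mem_mul_of_sup (hH.mem.le.trans hHU) hy
  have hun : u ∈ normalizer (D : Set G) := by
    have h1 : u = c₀ * c⁻¹ * d⁻¹ := by rw [← hyc]; group
    rw [h1]
    exact mul_mem (mul_mem hcn (inv_mem (centralizer_le_normalizer' D hc.1)))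
      (inv_mem (le_normalizer hd))
  refine X.mem_centralizer_of_fix_zsub hD hcf hcn fun e he => ?_
  have hue : u * e = e * u := by
    have h1 : u * e * u⁻¹ * e⁻¹ ∈ U ⊓ D := by
      refine mem_inf.2 ⟨?_, mul_mem ((mem_normalizer_iff.1 hun e).1 he.1) (inv_mem he.1)⟩
      rw [show u * e * u⁻¹ * e⁻¹ = u * (e * u⁻¹ * e⁻¹) by group]
      exact mul_mem hu ((mem_normalizer_iff.1 (hHU (hH.mem.le he.1)) _).1 (inv_mem hu))
    rw [X.ucore_inf_D hD hH.mem.inv hH.mem.ne_top hH.mem.le, mem_bot, mul_inv_eq_one] at h1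
    exact mul_inv_eq_iff_eq_mul.1 h1
  rw [← hyc]
  exact (((show Commute u e from hue).mul_left (X.zsub_comm hD he hd)).mul_left
    (show Commute c e from (mem_centralizer_iff.1 hc.1 e he.1).symm)).eq

set_option maxHeartbeats 800000 in
/-- `p` does not divide `|H|`. -/
theorem not_dvd_home : ¬ p ∣ Nat.card H := by
  intro hdvd
  obtain ⟨c₀, hc₀, hcf, hcn, ⟨k, hck⟩, hcD⟩ : ∃ c ∈ H, σ c = c ∧ c ∈ normalizer (D : Set G) ∧
      (∃ k : ℕ, c ^ (p ^ k) = 1) ∧ c ∉ centralizer (D : Set G) := by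
    by_contra! h
    exact (X.not_dvd_card_home hD hH h).1 hdvd
  set π := QuotientGroup.mk' (Subgroup.center G) with hπ
  have hU := X.uniqueFix hD hH
  obtain ⟨T, -, hT, hTs⟩ := X.act.cop.exists_sylow (p := p) hH.mem.inv (bot_le : (⊥ : Subgroup G) ≤ H)
    IsPGroup.of_bot inv_bot
  obtain ⟨P, hTP, hP, hPs⟩ := X.act.cop.exists_sylow (p := p) inv_top le_top hTs.2.1 hT
  rcases eq_or_lt_of_le hTP with heq | hlt
  · exact X.false_of_sylow_le hD hH.mem hP hPs (heq ▸ hTs.1)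
  have hlt' := lt_inf_normalizer hPs.2.1 hlt
  obtain ⟨x, ⟨hxP, hxN⟩, hxT⟩ := SetLike.exists_of_lt hlt'
  have hxH : x ∉ H := fun h => by
    have := hTs.eq_of_le (A := T ⊔ zpowers x) le_sup_left (sup_le hTs.1 (zpowers_le.2 h))
      (hPs.2.1.to_le (sup_le hTP (zpowers_le.2 hxP)))
    exact hxT (this ▸ mem_sup_right (mem_zpowers x))
  set Hb := H.map π with hHb
  set a : (G ⧸ Subgroup.center G) ⧸ Hb := QuotientGroup.mk (1 : G ⧸ Subgroup.center G) with ha
  set b : (G ⧸ Subgroup.center G) ⧸ Hb := π x • a with hb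
  have hcomap : ∀ {g : G}, π g ∈ Hb → g ∈ H := fun {g} hg => by
    obtain ⟨h, hh, he⟩ := hg
    have h1 : h⁻¹ * g ∈ Subgroup.center G := QuotientGroup.eq.1 he
    have := mul_mem hh (X.center_le_home hD hH h1)
    rwa [mul_inv_cancel_left] at this
  have hba : b ≠ a := fun h => hxH (hcomap ((CfsgLib.SEmbed.smul_one_eq_iff Hb (π x)).1 h))
  set Tb := T.map π with hTb
  have hTfix : ∀ t ∈ Tb, t • a = a := fun t ht =>
    (CfsgLib.SEmbed.smul_one_eq_iff Hb t).2 (map_mono hTs.1 ht)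
  have hxTb : π x ∈ normalizer (Tb : Set (G ⧸ Subgroup.center G)) := by
    refine mem_normalizer_of_forall_conj_mem ?_
    rintro _ ⟨t, ht, rfl⟩
    exact ⟨x * t * x⁻¹, (mem_normalizer_iff.1 hxN t).1 ht, by simp only [map_mul, map_inv]⟩
  have hTpair : Tb ≤ CfsgLib.SEmbed.pairStab (G ⧸ Subgroup.center G) a b := fun t ht =>
    CfsgLib.SEmbed.mem_pairStab.2 ⟨hTfix t ht,
      CfsgLib.SEmbed.smul_mem_fixSet hxTb (R := Tb) (fun r hr => hTfix r hr) t ht⟩
  have hTbs : IsSylowIn p Tb Hb := by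
    refine ⟨map_mono hTs.1, hTs.2.1.map π, fun hd => hTs.2.2 ?_⟩
    rw [hTb, hHb, Subgroup.relIndex_map_map, QuotientGroup.ker_mk',
      sup_eq_left.2 (X.center_le_home hD hH)] at hd
    exact hd.trans (relIndex_dvd_of_le_left H le_sup_left)
  have hmax : CfsgLib.SEmbed.IsMaxPair p Tb a := by
    refine ⟨hTs.2.1.map π, ⟨b, hba, hTpair⟩, fun P' hP' y _ hle hge => ?_⟩
    refine hTbs.eq_of_le hge (fun g hg => ?_) hP'
    exact (CfsgLib.SEmbed.smul_one_eq_iff Hb g).1 (CfsgLib.SEmbed.mem_pairStab.1 (hle hg)).1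
  by_cases hin : CfsgLib.SEmbed.Inside Tb a
  · -- an involution of `H` normalises `T`
    obtain ⟨i, hiN, hio, hia⟩ := hin
    obtain ⟨τ, hτ, rfl⟩ := (CfsgLib.SEmbed.smul_one_eq_iff Hb i).1 hia
    obtain ⟨z, hz, hz1⟩ := X.exists_ne_one hD hH
    have hzo : orderOf (π z) = 2 := orderOf_eq_prime
      (by rw [sq, ← map_mul, X.zsub_sq hD hz, map_one])
      fun h => X.not_center hD hH hz hz1 ((QuotientGroup.eq_one_iff z).1 h)
    haveI : Nontrivial ((G ⧸ Subgroup.center G) ⧸ Hb) := ⟨⟨b, a, hba⟩⟩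
    obtain ⟨g, hg⟩ := isConj_iff.1 (CfsgLib.SEmbed.isConj_invol hU hzo hio)
    obtain ⟨g, rfl⟩ := QuotientGroup.mk'_surjective (Subgroup.center G) g
    rw [← map_inv, ← map_mul, ← map_mul] at hg
    have hgH : g ∈ H := by
      have h1 : g * z * g⁻¹ ∈ H := hcomap (hg ▸ mem_map_of_mem π hτ)
      have := X.mem_of_conj_mem hD hH hz (X.not_center hD hH hz hz1) (g := g⁻¹) (by rwa [inv_inv])
      simpa using inv_mem this
    have hτn : g * z * g⁻¹ ∈ normalizer (T : Set G) := by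
      refine mem_normalizer_of_forall_conj_mem fun t ht => ?_
      obtain ⟨t', ht', he⟩ := (mem_normalizer_iff.1 hiN (π t)).1 (mem_map_of_mem π ht)
      rw [← hg, ← map_inv, ← map_mul, ← map_mul] at he
      set y := g * z * g⁻¹ * t * (g * z * g⁻¹)⁻¹ with hy
      have hc : t'⁻¹ * y ∈ Subgroup.center G := QuotientGroup.eq.1 he
      obtain ⟨i, hi⟩ := hTs.2.1 ⟨t, ht⟩
      obtain ⟨j, hj⟩ := hTs.2.1 ⟨t', ht'⟩
      have hi' : t ^ (p ^ i) = 1 := congrArg Subtype.val hi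
      have hj' : t' ^ (p ^ j) = 1 := congrArg Subtype.val hj
      have hy' : y ^ (p ^ (i + j)) = 1 := by
        rw [hy, conj_pow, pow_add, pow_mul, hi', one_pow, mul_one, mul_inv_cancel]
      have hc' : (t'⁻¹ * y) ^ (p ^ (i + j)) = 1 := by
        have hcomm : Commute t'⁻¹ y := by
          have e : y = t' * (t'⁻¹ * y) := by group
          rw [e]
          exact (Commute.refl t').inv_left.mul_right (Subgroup.mem_center_iff.1 hc t'⁻¹)
        rw [hcomm.mul_pow, hy', inv_pow, add_comm, pow_add, pow_mul, hj', one_pow, inv_one,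
          one_mul]
      have h1 : t'⁻¹ * y = 1 := by
        by_contra hne
        have hord : orderOf (t'⁻¹ * y) ∣ p ^ (i + j) := orderOf_dvd_of_pow_eq_one hc'
        obtain ⟨e, -, he'⟩ := (Nat.dvd_prime_pow hp.out).1 hord
        rcases e with _ | e
        · exact hne (orderOf_eq_one_iff.1 (by simpa using he'))
        · exact X.not_dvd_card_center ((dvd_pow_self p e.succ_ne_zero).trans
            (he' ▸ Subgroup.orderOf_dvd_natCard _ hc))
      rw [inv_mul_eq_one] at h1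
      exact h1 ▸ ht'
    -- conjugate to `z`
    have hTs' : IsSylowIn p (g⁻¹ *• T) H := by
      have := hTs.cj g⁻¹
      rwa [cj_self_of_mem (inv_mem hgH)] at this
    have hzn : z ∈ normalizer ((g⁻¹ *• T : Subgroup G) : Set G) := by
      rw [normalizer_cj]
      exact ⟨g * z * g⁻¹, hτn, by simp [mul_assoc]⟩
    exact hcD (X.centralizes_of_normalizing hD hH hTs' hz hz1 hzn hc₀ hcf hcn hck)
  · obtain ⟨b₀, hb₀, hfix, -⟩ := hmax.outside hU X.p_ne_two hin
    have haF : a ∈ CfsgLib.SEmbed.fixSet Tb := hmax.mem_fixSet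
    have hbF : b ∈ CfsgLib.SEmbed.fixSet Tb := CfsgLib.SEmbed.smul_mem_fixSet hxTb haF
    have hbb : b = b₀ := by
      rw [hfix] at hbF
      exact hbF.resolve_left hba
    have hxbF : π x • b ∈ CfsgLib.SEmbed.fixSet Tb := CfsgLib.SEmbed.smul_mem_fixSet hxTb hbF
    have hxb : π x • b = a := by
      rw [hfix] at hxbF
      refine hxbF.resolve_right fun h => hba ?_
      exact (smul_left_cancel (π x) ((Set.mem_singleton_iff.1 h).trans hbb.symm |>.trans hb))
    obtain ⟨i, hi⟩ := hPs.2.1 ⟨x, hxP⟩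
    have hxi : x ^ (p ^ i) = 1 := congrArg Subtype.val hi
    obtain ⟨j, hj⟩ := (hp.out.odd_of_ne_two X.p_ne_two).pow (n := i)
    have h2 : ∀ n : ℕ, (π x * π x) ^ n • a = a := by
      intro n
      induction n with
      | zero => simp
      | succ n ih => rw [pow_succ, mul_smul, mul_smul (π x), ← hb, hxb, ih]
    apply hba
    have h3 : π x ^ (p ^ i) • a = b := by
      rw [hj, pow_succ', mul_smul, pow_mul, sq, h2, hb]
    rw [← map_pow, hxi, map_one, one_smul] at h3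
    exact h3.symm

/-- `H = N(D)` and `[H, σ] = D`. -/
theorem home_eq : ucore p σ H = ⊥ ∧ H = normalizer (D : Set G) := by
  obtain ⟨-, h1, h2⟩ := X.not_dvd_card_home hD hH fun c hc _ _ ⟨k, hk⟩ => by
    have hco : Nat.Coprime (Nat.card H) (p ^ k) :=
      Nat.Coprime.pow_right _ ((hp.out.coprime_iff_not_dvd.2 (X.not_dvd_home hD hH)).symm)
    have h := Nat.eq_one_of_dvd_coprimes hco (Subgroup.orderOf_dvd_natCard _ hc)
      (orderOf_dvd_of_pow_eq_one hk)
    rw [orderOf_eq_one_iff.1 h]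
    exact one_mem _
  exact ⟨h1, le_antisymm h2 (hH.normalizer_le X hD)⟩

end Cx

end CfsgLib.HHShult
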