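import Cfsg.Agent.HHShult.Frame

/-!
# The normaliser of `D` acting on the characters

* `nA`, `nZ`: conjugation on `D / D'` and `Z(D)`;
* `Frame.map_fE`: `ψ g` maps the eigenspace of `χ ∘ nZ g` onto that of `χ`;
* `Frame.commute_of_fixed`: a fixed element of `N(D)` fixing `χ` commutes with `D` on its eigenspace.
-/

set_option autoImplicit false
set_option linter.style.haveILetI false
set_option linter.unusedSectionVars false

open Finset Module Subgroup
open scoped commutatorElement

namespace CfsgLib.HHShult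

universe u v w

variable {K : Type u} [Field K] {V : Type v} [AddCommGroup V] [Module K V]
variable {G : Type w} [Group G]

theorem inv_conj_of_mem {D : Subgroup G} {g : G} (hg : g ∈ normalizer (D : Set G)) :
    Inv (MulAut.conj g) D := fun x hx => (mem_normalizer_iff.1 hg x).1 hx

variable [Finite G]

/-- Conjugation by an element of the normaliser, on `D`. -/
noncomputable def nD {D : Subgroup G} {g : G} (hg : g ∈ normalizer (D : Set G)) : MulAut ↥D :=
  (inv_conj_of_mem hg).aut

theorem nD_apply {D : Subgroup G} {g : G} (hg : g ∈ normalizer (D : Set G)) (x : ↥D) :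
    (nD hg x : G) = g * (x : G) * g⁻¹ := rfl

theorem map_center_mem {H : Type*} [Group H] (τ : MulAut H) {z : H} (hz : z ∈ Subgroup.center H) :
    τ z ∈ Subgroup.center H := by
  rw [Subgroup.mem_center_iff] at hz ⊢
  intro y
  obtain ⟨y, rfl⟩ := τ.surjective y
  rw [← map_mul, ← map_mul, hz y]

/-- Conjugation on `D / D'`. -/
noncomputable def nA {D : Subgroup G} {g : G} (hg : g ∈ normalizer (D : Set G)) :
    AddMonoid.End (FA D) :=
  MonoidHom.toAdditive (Abelianization.map (nD hg).toMonoidHom)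

theorem nA_piA {D : Subgroup G} {g : G} (hg : g ∈ normalizer (D : Set G)) (x : ↥D) :
    nA hg (piA x) = piA (nD hg x) := rfl

/-- Conjugation on `Z(D)`. -/
noncomputable def nZ {D : Subgroup G} {g : G} (hg : g ∈ normalizer (D : Set G)) :
    AddMonoid.End (FZ D) :=
  MonoidHom.toAdditive
    (((nD hg).toMonoidHom.comp (Subgroup.center ↥D).subtype).codRestrict (Subgroup.center ↥D)
      fun z => map_center_mem (nD hg) z.2)

theorem nZ_toFZ {D : Subgroup G} {g : G} (hg : g ∈ normalizer (D : Set G)) {x : ↥D}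
    (hx : x ∈ Subgroup.center ↥D) : nZ hg (toFZ x) = toFZ (nD hg x) := by
  rw [toFZ_of_mem hx, toFZ_of_mem (map_center_mem (nD hg) hx)]
  rfl

theorem nD_mul_apply {D : Subgroup G} {g h : G} (hg : g ∈ normalizer (D : Set G))
    (hh : h ∈ normalizer (D : Set G)) (x : ↥D) :
    nD (mul_mem hg hh) x = nD hg (nD hh x) := by
  apply Subtype.ext
  simp only [nD_apply]
  group

theorem nZ_mul_apply {D : Subgroup G} {g h : G} (hg : g ∈ normalizer (D : Set G))
    (hh : h ∈ normalizer (D : Set G)) (z : FZ D) :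
    nZ (mul_mem hg hh) z = nZ hg (nZ hh z) := by
  apply congrArg Additive.ofMul (Subtype.ext (nD_mul_apply hg hh _))

theorem nA_mul_apply {D : Subgroup G} {g h : G} (hg : g ∈ normalizer (D : Set G))
    (hh : h ∈ normalizer (D : Set G)) (a : FA D) :
    nA (mul_mem hg hh) a = nA hg (nA hh a) := by
  obtain ⟨x, rfl⟩ := piA_surjective a
  rw [nA_piA, nA_piA, nA_piA, nD_mul_apply hg hh]

variable [IsAlgClosed K] [FiniteDimensional K V]
variable {σ : MulAut G} {r : ℕ} {ψ : G →* Module.End K V} {s : Module.End K V} {D : Subgroup G}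

namespace Frame

variable (F : Frame σ r ψ s D)
include F

theorem nD_mem_center {g : G} (hg : g ∈ normalizer (D : Set G)) {x : ↥D}
    (hx : x ∈ Subgroup.center ↥D) : nD hg x ∈ Subgroup.center ↥D := map_center_mem _ hx

theorem sqA_nA {g : G} (hg : g ∈ normalizer (D : Set G)) (a : FA D) :
    sqA D (nA hg a) = nZ hg (sqA D a) := by
  obtain ⟨x, rfl⟩ := piA_surjective a
  rw [nA_piA, F.sqA_piA, F.sqA_piA, nZ_toFZ hg (F.sq_mem x), map_pow]

theorem bz_nA {g : G} (hg : g ∈ normalizer (D : Set G)) (a b : FA D) :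
    bz (sqA D) (nA hg a) (nA hg b) = nZ hg (bz (sqA D) a b) := by
  simp only [bz, ← map_add, F.sqA_nA hg, map_sub]

theorem nA_comm {g : G} (hgf : σ g = g) (hg : g ∈ normalizer (D : Set G)) (a : FA D) :
    nA hg (F.rhoA a) = F.rhoA (nA hg a) := by
  obtain ⟨x, rfl⟩ := piA_surjective a
  rw [F.rhoA_piA, nA_piA, nA_piA, F.rhoA_piA]
  congr 1
  apply Subtype.ext
  show g * σ (x : G) * g⁻¹ = σ (g * (x : G) * g⁻¹)
  rw [map_mul, map_mul, map_inv, hgf]

theorem apply_mem_fE {g : G} (hg : g ∈ normalizer (D : Set G)) (χ : FZ D →+ ZMod 2) {v : V}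
    (hv : v ∈ fE ψ (χ.comp (nZ hg))) : ψ g v ∈ fE ψ χ := by
  rw [mem_fE] at hv ⊢
  intro z hz
  have hy : (nD hg).symm z ∈ Subgroup.center ↥D := map_center_mem _ hz
  have he : (z : G) * g = g * ((nD hg).symm z : ↥D) := by
    have h1 : nD hg ((nD hg).symm z) = z := (nD hg).apply_symm_apply z
    calc (z : G) * g = (g * ((nD hg).symm z : ↥D) * g⁻¹) * g := by
          rw [← nD_apply hg, h1]
      _ = _ := by group
  rw [← Module.End.mul_apply, ← map_mul, he, map_mul, Module.End.mul_apply, hv _ hy, map_smul]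
  congr 2
  show χ (nZ hg (toFZ _)) = _
  rw [nZ_toFZ hg hy, MulEquiv.apply_symm_apply]

/-- `ψ g` maps the eigenspace of `χ ∘ nZ g` onto that of `χ`. -/
theorem map_fE {g : G} (hg : g ∈ normalizer (D : Set G)) (χ : FZ D →+ ZMod 2) :
    (fE ψ (χ.comp (nZ hg))).map (ψ g) = fE ψ χ := by
  refine le_antisymm (Submodule.map_le_iff_le_comap.2 fun v hv => F.apply_mem_fE hg χ hv) ?_
  intro v hv
  refine ⟨ψ g⁻¹ v, ?_, by rw [← Module.End.mul_apply, ← map_mul, mul_inv_cancel, map_one]; rfl⟩
  refine F.apply_mem_fE (inv_mem hg) _ ?_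
  have he : (χ.comp (nZ hg)).comp (nZ (inv_mem hg)) = χ := by
    refine AddMonoidHom.ext fun z => ?_
    show χ (nZ hg (nZ (inv_mem hg) z)) = χ z
    congr 1
    rw [← nZ_mul_apply hg (inv_mem hg)]
    refine congrArg Additive.ofMul (Subtype.ext (Subtype.ext ?_))
    show g * g⁻¹ * _ * (g * g⁻¹)⁻¹ = _
    simp
    rfl
  rwa [he]

theorem finrank_fE_comp {g : G} (hg : g ∈ normalizer (D : Set G)) (χ : FZ D →+ ZMod 2) :
    finrank K (fE ψ (χ.comp (nZ hg)) : Submodule K V) = finrank K (fE ψ χ : Submodule K V) := by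
  rw [← F.map_fE hg χ]
  refine LinearEquiv.finrank_eq (Submodule.equivMapOfInjective (ψ g) ?_ _)
  intro a b hab
  have := congrArg (ψ g⁻¹) hab
  simpa [← Module.End.mul_apply, ← map_mul] using this

theorem fE_comp_ne_bot {g : G} (hg : g ∈ normalizer (D : Set G)) {χ : FZ D →+ ZMod 2}
    (h : fE ψ χ ≠ ⊥) : fE ψ (χ.comp (nZ hg)) ≠ ⊥ := by
  intro h0
  apply h
  rw [← F.map_fE hg χ, h0, Submodule.map_bot]

/-- A fixed element of `N(D)` fixing `χ` is trivial on `D / R_χ`. -/
theorem nA_sub_mem_rad {m : ℕ} (hm : 0 < m) (hr : r = 2 ^ m + 1) {g : G} (hgf : σ g = g)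
    (hg : g ∈ normalizer (D : Set G)) {χ : FZ D →+ ZMod 2} (hocc : fE ψ χ ≠ ⊥) (hne : χ ≠ 0)
    (hfix : χ.comp (nZ hg) = χ) (a : FA D) : -a + nA hg a ∈ (F.quad hm hr).rad χ := by
  set Q := F.quad hm hr
  have hgood := F.good hm hr hocc hne
  have hline := hgood.line
  have hrad : ∀ x ∈ Q.rad χ, nA hg x ∈ Q.rad χ := by
    intro x hx y
    obtain ⟨w, rfl⟩ := piA_surjective y
    obtain ⟨w, rfl⟩ := (nD hg).surjective w
    rw [← nA_piA, F.bz_nA]
    show (χ.comp (nZ hg)) _ = 0
    rw [hfix]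
    exact hx _
  let c : AddMonoid.End (FA D ⧸ Q.rad χ) := QuotientAddGroup.map _ _ (nA hg) hrad
  have hc : ∀ x : FA D, c (x : FA D ⧸ Q.rad χ) = (nA hg x : FA D ⧸ Q.rad χ) := fun x => rfl
  obtain ⟨i, hi⟩ := hline.exists_eq_pow c (AddMonoidHom.ext fun x => by
    induction x using QuotientAddGroup.induction_on with | H x =>
    show c (Q.radEnd χ x) = Q.radEnd χ (c x)
    rw [Q.radEnd_mk, hc, hc, Q.radEnd_mk, F.nA_comm hgf hg]) (fun x => by
    induction x using QuotientAddGroup.induction_on with | H x =>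
    rw [hc, Quad.radForm_mk hgood, Quad.radForm_mk hgood, F.sqA_nA]
    exact DFunLike.congr_fun hfix _)
  -- the order of `g` is prime to `r`
  have hcn : ∀ (n : ℕ) (x : ↥D), (c ^ n) (piA x : FA D ⧸ Q.rad χ) =
      (piA ((nD hg ^ n) x) : FA D ⧸ Q.rad χ) := by
    intro n
    induction n with
    | zero => intro x; rfl
    | succ n ih =>
      intro x
      rw [pow_succ', pow_succ', MulAut.mul_apply]
      show c ((c ^ n) _) = _
      rw [ih, hc, nA_piA]
  have hcoe : ∀ (n : ℕ) (x : ↥D), ((nD hg ^ n) x : G) = g ^ n * (x : G) * (g ^ n)⁻¹ := by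
    intro n
    induction n with
    | zero => intro x; simp
    | succ n ih =>
      intro x
      rw [pow_succ', MulAut.mul_apply, nD_apply, ih, pow_succ']
      group
  have hco : c ^ orderOf g = 1 := by
    refine AddMonoidHom.ext fun x => ?_
    induction x using QuotientAddGroup.induction_on with | H x =>
    obtain ⟨x, rfl⟩ := piA_surjective x
    refine (hcn _ x).trans ?_
    show _ = (piA x : FA D ⧸ Q.rad χ)
    congr 2
    apply Subtype.ext
    rw [hcoe, pow_orderOf_eq_one]
    simp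
  rw [hi, ← pow_mul] at hco
  have hri : r ∣ i := by
    by_contra hn
    have hdi : ¬ r ∣ i * orderOf g := fun hd => by
      rcases F.act.cop.prime.dvd_mul.1 hd with h1 | h1
      · exact hn h1
      · exact F.act.cop.not_dvd (h1.trans (orderOf_dvd_natCard g))
    haveI := hline.nontrivial
    obtain ⟨x, hx⟩ := exists_ne (0 : FA D ⧸ Q.rad χ)
    exact hx (hline.fpf_pow hdi (by rw [hco]; rfl))
  obtain ⟨j, rfl⟩ := hri
  rw [pow_mul, hline.pow_eq, one_pow] at hi
  have h1 := hc a
  rw [hi] at h1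
  exact QuotientAddGroup.eq.1 h1

/-- `D` is trivial on the trivial character. -/
theorem apply_of_zero {x : ↥D} {v : V} (hv : v ∈ fE ψ (0 : FZ D →+ ZMod 2)) : ψ (x : G) v = v := by
  have htop : F.radSub (0 : FZ D →+ ZMod 2) = ⊤ := eq_top_iff.2 fun y _ z => rfl
  refine F.apply_moved_radSub (x := x) ?_ hv
  rw [htop, F.m2.eq_top]
  exact Subgroup.mem_top _

/-- A fixed element of `N(D)` fixing `χ` commutes with `D` on its eigenspace. -/
theorem commute_of_fixed {g : G} (hgf : σ g = g) (hg : g ∈ normalizer (D : Set G))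
    {χ : FZ D →+ ZMod 2} (hfix : χ.comp (nZ hg) = χ) (x : ↥D) {v : V} (hv : v ∈ fE ψ χ) :
    ψ g (ψ (x : G) v) = ψ (x : G) (ψ g v) := by
  classical
  have hgv : ∀ w ∈ fE ψ χ, ψ g w ∈ fE ψ χ := fun w hw => F.apply_mem_fE hg χ (by rwa [hfix])
  by_cases hocc : fE ψ χ = ⊥
  · rw [hocc, Submodule.mem_bot] at hv
    simp [hv]
  by_cases hne : χ = 0
  · subst hne
    rw [F.apply_of_zero hv, F.apply_of_zero (hgv v hv)]
  obtain ⟨m, hm, hr, -⟩ := F.exists_exponent hocc hne
  have key : ∀ y : ↥D, ∃ a : ZMod 2, ∀ w ∈ fE ψ χ,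
      ψ g (ψ (y : G) w) = sK K a • ψ (y : G) (ψ g w) := by
    intro y
    have hmem : y⁻¹ * nD hg y ∈ F.radSub χ := by
      rw [F.mem_radSub_iff hm hr, piA_mul, piA_inv, ← nA_piA]
      exact F.nA_sub_mem_rad hm hr hgf hg hocc hne hfix _
    obtain ⟨a, ha, -⟩ := F.exists_scalar hmem
    refine ⟨a, fun w hw => ?_⟩
    have he : g * (y : G) = (y : G) * ((y⁻¹ * nD hg y : ↥D) : G) * g := by
      simp only [Subgroup.coe_mul, InvMemClass.coe_inv, nD_apply]
      group
    rw [← Module.End.mul_apply, ← map_mul, he, map_mul, map_mul, Module.End.mul_apply,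
      Module.End.mul_apply, ha _ (hgv w hw), map_smul]
  choose θ hθ using key
  obtain ⟨w, hw, hw0⟩ := (Submodule.ne_bot_iff _).1 hocc
  have hinjg : ∀ h : G, Function.Injective (ψ h) := fun h a b hab => by
    have := congrArg (ψ h⁻¹) hab
    simpa [← Module.End.mul_apply, ← map_mul] using this
  have huniq : ∀ {a b : ZMod 2} {u : V}, u ≠ 0 → sK K a • u = sK K b • u → a = b := by
    intro a b u hu he
    have he' := smul_left_injective K hu he
    rcases zmod2_cases a with rfl | rfl <;> rcases zmod2_cases b with rfl | rfl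
    · rfl
    · simp only [sK_zero] at he'; exact ((sK_eq_one_iff F.two_ne 1).1 he'.symm).symm
    · simp only [sK_zero] at he'; exact (sK_eq_one_iff F.two_ne 1).1 he'
    · rfl
  have hnz : ∀ y : ↥D, ψ (y : G) (ψ g w) ≠ 0 := fun y h0 =>
    hw0 (hinjg g ((hinjg (y : G) (h0.trans (map_zero _).symm)).trans (map_zero _).symm))
  let f : ↥D →* Multiplicative (ZMod 2) :=
    { toFun := fun y => Multiplicative.ofAdd (θ y)
      map_one' := by
        refine congrArg Multiplicative.ofAdd (huniq (hnz 1) (b := 0) ?_)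
        rw [← hθ 1 w hw, sK_zero, one_smul]
        simp
      map_mul' := fun a b => by
        refine congrArg Multiplicative.ofAdd (huniq (hnz (a * b)) (b := θ a + θ b) ?_)
        rw [← hθ (a * b) w hw, sK_add, Subgroup.coe_mul, map_mul, Module.End.mul_apply,
          hθ a _ (F.mapsTo_fE χ b hw), hθ b w hw, map_smul, smul_smul, Module.End.mul_apply] }
  have hsinj : Function.Injective s := fun a b hab => by
    have h1 := congrArg (s ^ (r - 1)) hab
    rwa [← Module.End.mul_apply, ← Module.End.mul_apply, ← pow_succ,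
      Nat.sub_add_cancel F.act.cop.prime.pos, F.act.pow_eq] at h1
  have hinv : ∀ y, f (F.inv.aut y) = f y := fun y => by
    refine congrArg Multiplicative.ofAdd ?_
    have hs : ∀ (h : G) (u : V), s (ψ h u) = ψ (σ h) (s u) := fun h u => by
      rw [← Module.End.mul_apply, F.act.compat, Module.End.mul_apply]
    have h1 := congrArg s (hθ y w hw)
    rw [hs, hgf, hs, map_smul, hs, hs, hgf] at h1
    have h2 := hθ (F.inv.aut y) (s w) (F.s_mapsTo_fE χ hw)
    have hne' : ψ (σ (y : G)) (ψ g (s w)) ≠ 0 := by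
      have := hnz y
      rw [← hgf, ← hs, ← hs]
      exact fun h0 => this (hsinj (h0.trans (map_zero s).symm))
    exact huniq hne' (h2.symm.trans h1)
  have hx : θ x = 0 := congrArg Multiplicative.toAdd (F.m2.hom_eq_one f hinv x)
  rw [hθ x v hv, hx, sK_zero, one_smul]

end Frame

end CfsgLib.HHShult
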