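import Cfsg.Agent.HHShult.NoBad

/-!
# Good elements

Consequences of `Cx.no_bad`.

* `Cx.good_mem_zsub`: good elements of `N(D)` lie in `C_D(σ)`;
* `Cx.eq_point`, `Cx.mul_good_or_central`: good elements commuting modulo the centre come from the
  same coset of `H`, and their product is good or central;
* `Cx.exists_conj_of_points`: good elements of different cosets of `H` are conjugate modulo the
  centre in the subgroup they generate;
* `Cx.exists_fixed_conj`: the fixed part of `N(D)` is transitive on the non-central classes of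
  `C_D(σ)` modulo the centre.
-/

set_option autoImplicit false
set_option linter.style.haveILetI false
set_option linter.unusedSectionVars false

open Finset Module Subgroup CfsgLib.ConjFunctor
open scoped commutatorElement CfsgLib.ConjFunctor

namespace CfsgLib.HHShult

universe u v w

variable {G : Type w} [Group G] [Finite G]

theorem not_mem_center_conj {x g : G} (hx : x ∉ Subgroup.center G) :
    g * x * g⁻¹ ∉ Subgroup.center G := fun h => hx (by
  have hn : (Subgroup.center G).Normal := inferInstance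
  have := hn.conj_mem _ h g⁻¹
  rwa [show g⁻¹ * (g * x * g⁻¹) * g⁻¹⁻¹ = x by group] at this)

theorem mem_cmod_iff_quot {y g : G} :
    g ∈ cmod y ↔
      Commute (QuotientGroup.mk' (Subgroup.center G) y) (QuotientGroup.mk' (Subgroup.center G) g) := by
  rw [mem_cmod, ← QuotientGroup.eq_one_iff, ← QuotientGroup.mk'_apply, map_commutatorElement,
    commutatorElement_eq_one_iff_mul_comm]
  rfl

theorem mem_cmod_comm {y g : G} : g ∈ cmod y ↔ y ∈ cmod g := by
  rw [mem_cmod_iff_quot, mem_cmod_iff_quot]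
  exact ⟨Commute.symm, Commute.symm⟩

theorem conj_mem_cmod_iff {y g : G} (x : G) :
    x * g * x⁻¹ ∈ cmod (x * y * x⁻¹) ↔ g ∈ cmod y := by
  rw [mem_cmod, mem_cmod, show ⁅x * y * x⁻¹, x * g * x⁻¹⁆ = x * ⁅y, g⁆ * x⁻¹ by
    simp only [commutatorElement_def]; group]
  have hn : (Subgroup.center G).Normal := inferInstance
  refine ⟨fun h => ?_, fun h => hn.conj_mem _ h x⟩
  have := hn.conj_mem _ h x⁻¹
  rwa [show x⁻¹ * (x * ⁅y, g⁆ * x⁻¹) * x⁻¹⁻¹ = ⁅y, g⁆ by group] at this

variable {K : Type u} [Field K] [IsAlgClosed K] {V : Type v} [AddCommGroup V] [Module K V]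
  [FiniteDimensional K V]
variable {p : ℕ} [hp : Fact p.Prime] {σ : MulAut G} {r : ℕ} {ψ : G →* Module.End K V}
  {s : Module.End K V}

namespace Cx

variable (X : Cx p σ r ψ s)
include X

theorem not_dvd_card_center : ¬ p ∣ Nat.card (Subgroup.center G) := by
  intro hd
  obtain ⟨x, hx⟩ := exists_prime_orderOf_dvd_card' p hd
  let N : Subgroup G :=
    { carrier := {c | c ∈ Subgroup.center G ∧ c ^ p = 1}
      one_mem' := ⟨one_mem _, one_pow p⟩
      mul_mem' := fun {a b} ha hb => ⟨mul_mem ha.1 hb.1, by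
        rw [Commute.mul_pow (Subgroup.mem_center_iff.1 hb.1 a), ha.2, hb.2, one_mul]⟩
      inv_mem' := fun {a} ha => ⟨inv_mem ha.1, by rw [inv_pow, ha.2, inv_one]⟩ }
  have hN : N.Normal := ⟨fun c hc g => by
    rwa [Subgroup.mem_center_iff.1 hc.1 g, mul_inv_cancel_right]⟩
  have hNi : Inv σ N := fun c hc => ⟨map_center_mem σ hc.1, by rw [← map_pow, hc.2, map_one]⟩
  have hNp : IsPGroup p N := fun c => ⟨1, Subtype.ext (by
    show (c : G) ^ (p ^ 1) = 1
    rw [pow_one]
    exact c.2.2)⟩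
  have hxN : (x : G) ∈ N := ⟨x.2, by
    have := pow_orderOf_eq_one x
    rw [hx] at this
    exact congrArg Subtype.val this⟩
  rw [X.eq_bot_of_normal hN hNi hNp, mem_bot] at hxN
  have : x = 1 := Subtype.ext hxN
  rw [this, orderOf_one] at hx
  exact hp.out.one_lt.ne hx

theorem center_fixed {c : G} (hc : c ∈ Subgroup.center G) : σ c = c := by
  haveI := X.charP
  refine mem_fixedSub.1 (X.act.fixed_of_abelian (A := Subgroup.center G)
    (fun x hx => map_center_mem σ hx) (fun a _ b hb => Subgroup.mem_center_iff.1 hb a) ?_ hc)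
  intro h
  exact X.not_dvd_card_center ((CharP.cast_eq_zero_iff K p _).1 h)

variable {D : Subgroup G} (hD : IsStdD σ D)
include hD

theorem kmem_cmod {z : G} (hz : z ∈ zsub σ D) (hzc : z ∉ Subgroup.center G) :
    KMem σ D (cmod z) where
  inv := inv_cmod hz.2
  le := fun d hd => mem_cmod_of_commute (X.zsub_comm hD hz hd)
  ne_top := by
    intro htop
    apply hzc
    let N : Subgroup G := zpowers z ⊔ Subgroup.center G
    have hN : N.Normal := by
      rw [← normalizer_eq_top_iff, eq_top_iff]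
      intro x _
      refine mem_normalizer_of_cj_le ?_
      rw [Subgroup.map_sup]
      refine sup_le ?_ ?_
      · rw [MonoidHom.map_zpowers, zpowers_le]
        have hx : ⁅z, x⁆ ∈ Subgroup.center G := mem_cmod.1 (htop ▸ mem_top x)
        show x * z * x⁻¹ ∈ N
        have e : x * z * x⁻¹ = ⁅z, x⁆⁻¹ * z := by simp only [commutatorElement_def]; group
        rw [e]
        exact mul_mem (mem_sup_right (inv_mem hx)) (mem_sup_left (mem_zpowers z))
      · exact cj_le_iff.2 fun c hc => mem_sup_right (by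
          rw [Subgroup.mem_center_iff.1 hc x, mul_inv_cancel_right]; exact hc)
    have hNi : Inv σ N := Inv.sup (inv_zpowers hz.2) (fun c hc => map_center_mem σ hc)
    by_cases hNtop : N = ⊤
    · rw [Subgroup.mem_center_iff]
      intro x
      have hcomm : N ≤ centralizer ({z} : Set G) := sup_le
        (zpowers_le.2 (mem_centralizer_singleton_iff.2 rfl))
        (fun c hc => mem_centralizer_singleton_iff.2 (Subgroup.mem_center_iff.1 hc z).symm)
      exact mem_centralizer_singleton_iff.1 (hcomm (hNtop.symm ▸ mem_top x))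
    · exact X.le_center_of_normal hN hNi hNtop (mem_sup_left (mem_zpowers z))

variable {H : Subgroup G} (hH : Home σ D H)
include hH

/-- Good elements of `N(D)` lie in `C_D(σ)`. -/
theorem good_mem_zsub {y : G} (hy : Good σ D y) (hn : y ∈ normalizer (D : Set G)) :
    y ∈ zsub σ D := by
  obtain ⟨k, hk, d, t, hdec⟩ := hH.exists_transport X hD (X.kmem_normalizer_D hD) hn (a := 1)
    (by rw [pow_one, sq, hy.sq_eq X hD])
  have hy' : Good σ D (k⁻¹ * y * k) := by
    have := hy.conj k⁻¹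
    rwa [inv_inv] at this
  have hin : k⁻¹ * y * k ∈ zsub σ D := by
    by_contra h
    exact X.no_bad hD hH ⟨hdec, hy', h⟩
  have hkD : y ∈ D := by
    have := (mem_normalizer_iff.1 hk _).1 hin.1
    rwa [show k * (k⁻¹ * y * k) * k⁻¹ = y by group] at this
  rw [X.mem_zsub_iff hD hkD]
  have hc := (X.mem_zsub_iff hD hin.1).1 hin
  have e : (⟨y, hkD⟩ : ↥D) = nD hk ⟨_, hin.1⟩ :=
    Subtype.ext (by rw [nD_apply]; group)
  rw [e]
  exact map_center_mem (nD hk) hc

/-- A good element of a proper invariant subgroup containing `D` is conjugate there into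
`C_D(σ)`. -/
theorem exists_conj_mem_zsub {L : Subgroup G} (hL : KMem σ D L) {y : G} (hy : Good σ D y)
    (hyL : y ∈ L) : ∃ k ∈ L, k⁻¹ * y * k ∈ zsub σ D := by
  obtain ⟨k, hk, d, t, hdec⟩ := hH.exists_transport X hD hL hyL (a := 1)
    (by rw [pow_one, sq, hy.sq_eq X hD])
  have hy' := hy.conj k⁻¹
  rw [inv_inv] at hy'
  exact ⟨k, hk, X.good_mem_zsub hD hH hy' hdec.mem_normalizer⟩

/-- A non-central element of `C_D(σ)` fixes only one coset of `H`. -/
theorem mem_of_conj_mem {z g : G} (hz : z ∈ zsub σ D) (hzc : z ∉ Subgroup.center G)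
    (hg : g⁻¹ * z * g ∈ H) : g ∈ H := by
  have hy : Good σ D (g⁻¹ * z * g) := by
    have := (good_of_mem hz hzc).conj g⁻¹
    rwa [inv_inv] at this
  obtain ⟨k, hk, hkz⟩ := X.exists_conj_mem_zsub hD hH hH.mem hy hg
  have hkc : k⁻¹ * (g⁻¹ * z * g) * k ∉ Subgroup.center G := by
    have := not_mem_center_conj (g := (g * k)⁻¹) hzc
    rwa [inv_inv, show (g * k)⁻¹ * z * (g * k) = k⁻¹ * (g⁻¹ * z * g) * k by group] at this
  have := hH.fusion X hD hkz hkc hz hzc (g := g * k) (by group)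
  have := mul_mem this (inv_mem hk)
  rwa [mul_inv_cancel_right] at this

/-- Good elements commuting modulo the centre come from the same coset of `H`. -/
theorem eq_point {z z' g g' : G} (hz : z ∈ zsub σ D) (hzc : z ∉ Subgroup.center G)
    (hz' : z' ∈ zsub σ D) (hzc' : z' ∉ Subgroup.center G)
    (hab : g' * z' * g'⁻¹ ∈ cmod (g * z * g⁻¹)) : g⁻¹ * g' ∈ H := by
  set e := g⁻¹ * g' with he
  have hb : e * z' * e⁻¹ ∈ cmod z := by
    rw [← conj_mem_cmod_iff g]
    rwa [show g * (e * z' * e⁻¹) * g⁻¹ = g' * z' * g'⁻¹ by rw [he]; group]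
  obtain ⟨k, hk, hkz⟩ := X.exists_conj_mem_zsub hD hH (X.kmem_cmod hD hz hzc)
    ((good_of_mem hz' hzc').conj e) hb
  have hkH : k ∈ H := hH.max _ (X.kmem_cmod hD hz hzc) hk
  have hkc : k⁻¹ * (e * z' * e⁻¹) * k ∉ Subgroup.center G := by
    have := not_mem_center_conj (g := k⁻¹) (not_mem_center_conj (g := e) hzc')
    rwa [inv_inv] at this
  have := hH.fusion X hD hz' hzc' hkz hkc (g := k⁻¹ * e) (by group)
  have := mul_mem hkH this
  rwa [mul_inv_cancel_left] at this

/-- The product of good elements commuting modulo the centre is good or central. -/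
theorem mul_good_or_central {a b : G} (ha : Good σ D a) (hb : Good σ D b) (hab : b ∈ cmod a) :
    Good σ D (a * b) ∨ a * b ∈ Subgroup.center G := by
  obtain ⟨g, z, hz, hzc, rfl⟩ := ha
  set b₀ := g⁻¹ * b * g with hb₀
  have hb₀m : b₀ ∈ cmod z := by
    rw [← conj_mem_cmod_iff g]
    rwa [show g * b₀ * g⁻¹ = b by rw [hb₀]; group]
  have hb₀g : Good σ D b₀ := by
    have := hb.conj g⁻¹
    rwa [inv_inv] at this
  obtain ⟨k, hk, hkz⟩ := X.exists_conj_mem_zsub hD hH (X.kmem_cmod hD hz hzc) hb₀g hb₀m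
  have hzk : k⁻¹ * z * k ∈ zsub σ D := by
    refine X.good_mem_zsub hD hH ?_ ?_
    · have := (good_of_mem hz hzc).conj k⁻¹
      rwa [inv_inv] at this
    · have hc : ⁅z, k⁆ ∈ Subgroup.center G := hk
      have e : k⁻¹ * z * k = ⁅z, k⁆ * z := by
        rw [← inv_mul_cancel_right (⁅z, k⁆ * z) (k : G)]
        calc k⁻¹ * z * k = k⁻¹ * (⁅z, k⁆ * k * z) := by simp only [commutatorElement_def]; group
          _ = ⁅z, k⁆ * (k⁻¹ * k * z) := by
              rw [← mul_assoc, ← mul_assoc, Subgroup.mem_center_iff.1 hc k⁻¹]; group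
          _ = _ := by group
      rw [e]
      exact mul_mem (Subgroup.center_le_normalizer _ hc) (le_normalizer hz.1)
  have e : g * z * g⁻¹ * b = (g * k) * (k⁻¹ * z * k * (k⁻¹ * b₀ * k)) * (g * k)⁻¹ := by
    rw [hb₀]; group
  by_cases hc : k⁻¹ * z * k * (k⁻¹ * b₀ * k) ∈ Subgroup.center G
  · right
    rw [e, Subgroup.mem_center_iff.1 hc (g * k), mul_inv_cancel_right]
    exact hc
  · exact Or.inl (e ▸ ⟨g * k, _, mul_mem hzk hkz, hc, rfl⟩)

set_option maxHeartbeats 800000 in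
/-- Good elements of different cosets of `H` have a product of odd order modulo the centre, and
are conjugate modulo the centre in the subgroup they generate. -/
theorem exists_conj_of_points {z z' g g' : G} (hz : z ∈ zsub σ D) (hzc : z ∉ Subgroup.center G)
    (hz' : z' ∈ zsub σ D) (hzc' : z' ∉ Subgroup.center G) (hne : g⁻¹ * g' ∉ H) :
    Odd (orderOf (QuotientGroup.mk' (Subgroup.center G) (g * z * g⁻¹ * (g' * z' * g'⁻¹)))) ∧
      ∃ w ∈ zpowers (g * z * g⁻¹ * (g' * z' * g'⁻¹)),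
        (g' * z' * g'⁻¹)⁻¹ * (w * (g * z * g⁻¹) * w⁻¹) ∈ Subgroup.center G := by
  set a := g * z * g⁻¹ with ha_def
  set b := g' * z' * g'⁻¹ with hb_def
  have hga : Good σ D a := ⟨g, z, hz, hzc, rfl⟩
  have hgb : Good σ D b := ⟨g', z', hz', hzc', rfl⟩
  have ha : a * a = 1 := hga.sq_eq X hD
  have hb : b * b = 1 := hgb.sq_eq X hD
  clear_value a b
  set x := a * b with hx
  set π := QuotientGroup.mk' (Subgroup.center G) with hπ
  have hflip : a * x * a⁻¹ = x⁻¹ := by
    rw [hx, mul_inv_rev, inv_eq_of_mul_eq_one_right hb]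
    rw [← mul_assoc, ha, one_mul]
  have hflipb : b * x * b⁻¹ = x⁻¹ := by
    rw [hx, mul_inv_rev, inv_eq_of_mul_eq_one_right hb, inv_eq_of_mul_eq_one_right ha]
    calc b * (a * b) * b = b * a * (b * b) := by group
      _ = _ := by rw [hb, mul_one]
  have hconjpow : ∀ (c : G), c * x * c⁻¹ = x⁻¹ → ∀ n : ℕ, c * x ^ n * c⁻¹ = (x ^ n)⁻¹ :=
    fun c hc n => by rw [← conj_pow, hc, inv_pow]
  have hodd : Odd (orderOf (π x)) := by
    rw [← Nat.not_even_iff_odd]
    rintro ⟨l, hl⟩
    set c₀ := x ^ l with hc₀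
    have hne1 : π c₀ ≠ 1 := by
      rw [hc₀, map_pow]
      refine fun h => ?_
      have h1 := Nat.le_of_dvd ?_ (orderOf_dvd_of_pow_eq_one h)
      · have := orderOf_pos (π x); omega
      · have := orderOf_pos (π x); omega
    have hc2 : π c₀ = (π c₀)⁻¹ := by
      rw [eq_inv_iff_mul_eq_one, hc₀, map_pow, ← pow_add, ← hl, pow_orderOf_eq_one]
    have hcomm : ∀ c : G, c * x * c⁻¹ = x⁻¹ → c₀ ∈ cmod c := fun c hc => by
      rw [mem_cmod_iff_quot]
      show π c * π c₀ = π c₀ * π c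
      have h1 : π (c * c₀ * c⁻¹) = π c₀ := by rw [hc₀, hconjpow c hc, map_inv, ← hc₀, ← hc2]
      rw [map_mul, map_mul, map_inv, mul_inv_eq_iff_eq_mul] at h1
      exact h1
    -- `a c₀` is conjugate to `a` or to `b`
    have hgood : Good σ D (a * c₀) := by
      rcases Nat.even_or_odd' l with ⟨i, hi | hi⟩
      · have e : a * c₀ = (x ^ i)⁻¹ * a * (x ^ i) := by
          rw [hc₀, hi, two_mul, pow_add, ← hconjpow a hflip i]
          group
        rw [e]
        have := hga.conj (x ^ i)⁻¹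
        rwa [inv_inv] at this
      · have e : a * c₀ = (x ^ i)⁻¹ * b * (x ^ i) := by
          rw [hc₀, hi, two_mul, pow_succ, pow_add, ← hconjpow a hflip i]
          have hb' : b = a * x := by rw [hx, ← mul_assoc, ha, one_mul]
          rw [hb']
          group
        rw [e]
        have := hgb.conj (x ^ i)⁻¹
        rwa [inv_inv] at this
    have hca : c₀ ∈ cmod a := hcomm a hflip
    have hcb : c₀ ∈ cmod b := hcomm b hflipb
    have hac : a * c₀ ∈ cmod a := mul_mem (mem_cmod_of_commute rfl) hca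
    rcases X.mul_good_or_central hD hH hga hgood hac with hg₃ | hcen
    · rw [← mul_assoc, ha, one_mul] at hg₃
      obtain ⟨g₃, z₃, hz₃, hzc₃, he⟩ := hg₃
      rw [he, ha_def] at hca
      rw [he, hb_def] at hcb
      have h1 := X.eq_point hD hH hz hzc hz₃ hzc₃ hca
      have h2 := X.eq_point hD hH hz' hzc' hz₃ hzc₃ hcb
      apply hne
      have := mul_mem h1 (inv_mem h2)
      rwa [show g⁻¹ * g₃ * (g'⁻¹ * g₃)⁻¹ = g⁻¹ * g' by group] at this
    · rw [← mul_assoc, ha, one_mul] at hcen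
      exact hne1 ((QuotientGroup.eq_one_iff c₀).2 hcen)
  refine ⟨hodd, ?_⟩
  obtain ⟨i, hi⟩ := hodd
  refine ⟨x ^ i, pow_mem (mem_zpowers x) i, ?_⟩
  rw [← QuotientGroup.eq_one_iff]
  show π _ = 1
  have h2 : π x ^ (2 * i + 1) = 1 := by rw [← hi, pow_orderOf_eq_one]
  have e : b⁻¹ * (x ^ i * a * (x ^ i)⁻¹) = b⁻¹ * x ^ (2 * i) * a := by
    rw [← hconjpow a hflip i, two_mul, pow_add, inv_eq_of_mul_eq_one_right ha]
    calc b⁻¹ * (x ^ i * a * (a * x ^ i * a)) = b⁻¹ * x ^ i * (a * a) * x ^ i * a := by group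
      _ = _ := by rw [ha, mul_one]; group
  have e2 : b⁻¹ * x ^ (2 * i) * a = (x * b)⁻¹ * x ^ (2 * i + 1) * a := by
    rw [pow_succ']; group
  rw [e, e2, map_mul, map_mul, map_pow, h2, mul_one, ← map_mul, hx]
  rw [mul_assoc a b b, hb, mul_one, inv_mul_cancel, map_one]

/-- The fixed part of `N(D)` is transitive on the non-central classes of `C_D(σ)`. -/
theorem exists_fixed_conj {z₁ z₂ : G} (h1 : z₁ ∈ zsub σ D) (hc1 : z₁ ∉ Subgroup.center G)
    (h2 : z₂ ∈ zsub σ D) (hc2 : z₂ ∉ Subgroup.center G) :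
    ∃ c, σ c = c ∧ c ∈ normalizer (D : Set G) ∧ c ∈ H ∧
      (z₂)⁻¹ * (c * z₁ * c⁻¹) ∈ Subgroup.center G := by
  obtain ⟨g, hg⟩ : ∃ g, g ∉ H := by
    by_contra! h
    exact hH.mem.ne_top (eq_top_iff.2 fun x _ => h x)
  have hne : ∀ {z : G}, (1 : G)⁻¹ * g ∉ H := fun {z} => by rwa [inv_one, one_mul]
  obtain ⟨-, w₁, -, hw₁⟩ :=
    X.exists_conj_of_points hD hH h1 hc1 h1 hc1 (g := 1) (g' := g) (hne (z := z₁))
  obtain ⟨-, w₂, -, hw₂⟩ :=
    X.exists_conj_of_points hD hH h2 hc2 h1 hc1 (g := 1) (g' := g) (hne (z := z₁))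
  simp only [one_mul, inv_one, mul_one] at hw₁ hw₂
  set h := w₂⁻¹ * w₁ with hh
  have hcen : z₂⁻¹ * (h * z₁ * h⁻¹) ∈ Subgroup.center G := by
    have hn : (Subgroup.center G).Normal := inferInstance
    have := hn.conj_mem _ (mul_mem (inv_mem hw₂) hw₁) w₂⁻¹
    rwa [show w₂⁻¹ * (((g * z₁ * g⁻¹)⁻¹ * (w₂ * z₂ * w₂⁻¹))⁻¹ *
      ((g * z₁ * g⁻¹)⁻¹ * (w₁ * z₁ * w₁⁻¹))) * w₂⁻¹⁻¹ = z₂⁻¹ * (h * z₁ * h⁻¹) by
      rw [hh]; group] at this
  have hgood := (good_of_mem h1 hc1).conj h
  have hn : h * z₁ * h⁻¹ ∈ normalizer (D : Set G) := by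
    rw [show h * z₁ * h⁻¹ = z₂ * (z₂⁻¹ * (h * z₁ * h⁻¹)) by group]
    exact mul_mem (le_normalizer h2.1) (Subgroup.center_le_normalizer _ hcen)
  have hzs := X.good_mem_zsub hD hH hgood hn
  have hhH : h ∈ H := hH.fusion X hD h1 hc1 hzs hgood.not_center rfl
  obtain ⟨u, hu, d, hd, c, hc, hcf, hcn, he⟩ :=
    X.exists_decomp hD hH.mem.inv hH.mem.ne_top hH.mem.le hhH
  refine ⟨c, hcf, hcn, hc, ?_⟩
  have hz' : c * z₁ * c⁻¹ ∈ zsub σ D := X.mem_normalizer_zsub hD hcf hcn h1
  have e : h * z₁ * h⁻¹ = u * (c * z₁ * c⁻¹) * u⁻¹ := by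
    rw [he]
    calc u * d * c * z₁ * (u * d * c)⁻¹ = u * (d * (c * z₁ * c⁻¹)) * d⁻¹ * u⁻¹ := by group
      _ = _ := by rw [X.zsub_comm hD hz' hd]; group
  rw [e] at hn hcen
  rwa [hH.conj_eq X hD hz' hu hn] at hcen

end Cx

end CfsgLib.HHShult
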