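import Cfsg.Agent.HHShult.BadFix

/-!
# The moved part of the centraliser of a fixed bad element

For a fixed bad element `y`: `qsub σ D y = [C_D(y), σ]`, `ysub σ D y` the elements of `C_D(σ)`
commuting with `y` modulo the centre, and `⁅qsub, D⁆`.

* `Cx.qsub_eq`: recognition of `qsub`;
* `Cx.comm_mem_qsub_sup`: `[y, D] ≤ qsub ⊔ ysub`;
* `Cx.wsub_le_ysub`, `Cx.exists_wsub_move`.
-/

set_option autoImplicit false
set_option linter.style.haveILetI false
set_option linter.unusedSectionVars false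

open Finset Module Subgroup CfsgLib.ConjFunctor
open scoped commutatorElement CfsgLib.ConjFunctor

namespace CfsgLib.HHShult

universe u v w

variable {G : Type w} [Group G] [Finite G]

/-- The moved part of `C_D(y)`. -/
def qsub (σ : MulAut G) (D : Subgroup G) (y : G) : Subgroup G :=
  moved σ (D ⊓ centralizer ({y} : Set G))

/-- The elements commuting with `y` modulo the centre. -/
def cmod (y : G) : Subgroup G where
  carrier := {g : G | ⁅y, g⁆ ∈ Subgroup.center G}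
  one_mem' := by show ⁅y, (1 : G)⁆ ∈ Subgroup.center G; rw [commutatorElement_one_right]; exact one_mem _
  mul_mem' := fun {a b} ha hb => by
    show ⁅y, a * b⁆ ∈ Subgroup.center G
    have e : ⁅y, a * b⁆ = ⁅y, a⁆ * (a * ⁅y, b⁆ * a⁻¹) := by simp only [commutatorElement_def]; group
    rw [e, Subgroup.mem_center_iff.1 hb a, mul_inv_cancel_right]
    exact mul_mem ha hb
  inv_mem' := fun {a} ha => by
    show ⁅y, a⁻¹⁆ ∈ Subgroup.center G
    have e : ⁅y, a⁻¹⁆ = a⁻¹ * ⁅y, a⁆⁻¹ * a := by simp only [commutatorElement_def]; group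
    rw [e, Subgroup.mem_center_iff.1 (inv_mem ha) a⁻¹, inv_mul_cancel_right]
    exact inv_mem ha

theorem mem_cmod {y g : G} : g ∈ cmod y ↔ ⁅y, g⁆ ∈ Subgroup.center G := Iff.rfl

theorem inv_cmod {σ : MulAut G} {y : G} (hy : σ y = y) : Inv σ (cmod y) := fun g hg => by
  rw [mem_cmod] at hg ⊢
  rw [show ⁅y, σ g⁆ = σ ⁅y, g⁆ by rw [map_commutatorElement, hy]]
  exact map_center_mem σ hg

theorem mem_cmod_of_commute {y g : G} (h : g * y = y * g) : g ∈ cmod y := by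
  rw [mem_cmod, commutatorElement_eq_one_iff_mul_comm.2 h.symm]
  exact one_mem _

/-- The elements of `C_D(σ)` commuting with `y` modulo the centre. -/
def ysub (σ : MulAut G) (D : Subgroup G) (y : G) : Subgroup G := zsub σ D ⊓ cmod y

variable {K : Type u} [Field K] [IsAlgClosed K] {V : Type v} [AddCommGroup V] [Module K V]
  [FiniteDimensional K V]
variable {p : ℕ} [hp : Fact p.Prime] {σ : MulAut G} {r : ℕ} {ψ : G →* Module.End K V}
  {s : Module.End K V}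

theorem qsub_le {σ : MulAut G} {D : Subgroup G} {y : G}
    (h : Inv σ (D ⊓ centralizer ({y} : Set G))) : qsub σ D y ≤ D ⊓ centralizer ({y} : Set G) :=
  moved_le h

namespace Cx

variable (X : Cx p σ r ψ s) {D H : Subgroup G} (hD : IsStdD σ D) (hH : Home σ D H)
include X hD hH

omit hH in
theorem inv_D_inf {y : G} (hy : σ y = y) : Inv σ (D ⊓ centralizer ({y} : Set G)) :=
  (X.inv_D hD).inf (inv_centralizer_singleton hy)

omit hH in
theorem inv_qsub {y : G} (hy : σ y = y) : Inv σ (qsub σ D y) := (X.inv_D_inf hD hy).moved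

omit hH in
theorem moved_qsub {y : G} (hy : σ y = y) : moved σ (qsub σ D y) = qsub σ D y :=
  X.act.cop.moved_moved (X.inv_D_inf hD hy)

omit hH in
theorem mem_zsub_iff {e : G} (he : e ∈ D) :
    e ∈ zsub σ D ↔ (⟨e, he⟩ : ↥D) ∈ Subgroup.center ↥D := by
  rw [(X.frame hD).center_iff (⟨e, he⟩ : ↥D)]
  exact ⟨fun h => h.2, fun h => ⟨he, h⟩⟩

omit hH in
theorem piA_mem_fixA_of_commute {y : G} (hn : y ∈ normalizer (D : Set G)) {x : ↥D}
    (hxy : (x : G) * y = y * x) : piA x ∈ fixA hn := by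
  rw [mem_fixA, nA_piA]
  congr 1
  apply Subtype.ext
  rw [nD_apply, ← hxy, mul_inv_cancel_right]

theorem exists_lift_qsub {y : G} (hb : Bad σ D y 1 y) {a : FA D} (ha : a ∈ fixA hb.norm) :
    ∃ x : ↥D, piA x = a ∧ (x : G) ∈ qsub σ D y := by
  have F := X.frame hD
  obtain ⟨m, hm, hr⟩ := X.exists_m
  set Q := F.quad hm hr
  obtain ⟨b, hb1, hb2⟩ := Q.exists_half (F.invSub_fixA hb.fix hb.norm) ha
  obtain ⟨c, hc1, hc2⟩ := Q.exists_half (F.invSub_fixA hb.fix hb.norm) hb1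
  obtain ⟨u, huA, hut, -⟩ := F.exists_lift_pair hb.fix hb.norm hc1 1 0
  rw [pow_one, pow_zero, AddMonoid.End.coe_one, id_eq, hc2] at huA
  refine ⟨u⁻¹ * F.inv.aut u, ?_, mem_moved σ (mem_inf.2 ⟨u.2, ?_⟩)⟩
  · rw [piA_mul, piA_inv, ← F.rhoA_piA, huA, Q.negA, add_comm, hb2]
  · rw [mem_centralizer_singleton_iff]
    have h : y * (u : G) * y⁻¹ = u := congrArg Subtype.val hut
    calc (u : G) * y = y * (u : G) * y⁻¹ * y := by rw [h]
      _ = y * u := by group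

/-- Fixed elements of `qsub` are central in `G`. -/
theorem fixed_qsub {y : G} (hb : Bad σ D y 1 y) {q : G} (hq : q ∈ qsub σ D y) (hqf : σ q = q) :
    q ∈ Subgroup.center G := by
  haveI : Fact (Nat.Prime 2) := ⟨Nat.prime_two⟩
  have hi := X.inv_D_inf hD hb.fix
  have M2 := X.act.moved2 X.two_ne hi ((X.isPGroup_D hD).to_le inf_le_left)
  have h1 : (⟨q, hq⟩ : ↥(qsub σ D y)) ∈ commutator ↥(qsub σ D y) := by
    show (⟨q, hq⟩ : ↥(moved σ (D ⊓ centralizer ({y} : Set G)))) ∈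
      commutator ↥(moved σ (D ⊓ centralizer ({y} : Set G)))
    rw [M2.commutator_eq_center, M2.center_eq_fixed]
    exact Subtype.ext hqf
  have hle : commutator ↥(qsub σ D y) ≤ (Subgroup.center G).comap (qsub σ D y).subtype := by
    rw [commutator_eq_closure, closure_le]
    rintro _ ⟨a, b, rfl⟩
    have hle := qsub_le hi
    let a' : ↥D := ⟨a, (hle a.2).1⟩
    let b' : ↥D := ⟨b, (hle b.2).1⟩
    have ha : piA a' ∈ fixA hb.norm :=
      X.piA_mem_fixA_of_commute hD hb.norm (mem_centralizer_singleton_iff.1 (hle a.2).2)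
    have hb' : piA b' ∈ fixA hb.norm :=
      X.piA_mem_fixA_of_commute hD hb.norm (mem_centralizer_singleton_iff.1 (hle b.2).2)
    have hab : piA (b' * a') ∈ fixA hb.norm := by
      rw [piA_mul]; exact (fixA hb.norm).add_mem hb' ha
    have e : ((b' * a' : ↥D) : G) * (b' * a' : ↥D) =
        ((b' : G) * b' * ((a' : G) * a')) * ((⁅a', b'⁆ : ↥D) : G) := by
      have h := congrArg Subtype.val ((X.frame hD).sq_mul b' a')
      simpa only [sq, Subgroup.coe_mul] using h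
    have h2 := X.sq_mem_center_of_fixA hD hH hb (b' * a') hab
    rw [e] at h2
    exact (Subgroup.mul_mem_cancel_left _ (mul_mem (X.sq_mem_center_of_fixA hD hH hb b' hb')
      (X.sq_mem_center_of_fixA hD hH hb a' ha))).1 h2
  exact hle h1

/-- The image in `D / D'` and the index of the fixed points. -/
theorem image_eq_fixA {y : G} (hb : Bad σ D y 1 y) {m : ℕ} (hm : 0 < m) (hr : r = 2 ^ m + 1)
    {Q₀ : Subgroup G} (hQ₀ : Q₀ ≤ D ⊓ centralizer ({y} : Set G))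
    (hidx : (fixedSub σ).relIndex Q₀ = 2 ^ (2 * m)) {a : FA D} (ha : a ∈ fixA hb.norm) :
    ∃ x : ↥D, piA x = a ∧ (x : G) ∈ Q₀ := by
  have F := X.frame hD
  let ι : ↥Q₀ →* ↥D := Subgroup.inclusion (hQ₀.trans inf_le_left)
  let f : Additive ↥Q₀ →+ FA D := MonoidHom.toAdditive (Abelianization.of.comp ι)
  have hf : ∀ q : ↥Q₀, f (Additive.ofMul q) = piA (ι q) := fun q => rfl
  have hker : ∀ q : ↥Q₀, f (Additive.ofMul q) = 0 ↔ σ (q : G) = q := fun q => by
    rw [hf, F.piA_eq_zero, F.center_iff]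
    rfl
  have hcard : Nat.card f.range = 2 ^ (2 * m) := by
    rw [← AddSubgroup.index_ker, ← hidx]
    show f.ker.index = ((fixedSub σ).subgroupOf Q₀).index
    rw [AddSubgroup.index, Subgroup.index]
    refine Nat.card_congr (Quotient.congr Additive.toMul fun a b => ?_)
    rw [QuotientAddGroup.leftRel_apply, QuotientGroup.leftRel_apply, AddMonoidHom.mem_ker,
      Subgroup.mem_subgroupOf, mem_fixedSub]
    exact hker ((Additive.toMul a)⁻¹ * Additive.toMul b)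
  have hle : f.range ≤ fixA hb.norm := by
    rintro _ ⟨q, rfl⟩
    exact X.piA_mem_fixA_of_commute hD hb.norm
      (mem_centralizer_singleton_iff.1 (hQ₀ (Additive.toMul q).2).2)
  have heq := AddSubgroup.eq_of_le_of_card_ge hle
    (((X.irred_fixA hD hH hb hm hr).2).le.trans hcard.ge)
  obtain ⟨q, rfl⟩ := (heq.symm ▸ ha : a ∈ f.range)
  exact ⟨ι (Additive.toMul q), rfl, (Additive.toMul q).2⟩

theorem relIndex_qsub {y : G} (hb : Bad σ D y 1 y) {m : ℕ} (hm : 0 < m) (hr : r = 2 ^ m + 1) :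
    (fixedSub σ).relIndex (qsub σ D y) = 2 ^ (2 * m) := by
  have F := X.frame hD
  have hle := qsub_le (X.inv_D_inf hD hb.fix)
  let ι : ↥(qsub σ D y) →* ↥D := Subgroup.inclusion (hle.trans inf_le_left)
  let f : Additive ↥(qsub σ D y) →+ FA D := MonoidHom.toAdditive (Abelianization.of.comp ι)
  have hf : ∀ q, f (Additive.ofMul q) = piA (ι q) := fun q => rfl
  have hrange : f.range = fixA hb.norm := by
    refine le_antisymm ?_ fun a ha => ?_
    · rintro _ ⟨q, rfl⟩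
      exact X.piA_mem_fixA_of_commute hD hb.norm
        (mem_centralizer_singleton_iff.1 (hle (Additive.toMul q).2).2)
    · obtain ⟨x, rfl, hx⟩ := X.exists_lift_qsub hD hH hb ha
      exact ⟨Additive.ofMul ⟨x, hx⟩, rfl⟩
  rw [← (X.irred_fixA hD hH hb hm hr).2, ← hrange, ← AddSubgroup.index_ker]
  show ((fixedSub σ).subgroupOf (qsub σ D y)).index = f.ker.index
  rw [AddSubgroup.index, Subgroup.index]
  refine Nat.card_congr (Quotient.congr Additive.ofMul fun a b => ?_)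
  rw [QuotientAddGroup.leftRel_apply, QuotientGroup.leftRel_apply, AddMonoidHom.mem_ker,
    Subgroup.mem_subgroupOf, mem_fixedSub]
  show _ ↔ piA (ι (a⁻¹ * b)) = 0
  rw [F.piA_eq_zero, F.center_iff]
  rfl

/-- Recognition of `qsub`. -/
theorem qsub_eq {y : G} (hb : Bad σ D y 1 y) {m : ℕ} (hm : 0 < m) (hr : r = 2 ^ m + 1)
    {Q₀ : Subgroup G} (hQi : Inv σ Q₀) (hQ₀ : Q₀ ≤ D ⊓ centralizer ({y} : Set G))
    (hmv : moved σ Q₀ = Q₀) (hidx : (fixedSub σ).relIndex Q₀ = 2 ^ (2 * m)) :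
    qsub σ D y = Q₀ := by
  have F := X.frame hD
  refine le_antisymm ((closure_le _).2 ?_) (hmv ▸ moved_mono hQ₀)
  rintro _ ⟨x, hx, rfl⟩
  obtain ⟨q, hq, hqQ⟩ := X.image_eq_fixA hD hH hb hm hr hQ₀ hidx
    (X.piA_mem_fixA_of_commute hD hb.norm (x := ⟨x, hx.1⟩) (mem_centralizer_singleton_iff.1 hx.2))
  set c : ↥D := q⁻¹ * ⟨x, hx.1⟩
  have hc : c ∈ Subgroup.center ↥D := (F.piA_eq_iff _ _).1 hq
  have hcf : σ (c : G) = c := (F.center_iff c).1 hc
  have hcx : x = (q : G) * c := by simp [c]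
  have hqf : (q : G)⁻¹ * σ (q : G) ∈ Q₀ := mul_mem (inv_mem hqQ) (hQi _ hqQ)
  have e : x⁻¹ * σ x = (q : G)⁻¹ * σ (q : G) := by
    have hcomm := congrArg Subtype.val
      (Subgroup.mem_center_iff.1 hc ((q⁻¹ : ↥D) * F.inv.aut q))
    simp only [Subgroup.coe_mul, Subgroup.coe_inv, Inv.aut_apply] at hcomm
    rw [hcx, map_mul, hcf, mul_inv_rev, show (c : G)⁻¹ * (q : G)⁻¹ * (σ (q : G) * c) =
      (c : G)⁻¹ * ((q : G)⁻¹ * σ (q : G) * c) by group, hcomm, inv_mul_cancel_left]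
  rw [SetLike.mem_coe, e]
  exact hqf

/-- `[y, D]` lies in `qsub ⊔ ysub`. -/
theorem comm_mem_qsub_sup {y : G} (hb : Bad σ D y 1 y) {x : G} (hx : x ∈ D) :
    ⁅y, x⁆ ∈ qsub σ D y ⊔ ysub σ D y := by
  have F := X.frame hD
  obtain ⟨m, hm, hr⟩ := X.exists_m
  set Q := F.quad hm hr
  have hy2 := hb.good.sq_eq X hD
  set c : ↥D := nD hb.norm ⟨x, hx⟩ * (⟨x, hx⟩ : ↥D)⁻¹ with hcdef
  have hc : (c : G) = ⁅y, x⁆ := rfl
  have hcfix : piA c ∈ fixA hb.norm := by
    rw [hcdef, piA_mul, piA_inv, ← nA_piA, Q.negA, mem_fixA, map_add, add_comm]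
    congr 1
    rw [← nA_mul_apply]
    exact F.nA_of_mem (hy2 ▸ one_mem D) _ _
  obtain ⟨q, hqA, hqQ⟩ := X.exists_lift_qsub hD hH hb hcfix
  set z : ↥D := q⁻¹ * c with hzdef
  have hz : z ∈ Subgroup.center ↥D := (F.piA_eq_iff _ _).1 hqA
  have hqy : (q : G) * y = y * q :=
    mem_centralizer_singleton_iff.1 (qsub_le (X.inv_D_inf hD hb.fix) hqQ).2
  have hqq : (q : G) * q ∈ Subgroup.center G :=
    X.sq_mem_center_of_fixA hD hH hb q (hqA ▸ hcfix)
  have hzz : (z : G) * z = 1 := congrArg Subtype.val (F.center_sq hz)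
  have hzq : (q : G) * z = z * q := congrArg Subtype.val (Subgroup.mem_center_iff.1 hz q)
  have hzG : (z : G) = (q : G)⁻¹ * ⁅y, x⁆ := rfl
  rw [show ⁅y, x⁆ = (q : G) * z by rw [hzG, mul_inv_cancel_left]]
  refine mul_mem (mem_sup_left hqQ) (mem_sup_right ⟨⟨z.2, (F.center_iff z).1 hz⟩, ?_⟩)
  show ⁅y, (z : G)⁆ ∈ Subgroup.center G
  have e : y * ((q : G) * z) * y⁻¹ = ((q : G) * z)⁻¹ := by
    have hyinv : y⁻¹ = y := inv_eq_of_mul_eq_one_right hy2
    rw [show (q : G) * z = ⁅y, x⁆ by rw [hzG, mul_inv_cancel_left], commutatorElement_def]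
    calc y * (y * x * y⁻¹ * x⁻¹) * y⁻¹ = (y * y) * x * y⁻¹ * x⁻¹ * y⁻¹ := by group
      _ = x * y * x⁻¹ * y⁻¹ := by rw [hy2, one_mul, hyinv]
      _ = _ := by group
  have hyz : y * (z : G) * y⁻¹ = (q : G)⁻¹ * ((q : G) * z)⁻¹ := by
    rw [← e]
    calc y * (z : G) * y⁻¹ = (q : G)⁻¹ * ((q : G) * y) * z * y⁻¹ := by group
      _ = (q : G)⁻¹ * (y * q) * z * y⁻¹ := by rw [hqy]
      _ = _ := by group
  rw [commutatorElement_def, hyz,
    show (q : G)⁻¹ * ((q : G) * z)⁻¹ * (z : G)⁻¹ = (q : G)⁻¹ * ((z : G) * ((q : G) * z))⁻¹ by group,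
    hzq, ← mul_assoc (z : G) (z : G), hzz, one_mul, ← mul_inv_rev]
  exact inv_mem hqq

theorem wsub_le_ysub {y : G} (hb : Bad σ D y 1 y) : ⁅qsub σ D y, D⁆ ≤ ysub σ D y := by
  have F := X.frame hD
  have hle := qsub_le (X.inv_D_inf hD hb.fix)
  rw [commutator_le]
  intro q hq x hx
  let q' : ↥D := ⟨q, (hle hq).1⟩
  let x' : ↥D := ⟨x, hx⟩
  have hcz := F.comm_mem q' x'
  refine ⟨⟨(⁅q', x'⁆ : ↥D).2, (F.center_iff _).1 hcz⟩, ?_⟩
  show ⁅y, ⁅q, x⁆⁆ ∈ Subgroup.center G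
  obtain ⟨m, hm, hr⟩ := X.exists_m
  have hy2 := hb.good.sq_eq X hD
  set c : ↥D := nD hb.norm x' * x'⁻¹
  have hnq : nD hb.norm q' = q' := by
    apply Subtype.ext
    rw [nD_apply, show y * (q' : G) = q * y from (mem_centralizer_singleton_iff.1 (hle hq).2).symm,
      mul_inv_cancel_right]
  have hcfix : piA c ∈ fixA hb.norm := by
    rw [piA_mul, piA_inv, ← nA_piA, (F.quad hm hr).negA, mem_fixA, map_add, add_comm]
    congr 1
    rw [← nA_mul_apply]
    exact F.nA_of_mem (hy2 ▸ one_mem D) _ _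
  have h1 : nD hb.norm ⁅q', x'⁆ = ⁅q', c⁆ * ⁅q', x'⁆ := by
    rw [map_commutatorElement, hnq, ← F.comm_mul]
    congr 1
    simp [c]
  have h2 : ⁅y, ⁅q, x⁆⁆ = ((⁅q', c⁆ : ↥D) : G) := by
    rw [commutatorElement_def (g₁ := y)]
    show y * ((⁅q', x'⁆ : ↥D) : G) * y⁻¹ * ((⁅q', x'⁆ : ↥D) : G)⁻¹ = _
    rw [← nD_apply hb.norm, h1, Subgroup.coe_mul, mul_inv_cancel_right]
  rw [h2]
  obtain ⟨w, hwA, hwQ⟩ := X.exists_lift_qsub hD hH hb hcfix
  have hqw : ((⁅q', w⁆ : ↥D) : G) ∈ Subgroup.center G := by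
    refine X.fixed_qsub hD hH hb ?_ ((F.center_iff _).1 (F.comm_mem q' w))
    show q * (w : G) * q⁻¹ * (w : G)⁻¹ ∈ qsub σ D y
    exact mul_mem (mul_mem (mul_mem hq hwQ) (inv_mem hq)) (inv_mem hwQ)
  have e : ⁅q', c⁆ = ⁅q', w⁆ := by
    have hzc : w⁻¹ * c ∈ Subgroup.center ↥D := (F.piA_eq_iff _ _).1 hwA
    conv_lhs => rw [show c = w * (w⁻¹ * c) by group]
    rw [F.comm_mul, commutatorElement_eq_one_iff_mul_comm.2 (Subgroup.mem_center_iff.1 hzc q'),
      mul_one]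
  rw [e]
  exact hqw

/-- The form on the fixed space is not degenerate. -/
theorem fixA_nondeg {y d t : G} (hb : Bad σ D y d t) {e : FA D} (he : e ∈ fixA hb.norm)
    (hne : e ≠ 0) : ∃ b ∈ fixA hb.norm, bz (sqA D) b e ≠ 0 := by
  classical
  have F := X.frame hD
  haveI := X.nontrivial
  obtain ⟨m, hm, hr⟩ := X.exists_m
  set Q := F.quad hm hr
  obtain ⟨hirr, -⟩ := X.irred_fixA hD hH hb hm hr
  obtain ⟨z₁, hz, hz1⟩ := X.exists_minus_one hD hH hb
  by_contra! hall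
  let E₀ : AddSubgroup (FA D) :=
    { carrier := {a | a ∈ fixA hb.norm ∧ ∀ b ∈ fixA hb.norm, bz (sqA D) b a = 0}
      zero_mem' := ⟨(fixA hb.norm).zero_mem, fun b _ => by rw [Quad.bz_comm, Q.bz_zero]⟩
      add_mem' := fun {a b} ha hb' => ⟨(fixA hb.norm).add_mem ha.1 hb'.1, fun c hc => by
        rw [Q.add_right, ha.2 c hc, hb'.2 c hc, add_zero]⟩
      neg_mem' := fun {a} ha => by rw [Q.negA]; exact ha }
  have hinv : Quad.InvSub F.rhoA E₀ := fun a ha => ⟨hirr.inv a ha.1, fun b hb' => by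
    obtain ⟨b', hb'', rfl⟩ : ∃ b' ∈ fixA hb.norm, F.rhoA b' = b := by
      refine ⟨(F.rhoA ^ (r - 1)) b, Quad.invSub_pow hirr.inv hb' _, ?_⟩
      show (F.rhoA * F.rhoA ^ (r - 1)) b = b
      rw [← pow_succ', Nat.sub_add_cancel Q.prime.pos, Q.pow_eq]
      rfl
    have := Q.bz_pow 1 b' a
    rw [pow_one] at this
    rw [this]
    exact ha.2 b' hb''⟩
  have hEN : E₀ = fixA hb.norm := (hirr.min E₀ hinv fun a ha => ha.1).resolve_left fun h => hne (by
    have h1 : e ∈ E₀ := ⟨he, hall⟩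
    rwa [h, AddSubgroup.mem_bot] at h1)
  have hzero : ∀ a ∈ fixA hb.norm, ∀ b ∈ fixA hb.norm, bz (sqA D) a b = 0 := fun a ha b hb' =>
    ((hEN.symm ▸ hb' : b ∈ E₀)).2 a ha
  obtain ⟨lam, hocc⟩ : ∃ lam : FZ D →+ ZMod 2, fE ψ lam ≠ ⊥ := by
    by_contra! hall'
    have := F.finrank_top_eq_sum
    rw [Finset.sum_eq_zero fun χ _ => by rw [hall' χ, finrank_bot]] at this
    exact Module.finrank_pos.ne' this
  have hg := F.good hm hr hocc (X.odd_of_occurs hD hH hb hocc hz hz1).2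
  rcases hg.le_rad_or hirr.inv with hle | htop
  · have h := X.fixA_inf_rad hD hH hb hm hr hocc
    rw [inf_eq_left.2 hle] at h
    exact hirr.ne_bot h
  · letI := Fintype.ofFinite (FA D ⧸ Q.rad lam)
    obtain ⟨q, hq⟩ := hg.line.exists_nonsingular
    obtain ⟨c, hc, rfl⟩ : q ∈ (fixA hb.norm).map (QuotientAddGroup.mk' (Q.rad lam)) :=
      htop ▸ AddSubgroup.mem_top q
    rw [QuotientAddGroup.mk'_apply, Quad.radForm_mk hg,
      Q.form_eq_zero_of_bz hirr.inv lam (fun u hu v hv => by rw [hzero u hu v hv, map_zero]) c hc] at hq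
    exact zero_ne_one hq

/-- Some element of `⁅qsub, D⁆` is moved by `y`, to a central multiple. -/
theorem exists_wsub_move {y : G} (hb : Bad σ D y 1 y) :
    ∃ w ∈ ⁅qsub σ D y, D⁆, ⁅y, w⁆ ≠ 1 ∧ ⁅y, w⁆ ∈ ⁅qsub σ D y, D⁆ := by
  have F := X.frame hD
  obtain ⟨m, hm, hr⟩ := X.exists_m
  obtain ⟨a, ha⟩ := X.exists_moved_fixA hD hH hb
  obtain ⟨x, rfl⟩ := piA_surjective a
  have hy2 := hb.good.sq_eq X hD
  set c : ↥D := nD hb.norm x * x⁻¹
  have hcA : piA c = nA hb.norm (piA x) + piA x := by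
    rw [piA_mul, piA_inv, ← nA_piA, (F.quad hm hr).negA]
  have hcfix : piA c ∈ fixA hb.norm := by
    rw [hcA, mem_fixA, map_add, add_comm]
    congr 1
    rw [← nA_mul_apply]
    exact F.nA_of_mem (hy2 ▸ one_mem D) _ _
  obtain ⟨b, hbfix, hbne⟩ := X.fixA_nondeg hD hH hb hcfix (fun h => ha (by
    rw [hcA] at h
    rw [add_eq_zero_iff_eq_neg.1 h, (F.quad hm hr).negA]))
  obtain ⟨q, rfl, hq⟩ := X.exists_lift_qsub hD hH hb hbfix
  refine ⟨⁅(q : G), (x : G)⁆, commutator_mem_commutator hq x.2, ?_⟩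
  have hnq : nD hb.norm q = q := by
    apply Subtype.ext
    rw [nD_apply, show y * (q : G) = q * y from
      (mem_centralizer_singleton_iff.1 (qsub_le (X.inv_D_inf hD hb.fix) hq).2).symm,
      mul_inv_cancel_right]
  have h1 : nD hb.norm ⁅q, x⁆ = ⁅q, c⁆ * ⁅q, x⁆ := by
    rw [map_commutatorElement, hnq, ← F.comm_mul]
    congr 1
    simp [c]
  have h2 : ⁅y, ⁅(q : G), (x : G)⁆⁆ = ((⁅q, c⁆ : ↥D) : G) := by
    rw [commutatorElement_def (g₁ := y)]
    show y * ((⁅q, x⁆ : ↥D) : G) * y⁻¹ * ((⁅q, x⁆ : ↥D) : G)⁻¹ = _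
    rw [← nD_apply hb.norm, h1, Subgroup.coe_mul, mul_inv_cancel_right]
  rw [h2]
  refine ⟨fun h => hbne ?_, commutator_mem_commutator hq c.2⟩
  have hqc : q * c = c * q := commutatorElement_eq_one_iff_mul_comm.1 (Subtype.ext h)
  rw [F.bz_piA, commutatorElement_eq_one_iff_mul_comm.2 hqc.symm, toFZ_of_mem (one_mem _)]
  rfl

end Cx

end CfsgLib.HHShult
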