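import Cfsg.Agent.HHShult.Setup
import Cfsg.Agent.HHShult.Free
import Cfsg.Agent.HHShult.ClassTwo

/-!
# Proper invariant normal subgroups are central

`Cx.le_center_of_normal`.  The case to exclude is `[E,σ] ≠ 1` for `E = O_2(G)`: then `G = E P` and
the fixed points of `σ` on the non-trivial part of `E / Z(E)` under `P` form a line.
-/

set_option autoImplicit false
set_option linter.style.haveILetI false
set_option linter.unusedSectionVars false

open Finset Module Subgroup CfsgLib.ConjFunctor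
open scoped commutatorElement CfsgLib.ConjFunctor

namespace CfsgLib.HHShult

universe u v w

variable {K : Type u} [Field K] [IsAlgClosed K] {V : Type v} [AddCommGroup V] [Module K V]
  [FiniteDimensional K V] {G : Type w} [Group G] [Finite G]
variable {p : ℕ} [hp : Fact p.Prime] {σ : MulAut G} {r : ℕ} {ψ : G →* Module.End K V}
  {s : Module.End K V}

theorem inv_pCore (p : ℕ) (σ : MulAut G) : Inv σ (Cfsg.pCore p G) := fun x hx => by
  rw [← CfsgLib.PLocal.map_pCore_equiv (p := p) σ]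
  exact ⟨x, hx, rfl⟩

theorem normal_pCore (p : ℕ) : (Cfsg.pCore p G).Normal := by
  have hchar : ∀ g : G, (Cfsg.pCore p G).map (MulAut.conj g).toMonoidHom = Cfsg.pCore p G :=
    fun g => CfsgLib.PLocal.map_pCore_equiv (p := p) (MulAut.conj g)
  exact ⟨fun x hx g => by rw [← hchar g]; exact ⟨x, hx, rfl⟩⟩

theorem isSubnormal_of_le_normalizer {A N : Subgroup G} (hA : A ≤ N) (hN : N.Normal)
    (hn : N ≤ normalizer (A : Set G)) : A.IsSubnormal := by
  have h1 : (A.subgroupOf N).Normal := (normal_subgroupOf_iff_le_normalizer hA).2 hn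
  exact Subgroup.IsSubnormal.step A N hA hN.isSubnormal h1

namespace Cx

variable (X : Cx p σ r ψ s)
include X

theorem pCore_eq_bot : Cfsg.pCore p G = ⊥ :=
  X.eq_bot_of_normal (normal_pCore p) (inv_pCore p σ) (CfsgLib.PLocal.isPGroup_pCore p G)

/-- Normal subgroups of fixed elements are central. -/
theorem le_center_of_fixed {N : Subgroup G} (hN : N.Normal) (hf : N ≤ fixedSub σ) :
    N ≤ Subgroup.center G := by
  intro n hn
  have hle : moved σ (⊤ : Subgroup G) ≤ centralizer ({n} : Set G) := by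
    rw [moved, closure_le]
    rintro _ ⟨g, -, rfl⟩
    rw [SetLike.mem_coe, mem_centralizer_singleton_iff]
    have h1 : σ (g * n * g⁻¹) = g * n * g⁻¹ := hf (hN.conj_mem n hn g)
    rw [map_mul, map_mul, map_inv, mem_fixedSub.1 (hf hn)] at h1
    calc g⁻¹ * σ g * n = g⁻¹ * (σ g * n * (σ g)⁻¹) * σ g := by group
      _ = g⁻¹ * (g * n * g⁻¹) * σ g := by rw [h1]
      _ = n * (g⁻¹ * σ g) := by group
  rw [X.top_eq] at hle
  rw [Subgroup.mem_center_iff]
  intro g
  exact mem_centralizer_singleton_iff.1 (hle (mem_top g))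

/-- A fixed central element acts as a scalar. -/
theorem exists_scalar_central {z : G} (hz : z ∈ Subgroup.center G) (hzf : σ z = z) :
    ∃ c : K, ψ z = c • 1 := by
  haveI := X.nontrivial
  obtain ⟨c, hc⟩ := Module.End.exists_eigenvalue (ψ z)
  refine ⟨c, ?_⟩
  rcases X.irr ((ψ z).eigenspace c) (fun g v hv => by
      rw [Module.End.mem_eigenspace_iff] at hv ⊢
      rw [← Module.End.mul_apply, ← map_mul, ← Subgroup.mem_center_iff.1 hz g, map_mul,
        Module.End.mul_apply, hv, map_smul])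
    (fun v hv => by
      rw [Module.End.mem_eigenspace_iff] at hv ⊢
      have h1 := X.act.compat z
      rw [hzf] at h1
      rw [← Module.End.mul_apply, ← h1, Module.End.mul_apply, hv, map_smul]) with h | h
  · exact absurd h hc
  · refine LinearMap.ext fun v => ?_
    have hv : v ∈ (ψ z).eigenspace c := h ▸ Submodule.mem_top
    rw [Module.End.mem_eigenspace_iff] at hv
    rw [hv]
    rfl

theorem E_ne_top : Cfsg.pCore 2 G ≠ ⊤ := fun h =>
  X.not_two ((CfsgLib.PLocal.isPGroup_pCore 2 G).of_equiv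
    ((MulEquiv.subgroupCongr h).trans Subgroup.topEquiv))

/-- `[N, σ] ≤ O_2(G)` for proper invariant normal subgroups. -/
theorem moved_le_pCore_two {N : Subgroup G} (hN : N.Normal) (hNi : Inv σ N) (hne : N ≠ ⊤) :
    moved σ N ≤ Cfsg.pCore 2 G := by
  haveI : Fact (Nat.Prime 2) := ⟨Nat.prime_two⟩
  have hU : ucore p σ N = ⊥ := by
    have hsub : (ucore p σ N).IsSubnormal :=
      isSubnormal_of_le_normalizer (X.ucore_le hNi) hN X.le_normalizer_ucore
    have := CfsgLib.PLocal.le_pCore_of_isSubnormal hsub (X.isPGroup_ucore hNi hne)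
    rwa [X.pCore_eq_bot, le_bot_iff] at this
  have h2 : IsPGroup 2 ↥(moved σ N) := fun x => by
    obtain ⟨k, hk⟩ := (X.exists_ucore hNi hne).2 x x.2
    rw [hU, mem_bot] at hk
    exact ⟨k, Subtype.ext hk⟩
  exact CfsgLib.PLocal.le_pCore_of_isSubnormal
    (isSubnormal_of_le_normalizer (moved_le hNi) hN le_normalizer_moved) h2

theorem exists_sylow_p : ∃ P : Subgroup G, Inv σ P ∧ IsSylowIn p P ⊤ ∧ moved σ P ≠ ⊥ := by
  obtain ⟨P, -, hP, hPs⟩ := X.act.cop.exists_sylow (p := p) inv_top bot_le IsPGroup.of_bot inv_bot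
  refine ⟨P, hP, hPs, fun h => X.not_two ?_⟩
  haveI : Fact (Nat.Prime 2) := ⟨Nat.prime_two⟩
  refine X.top_le_of_others_fixed (ℓ := 2) fun q hq hne T hT hTp => ?_
  haveI := Fact.mk hq
  by_cases hqp : q = p
  · subst hqp
    obtain ⟨c, -, hcf, hle⟩ := X.act.cop.exists_cj_fixed_le inv_top le_top hTp hT hP hPs
    intro x hx
    have h1 := moved_eq_bot_iff.1 h (hle (conj_mem_cj c hx))
    rw [mem_fixedSub, map_mul, map_mul, map_inv, hcf] at h1
    exact mem_fixedSub.2 (mul_left_cancel (mul_right_cancel h1))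
  · exact X.fixed_of_prime hne hqp hT hTp

section core

variable (hne : moved σ (Cfsg.pCore 2 G) ≠ ⊥)
include hne

theorem centralizer_E_ne_top :
    centralizer ((Cfsg.pCore 2 G : Subgroup G) : Set G) ≠ ⊤ := by
  intro h
  have hZ : Cfsg.pCore 2 G ≤ Subgroup.center G := by
    intro e he
    rw [Subgroup.mem_center_iff]
    intro g
    exact (mem_centralizer_iff.1 (h ▸ mem_top g : g ∈ centralizer _) e he).symm
  apply hne
  rw [moved_eq_bot_iff]
  refine X.act.fixed_of_abelian (inv_pCore 2 σ)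
    (fun a _ b hb => Subgroup.mem_center_iff.1 (hZ hb) a) ?_
  obtain ⟨n, hn⟩ := IsPGroup.iff_card.1 (CfsgLib.PLocal.isPGroup_pCore (G := G) 2)
  rw [hn]
  push_cast
  exact pow_ne_zero _ X.two_ne

/-- An invariant `p`-subgroup centralising `O_2(G)` is fixed. -/
theorem fixed_of_le_centralizer {P0 : Subgroup G} (hP0 : Inv σ P0) (hP0p : IsPGroup p P0)
    (hc : P0 ≤ centralizer ((Cfsg.pCore 2 G : Subgroup G) : Set G)) : P0 ≤ fixedSub σ := by
  haveI : Fact (Nat.Prime 2) := ⟨Nat.prime_two⟩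
  haveI := normal_pCore (G := G) 2
  have hle := (moved_mono (σ := σ) hc).trans
    (X.moved_le_pCore_two (by infer_instance) (inv_pCore 2 σ).centralizer (X.centralizer_E_ne_top hne))
  rw [← moved_eq_bot_iff, eq_bot_iff,
    ← inf_eq_bot_of_isPGroup X.p_ne_two hP0p (CfsgLib.PLocal.isPGroup_pCore (G := G) 2)]
  exact le_inf (moved_le hP0) hle

/-- An invariant `p`-subgroup generating a proper subgroup with `O_2(G)` is fixed. -/
theorem fixed_of_sup_ne_top {P0 : Subgroup G} (hP0 : Inv σ P0) (hP0p : IsPGroup p P0)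
    (hsup : Cfsg.pCore 2 G ⊔ P0 ≠ ⊤) : P0 ≤ fixedSub σ := by
  haveI : Fact (Nat.Prime 2) := ⟨Nat.prime_two⟩
  haveI hEn := normal_pCore (G := G) 2
  set E := Cfsg.pCore 2 G with hE
  have hKi : Inv σ (E ⊔ P0) := (inv_pCore 2 σ).sup hP0
  set U := ucore p σ (E ⊔ P0) with hU
  have hUp : IsPGroup p U := X.isPGroup_ucore hKi hsup
  have hmU : moved σ P0 ≤ U := le_pPart (moved_mono le_sup_right) (hP0p.to_le (moved_le hP0))
  -- `U` centralises `E`
  have hUc : U ≤ centralizer (E : Set G) := by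
    intro u hu
    rw [mem_centralizer_iff]
    intro e he
    rw [← commutatorElement_eq_one_iff_mul_comm, ← mem_bot,
      ← inf_eq_bot_of_isPGroup X.p_ne_two hUp (CfsgLib.PLocal.isPGroup_pCore (G := G) 2)]
    refine ⟨?_, ?_⟩
    · have h1 : e * u * e⁻¹ ∈ U :=
        (mem_normalizer_iff.1 (X.le_normalizer_ucore (mem_sup_left he)) u).1 hu
      exact U.mul_mem h1 (U.inv_mem hu)
    · have h1 : u * e⁻¹ * u⁻¹ ∈ E := hEn.conj_mem _ (E.inv_mem he) u
      rw [commutatorElement_def, show e * u * e⁻¹ * u⁻¹ = e * (u * e⁻¹ * u⁻¹) by group]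
      exact E.mul_mem he h1
  have hbot : moved σ P0 ≤ fixedSub σ :=
    X.fixed_of_le_centralizer hne hP0.moved (hP0p.to_le (moved_le hP0)) (hmU.trans hUc)
  rw [← moved_eq_bot_iff, ← X.act.cop.moved_moved hP0, moved_eq_bot_iff]
  exact hbot

set_option maxHeartbeats 2000000 in
theorem false_of_moved_pCore : False := by
  classical
  haveI : Fact (Nat.Prime 2) := ⟨Nat.prime_two⟩
  haveI hEn := normal_pCore (G := G) 2
  set E := Cfsg.pCore 2 G with hE
  have hEi : Inv σ E := inv_pCore 2 σ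
  have hE2 : IsPGroup 2 ↥E := CfsgLib.PLocal.isPGroup_pCore 2 G
  obtain ⟨P, hP, hPs, hP1⟩ := X.exists_sylow_p
  have hPp : IsPGroup p P := hPs.2.1
  have hEP : E ⊔ P = ⊤ := by
    by_contra h
    exact hP1 (moved_eq_bot_iff.2 (X.fixed_of_sup_ne_top hne hP hPp h))
  have hEPinf : E ⊓ P = ⊥ := inf_eq_bot_of_isPGroup X.p_ne_two.symm hE2 hPp
  have hmulEP : ∀ g : G, ∃ e ∈ E, ∃ x ∈ P, g = e * x := fun g => by
    obtain ⟨e, he, x, hx, rfl⟩ := mem_sup_of_normal_left.1 (hEP ▸ mem_top g : g ∈ E ⊔ P)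
    exact ⟨e, he, x, hx, rfl⟩
  -- proper invariant subgroups of `P` are fixed
  have hsmall : ∀ P0 : Subgroup G, Inv σ P0 → P0 ≤ P → P0 ≠ P → P0 ≤ fixedSub σ := by
    intro P0 hP0 hle hne0
    refine X.fixed_of_sup_ne_top hne hP0 (hPp.to_le hle) fun htop => hne0 ?_
    refine le_antisymm hle fun x hx => ?_
    obtain ⟨e, he, y, hy, rfl⟩ := mem_sup_of_normal_left.1 (htop ▸ mem_top x : x ∈ E ⊔ P0)
    have h1 : e ∈ E ⊓ P := ⟨he, by
      have := P.mul_mem hx (P.inv_mem (hle hy)); rwa [mul_inv_cancel_right] at this⟩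
    rw [hEPinf, mem_bot] at h1
    rw [h1, one_mul]
    exact hy
  have hPmv : moved σ P = P := by
    by_contra h
    have := hsmall _ hP.moved (moved_le hP) h
    rw [← moved_eq_bot_iff, X.act.cop.moved_moved hP] at this
    exact hP1 this
  -- an element of `P` acting like its image under `σ` is harmless
  have hPgen : ∀ H : Subgroup G, (∀ x ∈ P, x⁻¹ * σ x ∈ H) → P ≤ H := by
    intro H hH
    rw [← hPmv, moved, closure_le]
    rintro _ ⟨x, hx, rfl⟩
    exact hH x hx
  have hPnc : ¬ P ≤ centralizer (E : Set G) := fun h =>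
    hP1 (moved_eq_bot_iff.2 (X.fixed_of_le_centralizer hne hP hPp h))
  -- the structure of `E`
  have hchar : ∀ A : Subgroup ↥E, A.Characteristic →
      (∀ a ∈ A, ∀ b ∈ A, a * b = b * a) → ∀ a ∈ A, (a : G) ∈ Subgroup.center G := by
    intro A hA hab
    haveI := hA
    have hAn : (A.map E.subtype).Normal := CfsgLib.PLocal.normal_map_subtype E A
    have hAi : Inv σ (A.map E.subtype) := by
      rintro _ ⟨a, ha, rfl⟩
      exact ⟨hEi.aut a, characteristic_iff_map_le.1 hA hEi.aut ⟨a, ha, rfl⟩, rfl⟩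
    have hfix : A.map E.subtype ≤ fixedSub σ := by
      refine X.act.fixed_of_abelian hAi ?_ ?_
      · rintro _ ⟨a, ha, rfl⟩ _ ⟨b, hb, rfl⟩
        exact congrArg Subtype.val (hab a ha b hb)
      · obtain ⟨n, hn⟩ := IsPGroup.iff_card.1 ((hE2.to_subgroup A).map E.subtype)
        rw [hn]
        push_cast
        exact pow_ne_zero _ X.two_ne
    intro a ha
    exact X.le_center_of_fixed hAn hfix ⟨a, ha, rfl⟩
  have hc : ∀ A : Subgroup ↥E, A.Characteristic →
      (∀ a ∈ A, ∀ b ∈ A, a * b = b * a) → A ≤ Subgroup.center ↥E := fun A hA hab a ha =>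
    Subgroup.mem_center_iff.2 fun g =>
      Subtype.ext (Subgroup.mem_center_iff.1 (hchar A hA hab a ha) (g : G))
  have hclass := commutator_le_center_of_char hE2 hc
  have hsq := sq_mem_center_of_char hE2 hc
  have hZc : ∀ z ∈ Subgroup.center ↥E, (z : G) ∈ Subgroup.center G :=
    hchar _ inferInstance fun a _ b hb => Subgroup.mem_center_iff.1 hb a
  have hZf : ∀ z ∈ Subgroup.center ↥E, σ (z : G) = z := fun z hz => by
    have := X.act.fixed_of_abelian (A := (Subgroup.center ↥E).map E.subtype)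
      (by rintro _ ⟨a, ha, rfl⟩; exact ⟨hEi.aut a, map_center_mem' hEi.aut ha, rfl⟩)
      (by rintro _ ⟨a, ha, rfl⟩ _ ⟨b, hb, rfl⟩
          exact congrArg Subtype.val (Subgroup.mem_center_iff.1 hb a))
      (by
        obtain ⟨n, hn⟩ := IsPGroup.iff_card.1 ((hE2.to_subgroup (Subgroup.center ↥E)).map E.subtype)
        rw [hn]; push_cast; exact pow_ne_zero _ X.two_ne)
    exact this ⟨z, hz, rfl⟩
  have hcen : ∀ x y : ↥E, ⁅x, y⁆ ∈ Subgroup.center ↥E := fun x y =>
    hclass (commutator_mem_commutator (Subgroup.mem_top x) (Subgroup.mem_top y))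
  have hmul : ∀ a b y : ↥E, ⁅a * b, y⁆ = ⁅a, y⁆ * ⁅b, y⁆ := by
    intro a b y
    have h1 := Subgroup.mem_center_iff.1 (hcen b y) a
    calc ⁅a * b, y⁆ = a * ⁅b, y⁆ * y * a⁻¹ * y⁻¹ := by simp only [commutatorElement_def]; group
      _ = ⁅b, y⁆ * ⁅a, y⁆ := by rw [h1]; simp only [commutatorElement_def]; group
      _ = ⁅a, y⁆ * ⁅b, y⁆ := (Subgroup.mem_center_iff.1 (hcen b y) _).symm
  have hcomm1 : ∀ (z : ↥E), z ∈ Subgroup.center ↥E → ∀ y : ↥E, ⁅z, y⁆ = 1 := fun z hz y =>
    commutatorElement_eq_one_iff_mul_comm.2 (Subgroup.mem_center_iff.1 hz y).symm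
  -- commutators are signs
  have hsign : ∀ x y : ↥E, ψ ((⁅x, y⁆ : ↥E) : G) = 1 ∨ ψ ((⁅x, y⁆ : ↥E) : G) = -1 := by
    intro x y
    obtain ⟨c, hc'⟩ := X.exists_scalar_central (hZc _ (hcen x y)) (hZf _ (hcen x y))
    have h2 : ⁅x, y⁆ * ⁅x, y⁆ = 1 := by
      rw [← hmul, ← sq]; exact hcomm1 _ (hsq x) y
    have h3 : ψ ((⁅x, y⁆ : ↥E) : G) * ψ ((⁅x, y⁆ : ↥E) : G) = 1 := by
      rw [← map_mul, ← Subgroup.coe_mul, h2, Subgroup.coe_one, map_one]
    rw [hc', smul_mul_smul_comm, one_mul] at h3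
    haveI := X.nontrivial
    obtain ⟨v, hv⟩ := exists_ne (0 : V)
    have h4 : c * c = 1 := smul_left_injective K hv (by
      have := LinearMap.congr_fun h3 v
      simpa using this)
    rcases mul_self_eq_one_iff.1 h4 with h5 | h5
    · left; rw [hc', h5, one_smul]
    · right; rw [hc', h5, neg_smul, one_smul]
  have huniq : ∀ x y x' y' : ↥E, ⁅x, y⁆ ≠ 1 → ⁅x', y'⁆ ≠ 1 → ⁅x, y⁆ = ⁅x', y'⁆ := by
    intro x y x' y' h h'
    refine Subtype.ext (X.act.inj ?_)
    have e : ∀ a b : ↥E, ⁅a, b⁆ ≠ 1 → ψ ((⁅a, b⁆ : ↥E) : G) = -1 := fun a b hab =>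
      (hsign a b).resolve_left fun h1 => hab (Subtype.ext (X.act.inj (by
        rw [h1, Subgroup.coe_one, map_one])))
    rw [e x y h, e x' y' h']
  let β : ↥E → ↥E → ZMod 2 := fun x y => if ⁅x, y⁆ = 1 then 0 else 1
  have hβadd : ∀ a b y, β (a * b) y = β a y + β b y := by
    intro a b y
    by_cases ha : ⁅a, y⁆ = 1 <;> by_cases hb : ⁅b, y⁆ = 1
    · simp [β, hmul, ha, hb]
    · simp [β, hmul, ha, hb]
    · simp [β, hmul, ha, hb]
    · have h2 : ⁅a, y⁆ * ⁅b, y⁆ = 1 := by
        rw [huniq a y b y ha hb, ← hmul, ← sq]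
        exact hcomm1 _ (hsq b) y
      simp only [β, hmul, h2, if_pos, ha, hb, if_false]
      exact (zmod2_add_self 1).symm
  have hβsymm : ∀ a b, β a b = β b a := fun a b => by
    simp only [β, ← commutatorElement_inv b a, inv_eq_one]
  have hβone : ∀ y, β 1 y = 0 := fun y => by simp [β]
  have hβself : ∀ y, β y y = 0 := fun y => by simp [β]
  have hβmap : ∀ (τ : ↥E ≃* ↥E) a b, β (τ a) (τ b) = β a b := fun τ a b => by
    simp only [β, ← map_commutatorElement, map_eq_one_iff τ τ.injective]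
  -- the space `E / Z(E)`, as functions
  let Bf : ↥E → (↥E → ZMod 2) := fun x y => β x y
  let U : Submodule (ZMod 2) (↥E → ZMod 2) :=
    { carrier := Set.range Bf
      add_mem' := by
        rintro _ _ ⟨a, rfl⟩ ⟨b, rfl⟩
        exact ⟨a * b, funext fun y => hβadd a b y⟩
      zero_mem' := ⟨1, funext hβone⟩
      smul_mem' := by
        rintro c _ ⟨a, rfl⟩
        rcases zmod2_cases c with rfl | rfl
        · rw [zero_smul]; exact ⟨1, funext hβone⟩
        · rw [one_smul]; exact ⟨a, rfl⟩ }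
  have hBmem : ∀ x, Bf x ∈ U := fun x => ⟨x, rfl⟩
  let Lfun : (↥E ≃* ↥E) → Module.End (ZMod 2) (↥E → ZMod 2) :=
    fun τ => LinearMap.funLeft (ZMod 2) (ZMod 2) τ.symm
  have hLB : ∀ (τ : ↥E ≃* ↥E) x, Lfun τ (Bf x) = Bf (τ x) := fun τ x => funext fun y => by
    show β x (τ.symm y) = β (τ x) y
    rw [← hβmap τ, τ.apply_symm_apply]
  have hLU : ∀ (τ : ↥E ≃* ↥E), ∀ f ∈ U, Lfun τ f ∈ U := by
    rintro τ _ ⟨x, rfl⟩; rw [hLB]; exact hBmem _
  let LU : (↥E ≃* ↥E) → Module.End (ZMod 2) U := fun τ => (Lfun τ).restrict (hLU τ)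
  have hLUB : ∀ τ x, LU τ ⟨Bf x, hBmem x⟩ = ⟨Bf (τ x), hBmem _⟩ := fun τ x =>
    Subtype.ext (hLB τ x)
  have hUext : ∀ {f g : Module.End (ZMod 2) U},
      (∀ x, f ⟨Bf x, hBmem x⟩ = g ⟨Bf x, hBmem x⟩) → f = g := by
    intro f g h
    refine LinearMap.ext fun u => ?_
    obtain ⟨u, x, rfl⟩ := u
    exact h x
  let cj : G →* MulAut ↥E := MulAut.conjNormal
  let Φ : G →* Module.End (ZMod 2) U :=
    { toFun := fun g => LU (cj g)
      map_one' := hUext fun x => by rw [hLUB, map_one]; rfl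
      map_mul' := fun g h => hUext fun x => by
        rw [Module.End.mul_apply, hLUB, hLUB, hLUB, map_mul]; rfl }
  let S0 : Module.End (ZMod 2) U := LU hEi.aut
  have hΦB : ∀ g x, Φ g ⟨Bf x, hBmem x⟩ = ⟨Bf (cj g x), hBmem _⟩ := fun g x => hLUB _ x
  have hcompat : ∀ g, S0 * Φ g = Φ (σ g) * S0 := fun g => hUext fun x => by
    rw [Module.End.mul_apply, Module.End.mul_apply, hΦB, hLUB, hLUB, hΦB]
    congr 2
    apply Subtype.ext
    show σ (g * (x : G) * g⁻¹) = σ g * σ (x : G) * (σ g)⁻¹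
    rw [map_mul, map_mul, map_inv]
  have hS0pow : ∀ n x, (S0 ^ n) ⟨Bf x, hBmem x⟩ = ⟨Bf ((hEi.aut ^ n) x), hBmem _⟩ := by
    intro n
    induction n with
    | zero => intro x; rfl
    | succ n ih => intro x; rw [pow_succ', Module.End.mul_apply, ih, hLUB, pow_succ']; rfl
  have hS0r : S0 ^ r = 1 := hUext fun x => by
    rw [hS0pow, (X.act.cop.restrict hEi).pow_eq]; rfl
  -- `F = [E, σ]`
  set F := moved σ E with hFdef
  have hFE : F ≤ E := moved_le hEi
  have FF : Frame σ r ψ s F :=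
    { act := X.act
      two_ne := X.two_ne
      inv := hEi.moved
      isPGroup := hE2.to_le hFE
      moved_eq := X.act.cop.moved_moved hEi }
  obtain ⟨m, hm, hr⟩ := X.exists_m
  -- fixed elements of `E` are orthogonal to `F`
  have horth : ∀ e x : ↥E, σ (e : G) = e → (x : G) ∈ F → β e x = 0 := by
    intro e x hef hxF
    let f : ↥F →* Multiplicative (ZMod 2) :=
      { toFun := fun y => Multiplicative.ofAdd (β e ⟨y, hFE y.2⟩)
        map_one' := by
          refine congrArg Multiplicative.ofAdd ?_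
          rw [hβsymm]; exact hβone e
        map_mul' := fun a b => by
          refine congrArg Multiplicative.ofAdd ?_
          rw [hβsymm, hβsymm e ⟨a, _⟩, hβsymm e ⟨b, _⟩]
          exact hβadd ⟨a, hFE a.2⟩ ⟨b, hFE b.2⟩ e }
    have hinv : ∀ y, f (FF.inv.aut y) = f y := fun y => by
      refine congrArg Multiplicative.ofAdd ?_
      show β e ⟨σ (y : G), _⟩ = β e ⟨(y : G), _⟩
      conv_rhs => rw [← hβmap hEi.aut]
      congr 1
      exact Subtype.ext hef.symm
    exact congrArg Multiplicative.toAdd (FF.m2.hom_eq_one f hinv ⟨x, hxF⟩)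
  have hBzero : ∀ x : ↥E, Bf x = 0 → x ∈ Subgroup.center ↥E := fun x hx =>
    Subgroup.mem_center_iff.2 fun y => by
      have h1 : β x y = 0 := congrFun hx y
      simp only [β, ite_eq_left_iff, one_ne_zero, imp_false, not_not] at h1
      exact (commutatorElement_eq_one_iff_mul_comm.1 h1).symm
  have hFc : ∀ (x : G) (hx : x ∈ F), Bf ⟨x, hFE hx⟩ = 0 →
      (⟨x, hx⟩ : ↥F) ∈ Subgroup.center ↥F := fun x hx h0 => by
    rw [Subgroup.mem_center_iff]
    intro y
    exact Subtype.ext (Subgroup.mem_center_iff.1 (hZc _ (hBzero _ h0)) y)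
  -- the image of `F`
  let M : Submodule (ZMod 2) U :=
    { carrier := {u | ∃ x : ↥E, (x : G) ∈ F ∧ (u : ↥E → ZMod 2) = Bf x}
      add_mem' := by
        rintro u v ⟨a, ha, hu⟩ ⟨b, hb, hv⟩
        refine ⟨a * b, mul_mem ha hb, ?_⟩
        rw [Submodule.coe_add, hu, hv]
        exact funext fun y => (hβadd a b y).symm
      zero_mem' := ⟨1, one_mem F, (funext hβone).symm⟩
      smul_mem' := by
        rintro c u ⟨a, ha, hu⟩
        rcases zmod2_cases c with rfl | rfl
        · rw [zero_smul]; exact ⟨1, one_mem F, (funext hβone).symm⟩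
        · rw [one_smul]; exact ⟨a, ha, hu⟩ }
  let T : Submodule (ZMod 2) U := LinearMap.ker (S0 - 1)
  have hT : ∀ u, u ∈ T ↔ S0 u = u := fun u => by
    rw [LinearMap.mem_ker, LinearMap.sub_apply, Module.End.one_apply, sub_eq_zero]
  have hTM : T ⊔ M = ⊤ := by
    rw [eq_top_iff]
    rintro ⟨u, x, rfl⟩ -
    obtain ⟨f, hf, c, hc', hcf, hxe⟩ := X.act.cop.decomp hEi x.2
    refine Submodule.mem_sup.2 ⟨⟨Bf ⟨c, hc'⟩, hBmem _⟩, ?_, ⟨Bf ⟨f, hFE hf⟩, hBmem _⟩,
      ⟨⟨f, hFE hf⟩, hf, rfl⟩, ?_⟩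
    · rw [hT, hLUB]
      exact Subtype.ext (congrArg Bf (Subtype.ext hcf))
    · apply Subtype.ext
      show Bf ⟨c, hc'⟩ + Bf ⟨f, hFE hf⟩ = Bf x
      have e : x = ⟨f, hFE hf⟩ * ⟨c, hc'⟩ := Subtype.ext hxe
      rw [e, add_comm]
      exact funext fun y => (hβadd _ _ y).symm
  have hTMinf : T ⊓ M = ⊥ := by
    rw [eq_bot_iff]
    rintro u ⟨huT, x, hxF, hu⟩
    rw [Submodule.mem_bot]
    apply Subtype.ext
    rw [hu, Submodule.coe_zero]
    rw [SetLike.mem_coe, hT] at huT
    have h1 : Bf (hEi.aut x) = Bf x := by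
      have h2 := congrArg Subtype.val huT
      rw [show u = ⟨Bf x, hBmem x⟩ from Subtype.ext hu, hLUB] at h2
      exact h2
    have h2 : Bf (x⁻¹ * hEi.aut x) = 0 := funext fun y => by
      have e1 := hβadd x (x⁻¹ * hEi.aut x) y
      rw [mul_inv_cancel_left, show β (hEi.aut x) y = β x y from congrFun h1 y] at e1
      exact (left_eq_add.1 e1)
    have hxc : (⟨(x : G), hxF⟩ : ↥F)⁻¹ * FF.inv.aut ⟨x, hxF⟩ ∈ Subgroup.center ↥F :=
      hFc _ (mul_mem (inv_mem hxF) (FF.inv _ hxF)) (by exact h2)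
    rw [← FF.piA_eq_iff] at hxc
    have h3 : piA (⟨(x : G), hxF⟩ : ↥F) = 0 :=
      (FF.quad hm hr).fpf _ (by rw [FF.rhoA_piA]; exact hxc.symm)
    rw [FF.piA_eq_zero, FF.center_iff] at h3
    funext y
    obtain ⟨f, hf, c, hc', hcf, hye⟩ := X.act.cop.decomp hEi y.2
    have e : y = ⟨f, hFE hf⟩ * ⟨c, hc'⟩ := Subtype.ext hye
    show β x y = 0
    rw [e, hβsymm, hβadd, horth ⟨c, hc'⟩ x hcf hxF, add_zero, hβsymm,
      horth x ⟨f, hFE hf⟩ h3 hf]
  -- a character of `Z(F)`
  obtain ⟨χ, hocc, hχne⟩ : ∃ χ : FZ F →+ ZMod 2, fE ψ χ ≠ ⊥ ∧ χ ≠ 0 := by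
    by_contra! hall
    apply hne
    rw [eq_bot_iff]
    intro x hx
    rw [mem_bot]
    refine X.act.inj ?_
    rw [map_one]
    refine FF.ext_fE fun χ v hv => ?_
    by_cases hocc : fE ψ χ = ⊥
    · rw [hocc, Submodule.mem_bot] at hv; rw [hv, map_zero, map_zero]
    · rw [hall χ hocc] at hv
      exact FF.apply_of_zero (x := ⟨x, hx⟩) hv
  have hrad : ∀ x : ↥F, x ∈ FF.radSub χ → x ∈ Subgroup.center ↥F := by
    intro x hx
    rw [Subgroup.mem_center_iff]
    intro y
    by_contra hne'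
    obtain ⟨v, hv, hv0⟩ := (Submodule.ne_bot_iff _).1 hocc
    have hyx : ⁅(⟨y, hFE y.2⟩ : ↥E), (⟨x, hFE x.2⟩ : ↥E)⁆ ≠ 1 := fun h1 => hne' (Subtype.ext
      (congrArg Subtype.val (commutatorElement_eq_one_iff_mul_comm.1 h1) :))
    have h2 := (hsign (⟨y, hFE y.2⟩ : ↥E) ⟨x, hFE x.2⟩).resolve_left fun h1 =>
      hyx (Subtype.ext (X.act.inj (by rw [h1, Subgroup.coe_one, map_one])))
    have h3 : ψ ((⁅y, x⁆ : ↥F) : G) = -1 := h2
    have h4 := mem_fE.1 hv _ (FF.comm_mem y x)
    rw [h3, hx y, sK_zero, one_smul, LinearMap.neg_apply, Module.End.one_apply] at h4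
    have h5 : (2 : K) • v = 0 := by
      rw [two_smul]; nth_rw 1 [← h4]; exact neg_add_cancel v
    exact hv0 ((smul_eq_zero.1 h5).resolve_left X.two_ne)
  have hradbot : (FF.quad hm hr).rad χ = ⊥ := by
    rw [eq_bot_iff]
    intro a ha
    obtain ⟨x, rfl⟩ := piA_surjective a
    rw [AddSubgroup.mem_bot, FF.piA_eq_zero]
    exact hrad x ((FF.mem_radSub_iff hm hr χ x).2 ha)
  have hgood := FF.good hm hr hocc hχne
  -- `F / Z(F) ≅ M`
  have hBcz : ∀ x y : ↥F, piA x = piA y → Bf ⟨x, hFE x.2⟩ = Bf ⟨y, hFE y.2⟩ := by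
    intro x y hxy
    rw [FF.piA_eq_iff] at hxy
    have hz := hxy
    rw [FF.center_iff] at hz
    funext w
    obtain ⟨f, hf, c, hc', hcf, hwe⟩ := X.act.cop.decomp hEi w.2
    have e : w = ⟨f, hFE hf⟩ * ⟨c, hc'⟩ := Subtype.ext hwe
    have e2 : (⟨y, hFE y.2⟩ : ↥E) = ⟨x, hFE x.2⟩ * ⟨((x⁻¹ * y : ↥F) : G), hFE (x⁻¹ * y).2⟩ := by
      apply Subtype.ext; simp
    show β _ w = β _ w
    rw [e2, hβadd, left_eq_add, e, hβsymm, hβadd,
      horth ⟨c, hc'⟩ ⟨((x⁻¹ * y : ↥F) : G), hFE (x⁻¹ * y).2⟩ hcf (x⁻¹ * y).2, add_zero, hβsymm,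
      horth ⟨((x⁻¹ * y : ↥F) : G), hFE (x⁻¹ * y).2⟩ ⟨f, hFE hf⟩ hz hf]
  let toM : FA F → M := fun a =>
    ⟨⟨Bf ⟨(Function.surjInv piA_surjective a : ↥F), hFE (Subtype.prop _)⟩, hBmem _⟩,
      _, Subtype.prop (Function.surjInv (piA_surjective (D := F)) a), rfl⟩
  have htoM : ∀ x : ↥F, ((toM (piA x) : U) : ↥E → ZMod 2) = Bf ⟨x, hFE x.2⟩ := fun x =>
    hBcz _ _ (Function.surjInv_eq piA_surjective _)
  have htoMadd : ∀ a b, toM (a + b) = toM a + toM b := by
    intro a b
    obtain ⟨x, rfl⟩ := piA_surjective a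
    obtain ⟨y, rfl⟩ := piA_surjective b
    apply Subtype.ext; apply Subtype.ext
    rw [← piA_mul, htoM, Submodule.coe_add, Submodule.coe_add, htoM, htoM]
    exact funext fun w => hβadd ⟨x, hFE x.2⟩ ⟨y, hFE y.2⟩ w
  let toMh : FA F →+ M := AddMonoidHom.mk' toM htoMadd
  have htoMbij : Function.Bijective toMh := by
    refine ⟨(injective_iff_map_eq_zero _).2 fun a ha => ?_, ?_⟩
    · obtain ⟨x, rfl⟩ := piA_surjective a
      rw [FF.piA_eq_zero]
      refine hFc _ x.2 ?_
      rw [← htoM x]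
      exact congrArg (fun u : M => ((u : U) : ↥E → ZMod 2)) ha
    · rintro ⟨u, x, hxF, hu⟩
      exact ⟨piA ⟨x, hxF⟩, Subtype.ext (Subtype.ext ((htoM _).trans hu.symm))⟩
  have hdimM : finrank (ZMod 2) M = 2 * m := by
    have h1 : Nat.card (FA F) = 2 ^ (2 * m) := by
      rw [← hgood.card, hradbot]
      exact Nat.card_congr QuotientAddGroup.quotientBot.toEquiv.symm
    rw [Nat.card_eq_of_bijective _ htoMbij,
      Module.natCard_eq_pow_finrank (K := ZMod 2), Nat.card_zmod] at h1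
    exact Nat.pow_right_injective le_rfl h1
  have hMirr : ∀ M' : Submodule (ZMod 2) U, M' ≤ M → (∀ u ∈ M', S0 u ∈ M') → M' = ⊥ ∨ M' = M := by
    intro M' hM' hinv
    let N : AddSubgroup (FA F) := (M'.toAddSubgroup.comap M.subtype.toAddMonoidHom).comap toMh
    have hN : ∀ a, a ∈ N ↔ ((toM a : M) : U) ∈ M' := fun a => Iff.rfl
    have hNi : Quad.InvSub FF.rhoA N := by
      intro a ha
      obtain ⟨x, rfl⟩ := piA_surjective a
      rw [hN] at ha ⊢
      rw [FF.rhoA_piA]
      have e : ((toM (piA (FF.inv.aut x)) : M) : U) = S0 ((toM (piA x) : M) : U) := by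
        rw [show ((toM (piA x) : M) : U) = ⟨Bf ⟨x, hFE x.2⟩, hBmem _⟩ from Subtype.ext (htoM x),
          hLUB]
        exact Subtype.ext (htoM _)
      rw [e]
      exact hinv _ ha
    rcases hgood.le_rad_or hNi with h1 | h1
    · left
      rw [eq_bot_iff]
      intro u hu
      obtain ⟨a, ha⟩ := htoMbij.2 ⟨u, hM' hu⟩
      have haN : a ∈ N := by rw [hN, show toM a = ⟨u, hM' hu⟩ from ha]; exact hu
      have h2 := h1 haN
      rw [hradbot, AddSubgroup.mem_bot] at h2
      rw [h2, map_zero] at ha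
      exact (Submodule.mem_bot _).2 (congrArg Subtype.val ha).symm
    · right
      refine le_antisymm hM' fun u hu => ?_
      obtain ⟨a, ha⟩ := htoMbij.2 ⟨u, hu⟩
      have h2 : (a : FA F ⧸ (FF.quad hm hr).rad χ) ∈ N.map (QuotientAddGroup.mk' _) :=
        h1 ▸ AddSubgroup.mem_top _
      obtain ⟨b, hb, he⟩ := h2
      have hab : b = a := by
        have h3 := QuotientAddGroup.eq.1 he
        rw [hradbot, AddSubgroup.mem_bot, neg_add_eq_zero] at h3
        exact h3
      subst hab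
      rw [SetLike.mem_coe, hN, show toM b = ⟨u, hu⟩ from ha] at hb
      exact hb
  -- elements acting like a fixed one
  have htriv : ∀ W : Submodule (ZMod 2) U, (∀ g ∈ P, ∀ u ∈ W, Φ g u ∈ W) → (∀ u ∈ W, S0 u = u) →
      ∀ g ∈ P, ∀ u ∈ W, Φ g u = u := by
    intro W hW hWf g hg u hu
    let H : Subgroup G :=
      { carrier := {g | g ∈ P ∧ ∀ u ∈ W, Φ g u = u}
        one_mem' := ⟨P.one_mem, fun u _ => by rw [map_one]; rfl⟩
        mul_mem' := fun {a b} ha hb => ⟨P.mul_mem ha.1 hb.1, fun u hu => by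
          rw [map_mul, Module.End.mul_apply, hb.2 u hu, ha.2 u hu]⟩
        inv_mem' := fun {a} ha => ⟨P.inv_mem ha.1, fun u hu => by
          conv_lhs => rw [← ha.2 u hu]
          rw [← Module.End.mul_apply, ← map_mul, inv_mul_cancel, map_one]; rfl⟩ }
    refine (hPgen H (fun x hx => ⟨P.mul_mem (P.inv_mem hx) (hP x hx), fun u hu => ?_⟩) hg).2 u hu
    have h1 : Φ (σ x) u = Φ x u := by
      have := congrArg (fun f : Module.End (ZMod 2) U => f u) (hcompat x)
      simp only [Module.End.mul_apply, hWf u hu] at this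
      rw [← this]
      exact hWf _ (hW x hx u hu)
    rw [map_mul, Module.End.mul_apply, h1, ← Module.End.mul_apply, ← map_mul, inv_mul_cancel,
      map_one]
    rfl
  -- an odd power trick
  have hodd : ∀ g ∈ P, (Φ g - 1) * (Φ g - 1) = 0 → Φ g = 1 := by
    intro g hg h0
    obtain ⟨n, hn⟩ := hPp ⟨g, hg⟩
    have hn' : g ^ (p ^ n) = 1 := congrArg Subtype.val hn
    have hsq2 : Φ g * Φ g = 1 := by
      have e : (Φ g - 1) * (Φ g - 1) = Φ g * Φ g + 1 - (Φ g + Φ g) := by noncomm_ring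
      have e2 : Φ g + Φ g = 0 := LinearMap.ext fun u => Subtype.ext (funext fun y =>
        zmod2_add_self _)
      rw [e, e2, sub_zero] at h0
      have e3 : (1 : Module.End (ZMod 2) U) + 1 = 0 := LinearMap.ext fun u =>
        Subtype.ext (funext fun y => zmod2_add_self _)
      calc Φ g * Φ g = Φ g * Φ g + (1 + 1) := by rw [e3, add_zero]
        _ = 1 := by rw [← add_assoc, h0, zero_add]
    obtain ⟨k, hk⟩ := ((Fact.out : p.Prime).odd_of_ne_two X.p_ne_two).pow (n := n)
    have h4 : Φ (g ^ (p ^ n)) = Φ g := by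
      rw [map_pow, hk, pow_succ, pow_mul, sq, hsq2, one_pow, one_mul]
    rwa [hn', map_one, eq_comm] at h4
  -- fixed elements of the derived group of `P` are trivial on `E / Z(E)`
  have hP'fix : ∀ a ∈ P, ∀ b ∈ P, σ ⁅a, b⁆ = ⁅a, b⁆ ∧ ∀ g ∈ P, g * ⁅a, b⁆ = ⁅a, b⁆ * g := by
    have hP0 : Inv σ ⁅P, P⁆ := by
      intro x hx
      rw [← hP.map_eq, ← map_commutator]
      exact ⟨x, hx, rfl⟩
    have hle : ⁅P, P⁆ ≤ P := Subgroup.commutator_le.2 fun a ha b hb =>
      P.mul_mem (P.mul_mem (P.mul_mem ha hb) (P.inv_mem ha)) (P.inv_mem hb)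
    have hlt : ⁅P, P⁆ ≠ P := by
      intro he
      have hnil : Group.IsNilpotent ↥P := hPp.isNilpotent
      haveI : Nontrivial ↥P := (Subgroup.nontrivial_iff_ne_bot P).2 fun h0 => hP1 (by
        rw [eq_bot_iff, ← h0]; exact moved_le hP)
      have h1 : commutator ↥P = ⊤ := by
        apply Subgroup.map_injective P.subtype_injective
        rw [commutator_def, map_commutator, ← MonoidHom.range_eq_map, range_subtype, he]
      exact (IsSolvable.commutator_lt_top_of_nontrivial ↥P).ne h1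
    have hfix := hsmall _ hP0 hle hlt
    intro a ha b hb
    have hmem : ⁅a, b⁆ ∈ ⁅P, P⁆ := Subgroup.commutator_mem_commutator ha hb
    refine ⟨hfix hmem, ?_⟩
    let H : Subgroup G := P ⊓ centralizer ({⁅a, b⁆} : Set G)
    intro g hg
    have := hPgen H (fun x hx => ⟨P.mul_mem (P.inv_mem hx) (hP x hx), ?_⟩) hg
    · exact mem_centralizer_singleton_iff.1 this.2
    · show x⁻¹ * σ x ∈ centralizer ({⁅a, b⁆} : Set G)
      rw [mem_centralizer_singleton_iff]
      have hconj : x * ⁅a, b⁆ * x⁻¹ ∈ ⁅P, P⁆ := by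
        rw [conjugate_commutatorElement]
        exact Subgroup.commutator_mem_commutator (P.mul_mem (P.mul_mem hx ha) (P.inv_mem hx))
          (P.mul_mem (P.mul_mem hx hb) (P.inv_mem hx))
      have h1 : σ (x * ⁅a, b⁆ * x⁻¹) = x * ⁅a, b⁆ * x⁻¹ := hfix hconj
      rw [map_mul, map_mul, map_inv, hfix hmem] at h1
      calc x⁻¹ * σ x * ⁅a, b⁆ = x⁻¹ * (σ x * ⁅a, b⁆ * (σ x)⁻¹) * σ x := by group
        _ = x⁻¹ * (x * ⁅a, b⁆ * x⁻¹) * σ x := by rw [h1]
        _ = ⁅a, b⁆ * (x⁻¹ * σ x) := by group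
  have hkill : ∀ a ∈ P, ∀ b ∈ P, Φ ⁅a, b⁆ = 1 := by
    intro a ha b hb
    obtain ⟨hcf, hcc⟩ := hP'fix a ha b hb
    set c := ⁅a, b⁆ with hcdef
    have hcP : c ∈ P := P.mul_mem (P.mul_mem (P.mul_mem ha hb) (P.inv_mem ha)) (P.inv_mem hb)
    have hcN : c ∈ normalizer (F : Set G) := mem_normalizer_moved hcf (by
      rw [Subgroup.normalizer_eq_top]; exact mem_top c)
    have hfixχ : χ.comp (nZ hcN) = χ := by
      refine AddMonoidHom.ext fun z => congrArg χ ?_
      obtain ⟨z, rfl⟩ := Additive.ofMul.surjective z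
      refine congrArg Additive.ofMul (Subtype.ext (Subtype.ext ?_))
      show c * ((z : ↥F) : G) * c⁻¹ = _
      have hzc : (⟨((z : ↥F) : G), hFE z.1.2⟩ : ↥E) ∈ Subgroup.center ↥E := by
        refine hBzero _ (funext fun w => ?_)
        obtain ⟨f, hf, d, hd, hdf, hwe⟩ := X.act.cop.decomp hEi w.2
        have e : w = ⟨f, hFE hf⟩ * ⟨d, hd⟩ := Subtype.ext hwe
        show β _ w = 0
        rw [e, hβsymm, hβadd, horth ⟨d, hd⟩ _ hdf z.1.2, add_zero, hβsymm,
          horth _ ⟨f, hFE hf⟩ ((FF.center_iff _).1 z.2) hf]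
      rw [Subgroup.mem_center_iff.1 (hZc _ hzc) c, mul_inv_cancel_right]
    have hM1 : ∀ u ∈ M, Φ c u = u := by
      rintro ⟨u, hu'⟩ ⟨x, hxF, rfl⟩
      rw [hΦB]
      apply Subtype.ext
      have h1 := FF.nA_sub_mem_rad hm hr hcf hcN hocc hχne hfixχ (piA ⟨x, hxF⟩)
      rw [hradbot, AddSubgroup.mem_bot, neg_add_eq_zero, nA_piA] at h1
      exact (hBcz _ _ h1).symm
    let W := LinearMap.range (Φ c - 1)
    have hWf : ∀ u ∈ W, S0 u = u := by
      rintro _ ⟨u, rfl⟩
      have hu : u ∈ T ⊔ M := hTM ▸ Submodule.mem_top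
      obtain ⟨t, ht, n, hn, rfl⟩ := Submodule.mem_sup.1 hu
      rw [hT] at ht
      have h0 : (Φ c - 1) n = 0 := by
        rw [LinearMap.sub_apply, hM1 n hn, Module.End.one_apply, sub_self]
      rw [map_add, h0, add_zero, LinearMap.sub_apply, Module.End.one_apply, map_sub, ht,
        ← Module.End.mul_apply, hcompat, hcf, Module.End.mul_apply, ht]
    have hWP : ∀ g ∈ P, ∀ u ∈ W, Φ g u ∈ W := by
      rintro g hg _ ⟨u, rfl⟩
      refine ⟨Φ g u, ?_⟩
      rw [← Module.End.mul_apply, ← Module.End.mul_apply, sub_mul, mul_sub, one_mul, mul_one,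
        ← map_mul, ← map_mul, hcc g hg]
    refine hodd c hcP (LinearMap.ext fun u => ?_)
    rw [Module.End.mul_apply, LinearMap.sub_apply,
      htriv W hWP hWf c hcP _ (LinearMap.mem_range_self _ u), Module.End.one_apply, sub_self]
    rfl
  -- the abelian group induced by `P`
  let φP : ↥P →* Module.End (ZMod 2) U := Φ.comp P.subtype
  let τP := hP.aut
  have hkerP : Inv τP φP.ker := fun x hx => by
    rw [MonoidHom.mem_ker] at hx ⊢
    show Φ (σ (x : G)) = 1
    have hone : S0 * S0 ^ (r - 1) = 1 := by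
      rw [← pow_succ', Nat.sub_add_cancel X.act.cop.prime.pos, hS0r]
    calc Φ (σ (x : G)) = Φ (σ (x : G)) * (S0 * S0 ^ (r - 1)) := by rw [hone, mul_one]
      _ = 1 := by
          rw [← mul_assoc, ← hcompat, show Φ (x : G) = 1 from hx, mul_one, hone]
  letI instB : CommGroup (↥P ⧸ φP.ker) :=
    { QuotientGroup.Quotient.group φP.ker with
      mul_comm := fun a b => by
        induction a using QuotientGroup.induction_on with | H a =>
        induction b using QuotientGroup.induction_on with | H b =>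
        rw [← QuotientGroup.mk_mul, ← QuotientGroup.mk_mul, QuotientGroup.eq, MonoidHom.mem_ker]
        show Φ (((a : G) * b)⁻¹ * ((b : G) * a)) = 1
        have e : ((a : G) * b)⁻¹ * ((b : G) * a) = ⁅(b : G)⁻¹, (a : G)⁻¹⁆ := by
          rw [commutatorElement_def]; group
        rw [e]
        exact hkill _ (P.inv_mem b.2) _ (P.inv_mem a.2) }
  haveI := Fintype.ofFinite (↥P ⧸ φP.ker)
  let φB : (↥P ⧸ φP.ker) →* Module.End (ZMod 2) U := QuotientGroup.lift φP.ker φP le_rfl
  have hφB : ∀ x : ↥P, φB (x : ↥P ⧸ φP.ker) = Φ (x : G) := fun x => rfl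
  let p1 : Module.End (ZMod 2) U := ∑ b, φB b
  have hcardB : (Fintype.card (↥P ⧸ φP.ker) : ZMod 2) = 1 := by
    obtain ⟨n, hn⟩ := IsPGroup.iff_card.1 (hPp.to_quotient φP.ker)
    rw [← Nat.card_eq_fintype_card, hn]
    exact ZMod.natCast_eq_one_iff_odd.2 (((Fact.out : p.Prime).odd_of_ne_two X.p_ne_two).pow)
  have hp1mul : ∀ b, φB b * p1 = p1 := fun b => by
    rw [Finset.mul_sum]
    simp only [← map_mul]
    exact Equiv.sum_comp (Equiv.mulLeft b) fun c => φB c
  have hp1mul' : ∀ b, p1 * φB b = p1 := fun b => by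
    rw [Finset.sum_mul]
    simp only [← map_mul]
    exact Equiv.sum_comp (Equiv.mulRight b) fun c => φB c
  have hp1S : S0 * p1 = p1 * S0 := by
    rw [Finset.mul_sum, Finset.sum_mul, ← Equiv.sum_comp hkerP.quotAut.toEquiv fun b => φB b * S0]
    refine Finset.sum_congr rfl fun b _ => ?_
    induction b using QuotientGroup.induction_on with | H b =>
    show S0 * Φ (b : G) = Φ (σ (b : G)) * S0
    exact hcompat b
  have hp1sq : p1 * p1 = p1 := by
    conv_lhs => rw [Finset.sum_mul]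
    rw [Finset.sum_congr rfl fun b _ => hp1mul b, Finset.sum_const, Finset.card_univ,
      ← Nat.cast_smul_eq_nsmul (ZMod 2), hcardB, one_smul]
  let eR : Module.End (ZMod 2) U := ∑ i ∈ Finset.range r, S0 ^ i
  have hrodd : (r : ZMod 2) = 1 := by
    rw [hr, Nat.cast_add, Nat.cast_pow, show ((2 : ℕ) : ZMod 2) = 0 from rfl,
      zero_pow hm.ne', zero_add, Nat.cast_one]
  have hMeR : ∀ u, u ∈ M ↔ eR u = 0 := by
    have hM1 : ∀ u ∈ M, eR u = 0 := by
      intro u hu
      have h1 : eR u ∈ T := by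
        have hs : S0 * eR = eR := by
          have e : (S0 - 1) * eR = 0 := by rw [mul_geom_sum, hS0r, sub_self]
          rw [sub_mul, one_mul, sub_eq_zero] at e
          exact e
        rw [hT, ← Module.End.mul_apply, hs]
      have h2 : eR u ∈ M := by
        rw [show eR u = ∑ i ∈ Finset.range r, (S0 ^ i) u from LinearMap.sum_apply _ _ _]
        refine M.sum_mem fun i _ => ?_
        obtain ⟨x, hxF, hxu⟩ := hu
        refine ⟨(hEi.aut ^ i) x, ?_, ?_⟩
        · rw [hEi.aut_pow_apply]; exact FF.inv.pow_mem hxF i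
        · rw [show u = ⟨Bf x, hBmem x⟩ from Subtype.ext hxu, hS0pow]
      have h3 : eR u ∈ T ⊓ M := ⟨h1, h2⟩
      rwa [hTMinf, Submodule.mem_bot] at h3
    refine fun u => ⟨hM1 u, fun h0 => ?_⟩
    have hu : u ∈ T ⊔ M := hTM ▸ Submodule.mem_top
    obtain ⟨t, ht, n, hn, rfl⟩ := Submodule.mem_sup.1 hu
    rw [map_add, hM1 n hn, add_zero] at h0
    have hts : ∀ i, (S0 ^ i) t = t := fun i => by
      induction i with
      | zero => rfl
      | succ i ih => rw [pow_succ, Module.End.mul_apply, (hT t).1 ht, ih]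
    rw [show eR t = ∑ i ∈ Finset.range r, (S0 ^ i) t from LinearMap.sum_apply _ _ _,
      Finset.sum_congr rfl fun i _ => hts i, Finset.sum_const, Finset.card_range,
      ← Nat.cast_smul_eq_nsmul (ZMod 2), hrodd, one_smul] at h0
    rw [h0, zero_add]
    exact hn
  -- `M` is moved by `P`
  have hMker : ∀ u ∈ M, p1 u = 0 := by
    have hp1M : ∀ u ∈ M, p1 u ∈ M := fun u hu => by
      rw [hMeR] at hu ⊢
      have hcom : eR * p1 = p1 * eR := by
        rw [Finset.sum_mul, Finset.mul_sum]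
        exact Finset.sum_congr rfl fun i _ =>
          ((show Commute S0 p1 from hp1S).pow_left i).eq
      rw [← Module.End.mul_apply, hcom, Module.End.mul_apply, hu, map_zero]
    rcases hMirr (M ⊓ LinearMap.ker p1) inf_le_left (fun u hu => ⟨by
        rw [SetLike.mem_coe, hMeR, ← Module.End.mul_apply]
        have hcom : eR * S0 = S0 * eR := by
          rw [Finset.sum_mul, Finset.mul_sum]
          exact Finset.sum_congr rfl fun i _ => ((Commute.refl S0).pow_left i).eq
        rw [hcom, Module.End.mul_apply, (hMeR u).1 hu.1, map_zero],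
        by
          rw [SetLike.mem_coe, LinearMap.mem_ker, ← Module.End.mul_apply, ← hp1S,
            Module.End.mul_apply, LinearMap.mem_ker.1 hu.2, map_zero]⟩) with h | h
    · exfalso
      have hid : ∀ u ∈ M, p1 u = u := fun u hu => by
        have h1 : p1 u - u ∈ M ⊓ LinearMap.ker p1 := ⟨M.sub_mem (hp1M u hu) hu, by
          rw [SetLike.mem_coe, LinearMap.mem_ker, map_sub, ← Module.End.mul_apply, hp1sq,
            sub_self]⟩
        rwa [h, Submodule.mem_bot, sub_eq_zero] at h1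
      let W := LinearMap.range ((1 : Module.End (ZMod 2) U) - p1)
      have hWf : ∀ u ∈ W, S0 u = u := by
        rintro _ ⟨u, rfl⟩
        have hu : u ∈ T ⊔ M := hTM ▸ Submodule.mem_top
        obtain ⟨t, ht, n, hn, rfl⟩ := Submodule.mem_sup.1 hu
        rw [hT] at ht
        have h0 : ((1 : Module.End (ZMod 2) U) - p1) n = 0 := by
          rw [LinearMap.sub_apply, hid n hn, Module.End.one_apply, sub_self]
        rw [map_add, h0, add_zero, LinearMap.sub_apply, Module.End.one_apply, map_sub, ht,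
          ← Module.End.mul_apply, hp1S, Module.End.mul_apply, ht]
      have hWP : ∀ g ∈ P, ∀ u ∈ W, Φ g u ∈ W := by
        rintro g hg _ ⟨u, rfl⟩
        refine ⟨Φ g u, ?_⟩
        have h1 := hp1mul (⟨g, hg⟩ : ↥P)
        have h2 := hp1mul' (⟨g, hg⟩ : ↥P)
        rw [hφB] at h1 h2
        rw [← Module.End.mul_apply, ← Module.End.mul_apply, sub_mul, mul_sub, one_mul, mul_one, h1,
          h2]
      have hall : ∀ g ∈ P, Φ g = 1 := fun g hg => LinearMap.ext fun u => by
        have e : u = ((1 : Module.End (ZMod 2) U) - p1) u + p1 u := by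
          rw [LinearMap.sub_apply, Module.End.one_apply, sub_add_cancel]
        rw [Module.End.one_apply]
        conv_lhs => rw [e]
        conv_rhs => rw [e]
        rw [map_add, htriv W hWP hWf g hg _ (LinearMap.mem_range_self _ u), ← Module.End.mul_apply,
          ← hφB ⟨g, hg⟩, hp1mul]
      apply hPnc
      intro g hg
      rw [mem_centralizer_iff]
      intro e he
      have h1 : Bf (cj g ⟨e, he⟩) = Bf ⟨e, he⟩ := by
        have := congrArg (fun f : Module.End (ZMod 2) U =>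
          ((f ⟨Bf ⟨e, he⟩, hBmem _⟩ : U) : ↥E → ZMod 2)) (hall g hg)
        simpa only [hΦB, Module.End.one_apply] using this
      set e' : ↥E := ⟨e, he⟩
      set z := e'⁻¹ * cj g e' with hz
      have hzc : z ∈ Subgroup.center ↥E := hBzero _ (funext fun y => by
        have e1 := hβadd e' z y
        rw [hz, mul_inv_cancel_left, show β (cj g e') y = β e' y from congrFun h1 y] at e1
        exact left_eq_add.1 e1)
      have hz2 : z * z = 1 := by
        have h2 : cj g (e' ^ 2) = e' ^ 2 := Subtype.ext (by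
          show g * ((e' ^ 2 : ↥E) : G) * g⁻¹ = _
          rw [Subgroup.mem_center_iff.1 (hZc _ (hsq e')) g, mul_inv_cancel_right])
        have h3 : cj g e' = e' * z := by rw [hz, mul_inv_cancel_left]
        rw [map_pow, h3, Commute.mul_pow (Subgroup.mem_center_iff.1 hzc e'), mul_eq_left,
          sq] at h2
        exact h2
      have hit : ∀ n : ℕ, g ^ n * e * (g ^ n)⁻¹ = e * ((z ^ n : ↥E) : G) := by
        intro n
        induction n with
        | zero => simp
        | succ n ih =>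
          have h3 : g * e * g⁻¹ = e * (z : G) := by
            have : cj g e' = e' * z := by rw [hz, mul_inv_cancel_left]
            exact congrArg Subtype.val this
          have h4 : g * ((z ^ n : ↥E) : G) * g⁻¹ = ((z ^ n : ↥E) : G) := by
            rw [Subgroup.mem_center_iff.1 (hZc _ (pow_mem hzc n)) g, mul_inv_cancel_right]
          calc g ^ (n + 1) * e * (g ^ (n + 1))⁻¹ = g * (g ^ n * e * (g ^ n)⁻¹) * g⁻¹ := by
                rw [pow_succ']; group
            _ = (g * e * g⁻¹) * (g * ((z ^ n : ↥E) : G) * g⁻¹) := by rw [ih]; group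
            _ = e * ((z ^ (n + 1) : ↥E) : G) := by
                rw [h3, h4, pow_succ', mul_assoc]; rfl
      obtain ⟨n, hn⟩ := hPp ⟨g, hg⟩
      have hn' : g ^ (p ^ n) = 1 := congrArg Subtype.val hn
      have h5 := hit (p ^ n)
      rw [hn', one_mul, inv_one, mul_one, left_eq_mul] at h5
      obtain ⟨k, hk⟩ := ((Fact.out : p.Prime).odd_of_ne_two X.p_ne_two).pow (n := n)
      rw [hk, pow_succ, pow_mul, sq, hz2, one_pow, one_mul] at h5
      have h6 := congrArg Subtype.val (show cj g e' = e' * z by rw [hz, mul_inv_cancel_left])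
      rw [Subgroup.coe_mul, h5, mul_one] at h6
      have h7 : g * e * g⁻¹ = e := h6
      calc e * g = (g * e * g⁻¹) * g := by rw [h7]
        _ = g * e := by group
    · intro u hu
      exact LinearMap.mem_ker.1 (h.symm ▸ hu : u ∈ M ⊓ LinearMap.ker p1).2
  -- the space moved by `P`
  let W1 : Submodule (ZMod 2) U := LinearMap.ker p1
  have hW1S : ∀ u ∈ W1, S0 u ∈ W1 := fun u hu => by
    rw [LinearMap.mem_ker, ← Module.End.mul_apply, ← hp1S, Module.End.mul_apply,
      LinearMap.mem_ker.1 hu, map_zero]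
  have hW1B : ∀ b, ∀ u ∈ W1, φB b u ∈ W1 := fun b u hu => by
    rw [LinearMap.mem_ker, ← Module.End.mul_apply, hp1mul']; exact LinearMap.mem_ker.1 hu
  let φ1 : (↥P ⧸ φP.ker) →* Module.End (ZMod 2) W1 :=
    { toFun := fun b => (φB b).restrict (hW1B b)
      map_one' := by ext u; simp
      map_mul' := fun a b => by ext u; simp }
  let S1 : Module.End (ZMod 2) W1 := S0.restrict hW1S
  have hS1pow : ∀ (n : ℕ) (u : W1), (((S1 ^ n) u : W1) : U) = (S0 ^ n) (u : U) := by
    intro n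
    induction n with
    | zero => intro u; rfl
    | succ n ih =>
      intro u
      rw [pow_succ', pow_succ', Module.End.mul_apply, Module.End.mul_apply, ← ih]
      rfl
  have hfree : FreeData (ZMod 2) W1 (↥P ⧸ φP.ker) hkerP.quotAut r φ1 S1 :=
    { prime := X.act.cop.prime
      card_ne := by rw [hcardB]; exact one_ne_zero
      tau_pow := ((X.act.cop.restrict hP).quotient hkerP).pow_eq
      pow_eq := LinearMap.ext fun u => Subtype.ext (by rw [hS1pow, hS0r]; rfl)
      compat := fun b => by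
        induction b using QuotientGroup.induction_on with | H b =>
        refine LinearMap.ext fun u => Subtype.ext ?_
        exact congrArg (fun f : Module.End (ZMod 2) U => f (u : U)) (hcompat b)
      sum_eq := LinearMap.ext fun u => Subtype.ext (by
        rw [LinearMap.sum_apply, Submodule.coe_sum]
        show ∑ b, φB b (u : U) = 0
        rw [← LinearMap.sum_apply]
        exact LinearMap.mem_ker.1 u.2)
      moved := fun H hH => by
        rw [eq_top_iff]
        intro q _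
        induction q using QuotientGroup.induction_on with | H x =>
        have hle : P ≤ (H.comap (QuotientGroup.mk' φP.ker)).map P.subtype := by
          refine hPgen _ fun y hy => ?_
          refine ⟨(⟨y, hy⟩ : ↥P)⁻¹ * τP ⟨y, hy⟩, ?_, rfl⟩
          exact hH ((⟨y, hy⟩ : ↥P) : ↥P ⧸ φP.ker)
        obtain ⟨y, hy, hyx⟩ := hle x.2
        rw [show x = y from Subtype.ext hyx.symm]
        exact hy }
  let T1 : Submodule (ZMod 2) U := T ⊓ W1
  have hker1 : finrank (ZMod 2) (LinearMap.ker (S1 - 1)) = finrank (ZMod 2) T1 := by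
    have e : (LinearMap.ker (S1 - 1)).map W1.subtype = T1 := by
      ext u
      constructor
      · rintro ⟨w, hw, rfl⟩
        refine ⟨?_, w.2⟩
        rw [SetLike.mem_coe, LinearMap.mem_ker, LinearMap.sub_apply, Module.End.one_apply,
          sub_eq_zero] at hw
        rw [SetLike.mem_coe, hT]
        exact congrArg Subtype.val hw
      · rintro ⟨hu1, hu2⟩
        refine ⟨⟨u, hu2⟩, ?_, rfl⟩
        rw [SetLike.mem_coe, LinearMap.mem_ker, LinearMap.sub_apply, Module.End.one_apply,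
          sub_eq_zero]
        exact Subtype.ext ((hT u).1 hu1)
    rw [← e]
    exact (LinearEquiv.finrank_eq (Submodule.equivMapOfInjective _ W1.injective_subtype _))
  have hdimW1 : finrank (ZMod 2) W1 = finrank (ZMod 2) T1 + 2 * m := by
    have hsup : T1 ⊔ M = W1 := by
      refine le_antisymm (sup_le inf_le_right fun u hu => LinearMap.mem_ker.2 (hMker u hu))
        fun u hu => ?_
      have hu' : u ∈ T ⊔ M := hTM ▸ Submodule.mem_top
      obtain ⟨t, ht, n, hn, rfl⟩ := Submodule.mem_sup.1 hu'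
      refine Submodule.add_mem_sup ⟨ht, ?_⟩ hn
      have := W1.sub_mem hu (LinearMap.mem_ker.2 (hMker n hn) : n ∈ W1)
      rwa [add_sub_cancel_right] at this
    have hinf : T1 ⊓ M = ⊥ := eq_bot_iff.2 ((inf_le_inf_right M inf_le_left).trans hTMinf.le)
    have h := Submodule.finrank_sup_add_finrank_inf_eq T1 M
    rw [hsup, hinf, finrank_bot, add_zero, hdimM] at h
    exact h
  haveI : Nontrivial W1 := Module.nontrivial_of_finrank_pos (R := ZMod 2) (by rw [hdimW1]; omega)
  obtain ⟨hb1, hb2⟩ := hfree.bound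
  rw [hker1, hdimW1] at hb1
  have ht0 : 0 < finrank (ZMod 2) T1 := by
    rw [← hker1]
    exact Submodule.one_le_finrank_iff.2 hb2
  have ht1 : finrank (ZMod 2) T1 = 1 := by
    by_contra hne1
    have h2 : 2 ≤ finrank (ZMod 2) T1 := by omega
    have hlt : m < 2 ^ m := Nat.lt_two_pow_self
    have hp2 : 2 ^ m * finrank (ZMod 2) T1 ≤ 2 * m := by
      rw [hr, add_mul, one_mul] at hb1
      omega
    have := Nat.mul_le_mul_left (2 ^ m) h2
    omega
  -- the fixed vector is in the radical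
  obtain ⟨e, hespan⟩ := finrank_eq_one_iff'.1 ht1
  obtain ⟨hene, hespan⟩ := hespan
  apply hene
  obtain ⟨⟨_, x, rfl⟩, hx1, hx2⟩ := e
  refine Subtype.ext (Subtype.ext ?_)
  show Bf x = 0
  funext y
  show β x y = 0
  rw [SetLike.mem_coe, hT, hLUB] at hx1
  have hzero : ∀ w : ↥E, (⟨Bf w, hBmem w⟩ : U) ∈ W1 → β x w = 0 := by
    intro w hw
    have hw' : (⟨Bf w, hBmem w⟩ : U) ∈ T ⊔ M := hTM ▸ Submodule.mem_top
    obtain ⟨t, ht, n, hn, hsum⟩ := Submodule.mem_sup.1 hw'
    have htW : t ∈ T1 := ⟨ht, by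
      have := W1.sub_mem hw (LinearMap.mem_ker.2 (hMker n hn) : n ∈ W1)
      rwa [← hsum, add_sub_cancel_right] at this⟩
    obtain ⟨c, hc'⟩ := hespan ⟨t, htW⟩
    have h1 : β w x = (t : ↥E → ZMod 2) x + (n : ↥E → ZMod 2) x :=
      (congrFun (congrArg Subtype.val hsum) x).symm
    have h2 : (t : ↥E → ZMod 2) x = 0 := by
      have h3 := congrArg (fun z : T1 => ((z : U) : ↥E → ZMod 2) x) hc'
      rw [← h3]
      show c * β x x = 0
      rw [hβself, mul_zero]
    have h4 : (n : ↥E → ZMod 2) x = 0 := by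
      obtain ⟨f, hf, hnf⟩ := hn
      rw [hnf]
      show β f x = 0
      -- a fixed lift of `Bf x`
      have h5 : Bf (hEi.aut x) = Bf x := congrArg Subtype.val hx1
      have h6 : x⁻¹ * hEi.aut x ∈ Subgroup.center ↥E := hBzero _ (funext fun z => by
        have e1 := hβadd x (x⁻¹ * hEi.aut x) z
        rw [mul_inv_cancel_left, show β (hEi.aut x) z = β x z from congrFun h5 z] at e1
        exact left_eq_add.1 e1)
      have hZi : Inv σ ((Subgroup.center ↥E).map E.subtype) := by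
        rintro _ ⟨a, ha, rfl⟩
        exact ⟨hEi.aut a, map_center_mem' hEi.aut ha, rfl⟩
      obtain ⟨k, hk, hkf⟩ := X.act.cop.exists_mem_fixed_coset hZi (g := (x : G)) ⟨_, h6, rfl⟩
      obtain ⟨k, hkc, rfl⟩ := hk
      rw [hβsymm]
      have h7 := horth (x * k) f hkf hf
      rwa [hβadd, show β k f = 0 by simp [β, hcomm1 k hkc], add_zero] at h7
    rw [hβsymm, h1, h2, h4, add_zero]
  -- split `y` into the parts inside and orthogonal to `W1`
  set Y : U := ⟨Bf y, hBmem y⟩ with hY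
  obtain ⟨⟨_, w, rfl⟩, hw0⟩ : ∃ w : U, w = p1 Y := ⟨_, rfl⟩
  have hsplit : (⟨Bf (y * w), hBmem _⟩ : U) ∈ W1 := by
    have e : (⟨Bf (y * w), hBmem _⟩ : U) = Y + p1 Y := by
      rw [← hw0]; exact Subtype.ext (funext fun z => hβadd y w z)
    rw [e, LinearMap.mem_ker, map_add, ← Module.End.mul_apply, hp1sq]
    exact Subtype.ext (funext fun z => zmod2_add_self _)
  have horth1 : β x w = 0 := by
    -- `w` is fixed by `P`, `x` is killed by `p1`
    have hwfix : ∀ g ∈ P, Bf (cj g w) = Bf w := fun g hg => by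
      have h1 : Φ g ⟨Bf w, hBmem w⟩ = ⟨Bf w, hBmem w⟩ := by
        rw [hw0, ← Module.End.mul_apply, ← hφB ⟨g, hg⟩, hp1mul]
      rw [hΦB] at h1
      exact congrArg Subtype.val h1
    have hterm : ∀ b : ↥P ⧸ φP.ker, ((φB b ⟨Bf x, hBmem x⟩ : U) : ↥E → ZMod 2) w = β x w := by
      intro b
      induction b using QuotientGroup.induction_on with | H b =>
      rw [hφB, hΦB]
      show β (cj (b : G) x) w = β x w
      rw [← hβmap (cj (b : G)) x w, hβsymm, hβsymm (cj (b : G) x)]
      exact (congrFun (hwfix b b.2) _).symm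
    have h1 : ((p1 ⟨Bf x, hBmem x⟩ : U) : ↥E → ZMod 2) w = 0 := by
      rw [LinearMap.mem_ker.1 hx2]; rfl
    rw [show p1 ⟨Bf x, hBmem x⟩ = ∑ b, φB b ⟨Bf x, hBmem x⟩ from LinearMap.sum_apply _ _ _,
      Submodule.coe_sum, Finset.sum_apply, Finset.sum_congr rfl fun b _ => hterm b,
      Finset.sum_const, Finset.card_univ, ← Nat.cast_smul_eq_nsmul (ZMod 2), hcardB, one_smul] at h1
    exact h1
  have h8 := hzero _ hsplit
  rwa [hβsymm, hβadd, hβsymm w, horth1, add_zero, hβsymm] at h8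

end core

/-- Proper invariant normal subgroups are central. -/
theorem le_center_of_normal {N : Subgroup G} (hN : N.Normal) (hNi : Inv σ N) (hne : N ≠ ⊤) :
    N ≤ Subgroup.center G := by
  refine X.le_center_of_fixed hN (moved_eq_bot_iff.1 ?_)
  have hE : moved σ (Cfsg.pCore 2 G) = ⊥ := by
    by_contra h
    exact X.false_of_moved_pCore h
  rw [eq_bot_iff, ← X.act.cop.moved_moved hNi, ← hE]
  exact moved_mono (X.moved_le_pCore_two hN hNi hne)

end Cx

end CfsgLib.HHShult
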