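import Cfsg.Agent.HHShult.Lines

/-!
# The fixed part of `N(D)` is regular on `C_D(σ) ∖ 1` modulo `C(D)`

* `Cx.two_le_m`, `Cx.card_zsub`, `Cx.zsub_center`;
* `Cx.mem_kone_of_fix`: a fixed element of `N(D)` commuting with a non-trivial element of
  `C_D(σ)` centralises `D`;
* `Cx.exists_conj_eq`, `Cx.relIndex_kone`: the action of `gam σ D / kone σ D` is regular;
* `Cx.commutator_mem_kone`: it is commutative;
* `Cx.mem_kone_of_sq`: the fixed factor of an element with central square centralises `D`.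
-/

set_option autoImplicit false
set_option linter.style.haveILetI false
set_option linter.unusedSectionVars false

open Finset Module Subgroup CfsgLib.ConjFunctor
open scoped commutatorElement CfsgLib.ConjFunctor

namespace CfsgLib.HHShult

universe u v w

theorem commutatorElement_mul_center {H : Type*} [Group H] {x y a b : H}
    (ha : a ∈ Subgroup.center H) (hb : b ∈ Subgroup.center H) : ⁅x * a, y * b⁆ = ⁅x, y⁆ := by
  have hai := Subgroup.mem_center_iff.1 (inv_mem ha)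
  have hbi := Subgroup.mem_center_iff.1 (inv_mem hb)
  calc ⁅x * a, y * b⁆ = x * (a * ((y * b) * a⁻¹)) * x⁻¹ * b⁻¹ * y⁻¹ := by
        simp only [commutatorElement_def]; group
    _ = x * (a * (a⁻¹ * (y * b))) * x⁻¹ * b⁻¹ * y⁻¹ := by rw [hai (y * b)]
    _ = x * y * (b * (x⁻¹ * b⁻¹)) * y⁻¹ := by group
    _ = x * y * (b * (b⁻¹ * x⁻¹)) * y⁻¹ := by rw [hbi x⁻¹]
    _ = _ := by simp only [commutatorElement_def]; group

namespace Frame

variable {K : Type u} [Field K] {V : Type v} [AddCommGroup V] [Module K V]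
variable {G : Type w} [Group G] [Finite G] [IsAlgClosed K] [FiniteDimensional K V]
variable {σ : MulAut G} {r : ℕ} {ψ : G →* Module.End K V} {s : Module.End K V} {D : Subgroup G}
  (F : Frame σ r ψ s D)
include F

/-- An element trivial on `D / D'` is trivial on `Z(D) = D'`. -/
theorem nD_fix_of_nA {g : G} (hg : g ∈ normalizer (D : Set G))
    (h : ∀ a, nA hg a = a) {z : ↥D} (hz : z ∈ Subgroup.center ↥D) : nD hg z = z := by
  rw [← F.m2.commutator_eq_center] at hz
  have hle : commutator ↥D ≤ MonoidHom.eqLocus (nD hg).toMonoidHom (MonoidHom.id _) := by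
    rw [commutator_def, Subgroup.commutator_le]
    intro x _ y _
    show nD hg ⁅x, y⁆ = ⁅x, y⁆
    have hc : ∀ w : ↥D, w⁻¹ * nD hg w ∈ Subgroup.center ↥D := fun w =>
      (F.piA_eq_iff _ _).1 (by rw [← nA_piA, h])
    rw [map_commutatorElement,
      ← mul_inv_cancel_left x (nD hg x), ← mul_inv_cancel_left y (nD hg y)]
    exact commutatorElement_mul_center (hc x) (hc y)
  exact hle hz

end Frame

variable {G : Type w} [Group G] [Finite G]
variable {K : Type u} [Field K] [IsAlgClosed K] {V : Type v} [AddCommGroup V] [Module K V]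
  [FiniteDimensional K V]
variable {p : ℕ} [hp : Fact p.Prime] {σ : MulAut G} {r : ℕ} {ψ : G →* Module.End K V}
  {s : Module.End K V}

theorem mem_gam {D : Subgroup G} {c : G} :
    c ∈ gam σ D ↔ σ c = c ∧ c ∈ normalizer (D : Set G) := Iff.rfl

theorem mem_kone {D : Subgroup G} {c : G} :
    c ∈ kone σ D ↔ c ∈ centralizer (D : Set G) ∧ σ c = c := Iff.rfl

theorem kone_le_gam (D : Subgroup G) : kone σ D ≤ gam σ D :=
  fun _ hc => ⟨hc.2, centralizer_le_normalizer' D hc.1⟩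

namespace Cx

variable (X : Cx p σ r ψ s) {D H : Subgroup G} (hD : IsStdD σ D) (hH : Home σ D H)
include X hD hH

theorem two_le_m {m : ℕ} (hm : 0 < m) (hr : r = 2 ^ m + 1) : 2 ≤ m := by
  classical
  haveI := Fintype.ofFinite (FZ D)
  haveI := Fintype.ofFinite (FA D)
  haveI := Fintype.ofFinite (FZ D →+ ZMod 2)
  obtain ⟨h0, -, hcard, -, -⟩ := X.aniso hD hH hm hr
  have h3 := (X.duo hD hH hm hr).index_ge
  rw [h0, AddSubgroup.index_bot, hcard] at h3
  by_contra hlt
  obtain rfl : m = 1 := by omega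
  omega

/-- `C_D(σ)` meets the centre trivially. -/
theorem zsub_center {z : G} (hz : z ∈ zsub σ D) (hzc : z ∈ Subgroup.center G) : z = 1 := by
  obtain ⟨m, hm, hr⟩ := X.exists_m
  obtain ⟨h0, -, -, -, -⟩ := X.aniso hD hH hm hr
  have hx := ((X.frame hD).center_iff ⟨z, hz.1⟩).2 hz.2
  have := (toFZ_mem_z0 hx).2 hzc
  rw [h0, AddSubgroup.mem_bot] at this
  exact congrArg Subtype.val (toFZ_inj hx this)

theorem not_center {z : G} (hz : z ∈ zsub σ D) (hz1 : z ≠ 1) : z ∉ Subgroup.center G :=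
  fun h => hz1 (X.zsub_center hD hH hz h)

/-- Squaring is anisotropic. -/
theorem sq_ne_zero {a : FA D} (ha : a ≠ 0) : sqA D a ≠ 0 := by
  obtain ⟨m, hm, hr⟩ := X.exists_m
  obtain ⟨h0, -, -, -, h⟩ := X.aniso hD hH hm hr
  exact fun h1 => h a ha (by rw [h1]; exact zero_mem _)

theorem card_zsub {m : ℕ} (hm : 0 < m) (hr : r = 2 ^ m + 1) : Nat.card (zsub σ D) = 2 ^ m := by
  obtain ⟨-, -, hcard, -, -⟩ := X.aniso hD hH hm hr
  have F := X.frame hD
  rw [← hcard]
  exact Nat.card_congr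
    { toFun := fun z => Additive.ofMul ⟨⟨z, z.2.1⟩, (F.center_iff _).2 z.2.2⟩
      invFun := fun x => ⟨((Additive.toMul x).1 : G), (Additive.toMul x).1.2,
        (F.center_iff _).1 (Additive.toMul x).2⟩
      left_inv := fun z => rfl
      right_inv := fun x => rfl }

theorem exists_ne_one : ∃ z ∈ zsub σ D, z ≠ 1 := by
  obtain ⟨z, hz, hzc⟩ := X.exists_noncentral_zsub hD hH
  exact ⟨z, hz, fun h => hzc (h ▸ one_mem _)⟩

omit hH in
theorem nA_of_kone {c : G} (hc : c ∈ kone σ D) (a : FA D) :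
    nA (centralizer_le_normalizer' D hc.1) a = a := by
  obtain ⟨x, rfl⟩ := piA_surjective a
  rw [nA_piA]
  refine congrArg piA (Subtype.ext ?_)
  rw [nD_apply, ← mem_centralizer_iff.1 hc.1 (x : G) x.2, mul_inv_cancel_right]

omit hH in
theorem mem_kone_of_nA {c : G} (hcf : σ c = c) (hcn : c ∈ normalizer (D : Set G))
    (h : ∀ a, nA hcn a = a) : c ∈ kone σ D :=
  mem_kone.2 ⟨X.mem_centralizer_of_fix_zsub hD hcf hcn fun e he => by
    have := congrArg Subtype.val ((X.frame hD).nD_fix_of_nA hcn h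
      (((X.frame hD).center_iff ⟨e, he.1⟩).2 he.2))
    rw [nD_apply] at this
    exact mul_inv_eq_iff_eq_mul.1 this, hcf⟩

/-- A fixed element of `N(D)` commuting with some `z ≠ 1` in `C_D(σ)` centralises `D`. -/
theorem mem_kone_of_fix {c z : G} (hcf : σ c = c) (hcn : c ∈ normalizer (D : Set G))
    (hz : z ∈ zsub σ D) (hz1 : z ≠ 1) (hcz : c * z = z * c) : c ∈ kone σ D := by
  classical
  obtain ⟨m, hm, hr⟩ := X.exists_m
  obtain ⟨-, -, -, hη, -⟩ := X.aniso hD hH hm hr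
  have F := X.frame hD
  have hx := (F.center_iff ⟨z, hz.1⟩).2 hz.2
  -- a functional killing the displacements
  set f : FZ D →+ FZ D := (show FZ D →+ FZ D from nZ hcn) + AddMonoidHom.id (FZ D) with hf
  have hne : f.range ≠ ⊤ := by
    intro htop
    have hinj : Function.Injective f :=
      Finite.injective_iff_surjective.2 (AddMonoidHom.range_eq_top.1 htop)
    have h0 : f (toFZ ⟨z, hz.1⟩) = 0 := by
      show nZ hcn (toFZ ⟨z, hz.1⟩) + toFZ ⟨z, hz.1⟩ = 0
      rw [nZ_toFZ hcn hx, show nD hcn ⟨z, hz.1⟩ = ⟨z, hz.1⟩ from Subtype.ext (by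
        rw [nD_apply, hcz, mul_inv_cancel_right]), F.toFZ_add_self hx]
    exact hz1 (congrArg Subtype.val (toFZ_inj hx (hinj (h0.trans (map_zero f).symm))))
  obtain ⟨w, hw⟩ : ∃ w, w ∉ f.range := by
    by_contra! h
    exact hne (eq_top_iff.2 fun w _ => h w)
  obtain ⟨η, hη1, hηf⟩ : ∃ η : FZ D →+ ZMod 2, η w ≠ 0 ∧ ∀ u, η (f u) = 0 := by
    have h2 : ∀ q : FZ D ⧸ f.range, q + q = 0 := fun q => by
      induction q using QuotientAddGroup.induction_on with
      | H a => rw [← QuotientAddGroup.mk_add, F.twoZ, QuotientAddGroup.mk_zero]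
    letI : Module (ZMod 2) (FZ D ⧸ f.range) :=
      AddCommGroup.zmodModule fun b => by rw [two_nsmul, h2]
    have hwq : (w : FZ D ⧸ f.range) ≠ 0 := fun h => hw ((QuotientAddGroup.eq_zero_iff w).1 h)
    obtain ⟨l, hl⟩ : ∃ l : Module.Dual (ZMod 2) (FZ D ⧸ f.range), l (w : FZ D ⧸ f.range) ≠ 0 := by
      by_contra! h
      exact hwq ((Module.forall_dual_apply_eq_zero_iff (ZMod 2) _).1 h)
    exact ⟨l.toAddMonoidHom.comp (QuotientAddGroup.mk' f.range), hl, fun u => by
      show l ((f u : FZ D) : FZ D ⧸ f.range) = 0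
      rw [(QuotientAddGroup.eq_zero_iff (N := f.range) _).2 (AddMonoidHom.mem_range.2 ⟨u, rfl⟩),
        map_zero]⟩
  have hη0 : η ≠ 0 := fun h => hη1 (by rw [h]; rfl)
  have hfix : η.comp (nZ hcn) = η := AddMonoidHom.ext fun u => by
    have h1 : η (nZ hcn u + u) = 0 := hηf u
    rw [map_add] at h1
    exact CharTwo.add_eq_zero.1 h1
  obtain ⟨hocc, hrad⟩ := hη η hη0
  refine X.mem_kone_of_nA hD hcf hcn fun a => ?_
  have h1 := F.nA_sub_mem_rad hm hr hcf hcn hocc hη0 hfix a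
  rw [hrad, AddSubgroup.mem_bot, neg_add_eq_zero] at h1
  exact h1.symm

/-- The fixed part of `N(D)` is transitive on `C_D(σ) ∖ 1`. -/
theorem exists_conj_eq {z₁ z₂ : G} (h1 : z₁ ∈ zsub σ D) (hne1 : z₁ ≠ 1) (h2 : z₂ ∈ zsub σ D)
    (hne2 : z₂ ≠ 1) : ∃ c ∈ gam σ D, c * z₁ * c⁻¹ = z₂ := by
  obtain ⟨c, hcf, hcn, -, hcen⟩ := X.exists_fixed_conj hD hH h1 (X.not_center hD hH h1 hne1) h2
    (X.not_center hD hH h2 hne2)
  exact ⟨c, ⟨hcf, hcn⟩, (inv_mul_eq_one.1 (X.zsub_center hD hH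
    (mul_mem (inv_mem h2) (X.mem_normalizer_zsub hD hcf hcn h1)) hcen)).symm⟩

theorem relIndex_kone {m : ℕ} (hm : 0 < m) (hr : r = 2 ^ m + 1) :
    (kone σ D).relIndex (gam σ D) = 2 ^ m - 1 := by
  classical
  haveI := Fintype.ofFinite ↥(zsub σ D)
  have hmap : ∀ {c z : G}, c ∈ gam σ D → z ∈ zsub σ D → z ≠ 1 →
      c * z * c⁻¹ ∈ zsub σ D ∧ c * z * c⁻¹ ≠ 1 := fun {c z} hc hz hz1 =>
    ⟨X.mem_normalizer_zsub hD hc.1 hc.2 hz, fun h => hz1 (conj_eq_one_iff.1 h)⟩
  letI : MulAction ↥(gam σ D) {z : ↥(zsub σ D) // z ≠ 1} :=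
    { smul := fun c z => ⟨⟨c * (z.1 : G) * (c : G)⁻¹, (hmap c.2 z.1.2 fun h => z.2 (Subtype.ext h)).1⟩,
        fun h => (hmap c.2 z.1.2 fun h => z.2 (Subtype.ext h)).2 (congrArg Subtype.val h)⟩
      one_smul := fun z => Subtype.ext (Subtype.ext (by
        show (1 : G) * _ * (1 : G)⁻¹ = _; group))
      mul_smul := fun c c' z => Subtype.ext (Subtype.ext (by
        show ((c : G) * c') * (z.1 : G) * ((c : G) * c')⁻¹ = c * (c' * (z.1 : G) * (c' : G)⁻¹) * (c : G)⁻¹
        group)) }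
  haveI : MulAction.IsPretransitive ↥(gam σ D) {z : ↥(zsub σ D) // z ≠ 1} := ⟨fun z w => by
    obtain ⟨c, hc, he⟩ := X.exists_conj_eq hD hH z.1.2 (fun h => z.2 (Subtype.ext h)) w.1.2
      (fun h => w.2 (Subtype.ext h))
    exact ⟨⟨c, hc⟩, Subtype.ext (Subtype.ext he)⟩⟩
  obtain ⟨z, hz, hz1⟩ := X.exists_ne_one hD hH
  set z' : {z : ↥(zsub σ D) // z ≠ 1} := ⟨⟨z, hz⟩, fun h => hz1 (congrArg Subtype.val h)⟩
  have hst : MulAction.stabilizer ↥(gam σ D) z' = (kone σ D).subgroupOf (gam σ D) := by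
    ext c
    rw [MulAction.mem_stabilizer_iff, mem_subgroupOf]
    constructor
    · intro h
      exact X.mem_kone_of_fix hD hH c.2.1 c.2.2 hz hz1
        (mul_inv_eq_iff_eq_mul.1 (congrArg (fun x => ((x.1 : ↥(zsub σ D)) : G)) h))
    · intro h
      refine Subtype.ext (Subtype.ext ?_)
      show (c : G) * z * (c : G)⁻¹ = z
      rw [← mem_centralizer_iff.1 h.1 z hz.1, mul_inv_cancel_right]
  have := MulAction.index_stabilizer_of_transitive ↥(gam σ D) z'
  rw [hst] at this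
  show ((kone σ D).subgroupOf (gam σ D)).index = _
  rw [this, ← X.card_zsub hD hH hm hr, Nat.card_eq_fintype_card, Nat.card_eq_fintype_card,
    Fintype.card_subtype_compl, Fintype.card_subtype_eq]

/-- `gam σ D` is commutative modulo `kone σ D`. -/
theorem commutator_mem_kone {c c' : G} (hc : c ∈ gam σ D) (hc' : c' ∈ gam σ D) :
    ⁅c, c'⁆ ∈ kone σ D := by
  classical
  obtain ⟨m, hm, hr⟩ := X.exists_m
  obtain ⟨-, -, -, hη, -⟩ := X.aniso hD hH hm hr
  have F := X.frame hD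
  haveI := Fintype.ofFinite (FA D)
  set Q := F.quad hm hr
  obtain ⟨z, hz, hz1⟩ := X.exists_ne_one hD hH
  obtain ⟨η, hη0⟩ : ∃ η : FZ D →+ ZMod 2, η ≠ 0 := by
    haveI := Fintype.ofFinite (FZ D →+ ZMod 2)
    obtain ⟨-, -, hcard, -, -⟩ := X.aniso hD hH hm hr
    have h := card_addHom_zmodTwo F.twoZ
    rw [hcard] at h
    haveI : Nontrivial (FZ D →+ ZMod 2) := by
      rw [← Finite.one_lt_card_iff_nontrivial, h]
      exact Nat.one_lt_two_pow hm.ne'
    exact exists_ne 0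
  obtain ⟨hocc, hrad⟩ := hη η hη0
  have hgood := F.good hm hr hocc hη0
  haveI := hgood.line.nontrivial
  obtain ⟨q, hq⟩ := exists_ne (0 : FA D ⧸ Q.rad η)
  induction q using QuotientAddGroup.induction_on with | H a₀ =>
  have htop : ∀ N : AddSubgroup (FA D), Quad.InvSub F.rhoA N → a₀ ∈ N → N = ⊤ := by
    intro N hN ha
    have hmap := (hgood.le_rad_or hN).resolve_left fun h =>
      hq ((QuotientAddGroup.eq_zero_iff a₀).2 (h ha))
    refine eq_top_iff.2 fun x _ => ?_
    obtain ⟨y, hy, hxy⟩ : (x : FA D ⧸ Q.rad η) ∈ N.map (QuotientAddGroup.mk' (Q.rad η)) :=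
      hmap ▸ AddSubgroup.mem_top _
    have h1 : -y + x ∈ Q.rad η := QuotientAddGroup.eq.1 hxy
    rw [hrad, AddSubgroup.mem_bot, neg_add_eq_zero] at h1
    exact h1 ▸ hy
  -- endomorphisms commuting with the action are polynomials in it
  let S : AddSubgroup (AddMonoid.End (FA D)) := AddSubgroup.closure (Set.range fun i : ℕ => F.rhoA ^ i)
  let ev : AddMonoid.End (FA D) →+ FA D := AddMonoidHom.mk' (fun f => f a₀) fun f g => rfl
  have hS : S.map ev = ⊤ := by
    refine htop _ ?_ ⟨1, AddSubgroup.subset_closure ⟨0, pow_zero _⟩, rfl⟩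
    rintro _ ⟨f, hf, rfl⟩
    refine ⟨F.rhoA * f, ?_, rfl⟩
    have hle : S ≤ S.comap (AddMonoidHom.mulLeft F.rhoA) := (AddSubgroup.closure_le _).2 (by
      rintro _ ⟨i, rfl⟩
      exact AddSubgroup.subset_closure ⟨i + 1, pow_succ' _ _⟩)
    exact hle hf
  have hSc : ∀ (g : AddMonoid.End (FA D)), Commute g F.rhoA → ∀ f ∈ S, Commute g f := by
    intro g hg f hf
    induction hf using AddSubgroup.closure_induction with
    | mem x hx => obtain ⟨i, rfl⟩ := hx; exact hg.pow_right i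
    | zero => exact Commute.zero_right g
    | add x y _ _ hx hy => exact hx.add_right hy
    | neg x _ hx => exact hx.neg_right
  have hpoly : ∀ g : AddMonoid.End (FA D), Commute g F.rhoA → g ∈ S := by
    intro g hg
    obtain ⟨P, hP, hPa⟩ : g a₀ ∈ S.map ev := hS ▸ AddSubgroup.mem_top _
    have hPc : Commute F.rhoA P := hSc _ (Commute.refl _) P hP
    have hN := htop (AddMonoidHom.eqLocus g P) (fun x hx => by
      show g (F.rhoA x) = P (F.rhoA x)
      have e1 : g (F.rhoA x) = F.rhoA (g x) := DFunLike.congr_fun hg.eq x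
      have e2 : P (F.rhoA x) = F.rhoA (P x) := DFunLike.congr_fun hPc.eq.symm x
      rw [e1, e2, show g x = P x from hx]) hPa.symm
    have : g = P := AddMonoidHom.ext fun x =>
      (show x ∈ AddMonoidHom.eqLocus g P from hN ▸ AddSubgroup.mem_top x)
    exact this ▸ hP
  have hrc : ∀ u : ↥(gam σ D), Commute (actA σ D u) F.rhoA := fun u =>
    AddMonoidHom.ext fun a => F.nA_comm u.2.1 u.2.2 a
  have hcomm : ∀ u u' : ↥(gam σ D), Commute (actA σ D u) (actA σ D u') := fun u u' =>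
    hSc _ (hrc u) _ (hpoly _ (hrc u'))
  set u : ↥(gam σ D) := ⟨c, hc⟩
  set u' : ↥(gam σ D) := ⟨c', hc'⟩
  have h1 : actA σ D ⁅u, u'⁆ = 1 := by
    rw [commutatorElement_def, map_mul, map_mul, map_mul, (hcomm u u').eq,
      mul_assoc (actA σ D u'), ← map_mul, mul_inv_cancel, map_one, mul_one, ← map_mul,
      mul_inv_cancel, map_one]
  exact X.mem_kone_of_nA hD (⁅u, u'⁆ : ↥(gam σ D)).2.1 (⁅u, u'⁆ : ↥(gam σ D)).2.2
    fun a => DFunLike.congr_fun h1 a

/-- The fixed factor of an element of `N(D)` with central square centralises `D`. -/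
theorem mem_kone_of_sq {y d t : G} (hdec : Dec σ D y d t) (hy : y * y ∈ Subgroup.center G) :
    t ∈ kone σ D := by
  obtain ⟨z, hz, hz1⟩ := X.exists_ne_one hD hH
  have hsq := hdec.sq
  have hfx : σ ((d * (t * d * t⁻¹))) = d * (t * d * t⁻¹) := by
    have h1 := X.center_fixed hy
    rw [hsq.eq, map_mul, hsq.fix] at h1
    exact mul_right_cancel h1
  have hd' : d * (t * d * t⁻¹) ∈ zsub σ D := ⟨hsq.mem, hfx⟩
  set w := t * z * t⁻¹ with hw
  have hwz : w ∈ zsub σ D := X.mem_normalizer_zsub hD hdec.fix hdec.norm hz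
  have ht2 : t * w * t⁻¹ = z := by
    have e1 : t * w * t⁻¹ = (t * t) * z * (t * t)⁻¹ := by rw [hw]; group
    have e2 : t * t = (d * (t * d * t⁻¹))⁻¹ * (y * y) := by rw [hsq.eq, inv_mul_cancel_left]
    have hc1 : Commute (d * (t * d * t⁻¹))⁻¹ z := Commute.inv_left (X.zsub_comm hD hz hd'.1)
    have hc2 : Commute (y * y) z := (Subgroup.mem_center_iff.1 hy z).symm
    rw [e1, e2, (hc1.mul_left hc2).eq, mul_inv_cancel_right]
  by_cases hcase : w = z
  · exact X.mem_kone_of_fix hD hH hdec.fix hdec.norm hz hz1 (mul_inv_eq_iff_eq_mul.1 hcase)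
  · refine X.mem_kone_of_fix hD hH hdec.fix hdec.norm (mul_mem hz hwz) (fun h => hcase ?_) ?_
    · rw [eq_inv_of_mul_eq_one_right h, inv_eq_of_mul_eq_one_right (X.zsub_sq hD hz)]
    · refine mul_inv_eq_iff_eq_mul.1 ?_
      calc t * (z * w) * t⁻¹ = w * (t * w * t⁻¹) := by rw [hw]; group
        _ = w * z := by rw [ht2]
        _ = z * w := (X.zsub_comm hD hwz hz.1).symm

end Cx

end CfsgLib.HHShult
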