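import Cfsg.Agent.HHShult.Fix

/-!
# Restriction of the automorphism to invariant subgroups and to quotients
-/

set_option autoImplicit false
set_option linter.style.haveILetI false
set_option linter.unusedSectionVars false

namespace CfsgLib.HHShult

open Subgroup

variable {G : Type*} [Group G] [Finite G] {σ : MulAut G}

/-- The restriction of `σ` to an invariant subgroup. -/
noncomputable def Inv.aut {H : Subgroup G} (hH : Inv σ H) : MulAut H :=
  MulEquiv.ofBijective
    ({ toFun := fun x => ⟨σ x, hH x x.2⟩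
       map_one' := Subtype.ext (map_one σ)
       map_mul' := fun a b => Subtype.ext (map_mul σ _ _) } : H →* H)
    (Finite.injective_iff_bijective.1 fun a b hab =>
      Subtype.ext (σ.injective (congrArg Subtype.val hab)))

theorem Inv.aut_apply {H : Subgroup G} (hH : Inv σ H) (x : H) : (hH.aut x : G) = σ x := rfl

theorem Inv.aut_pow_apply {H : Subgroup G} (hH : Inv σ H) :
    ∀ (n : ℕ) (x : H), ((hH.aut ^ n) x : G) = (σ ^ n) (x : G)
  | 0, _ => rfl
  | n + 1, x => by
    rw [pow_succ', pow_succ', MulAut.mul_apply, MulAut.mul_apply, hH.aut_apply,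
      Inv.aut_pow_apply hH n x]

theorem Cop.restrict {r : ℕ} (h : Cop σ r) {H : Subgroup G} (hH : Inv σ H) : Cop hH.aut r where
  prime := h.prime
  pow_eq := by
    ext x
    rw [hH.aut_pow_apply, h.pow_eq]
    rfl
  not_dvd := fun hd => h.not_dvd (hd.trans (card_subgroup_dvd_card H))

theorem Inv.inv_map_subtype {H : Subgroup G} (hH : Inv σ H) {L : Subgroup H}
    (hL : Inv hH.aut L) : Inv σ (L.map H.subtype) := by
  rintro _ ⟨x, hx, rfl⟩
  exact ⟨hH.aut x, hL x hx, rfl⟩

theorem Inv.inv_subgroupOf {H K : Subgroup G} (hH : Inv σ H) (hK : Inv σ K) :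
    Inv hH.aut (K.subgroupOf H) := fun x hx => hK (x : G) hx

theorem Inv.map_moved {H : Subgroup G} (hH : Inv σ H) (L : Subgroup H) :
    (HHShult.moved hH.aut L).map H.subtype = HHShult.moved σ (L.map H.subtype) := by
  rw [HHShult.moved, HHShult.moved, MonoidHom.map_closure]
  congr 1
  ext y
  constructor
  · rintro ⟨_, ⟨x, hx, rfl⟩, rfl⟩
    exact ⟨x, ⟨x, hx, rfl⟩, rfl⟩
  · rintro ⟨_, ⟨x, hx, rfl⟩, rfl⟩
    exact ⟨_, ⟨x, hx, rfl⟩, rfl⟩

theorem Inv.map_moved_top {H : Subgroup G} (hH : Inv σ H) :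
    (HHShult.moved hH.aut ⊤).map H.subtype = HHShult.moved σ H := by
  rw [hH.map_moved, ← MonoidHom.range_eq_map, range_subtype]

theorem Inv.map_fixedSub {H : Subgroup G} (hH : Inv σ H) :
    (fixedSub hH.aut).map H.subtype = H ⊓ fixedSub σ := by
  ext y
  constructor
  · rintro ⟨x, hx, rfl⟩
    exact ⟨x.2, congrArg Subtype.val hx⟩
  · rintro ⟨hy, hf⟩
    exact ⟨⟨y, hy⟩, Subtype.ext hf, rfl⟩

/-- The automorphism of a quotient by an invariant normal subgroup. -/
noncomputable def Inv.quotAut {N : Subgroup G} [N.Normal] (hN : Inv σ N) : MulAut (G ⧸ N) :=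
  QuotientGroup.congr N N σ hN.map_eq

theorem Inv.quotAut_mk {N : Subgroup G} [N.Normal] (hN : Inv σ N) (g : G) :
    hN.quotAut (g : G ⧸ N) = ((σ g : G) : G ⧸ N) := rfl

theorem Inv.quotAut_pow_mk {N : Subgroup G} [N.Normal] (hN : Inv σ N) :
    ∀ (n : ℕ) (g : G), (hN.quotAut ^ n) (g : G ⧸ N) = (((σ ^ n) g : G) : G ⧸ N)
  | 0, _ => rfl
  | n + 1, g => by
    rw [pow_succ', pow_succ', MulAut.mul_apply, Inv.quotAut_pow_mk hN n g, hN.quotAut_mk]
    rfl

theorem Cop.quotient {r : ℕ} (h : Cop σ r) {N : Subgroup G} [N.Normal] (hN : Inv σ N) :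
    Cop hN.quotAut r where
  prime := h.prime
  pow_eq := by
    ext x
    induction x using QuotientGroup.induction_on with
    | H g => rw [hN.quotAut_pow_mk, h.pow_eq]; rfl
  not_dvd := fun hd => h.not_dvd (hd.trans (card_quotient_dvd_card N))

theorem Inv.map_moved_mk {N : Subgroup G} [N.Normal] (hN : Inv σ N) (H : Subgroup G) :
    (HHShult.moved σ H).map (QuotientGroup.mk' N) =
      HHShult.moved hN.quotAut (H.map (QuotientGroup.mk' N)) := by
  rw [HHShult.moved, HHShult.moved, MonoidHom.map_closure]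
  congr 1
  ext y
  constructor
  · rintro ⟨_, ⟨x, hx, rfl⟩, rfl⟩
    exact ⟨(x : G ⧸ N), ⟨x, hx, rfl⟩, rfl⟩
  · rintro ⟨_, ⟨x, hx, rfl⟩, rfl⟩
    exact ⟨_, ⟨x, hx, rfl⟩, rfl⟩

/-- Fixed points of a quotient come from fixed points. -/
theorem Cop.exists_fixed_lift {r : ℕ} (h : Cop σ r) {N : Subgroup G} [N.Normal] (hN : Inv σ N)
    {g : G} (hg : hN.quotAut (g : G ⧸ N) = g) : ∃ c, σ c = c ∧ (c : G ⧸ N) = g := by
  rw [hN.quotAut_mk, eq_comm, QuotientGroup.eq] at hg
  obtain ⟨k, hk, hfix⟩ := h.exists_mem_fixed_coset hN hg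
  exact ⟨g * k, hfix, by rw [QuotientGroup.mk_mul_of_mem _ hk]⟩

end CfsgLib.HHShult
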