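import Cfsg.Agent.HHShult.Norm
import Cfsg.Agent.FgsSix.UnipotentDerived

/-!
# The minimal configuration

`Cx p σ r ψ s`: an irreducible module on which `σ` has no fixed vector, all proper invariant
subgroups are `p`-by-`2` after moving, `G = [G,σ]` is not a `2`-group.  The aim is `False`.

* `Cx.p_ne_two`, `Cx.moved_ne_bot`;
* `ucore p σ H`: the `p`-part of `[H,σ]`; `Cx.mem_moved_iff`, `Cx.moved_le_cj`, `Cx.decomp_of_le`:
  the structure of a proper invariant subgroup containing `D`.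
-/

set_option autoImplicit false
set_option linter.style.haveILetI false
set_option linter.unusedSectionVars false

open Finset Module Subgroup CfsgLib.ConjFunctor
open scoped commutatorElement CfsgLib.ConjFunctor Pointwise

namespace CfsgLib.HHShult

universe u v w

variable {K : Type u} [Field K] {V : Type v} [AddCommGroup V] [Module K V]
variable {G : Type w} [Group G]

/-- `M` is `p`-by-`2`. -/
def PBy2 (p : ℕ) (M : Subgroup G) : Prop :=
  ∃ U : Subgroup G, U ≤ M ∧ IsPGroup p U ∧ M ≤ normalizer (U : Set G) ∧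
    ∀ x ∈ M, ∃ k : ℕ, x ^ (2 ^ k) ∈ U

/-- The subgroup generated by the `p`-elements. -/
def pPart (p : ℕ) (M : Subgroup G) : Subgroup G :=
  closure {x | x ∈ M ∧ ∃ k : ℕ, x ^ (p ^ k) = 1}

theorem pPart_le (p : ℕ) (M : Subgroup G) : pPart p M ≤ M := (closure_le _).2 fun _ hx => hx.1

theorem le_pPart {p : ℕ} {M A : Subgroup G} (hA : A ≤ M) (hAp : IsPGroup p A) : A ≤ pPart p M :=
  fun x hx => subset_closure ⟨hA hx, by
    obtain ⟨k, hk⟩ := hAp ⟨x, hx⟩
    exact ⟨k, by simpa using congrArg Subtype.val hk⟩⟩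

theorem inv_pPart {p : ℕ} {σ : MulAut G} {M : Subgroup G} (hM : Inv σ M) : Inv σ (pPart p M) :=
  inv_closure fun x ⟨hx, k, hk⟩ => subset_closure ⟨hM x hx, k, by rw [← map_pow, hk, map_one]⟩

theorem mem_normalizer_pPart [Finite G] {p : ℕ} {M : Subgroup G} {g : G}
    (hg : g ∈ normalizer (M : Set G)) : g ∈ normalizer (pPart p M : Set G) := by
  refine mem_normalizer_of_cj_le ?_
  rw [pPart, MonoidHom.map_closure, closure_le]
  rintro _ ⟨x, ⟨hx, k, hk⟩, rfl⟩
  exact subset_closure ⟨(mem_normalizer_iff.1 hg x).1 hx, k, by rw [← map_pow, hk, map_one]⟩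

/-- The `p`-part of `[H, σ]`. -/
def ucore (p : ℕ) (σ : MulAut G) (H : Subgroup G) : Subgroup G := pPart p (moved σ H)

/-- An element killed by powers of two different primes is trivial. -/
theorem eq_one_of_pow_pow {p q : ℕ} (hp : p.Prime) (hq : q.Prime) (hne : p ≠ q) {x : G} {a b : ℕ}
    (ha : x ^ (p ^ a) = 1) (hb : x ^ (q ^ b) = 1) : x = 1 := by
  rw [← orderOf_eq_one_iff]
  exact Nat.eq_one_of_dvd_coprimes (Nat.Coprime.pow a b ((Nat.coprime_primes hp hq).2 hne))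
    (orderOf_dvd_of_pow_eq_one ha) (orderOf_dvd_of_pow_eq_one hb)

theorem inf_eq_bot_of_isPGroup {p q : ℕ} [Fact p.Prime] [Fact q.Prime] (hne : p ≠ q)
    {A B : Subgroup G} (hA : IsPGroup p A) (hB : IsPGroup q B) : A ⊓ B = ⊥ := by
  rw [eq_bot_iff]
  rintro x ⟨hxA, hxB⟩
  obtain ⟨a, ha⟩ := hA ⟨x, hxA⟩
  obtain ⟨b, hb⟩ := hB ⟨x, hxB⟩
  rw [mem_bot]
  exact eq_one_of_pow_pow (Fact.out : p.Prime) (Fact.out : q.Prime) hne
    (congrArg Subtype.val ha) (congrArg Subtype.val hb)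

theorem PBy2.eq_pPart [Finite G] {p : ℕ} [Fact p.Prime] (hp2 : p ≠ 2) {M U : Subgroup G}
    (hUM : U ≤ M) (hU : IsPGroup p U) (hn : M ≤ normalizer (U : Set G))
    (h2 : ∀ x ∈ M, ∃ k : ℕ, x ^ (2 ^ k) ∈ U) : pPart p M = U := by
  refine le_antisymm ((closure_le _).2 ?_) (le_pPart hUM hU)
  rintro x ⟨hx, a, ha⟩
  obtain ⟨b, hb⟩ := h2 x hx
  obtain ⟨c, hc⟩ : ∃ c : ℕ, (x ^ (2 ^ b)) ^ c = x :=
    exists_pow_eq_self_of_coprime (Nat.Coprime.of_dvd_right (orderOf_dvd_of_pow_eq_one ha)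
      (Nat.Coprime.pow b a ((Nat.coprime_primes Nat.prime_two (Fact.out : p.Prime)).2 hp2.symm)))
  rw [← hc]
  exact U.pow_mem hb c

variable [Finite G] [IsAlgClosed K] [FiniteDimensional K V]

/-- No proper invariant subspace. -/
def Irr (ψ : G →* Module.End K V) (s : Module.End K V) : Prop :=
  ∀ W : Submodule K V, (∀ g, ∀ v ∈ W, ψ g v ∈ W) → (∀ v ∈ W, s v ∈ W) → W = ⊥ ∨ W = ⊤

/-- The minimal configuration. -/
structure Cx (p : ℕ) (σ : MulAut G) (r : ℕ) (ψ : G →* Module.End K V) (s : Module.End K V) :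
    Prop where
  act : Act σ r ψ s
  charP : CharP K p
  irr : Irr ψ s
  nontrivial : Nontrivial V
  top_eq : moved σ (⊤ : Subgroup G) = ⊤
  not_two : ¬ IsPGroup 2 G
  min : ∀ H : Subgroup G, Inv σ H → H ≠ ⊤ → PBy2 p (moved σ H)

namespace Cx

variable {p : ℕ} [hp : Fact p.Prime] {σ : MulAut G} {r : ℕ} {ψ : G →* Module.End K V}
  {s : Module.End K V} (X : Cx p σ r ψ s)
include X

theorem cast_ne {q : ℕ} (hq : q.Prime) (hqp : q ≠ p) : (q : K) ≠ 0 := fun h => by
  haveI := X.charP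
  exact hqp ((Nat.prime_dvd_prime_iff_eq hp.out hq).1 ((CharP.cast_eq_zero_iff K p q).1 h)).symm

theorem p_ne_r : p ≠ r := fun h => by
  haveI := X.charP
  exact X.act.rne (by rw [← h]; exact CharP.cast_eq_zero K p)

theorem fixed_of_prime {q : ℕ} [Fact q.Prime] (hq2 : q ≠ 2) (hqp : q ≠ p) {Q : Subgroup G}
    (hQ : Inv σ Q) (hQq : IsPGroup q Q) : Q ≤ fixedSub σ :=
  X.act.fixed_of_odd hq2 (X.cast_ne Fact.out hqp) hQ hQq

/-- An invariant normal `p`-subgroup is trivial. -/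
theorem eq_bot_of_normal {N : Subgroup G} (hN : N.Normal) (hNi : Inv σ N) (hNp : IsPGroup p N) :
    N = ⊥ := by
  haveI := X.charP
  haveI := X.nontrivial
  let W : Submodule K V :=
    { carrier := {v | ∀ n ∈ N, ψ n v = v}
      add_mem' := fun {a b} ha hb n hn => by rw [map_add, ha n hn, hb n hn]
      zero_mem' := fun n _ => map_zero _
      smul_mem' := fun c v hv n hn => by rw [map_smul, hv n hn] }
  have hW : W ≠ ⊥ := by
    obtain ⟨v₀, hv₀⟩ := exists_ne (0 : V)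
    obtain ⟨w, hw0, hw⟩ := CfsgLib.FgsSix.exists_ne_zero_fixed hNp (ψ.comp N.subtype) hv₀
    exact (Submodule.ne_bot_iff _).2 ⟨w, fun n hn => hw ⟨n, hn⟩, hw0⟩
  have hWg : ∀ g, ∀ v ∈ W, ψ g v ∈ W := by
    intro g v hv n hn
    have hn' : g⁻¹ * n * g ∈ N := by simpa using hN.conj_mem n hn g⁻¹
    rw [← Module.End.mul_apply, ← map_mul, show n * g = g * (g⁻¹ * n * g) by group, map_mul,
      Module.End.mul_apply, hv _ hn']
  have hWs : ∀ v ∈ W, s v ∈ W := by
    intro v hv n hn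
    rw [← hNi.map_eq] at hn
    obtain ⟨m, hm, rfl⟩ := hn
    show ψ (σ m) (s v) = s v
    rw [← Module.End.mul_apply, ← X.act.compat, Module.End.mul_apply, hv m hm]
  rcases X.irr W hWg hWs with h | h
  · exact absurd h hW
  · rw [eq_bot_iff]
    intro n hn
    rw [mem_bot]
    refine X.act.inj (LinearMap.ext fun v => ?_)
    rw [map_one, Module.End.one_apply]
    exact (h ▸ Submodule.mem_top : v ∈ W) n hn

/-- The fixed points meet an invariant Sylow subgroup in a Sylow subgroup. -/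
theorem sylow_inf_fixed {q : ℕ} [Fact q.Prime] {H T : Subgroup G} (hH : Inv σ H) (hT : Inv σ T)
    (hTs : IsSylowIn q T H) : IsSylowIn q (T ⊓ fixedSub σ) (H ⊓ fixedSub σ) := by
  obtain ⟨Q, hQ, hQs⟩ := exists_isSylowIn_ge
    (show T ⊓ fixedSub σ ≤ H ⊓ fixedSub σ from inf_le_inf_right _ hTs.1) hTs.2.1.to_inf_left
  have hQi : Inv σ Q := fun x hx => by rw [(hQs.1 hx).2]; exact hx
  obtain ⟨c, hc, hcf, hle⟩ := X.act.cop.exists_cj_fixed_le hH (hQs.1.trans inf_le_left) hQs.2.1 hQi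
    hT hTs
  have hle2 : c *• Q ≤ T ⊓ fixedSub σ := le_inf hle (cj_le_iff.2 fun x hx => by
    rw [mem_fixedSub, map_mul, map_mul, map_inv, hcf, (hQs.1 hx).2])
  rw [eq_of_le_of_card_ge hQ (by
    rw [← card_cj c Q]; exact Nat.le_of_dvd Nat.card_pos (card_dvd_of_le hle2))]
  exact hQs

/-- If the invariant Sylow subgroups for all primes other than `ℓ` are fixed, `[G,σ]` is an
`ℓ`-group. -/
theorem top_le_of_others_fixed {ℓ : ℕ} [Fact ℓ.Prime]
    (hfix : ∀ q : ℕ, q.Prime → q ≠ ℓ → ∀ T : Subgroup G, Inv σ T → IsPGroup q T →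
      T ≤ fixedSub σ) : IsPGroup ℓ G := by
  classical
  obtain ⟨S, -, hS, hSs⟩ := X.act.cop.exists_sylow (p := ℓ) inv_top bot_le IsPGroup.of_bot inv_bot
  -- the index of the fixed points is a power of `ℓ`
  obtain ⟨e, he⟩ : ∃ e, (fixedSub σ).index = ℓ ^ e := by
    refine ⟨_, Nat.eq_prime_pow_of_unique_prime_dvd index_ne_zero_of_finite fun {q} hq hd => ?_⟩
    by_contra hne
    haveI := Fact.mk hq
    obtain ⟨T, -, hT, hTs⟩ := X.act.cop.exists_sylow (p := q) inv_top bot_le IsPGroup.of_bot inv_bot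
    have hle : T ≤ fixedSub σ := hfix q hq hne T hT hTs.2.1
    apply hTs.2.2
    rw [relIndex_top_right]
    exact hd.trans (index_dvd_of_le hle)
  -- so `G = S C`
  set C := fixedSub σ with hC
  have hdiv : C.index ∣ C.relIndex S := by
    have h2 := relIndex_mul_relIndex (S ⊓ C) C ⊤ inf_le_right le_top
    have h3 := relIndex_mul_relIndex (S ⊓ C) S ⊤ inf_le_left le_top
    rw [relIndex_top_right] at h2 h3
    have h4 : C.index ∣ (S ⊓ C).relIndex S * S.index := by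
      rw [h3, ← h2]; exact dvd_mul_left _ _
    rw [inf_relIndex_left] at h4
    refine Nat.Coprime.dvd_of_dvd_mul_right ?_ h4
    have h5 := hSs.2.2
    rw [relIndex_top_right] at h5
    rw [he]
    exact Nat.Coprime.pow_left _ ((Fact.out : ℓ.Prime).coprime_iff_not_dvd.2 h5)
  let f : ↥S ⧸ C.subgroupOf S → G ⧸ C :=
    Quotient.map' (fun x : ↥S => (x : G)) fun a b hab => by
      rw [QuotientGroup.leftRel_apply] at hab ⊢
      exact hab
  have hfinj : Function.Injective f := by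
    intro a b
    induction a using QuotientGroup.induction_on with | H a =>
    induction b using QuotientGroup.induction_on with | H b =>
    intro hab
    have h1 : ((a : G) : G ⧸ C) = ((b : G) : G ⧸ C) := hab
    rw [QuotientGroup.eq] at h1 ⊢
    exact h1
  have hfsurj : Function.Surjective f :=
    ((Nat.bijective_iff_injective_and_card f).2 ⟨hfinj, le_antisymm
      (Nat.card_le_card_of_injective f hfinj)
      (Nat.le_of_dvd Nat.card_pos hdiv)⟩).2
  have hle : moved σ (⊤ : Subgroup G) ≤ S := by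
    rw [moved, closure_le]
    rintro _ ⟨g, -, rfl⟩
    obtain ⟨q, hq⟩ := hfsurj ((g⁻¹ : G) : G ⧸ C)
    induction q using QuotientGroup.induction_on with | H x =>
    have h1 : ((x : G) : G ⧸ C) = ((g⁻¹ : G) : G ⧸ C) := hq
    rw [QuotientGroup.eq] at h1
    -- `g⁻¹ = x c`
    have hc : σ ((x : G)⁻¹ * g⁻¹) = (x : G)⁻¹ * g⁻¹ := h1
    have e : g⁻¹ * σ g = (x : G) * (σ (x : G))⁻¹ := by
      have h3 : σ g⁻¹ = σ (x : G) * ((x : G)⁻¹ * g⁻¹) := by
        conv_lhs => rw [show g⁻¹ = (x : G) * ((x : G)⁻¹ * g⁻¹) by group]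
        rw [map_mul, hc]
      rw [map_inv] at h3
      rw [← inv_inv (σ g), h3]
      group
    rw [SetLike.mem_coe, e]
    exact mul_mem x.2 (inv_mem (hS _ x.2))
  rw [X.top_eq] at hle
  exact hSs.2.1.of_equiv (MulEquiv.subgroupCongr (top_le_iff.1 hle)) |>.of_equiv Subgroup.topEquiv

/-- The characteristic is odd. -/
theorem p_ne_two : p ≠ 2 := fun h => by
  subst h
  exact X.not_two (X.top_le_of_others_fixed (ℓ := 2) fun q hq hne T hT hTp => by
    haveI := Fact.mk hq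
    exact X.fixed_of_prime hne hne hT hTp)

theorem two_ne : (2 : K) ≠ 0 := by exact_mod_cast X.cast_ne Nat.prime_two X.p_ne_two.symm

theorem moved_ne_bot {S : Subgroup G} (hS : Inv σ S) (hSs : IsSylowIn 2 S ⊤) :
    moved σ S ≠ ⊥ := fun h => by
  have hGp : IsPGroup p G := X.top_le_of_others_fixed (ℓ := p) fun q hq hne T hT hTp => by
    haveI := Fact.mk hq
    by_cases h2 : q = 2
    · subst h2
      obtain ⟨c, -, hcf, hle⟩ := X.act.cop.exists_cj_fixed_le inv_top le_top hTp hT hS hSs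
      intro x hx
      have h1 := moved_eq_bot_iff.1 h (hle (conj_mem_cj c hx))
      rw [mem_fixedSub, map_mul, map_mul, map_inv, hcf] at h1
      exact mem_fixedSub.2 (mul_left_cancel (mul_right_cancel h1))
    · exact X.fixed_of_prime h2 hne hT hTp
  have := X.eq_bot_of_normal (N := (⊤ : Subgroup G)) inferInstance inv_top
    (hGp.of_equiv Subgroup.topEquiv.symm)
  exact X.not_two fun g => ⟨0, by
    have h1 : g ∈ (⊤ : Subgroup G) := mem_top g
    rw [this, mem_bot] at h1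
    rw [h1, one_pow]⟩

theorem inv_ucore {H : Subgroup G} (hH : Inv σ H) : Inv σ (ucore p σ H) := inv_pPart hH.moved

theorem ucore_le {H : Subgroup G} (hH : Inv σ H) : ucore p σ H ≤ H :=
  (pPart_le _ _).trans (moved_le hH)

theorem le_normalizer_ucore {H : Subgroup G} : H ≤ normalizer (ucore p σ H : Set G) :=
  fun _ hg => mem_normalizer_pPart (le_normalizer_moved hg)

theorem exists_ucore {H : Subgroup G} (hH : Inv σ H) (hne : H ≠ ⊤) :
    IsPGroup p (ucore p σ H) ∧ ∀ x ∈ moved σ H, ∃ k : ℕ, x ^ (2 ^ k) ∈ ucore p σ H := by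
  obtain ⟨U, hUM, hU, hn, h2⟩ := X.min H hH hne
  rw [ucore, PBy2.eq_pPart X.p_ne_two hUM hU hn h2]
  exact ⟨hU, h2⟩

theorem isPGroup_ucore {H : Subgroup G} (hH : Inv σ H) (hne : H ≠ ⊤) :
    IsPGroup p (ucore p σ H) := (X.exists_ucore hH hne).1

end Cx

/-- `D = [S, σ]` for an invariant Sylow `2`-subgroup `S`. -/
def IsStdD (σ : MulAut G) (D : Subgroup G) : Prop :=
  ∃ S : Subgroup G, Inv σ S ∧ IsSylowIn 2 S ⊤ ∧ moved σ S = D

namespace Cx

variable {p : ℕ} [hp : Fact p.Prime] {σ : MulAut G} {r : ℕ} {ψ : G →* Module.End K V}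
  {s : Module.End K V} (X : Cx p σ r ψ s) {D : Subgroup G}
include X

theorem exists_stdD : ∃ D : Subgroup G, IsStdD σ D := by
  haveI : Fact (Nat.Prime 2) := ⟨Nat.prime_two⟩
  obtain ⟨S, -, hS, hSs⟩ :=
    X.act.cop.exists_sylow (p := 2) inv_top bot_le IsPGroup.of_bot inv_bot
  exact ⟨_, S, hS, hSs, rfl⟩

theorem inv_D (hD : IsStdD σ D) : Inv σ D := by
  obtain ⟨S, hS, -, rfl⟩ := hD
  exact hS.moved

theorem isPGroup_D (hD : IsStdD σ D) : IsPGroup 2 ↥D := by
  obtain ⟨S, hS, hSs, rfl⟩ := hD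
  exact hSs.2.1.to_le (moved_le hS)

theorem moved_D (hD : IsStdD σ D) : moved σ D = D := by
  obtain ⟨S, hS, -, rfl⟩ := hD
  exact X.act.cop.moved_moved hS

theorem D_ne_bot (hD : IsStdD σ D) : D ≠ ⊥ := by
  obtain ⟨S, hS, hSs, rfl⟩ := hD
  exact X.moved_ne_bot hS hSs

theorem frame (hD : IsStdD σ D) : Frame σ r ψ s D where
  act := X.act
  two_ne := X.two_ne
  inv := X.inv_D hD
  isPGroup := X.isPGroup_D hD
  moved_eq := X.moved_D hD

theorem exists_m : ∃ m, 0 < m ∧ r = 2 ^ m + 1 := by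
  obtain ⟨D, hD⟩ := X.exists_stdD
  exact (X.frame hD).exists_m (X.D_ne_bot hD)

theorem stdD_cj (hD : IsStdD σ D) {c : G} (hc : σ c = c) : IsStdD σ (c *• D) := by
  obtain ⟨S, hS, hSs, rfl⟩ := hD
  refine ⟨c *• S, hS.cj hc, ?_, moved_cj hc⟩
  have h := hSs.cj c
  rwa [show c *• (⊤ : Subgroup G) = ⊤ from map_top_of_surjective _ (MulAut.conj c).surjective] at h

/-- Invariant `2`-subgroups are moved into a conjugate of `D`. -/
theorem exists_moved_le_cj (hD : IsStdD σ D) {A : Subgroup G} (hA : Inv σ A)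
    (hA2 : IsPGroup 2 ↥A) : ∃ c, σ c = c ∧ c *• moved σ A ≤ D := by
  haveI : Fact (Nat.Prime 2) := ⟨Nat.prime_two⟩
  obtain ⟨S, hS, hSs, rfl⟩ := hD
  obtain ⟨c, -, hcf, hle⟩ := X.act.cop.exists_cj_fixed_le inv_top le_top hA2 hA hS hSs
  exact ⟨c, hcf, by rw [← moved_cj hcf]; exact moved_mono hle⟩

theorem card_moved_two_le (hD : IsStdD σ D) {A : Subgroup G} (hA : Inv σ A)
    (hA2 : IsPGroup 2 ↥A) : Nat.card (moved σ A) ≤ Nat.card D := by
  obtain ⟨c, -, hle⟩ := X.exists_moved_le_cj hD hA hA2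
  rw [← card_cj c]
  exact Nat.le_of_dvd Nat.card_pos (card_dvd_of_le hle)

section inH

variable (hD : IsStdD σ D) {H : Subgroup G} (hH : Inv σ H) (hne : H ≠ ⊤) (hDH : D ≤ H)
include hD hH hne hDH

omit hne in
theorem D_le_moved : D ≤ moved σ H := by
  rw [← X.moved_D hD]; exact moved_mono hDH

theorem ucore_inf_D : ucore p σ H ⊓ D = ⊥ :=
  haveI : Fact (Nat.Prime 2) := ⟨Nat.prime_two⟩
  inf_eq_bot_of_isPGroup X.p_ne_two (X.isPGroup_ucore hH hne) (X.isPGroup_D hD)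

/-- `[H, σ] = U D`. -/
theorem exists_mul_of_mem_moved {x : G} (hx : x ∈ moved σ H) :
    ∃ u ∈ ucore p σ H, ∃ d ∈ D, x = u * d := by
  haveI : Fact (Nat.Prime 2) := ⟨Nat.prime_two⟩
  set U := ucore p σ H with hU
  have hUi : Inv σ U := X.inv_ucore hH
  have hUM : U ≤ moved σ H := pPart_le _ _
  have hMn : moved σ H ≤ normalizer (U : Set G) :=
    fun g hg => X.le_normalizer_ucore (moved_le hH hg)
  obtain ⟨T, hDT, hT, hTs⟩ := X.act.cop.exists_sylow (p := 2) hH.moved (X.D_le_moved hD hH hDH)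
    (X.isPGroup_D hD) (X.inv_D hD)
  -- the image of `T` covers `[H, σ] / U`
  have hUT : U ⊔ T = moved σ H := by
    refine le_antisymm (sup_le hUM hTs.1) ?_
    have hrel : (U ⊔ T).relIndex (moved σ H) = 1 := by
      by_contra hrel
      obtain ⟨q, hq, hd⟩ := Nat.exists_prime_and_dvd hrel
      haveI := Fact.mk hq
      by_cases hq2 : q = 2
      · subst hq2
        exact hTs.2.2 (hd.trans (relIndex_dvd_of_le_left _ le_sup_right))
      · -- every element has a power of two in `U`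
        obtain ⟨Q, -, hQs⟩ := exists_isSylowIn_ge (bot_le : (⊥ : Subgroup G) ≤ moved σ H)
          (IsPGroup.of_bot (p := q))
        have hQU : Q ≤ U := fun y hy => by
          obtain ⟨k, hk⟩ := (X.exists_ucore hH hne).2 y (hQs.1 hy)
          obtain ⟨n, hn⟩ := hQs.2.1 ⟨y, hy⟩
          have hn' : y ^ (q ^ n) = 1 := congrArg Subtype.val hn
          obtain ⟨c, hc⟩ := exists_pow_eq_self_of_coprime (x := y) (n := 2 ^ k)
            (Nat.Coprime.of_dvd_right (orderOf_dvd_of_pow_eq_one hn')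
              (Nat.Coprime.pow k n ((Nat.coprime_primes Nat.prime_two hq).2 (Ne.symm hq2))))
          rw [← hc]
          exact U.pow_mem hk c
        exact hQs.2.2 (hd.trans ((relIndex_dvd_of_le_left _ (le_sup_left : U ≤ U ⊔ T)).trans
          (relIndex_dvd_of_le_left _ hQU)))
    exact relIndex_eq_one.1 hrel
  have hmul : ∀ g ∈ moved σ H, ∃ u ∈ U, ∃ t ∈ T, g = u * t := by
    intro g hg
    rw [← hUT] at hg
    have h1 : (↑(U ⊔ T) : Set G) = (U : Set G) * (T : Set G) :=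
      coe_mul_of_right_le_normalizer_left U T (hTs.1.trans hMn)
    have hg' : g ∈ (U : Set G) * (T : Set G) := h1 ▸ hg
    obtain ⟨u, hu, t, ht, rfl⟩ := hg'
    exact ⟨u, hu, t, ht, rfl⟩
  -- so `T = [T, σ] = D`
  have hUT1 : U ⊓ T = ⊥ := inf_eq_bot_of_isPGroup X.p_ne_two (X.isPGroup_ucore hH hne) hTs.2.1
  have hTD : T = D := by
    have hTle : T ≤ moved σ T := by
      intro t ht
      have hgen : moved σ (moved σ H) ≤ U ⊔ moved σ T := by
        have hN : moved σ T ≤ normalizer (U : Set G) := (moved_le hT).trans (hTs.1.trans hMn)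
        rw [moved, closure_le]
        rintro _ ⟨g, hg, rfl⟩
        obtain ⟨u, hu, t', ht', rfl⟩ := hmul g hg
        have e : (u * t')⁻¹ * σ (u * t') = (t'⁻¹ * (u⁻¹ * σ u) * t') * (t'⁻¹ * σ t') := by
          rw [map_mul]; group
        rw [SetLike.mem_coe, e]
        refine mul_mem_sup ?_ (mem_moved σ ht')
        exact (mem_normalizer_iff''.1 (hMn (hTs.1 ht')) _).1 (mul_mem (inv_mem hu) (hUi u hu))
      rw [X.act.cop.moved_moved hH] at hgen
      have h2 := hgen (hTs.1 ht)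
      have h1 : (↑(U ⊔ moved σ T) : Set G) = (U : Set G) * (moved σ T : Set G) :=
        coe_mul_of_right_le_normalizer_left U _ ((moved_le hT).trans (hTs.1.trans hMn))
      have h2' : t ∈ (U : Set G) * (moved σ T : Set G) := h1 ▸ h2
      obtain ⟨u, hu, t', ht', he⟩ := h2'
      have hu1 : u ∈ U ⊓ T := ⟨hu, by
        rw [show u = t * t'⁻¹ by rw [← he]; group]
        exact T.mul_mem ht (T.inv_mem (moved_le hT ht'))⟩
      rw [hUT1, mem_bot] at hu1
      rw [← he, hu1]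
      simpa using ht'
    have hc := X.card_moved_two_le hD hT hTs.2.1
    exact (eq_of_le_of_card_ge hDT ((Subgroup.card_le_of_le hTle).trans hc)).symm
  obtain ⟨u, hu, t, ht, rfl⟩ := hmul x hx
  exact ⟨u, hu, t, hTD ▸ ht, rfl⟩

theorem isSylowIn_D : IsSylowIn 2 D (moved σ H) := by
  haveI : Fact (Nat.Prime 2) := ⟨Nat.prime_two⟩
  obtain ⟨T, hDT, hTs⟩ := exists_isSylowIn_ge (X.D_le_moved hD hH hDH) (X.isPGroup_D hD)
  suffices h : T = D by rw [h] at hTs; exact hTs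
  refine le_antisymm (fun t ht => ?_) hDT
  obtain ⟨u, hu, d, hd, rfl⟩ := X.exists_mul_of_mem_moved hD hH hne hDH (hTs.1 ht)
  have hu1 : u ∈ ucore p σ H ⊓ T := ⟨hu, by
    have := mul_mem ht (inv_mem (hDT hd)); rwa [mul_inv_cancel_right] at this⟩
  rw [inf_eq_bot_of_isPGroup X.p_ne_two (X.isPGroup_ucore hH hne) hTs.2.1, mem_bot] at hu1
  rwa [hu1, one_mul]

/-- An invariant `2`-subgroup of `[H, σ]` goes into `u D` for a fixed `u ∈ U`. -/
theorem exists_le_cj {A : Subgroup G} (hA : Inv σ A) (hA2 : IsPGroup 2 ↥A)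
    (hAH : A ≤ moved σ H) : ∃ u ∈ ucore p σ H, σ u = u ∧ A ≤ u *• D := by
  haveI : Fact (Nat.Prime 2) := ⟨Nat.prime_two⟩
  obtain ⟨T, hAT, hT, hTs⟩ := X.act.cop.exists_sylow (p := 2) hH.moved hAH hA2 hA
  obtain ⟨c, hc, hcf, he⟩ := X.act.cop.exists_cj_fixed hH.moved (X.inv_D hD) hT
    (X.isSylowIn_D hD hH hne hDH) hTs
  obtain ⟨u, hu, d, hd, rfl⟩ := X.exists_mul_of_mem_moved hD hH hne hDH hc
  have h1 : u⁻¹ * σ u ∈ ucore p σ H ⊓ D := by
    refine mem_inf.2 ⟨mul_mem (inv_mem hu) (X.inv_ucore hH u hu), ?_⟩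
    have h2 : u⁻¹ * σ u = d * (σ d)⁻¹ := by
      rw [map_mul] at hcf
      rw [show σ u = u * d * (σ d)⁻¹ by rw [← hcf]; group]
      group
    rw [h2]
    exact mul_mem hd (inv_mem (X.inv_D hD d hd))
  rw [X.ucore_inf_D hD hH hne hDH, mem_bot, inv_mul_eq_one] at h1
  refine ⟨u, hu, h1.symm, ?_⟩
  rw [← cj_cj, cj_self_of_mem hd] at he
  exact hAT.trans he.ge

/-- A fixed element of `H` is a fixed element of `U` times one normalising `D`. -/
theorem exists_fixed_mul {x : G} (hx : x ∈ H) (hxf : σ x = x) :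
    ∃ u ∈ ucore p σ H, σ u = u ∧ u⁻¹ * x ∈ normalizer (D : Set G) := by
  have hle : x *• D ≤ moved σ H := by
    refine cj_le_iff.2 fun d hd => ?_
    exact (mem_normalizer_iff.1 (mem_normalizer_moved hxf (le_normalizer hx)) d).1
      (X.D_le_moved hD hH hDH hd)
  obtain ⟨u, hu, huf, hcj⟩ := X.exists_le_cj hD hH hne hDH ((X.inv_D hD).cj hxf)
    (isPGroup_cj x (X.isPGroup_D hD)) hle
  refine ⟨u, hu, huf, mem_normalizer_of_cj_le ?_⟩
  have := cj_mono u⁻¹ hcj
  rwa [cj_cj, cj_inv_cj] at this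

/-- `H = U D (C_H(σ) ∩ N(D))`. -/
theorem exists_decomp {x : G} (hx : x ∈ H) :
    ∃ u ∈ ucore p σ H, ∃ d ∈ D, ∃ c ∈ H, σ c = c ∧ c ∈ normalizer (D : Set G) ∧ x = u * d * c := by
  obtain ⟨m, hm, c, hc, hcf, rfl⟩ := X.act.cop.decomp hH hx
  obtain ⟨u, hu, d, hd, rfl⟩ := X.exists_mul_of_mem_moved hD hH hne hDH hm
  obtain ⟨v, hv, hvf, hn⟩ := X.exists_fixed_mul hD hH hne hDH hc hcf
  refine ⟨u * (d * v * d⁻¹), mul_mem hu ((mem_normalizer_iff.1
    (X.le_normalizer_ucore (hDH hd)) v).1 hv), d, hd, v⁻¹ * c,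
    mul_mem (inv_mem (X.ucore_le hH hv)) hc, by rw [map_mul, map_inv, hvf, hcf], hn, ?_⟩
  group

end inH

end Cx


end CfsgLib.HHShult
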