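import Cfsg.Agent.HHShult.OneClass
import Cfsg.Agent.ZStar.Theorem
import Mathlib.GroupTheory.Transfer

/-!
# At least three non-central classes in `C_D(σ)`

* `Cx.not_dvd_card_home`: if the fixed `p`-elements of `H ∩ N(D)` centralise `D`, then `p ∤ |H|`
  and `H` normalises `D`;
* `Cx.exists_noncentral_zsub`: some element of `C_D(σ)` is not central (transfer);
* `Cx.exists_two_classes`: there are two non-central classes modulo the centre (`Z*`-theorem).
-/

set_option autoImplicit false
set_option linter.style.haveILetI false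
set_option linter.unusedSectionVars false

open Finset Module Subgroup CfsgLib.ConjFunctor
open scoped commutatorElement CfsgLib.ConjFunctor

namespace CfsgLib.HHShult

universe u v w

/-- A product invariant under a `2`-group, with values of square `1`, sees only the fixed points. -/
theorem prod_eq_prod_fixedPoints {S α A : Type*} [Group S] [MulAction S α] [Fintype α] [CommMonoid A]
    (hS : IsPGroup 2 S) (f : α → A) (hf : ∀ (g : S) (x : α), f (g • x) = f x)
    (h2 : ∀ a : A, a * a = 1) [DecidablePred (· ∈ MulAction.fixedPoints S α)] :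
    ∏ x, f x = ∏ x ∈ Finset.univ.filter (· ∈ MulAction.fixedPoints S α), f x := by
  classical
  haveI : Fact (Nat.Prime 2) := ⟨Nat.prime_two⟩
  rw [← Finset.prod_fiberwise_of_maps_to (g := f) (t := Finset.univ.image f)
      (fun x _ => Finset.mem_image_of_mem f (Finset.mem_univ x)) f,
    ← Finset.prod_fiberwise_of_maps_to (g := f) (t := Finset.univ.image f)
      (fun x _ => Finset.mem_image_of_mem f (Finset.mem_univ x)) f]
  refine Finset.prod_congr rfl fun a _ => ?_
  rw [Finset.prod_congr rfl fun x hx => (Finset.mem_filter.1 hx).2, Finset.prod_const,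
    Finset.prod_congr rfl fun x hx => (Finset.mem_filter.1 hx).2, Finset.prod_const]
  let B : SubMulAction S α :=
    { carrier := {x | f x = a}
      smul_mem' := fun g x hx => (hf g x).trans hx }
  have hmod := hS.card_modEq_card_fixedPoints B
  have e1 : Nat.card B = (Finset.univ.filter fun x => f x = a).card := by
    rw [← Nat.card_eq_finsetCard]
    exact Nat.card_congr (Equiv.subtypeEquivRight fun x => by simp; rfl)
  have e2 : Nat.card (MulAction.fixedPoints S B) =
      ((Finset.univ.filter (· ∈ MulAction.fixedPoints S α)).filter fun x => f x = a).card := by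
    rw [← Nat.card_eq_finsetCard]
    refine Nat.card_congr
      { toFun := fun x => ⟨((x : B) : α), by
          simp only [Finset.mem_filter, Finset.mem_univ, true_and]
          exact ⟨fun g => congrArg Subtype.val (x.2 g), (x : B).2⟩⟩
        invFun := fun x => ⟨⟨x.1, (Finset.mem_filter.1 x.2).2⟩, fun g => Subtype.ext
          ((Finset.mem_filter.1 (Finset.mem_filter.1 x.2).1).2 g)⟩
        left_inv := fun x => rfl
        right_inv := fun x => rfl }
  rw [e1, e2] at hmod
  exact pow_eq_pow_of_modEq hmod (by rw [sq, h2])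

variable {G : Type w} [Group G] [Finite G]
variable {K : Type u} [Field K] [IsAlgClosed K] {V : Type v} [AddCommGroup V] [Module K V]
  [FiniteDimensional K V]
variable {p : ℕ} [hp : Fact p.Prime] {σ : MulAut G} {r : ℕ} {ψ : G →* Module.End K V}
  {s : Module.End K V}

namespace Cx

variable (X : Cx p σ r ψ s) {D H : Subgroup G} (hD : IsStdD σ D) (hH : Home σ D H)
include X hD hH

/-- If the fixed `p`-elements of `H ∩ N(D)` centralise `D`, then `p ∤ |H|` and `H` normalises
`D`. -/
theorem not_dvd_card_home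
    (hfix : ∀ c ∈ H, σ c = c → c ∈ normalizer (D : Set G) → (∃ k : ℕ, c ^ (p ^ k) = 1) →
      c ∈ centralizer (D : Set G)) :
    ¬ p ∣ Nat.card H ∧ ucore p σ H = ⊥ ∧ H ≤ normalizer (D : Set G) := by
  have hp' := X.stepA hD hH.mem (fun L hL _ => hH.max L hL) hfix
  have hU : ucore p σ H = ⊥ := by
    obtain ⟨n, hn⟩ := IsPGroup.iff_card.1 (X.isPGroup_ucore hH.mem.inv hH.mem.ne_top)
    rcases n with _ | n
    · exact Subgroup.card_eq_one.1 (by rwa [pow_zero] at hn)
    · exact absurd ((dvd_pow_self p n.succ_ne_zero).trans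
        (hn ▸ card_dvd_of_le (X.ucore_le hH.mem.inv))) hp'
  exact ⟨hp', hU, X.le_normalizer_D_of_ucore hD hH.mem hU⟩

omit hH in
theorem center_D_ne_top : Subgroup.center ↥D ≠ ⊤ := fun h => X.D_ne_bot hD (by
  rw [← X.moved_D hD, moved_eq_bot_iff]
  intro d hd
  have : (⟨d, hd⟩ : ↥D) ∈ Subgroup.center ↥D := h ▸ mem_top _
  exact mem_fixedSub.2 (((X.frame hD).center_iff _).1 this))

theorem kmem_normalizer_sylow {S : Subgroup G} (hS : Inv σ S) (hSs : IsSylowIn 2 S ⊤)
    (hSD : moved σ S = D) : KMem σ D (normalizer (S : Set G)) where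
  inv := hS.normalizer
  le := hSD ▸ (moved_le hS).trans le_normalizer
  ne_top := fun h => by
    have hn : S.Normal := normalizer_eq_top_iff.1 h
    have hne : S ≠ ⊤ := fun e => X.not_two
      (hSs.2.1.of_equiv ((MulEquiv.subgroupCongr e).trans Subgroup.topEquiv))
    have hc := X.le_center_of_normal hn hS hne
    refine X.D_ne_bot hD (hSD ▸ moved_eq_bot_iff.2 fun x hx => mem_fixedSub.2 ?_)
    exact X.center_fixed (hc hx)

open scoped Classical in
/-- Some element of `C_D(σ)` is not central. -/
theorem exists_noncentral_zsub : ∃ z ∈ zsub σ D, z ∉ Subgroup.center G := by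
  by_contra! hall
  haveI : Fact (Nat.Prime 2) := ⟨Nat.prime_two⟩
  have F := X.frame hD
  have hcD : ∀ c, σ c = c → c ∈ normalizer (D : Set G) → c ∈ centralizer (D : Set G) :=
    fun c hcf hcn => X.mem_centralizer_of_fix_zsub hD hcf hcn fun e he =>
      Subgroup.mem_center_iff.1 (hall e he) c
  obtain ⟨-, hU, hHN⟩ := X.not_dvd_card_home hD hH fun c _ hcf hcn _ => hcD c hcf hcn
  have hmov := X.moved_eq_D hD hH.mem hU
  -- the map onto `D / D'`
  choose mm hmm cc hcc hccf he using fun x : ↥H => X.act.cop.decomp hH.mem.inv x.2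
  simp only [hmov] at hmm
  let fφ : ↥H → Abelianization ↥D := fun x => Abelianization.of ⟨mm x, hmm x⟩
  have huniq : ∀ (m : ↥D) (c : G), σ c = c → ∀ x : ↥H, (x : G) = m * c →
      fφ x = Abelianization.of m := by
    intro m c hc x hx
    refine (congrArg Additive.toMul ((F.piA_eq_iff m ⟨mm x, hmm x⟩).2 ?_)).symm
    refine (F.center_iff _).2 ?_
    have e : (m : G)⁻¹ * mm x = c * (cc x)⁻¹ := by
      have := (he x).symm.trans hx
      calc (m : G)⁻¹ * mm x = (m : G)⁻¹ * (mm x * cc x) * (cc x)⁻¹ := by group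
        _ = _ := by rw [this]; group
    show σ ((m : G)⁻¹ * mm x) = (m : G)⁻¹ * mm x
    rw [e, map_mul, map_inv, hc, hccf]
  let φ : ↥H →* Abelianization ↥D := MonoidHom.mk' fφ fun x y => by
    have hc : mm y * cc x = cc x * mm y :=
      mem_centralizer_iff.1 (hcD _ (hccf x) (hHN (hcc x))) _ (hmm y)
    rw [huniq (⟨mm x, hmm x⟩ * ⟨mm y, hmm y⟩) (cc x * cc y) (by rw [map_mul, hccf, hccf]) (x * y)
      (by rw [Subgroup.coe_mul, he x, he y]
          show mm x * cc x * (mm y * cc y) = mm x * mm y * (cc x * cc y)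
          calc mm x * cc x * (mm y * cc y) = mm x * (cc x * mm y) * cc y := by group
            _ = mm x * (mm y * cc x) * cc y := by rw [hc]
            _ = _ := by group)]
    exact map_mul _ _ _
  have hφ : ∀ (x : ↥H) (hx : (x : G) ∈ D), φ x = Abelianization.of ⟨x, hx⟩ := fun x hx =>
    huniq ⟨x, hx⟩ 1 (map_one σ) x (by rw [mul_one])
  have hφZ : ∀ (x : ↥H), (x : G) ∈ zsub σ D → φ x = 1 := fun x hx => by
    rw [hφ x hx.1]
    exact congrArg Additive.toMul ((F.piA_eq_zero ⟨x, hx.1⟩).2 ((F.center_iff _).2 hx.2))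
  have hA2 : ∀ a : Abelianization ↥D, a * a = 1 := fun a => by
    obtain ⟨x, rfl⟩ : ∃ x, Abelianization.of x = a := QuotientGroup.mk'_surjective _ a
    rw [← map_mul]
    refine (QuotientGroup.eq_one_iff _).2 ?_
    rw [F.m2.commutator_eq_center, ← sq]
    exact F.sq_mem x
  obtain ⟨S, hS, hSs, hSD⟩ := id hD
  have hSH : S ≤ H := (hSD ▸ le_normalizer_moved).trans (hH.normalizer_le X hD)
  let τ : G →* Abelianization ↥D := φ.transfer
  have hτ : ∀ d : ↥D, τ d = Abelianization.of d := by
    intro d
    have hdH : (d : G) ∈ H := hH.mem.le d.2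
    have hd2c : (d : G) * d ∈ Subgroup.center G :=
      hall _ ⟨mul_mem d.2 d.2, (F.center_iff (d * d)).1 (sq d ▸ F.sq_mem d)⟩
    haveI := Fintype.ofFinite (G ⧸ H)
    haveI := Fintype.ofFinite (Quotient (MulAction.orbitRel (zpowers (d : G)) (G ⧸ H)))
    let f : G ⧸ H → Abelianization ↥D := fun y =>
      if h : y.out⁻¹ * (d : G) * y.out ∈ H then φ ⟨_, h⟩ else 1
    have hfix : ∀ y : G ⧸ H, (d : G) • y = y ↔ y.out⁻¹ * (d : G) * y.out ∈ H := fun y => by
      conv_lhs => rw [← QuotientGroup.out_eq' y]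
      rw [MulAction.Quotient.smul_mk, QuotientGroup.eq, smul_eq_mul, mul_inv_rev]
      constructor
      · intro h
        have := H.inv_mem h
        rwa [mul_inv_rev, mul_inv_rev, inv_inv, inv_inv, ← mul_assoc] at this
      · intro h
        have := H.inv_mem h
        rwa [mul_inv_rev, mul_inv_rev, inv_inv, ← mul_assoc] at this
    have hper : ∀ y : G ⧸ H, Function.minimalPeriod ((d : G) • ·) y ∣ 2 := fun y => by
      refine Function.IsPeriodicPt.minimalPeriod_dvd ?_
      show (d : G) • (d : G) • y = y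
      induction y using QuotientGroup.induction_on with | H x =>
      rw [smul_smul, MulAction.Quotient.smul_mk, QuotientGroup.eq, smul_eq_mul,
        ← Subgroup.mem_center_iff.1 hd2c x, mul_inv_rev, inv_mul_cancel_right]
      exact inv_mem (mul_mem hdH hdH)
    have h1 : τ d = ∏ y : G ⧸ H, f y := by
      show φ.transfer (d : G) = _
      rw [MonoidHom.transfer_eq_prod_quotient_orbitRel_zpowers_quot]
      -- fixed points and orbits of length one
      have hterm : ∀ q : Quotient (MulAction.orbitRel (zpowers (d : G)) (G ⧸ H)),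
          φ ⟨q.out.out⁻¹ * (d : G) ^ Function.minimalPeriod ((d : G) • ·) q.out * q.out.out,
            QuotientGroup.out_conj_pow_minimalPeriod_mem H (d : G) q.out⟩ = f q.out := by
        intro q
        by_cases h : (d : G) • q.out = q.out
        · have hp1 : Function.minimalPeriod ((d : G) • ·) q.out = 1 :=
            Function.minimalPeriod_eq_one_iff_isFixedPt.2 h
          rw [show f q.out = φ ⟨_, (hfix _).1 h⟩ from dif_pos _]
          exact congrArg φ (Subtype.ext (by simp [hp1]))
        · have hp2 : Function.minimalPeriod ((d : G) • ·) q.out = 2 :=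
            ((Nat.dvd_prime Nat.prime_two).1 (hper _)).resolve_left fun h1 =>
              h (Function.minimalPeriod_eq_one_iff_isFixedPt.1 h1)
          rw [show f q.out = 1 from dif_neg ((hfix _).not.1 h)]
          refine hφZ _ ?_
          show q.out.out⁻¹ * (d : G) ^ Function.minimalPeriod ((d : G) • ·) q.out * q.out.out ∈ _
          rw [hp2, sq, mul_assoc, ← Subgroup.mem_center_iff.1 hd2c, inv_mul_cancel_left]
          exact ⟨mul_mem d.2 d.2, (F.center_iff (d * d)).1 (sq d ▸ F.sq_mem d)⟩
      rw [Finset.prod_congr rfl fun q _ => hterm q]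
      have hinj : Function.Injective
          (fun q : Quotient (MulAction.orbitRel (zpowers (d : G)) (G ⧸ H)) => q.out) :=
        Quotient.out_injective
      rw [← Finset.prod_image (f := f) (hinj.injOn)]
      refine Finset.prod_subset (Finset.subset_univ _) fun y _ hy => dif_neg fun hmem => hy ?_
      refine Finset.mem_image.2 ⟨⟦y⟧, Finset.mem_univ _, ?_⟩
      have hrel : ∀ z : G ⧸ H, z ∈ MulAction.orbit (zpowers (d : G)) y → z = y := by
        rintro z ⟨⟨g, hg⟩, rfl⟩
        obtain ⟨i, rfl⟩ := Subgroup.mem_zpowers_iff.1 hg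
        exact MulAction.mem_stabilizer_iff.1
          (zpow_mem (MulAction.mem_stabilizer_iff.2 ((hfix y).2 hmem)) i)
      exact hrel _ (Quotient.exact (Quotient.out_eq (⟦y⟧ :
        Quotient (MulAction.orbitRel (zpowers (d : G)) (G ⧸ H)))))
    -- only the fixed point of `S` counts
    have hSd : ∀ s ∈ S, ∃ z ∈ zsub σ D, s⁻¹ * (d : G) * s = (d : G) * z := by
      intro s hs
      obtain ⟨m, hm, c, hc, hcf, rfl⟩ := X.act.cop.decomp hS hs
      rw [hSD] at hm
      have hcn : c ∈ normalizer (D : Set G) := hSD ▸ le_normalizer_moved hc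
      refine ⟨(d : G)⁻¹ * (m⁻¹ * d * m), mem_zsub.2 ⟨?_, ?_⟩, ?_⟩
      · exact mul_mem (inv_mem d.2) (mul_mem (mul_mem (inv_mem hm) d.2) hm)
      · have := (F.center_iff _).1 (F.comm_mem d⁻¹ (⟨m, hm⟩ : ↥D)⁻¹)
        simp only [commutatorElement_def, Subgroup.coe_mul, Subgroup.coe_inv, inv_inv] at this
        rw [show (d : G)⁻¹ * (m⁻¹ * d * m) = (d : G)⁻¹ * m⁻¹ * d * m by group]
        exact this
      · have h := mem_centralizer_iff.1 (hcD c hcf hcn) (m⁻¹ * d * m)
          (mul_mem (mul_mem (inv_mem hm) d.2) hm)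
        calc (m * c)⁻¹ * (d : G) * (m * c) = c⁻¹ * (m⁻¹ * d * m * c) := by group
          _ = c⁻¹ * (c * (m⁻¹ * d * m)) := by rw [h]
          _ = _ := by group
    have hinv : ∀ (s : ↥S) (y : G ⧸ H), f (s • y) = f y := by
      intro s y
      obtain ⟨z, hz, hsz⟩ := hSd s s.2
      obtain ⟨h, hh⟩ := QuotientGroup.mk_out_eq_mul H ((s : G) * y.out)
      have hy : s • y = (((s : G) * y.out : G) : G ⧸ H) := by
        conv_lhs => rw [← QuotientGroup.out_eq' y]
        rfl
      have hzc := hall z hz
      have key : (s • y).out⁻¹ * (d : G) * (s • y).out =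
          (h : G)⁻¹ * (y.out⁻¹ * (d : G) * y.out * z) * h := by
        rw [hy, hh]
        calc _ = (h : G)⁻¹ * (y.out⁻¹ * ((s : G)⁻¹ * d * s) * y.out) * h := by group
          _ = (h : G)⁻¹ * (y.out⁻¹ * (d * (z * y.out))) * h := by rw [hsz]; group
          _ = _ := by rw [← Subgroup.mem_center_iff.1 hzc y.out]; group
      have hzH : z ∈ H := hH.mem.le hz.1
      by_cases hm : y.out⁻¹ * (d : G) * y.out ∈ H
      · have hm' : (s • y).out⁻¹ * (d : G) * (s • y).out ∈ H := by
          rw [key]; exact mul_mem (mul_mem (inv_mem h.2) (mul_mem hm hzH)) h.2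
        rw [show f (s • y) = φ ⟨_, hm'⟩ from dif_pos _, show f y = φ ⟨_, hm⟩ from dif_pos _,
          show (⟨_, hm'⟩ : ↥H) = h⁻¹ * (⟨_, hm⟩ * ⟨z, hzH⟩) * h from Subtype.ext key]
        rw [map_mul, map_mul, map_mul, map_inv, hφZ ⟨z, hzH⟩ hz, mul_one, mul_comm, ← mul_assoc,
          mul_inv_cancel, one_mul]
      · rw [show f (s • y) = 1 from dif_neg fun h' => hm ?_, show f y = 1 from dif_neg hm]
        rw [key] at h'
        have := mul_mem (mul_mem (mul_mem h.2 h') (inv_mem h.2)) (inv_mem hzH)
        rwa [show (h : G) * ((h : G)⁻¹ * (y.out⁻¹ * (d : G) * y.out * z) * h) * (h : G)⁻¹ * z⁻¹ =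
          y.out⁻¹ * (d : G) * y.out by group] at this
    rw [h1, prod_eq_prod_fixedPoints hSs.2.1 f hinv hA2]
    have hone : (Finset.univ.filter (· ∈ MulAction.fixedPoints ↥S (G ⧸ H))) =
        {((1 : G) : G ⧸ H)} := by
      ext y
      simp only [Finset.mem_filter, Finset.mem_univ, true_and, Finset.mem_singleton,
        MulAction.mem_fixedPoints]
      constructor
      · intro hy
        induction y using QuotientGroup.induction_on with | H x =>
        have hle : x⁻¹ *• S ≤ H := cj_le_iff.2 fun s hs => by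
          have h1 : (((s * x : G)) : G ⧸ H) = (x : G ⧸ H) := hy ⟨s, hs⟩
          rw [QuotientGroup.eq] at h1
          have := inv_mem h1
          rw [inv_inv]
          rwa [show ((s * x)⁻¹ * x)⁻¹ = x⁻¹ * s * x by group] at this
        obtain ⟨b, hb, hbS⟩ := (hSs.of_le hSH le_top).exists_cj_le hle (isPGroup_cj _ hSs.2.1)
        rw [cj_cj] at hbS
        have heq : (b * x⁻¹) *• S = S := eq_of_le_of_card_ge hbS (by rw [card_cj])
        have := hH.max _ (X.kmem_normalizer_sylow hD hH hS hSs hSD) (mem_normalizer_iff_cj.2 heq)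
        rw [QuotientGroup.eq, mul_one]
        have h2 := mul_mem (inv_mem hb) this
        rwa [inv_mul_cancel_left] at h2
      · rintro rfl ⟨s, hs⟩
        show (((s * 1 : G)) : G ⧸ H) = _
        rw [QuotientGroup.eq, mul_one, mul_one]
        exact inv_mem (hSH hs)
    rw [hone, Finset.prod_singleton]
    obtain ⟨h, hh⟩ := QuotientGroup.mk_out_eq_mul H (1 : G)
    rw [one_mul] at hh
    have hm : (((1 : G) : G ⧸ H)).out⁻¹ * (d : G) * (((1 : G) : G ⧸ H)).out ∈ H := by
      rw [hh]; exact mul_mem (mul_mem (inv_mem h.2) hdH) h.2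
    have e : (((1 : G) : G ⧸ H)).out⁻¹ * (d : G) * (((1 : G) : G ⧸ H)).out =
        (h : G)⁻¹ * d * h := by rw [hh]
    rw [show f ((1 : G) : G ⧸ H) = φ ⟨_, hm⟩ from dif_pos _,
      show (⟨_, hm⟩ : ↥H) = h⁻¹ * ⟨d, hdH⟩ * h from Subtype.ext e,
      map_mul, map_mul, map_inv, mul_comm, ← mul_assoc, mul_inv_cancel, one_mul, hφ ⟨d, hdH⟩ d.2]
  -- so `G` is not perfect
  have hcomm : commutator G ≤ Subgroup.center G := by
    refine X.le_center_of_normal inferInstance ?_ fun htop => ?_
    · intro x hx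
      have hch : (commutator G).Characteristic := inferInstance
      exact (characteristic_iff_map_le.1 hch σ) ⟨x, hx, rfl⟩
    · obtain ⟨d, hd⟩ : ∃ d : ↥D, d ∉ Subgroup.center ↥D := by
        by_contra! h
        exact X.center_D_ne_top hD (eq_top_iff.2 fun x _ => h x)
      apply hd
      rw [← F.m2.commutator_eq_center]
      have h1 : (d : G) ∈ τ.ker :=
        Abelianization.commutator_subset_ker τ (htop ▸ mem_top (d : G))
      rw [MonoidHom.mem_ker, hτ] at h1
      exact (QuotientGroup.eq_one_iff d).1 h1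
  let M : Subgroup G := D ⊔ Subgroup.center G
  have hMn : M.Normal := by
    rw [← normalizer_eq_top_iff, eq_top_iff]
    intro x _
    refine mem_normalizer_of_cj_le (cj_le_iff.2 fun y hy => ?_)
    rw [show x * y * x⁻¹ = ⁅x, y⁆ * y by simp only [commutatorElement_def]; group]
    exact mul_mem (mem_sup_right (hcomm (commutator_mem_commutator (mem_top x) (mem_top y)))) hy
  have hMne : M ≠ ⊤ := fun h => (X.kmem_normalizer_D hD).ne_top (eq_top_iff.2
    (h.ge.trans (sup_le le_normalizer (Subgroup.center_le_normalizer _))))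
  have hMc := X.le_center_of_normal hMn
    ((X.inv_D hD).sup fun c hc => map_center_mem σ hc) hMne
  refine X.D_ne_bot hD ?_
  rw [← X.moved_D hD, moved_eq_bot_iff]
  exact fun x hx => mem_fixedSub.2 (X.center_fixed (hMc (mem_sup_left hx)))

/-- There are two non-central classes of `C_D(σ)` modulo the centre. -/
theorem exists_two_classes : ∃ z₁ ∈ zsub σ D, ∃ z₂ ∈ zsub σ D, z₁ ∉ Subgroup.center G ∧
    z₂ ∉ Subgroup.center G ∧ z₁⁻¹ * z₂ ∉ Subgroup.center G := by
  obtain ⟨z, hz, hzc⟩ := X.exists_noncentral_zsub hD hH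
  by_contra! hall
  set π := QuotientGroup.mk' (Subgroup.center G) with hπ
  have hu : Cfsg.IsIsolatedInvolution (π z) := by
    refine ⟨orderOf_eq_prime (by rw [← map_pow, sq, X.zsub_sq hD hz, map_one])
      fun h => hzc ((QuotientGroup.eq_one_iff z).1 h), fun q hq => ?_⟩
    obtain ⟨g, rfl⟩ := QuotientGroup.mk'_surjective (Subgroup.center G) q
    rw [← map_inv, ← map_mul, ← map_mul] at hq ⊢
    rw [← mem_cmod_iff_quot] at hq
    obtain ⟨k, hk, hkz⟩ := X.exists_conj_mem_zsub hD hH (X.kmem_cmod hD hz hzc)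
      ((good_of_mem hz hzc).conj g) hq
    have hc : k⁻¹ * (g * z * g⁻¹) * k ∉ Subgroup.center G := by
      have := not_mem_center_conj (g := k⁻¹) (not_mem_center_conj (g := g) hzc)
      rwa [inv_inv] at this
    have h1 : π (k⁻¹ * (g * z * g⁻¹) * k) = π z :=
      (QuotientGroup.eq.2 (hall z hz _ hkz hzc hc)).symm
    have h2 := mem_cmod_iff_quot.1 hk
    rw [← hπ] at h2
    calc π (g * z * g⁻¹) = π k * π (k⁻¹ * (g * z * g⁻¹) * k) * (π k)⁻¹ := by
          rw [← map_inv, ← map_mul, ← map_mul]; congr 1; group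
      _ = π z := by rw [h1, ← h2.eq, mul_inv_cancel_right]
  obtain ⟨N, hN, hodd, hc⟩ := CfsgLib.ZStar.exists_oddNormal hu
  -- the largest invariant subgroup of the preimage
  let M : Subgroup G := ⨅ i : ℕ, (N.comap π).comap (σ ^ i).toMonoidHom
  have hM : ∀ {x}, x ∈ M ↔ ∀ i : ℕ, π ((σ ^ i) x) ∈ N := fun {x} => by
    simp only [M, Subgroup.mem_iInf, Subgroup.mem_comap]
    rfl
  have hMn : M.Normal := ⟨fun x hx g => hM.2 fun i => by
    rw [map_mul, map_mul, map_inv, map_mul, map_mul, map_inv]
    exact hN.conj_mem _ (hM.1 hx i) _⟩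
  have hMi : Inv σ M := fun x hx => hM.2 fun i => by
    rw [← MulAut.mul_apply, ← pow_succ]
    exact hM.1 hx (i + 1)
  have hMne : M ≠ ⊤ := by
    intro htop
    have hNtop : π z ∈ N := by simpa using hM.1 (htop ▸ mem_top z) 0
    have hd : 2 ∣ Nat.card N := by
      rw [← hu.1, ← Subgroup.orderOf_mk (π z) hNtop]
      exact orderOf_dvd_natCard _
    exact hodd.not_two_dvd_nat hd
  have hMc := X.le_center_of_normal hMn hMi hMne
  refine (X.kmem_cmod hD hz hzc).ne_top (eq_top_iff.2 fun g _ => mem_cmod.2 (hMc (hM.2 fun i => ?_)))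
  have hfix : ∀ i : ℕ, (σ ^ i) z = z := fun i => by
    induction i with
    | zero => rfl
    | succ i ih => rw [pow_succ', MulAut.mul_apply, ih, hz.2]
  rw [map_commutatorElement, hfix, map_commutatorElement, commutatorElement_def]
  exact hc (π ((σ ^ i) g))

end Cx

end CfsgLib.HHShult
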