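import Cfsg.Agent.HHShult.R3
import Cfsg.Agent.Signalizer.Generation

/-!
# Step A

`KMem σ D K`: a proper invariant subgroup containing `D`.

* `Cx.false_of_sylow_le`: such a subgroup that contains `N(D)` has index divisible by `p`;
* `Cx.stepA`: if the fixed `p`-elements of `H ∩ N(D)` centralise `D` and the `p`-part of `H` is
  maximal, then `p ∤ |H|`.
-/

set_option autoImplicit false
set_option linter.style.haveILetI false
set_option linter.unusedSectionVars false

open Finset Module Subgroup CfsgLib.ConjFunctor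
open scoped commutatorElement CfsgLib.ConjFunctor

namespace CfsgLib.HHShult

universe u v w

variable {G : Type w} [Group G] [Finite G]

/-- A proper invariant subgroup containing `D`. -/
structure KMem (σ : MulAut G) (D K : Subgroup G) : Prop where
  inv : Inv σ K
  ne_top : K ≠ ⊤
  le : D ≤ K

/-- The fixed points in `D`. -/
def zsub (σ : MulAut G) (D : Subgroup G) : Subgroup G := D ⊓ fixedSub σ

theorem mem_zsub {σ : MulAut G} {D : Subgroup G} {e : G} : e ∈ zsub σ D ↔ e ∈ D ∧ σ e = e := Iff.rfl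

variable {K : Type u} [Field K] [IsAlgClosed K] {V : Type v} [AddCommGroup V] [Module K V]
  [FiniteDimensional K V]
variable {p : ℕ} [hp : Fact p.Prime] {σ : MulAut G} {r : ℕ} {ψ : G →* Module.End K V}
  {s : Module.End K V}

omit hp in
theorem pPart_mono {M N : Subgroup G} (h : M ≤ N) : pPart p M ≤ pPart p N :=
  Subgroup.closure_mono fun _ hx => ⟨h hx.1, hx.2⟩

omit hp in
theorem ucore_mono {H H' : Subgroup G} (h : H ≤ H') : ucore p σ H ≤ ucore p σ H' :=
  pPart_mono (moved_mono h)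

theorem inf_normalizer_le_normalizer_sup (A B : Subgroup G) :
    normalizer (A : Set G) ⊓ normalizer (B : Set G) ≤ normalizer ((A ⊔ B : Subgroup G) : Set G) := by
  intro g hg
  refine mem_normalizer_of_cj_le ?_
  rw [Subgroup.map_sup, cj_eq_of_mem_normalizer hg.1, cj_eq_of_mem_normalizer hg.2]

/-- A coset representative of `p`-power order. -/
theorem exists_pPart_mul {c : G} {k : ℕ} {z : G} (hpodd : p ≠ 2) (hz : c ^ (p ^ k) = z)
    (hz2 : z * z = 1) : (c * z) ^ (p ^ k) = 1 := by
  have hcomm : Commute c z := hz ▸ Commute.self_pow c _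
  obtain ⟨i, hi⟩ := ((Fact.out : p.Prime).odd_of_ne_two hpodd).pow (n := k)
  have hzi : z ^ (p ^ k) = z := by
    rw [hi, pow_succ, pow_mul, sq, hz2, one_pow, one_mul]
  rw [hcomm.mul_pow, hz, hzi, hz2]

namespace Cx

variable (X : Cx p σ r ψ s) {D : Subgroup G} (hD : IsStdD σ D)
include X hD

theorem zsub_comm {e : G} (he : e ∈ zsub σ D) {d : G} (hd : d ∈ D) : d * e = e * d :=
  congrArg Subtype.val (Subgroup.mem_center_iff.1
    (((X.frame hD).center_iff ⟨e, he.1⟩).2 he.2) ⟨d, hd⟩)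

theorem zsub_sq {e : G} (he : e ∈ zsub σ D) : e * e = 1 :=
  congrArg Subtype.val ((X.frame hD).center_sq (((X.frame hD).center_iff ⟨e, he.1⟩).2 he.2))

theorem centralizer_le_normalizer_D :
    centralizer (D : Set G) ≤ normalizer (D : Set G) := centralizer_le_normalizer' D

/-- A fixed element of `N(D)` centralising `C_D(σ)` centralises `D`. -/
theorem mem_centralizer_of_fix_zsub {g : G} (hgf : σ g = g) (hg : g ∈ normalizer (D : Set G))
    (h : ∀ e ∈ zsub σ D, g * e = e * g) : g ∈ centralizer (D : Set G) := by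
  have F := X.frame hD
  rw [mem_centralizer_iff]
  intro x hx
  refine X.act.inj ?_
  rw [map_mul, map_mul]
  refine F.ext_fE fun χ v hv => ?_
  have hfix : χ.comp (nZ hg) = χ := by
    refine AddMonoidHom.ext fun z => congrArg χ ?_
    obtain ⟨z, rfl⟩ := Additive.ofMul.surjective z
    refine congrArg Additive.ofMul (Subtype.ext (Subtype.ext ?_))
    show g * ((z : ↥D) : G) * g⁻¹ = _
    rw [h _ ⟨(z : ↥D).2, (F.center_iff _).1 z.2⟩, mul_inv_cancel_right]
  rw [Module.End.mul_apply, Module.End.mul_apply]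
  exact (F.commute_of_fixed hgf hg hfix ⟨x, hx⟩ hv).symm

theorem kmem_normalizer_D : KMem σ D (normalizer (D : Set G)) where
  inv := (X.inv_D hD).normalizer
  le := le_normalizer
  ne_top := by
    intro h
    have hn : D.Normal := normalizer_eq_top_iff.1 h
    have hDtop : D ≠ ⊤ := fun e => X.not_two
      ((X.isPGroup_D hD).of_equiv ((MulEquiv.subgroupCongr e).trans Subgroup.topEquiv))
    have hc := X.le_center_of_normal hn (X.inv_D hD) hDtop
    apply X.D_ne_bot hD
    rw [← X.moved_D hD, moved_eq_bot_iff]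
    refine X.act.fixed_of_abelian (X.inv_D hD)
      (fun a _ b hb => Subgroup.mem_center_iff.1 (hc hb) a) ?_
    obtain ⟨n, hn⟩ := IsPGroup.iff_card.1 (X.isPGroup_D hD)
    rw [hn]
    push_cast
    exact pow_ne_zero _ X.two_ne

theorem kmem_normalizer {U : Subgroup G} (hUi : Inv σ U) (hU : IsPGroup p U) (hne : U ≠ ⊥)
    (hDU : D ≤ normalizer (U : Set G)) : KMem σ D (normalizer (U : Set G)) where
  inv := hUi.normalizer
  le := hDU
  ne_top := fun h => hne (X.eq_bot_of_normal (normalizer_eq_top_iff.1 h) hUi hU)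

theorem D_le_normalizer_ucore {H : Subgroup G} (hH : KMem σ D H) :
    D ≤ normalizer (ucore p σ H : Set G) := hH.le.trans X.le_normalizer_ucore

theorem moved_eq_D {H : Subgroup G} (hH : KMem σ D H) (hU : ucore p σ H = ⊥) :
    moved σ H = D := by
  refine le_antisymm (fun x hx => ?_) (X.D_le_moved hD hH.inv hH.le)
  obtain ⟨u, hu, d, hd, rfl⟩ := X.exists_mul_of_mem_moved hD hH.inv hH.ne_top hH.le hx
  rw [hU, mem_bot] at hu
  rwa [hu, one_mul]

theorem le_normalizer_D_of_ucore {H : Subgroup G} (hH : KMem σ D H) (hU : ucore p σ H = ⊥) :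
    H ≤ normalizer (D : Set G) := by
  have h := le_normalizer_moved (σ := σ) (H := H)
  rwa [X.moved_eq_D hD hH hU] at h

/-- For an invariant Sylow subgroup `T` of `H`, `|T : C_T(σ)|` divides `|H : C_H(σ)|`. -/
theorem relIndex_dvd_relIndex {q : ℕ} [Fact q.Prime] {H T : Subgroup G} (hH : Inv σ H)
    (hT : Inv σ T) (hTs : IsSylowIn q T H) :
    (fixedSub σ).relIndex T ∣ (fixedSub σ).relIndex H := by
  have h1 := relIndex_mul_relIndex (T ⊓ fixedSub σ) T H inf_le_left hTs.1
  have h2 := relIndex_mul_relIndex (T ⊓ fixedSub σ) (H ⊓ fixedSub σ) H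
    (inf_le_inf_right _ hTs.1) inf_le_left
  rw [inf_relIndex_left] at h1 h2
  have h3 := (X.sylow_inf_fixed hH hT hTs).2.2
  obtain ⟨n, hn⟩ := IsPGroup.iff_card.1 hTs.2.1
  obtain ⟨i, -, hi⟩ := (Nat.dvd_prime_pow (Fact.out : q.Prime)).1
    (hn ▸ (by rw [relIndex]; exact index_dvd_card _ : (fixedSub σ).relIndex T ∣ Nat.card T))
  refine (Nat.Coprime.dvd_of_dvd_mul_left ?_ (Dvd.intro _ (h1.trans h2.symm)))
  rw [hi]
  exact Nat.Coprime.pow_left _ ((Fact.out : q.Prime).coprime_iff_not_dvd.2 h3)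

/-- A proper invariant subgroup containing `D` has index divisible by `p`. -/
theorem false_of_sylow_le {H P : Subgroup G} (hH : KMem σ D H) (hP : Inv σ P)
    (hPs : IsSylowIn p P ⊤) (hPH : P ≤ H) : False := by
  haveI : Fact (Nat.Prime 2) := ⟨Nat.prime_two⟩
  obtain ⟨S, hS, hSs, hSD⟩ := hD
  obtain ⟨T, hDT, hT, hTs⟩ := X.act.cop.exists_sylow (p := 2) hH.inv hH.le
    ((hSD ▸ hSs.2.1.to_le (moved_le hS)) : IsPGroup 2 ↥D) (hSD ▸ hS.moved)
  set C := fixedSub σ with hC
  -- `|S : C_S| ≤ |T : C_T|`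
  have hST : C.relIndex S ≤ C.relIndex T := by
    let f : ↥T ⧸ C.subgroupOf T → G ⧸ C :=
      Quotient.map' (fun x : ↥T => (x : G)) fun a b hab => by
        rw [QuotientGroup.leftRel_apply] at hab ⊢
        exact hab
    have hf : Function.Injective f := by
      intro a b
      induction a using QuotientGroup.induction_on with | H a =>
      induction b using QuotientGroup.induction_on with | H b =>
      intro hab
      have h1 : ((a : G) : G ⧸ C) = ((b : G) : G ⧸ C) := hab
      rw [QuotientGroup.eq] at h1 ⊢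
      exact h1
    let g : ↥S ⧸ C.subgroupOf S → G ⧸ C :=
      Quotient.map' (fun x : ↥S => (x : G)) fun a b hab => by
        rw [QuotientGroup.leftRel_apply] at hab ⊢
        exact hab
    have hg : Function.Injective g := by
      intro a b
      induction a using QuotientGroup.induction_on with | H a =>
      induction b using QuotientGroup.induction_on with | H b =>
      intro hab
      have h1 : ((a : G) : G ⧸ C) = ((b : G) : G ⧸ C) := hab
      rw [QuotientGroup.eq] at h1 ⊢
      exact h1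
    have hsub : Set.range g ⊆ Set.range f := by
      rintro _ ⟨q, rfl⟩
      induction q using QuotientGroup.induction_on with | H x =>
      obtain ⟨d, hd, c, -, hcf, hxe⟩ := X.act.cop.decomp hS x.2
      rw [hSD] at hd
      refine ⟨((⟨d, hDT hd⟩ : ↥T) : ↥T ⧸ C.subgroupOf T), ?_⟩
      show ((d : G) : G ⧸ C) = ((x : G) : G ⧸ C)
      rw [QuotientGroup.eq, hxe]
      show σ _ = _
      simpa using hcf
    show Nat.card (↥S ⧸ C.subgroupOf S) ≤ Nat.card (↥T ⧸ C.subgroupOf T)
    rw [← Nat.card_range_of_injective hg, ← Nat.card_range_of_injective hf]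
    exact Nat.card_mono (Set.toFinite _) hsub
  have hpow : ∀ {q : ℕ} [Fact q.Prime] {A : Subgroup G}, IsPGroup q A →
      ∃ i, C.relIndex A = q ^ i := by
    intro q _ A hA
    obtain ⟨n, hn⟩ := IsPGroup.iff_card.1 hA
    obtain ⟨i, -, hi⟩ := (Nat.dvd_prime_pow (Fact.out : q.Prime)).1
      (hn ▸ (by rw [relIndex]; exact index_dvd_card _ : C.relIndex A ∣ Nat.card A))
    exact ⟨i, hi⟩
  -- the index of the fixed points
  have hCdvd : ∀ (q : ℕ) [Fact q.Prime] (A : Subgroup G), Inv σ A → IsSylowIn q A ⊤ →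
      ∀ e, q ^ e ∣ C.index → q ^ e ∣ C.relIndex A := by
    intro q _ A hA hAs e he
    have h2 := relIndex_mul_relIndex (A ⊓ C) C ⊤ inf_le_right le_top
    have h3 := relIndex_mul_relIndex (A ⊓ C) A ⊤ inf_le_left le_top
    rw [relIndex_top_right] at h2 h3
    have h4 : q ^ e ∣ (A ⊓ C).relIndex A * A.index :=
      he.trans (by rw [h3, ← h2]; exact dvd_mul_left _ _)
    rw [inf_relIndex_left] at h4
    refine Nat.Coprime.dvd_of_dvd_mul_right ?_ h4
    have h5 := hAs.2.2
    rw [relIndex_top_right] at h5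
    exact Nat.Coprime.pow_left _ ((Fact.out : q.Prime).coprime_iff_not_dvd.2 h5)
  have hdiv : C.index ∣ C.relIndex H := by
    refine (Nat.dvd_iff_prime_pow_dvd_dvd _ _).2 fun q e hq hd => ?_
    rcases Nat.eq_zero_or_pos e with rfl | hepos
    · simp
    haveI := Fact.mk hq
    by_cases hq2 : q = 2
    · subst hq2
      refine (hCdvd 2 S hS hSs e hd).trans (Dvd.dvd.trans ?_
        (X.relIndex_dvd_relIndex ⟨S, hS, hSs, hSD⟩ hH.inv hT hTs))
      obtain ⟨i, hi⟩ := hpow hSs.2.1
      obtain ⟨j, hj⟩ := hpow hTs.2.1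
      rw [hi, hj] at hST ⊢
      exact pow_dvd_pow 2 ((Nat.pow_le_pow_iff_right (by norm_num)).1 hST)
    · by_cases hqp : q = p
      · subst hqp
        exact (hCdvd q P hP hPs e hd).trans (X.relIndex_dvd_relIndex ⟨S, hS, hSs, hSD⟩ hH.inv hP
          (hPs.of_le hPH le_top))
      · exfalso
        obtain ⟨Q, -, hQ, hQs⟩ :=
          X.act.cop.exists_sylow (p := q) inv_top bot_le IsPGroup.of_bot inv_bot
        have h1 := hCdvd q Q hQ hQs e hd
        rw [relIndex_eq_one.2 (X.fixed_of_prime hq2 hqp hQ hQs.2.1), Nat.dvd_one] at h1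
        exact (Nat.one_lt_pow hepos.ne' hq.one_lt).ne' h1
  let f : ↥H ⧸ C.subgroupOf H → G ⧸ C :=
    Quotient.map' (fun x : ↥H => (x : G)) fun a b hab => by
      rw [QuotientGroup.leftRel_apply] at hab ⊢
      exact hab
  have hfinj : Function.Injective f := by
    intro a b
    induction a using QuotientGroup.induction_on with | H a =>
    induction b using QuotientGroup.induction_on with | H b =>
    intro hab
    have h1 : ((a : G) : G ⧸ C) = ((b : G) : G ⧸ C) := hab
    rw [QuotientGroup.eq] at h1 ⊢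
    exact h1
  have hfsurj : Function.Surjective f :=
    ((Nat.bijective_iff_injective_and_card f).2 ⟨hfinj, le_antisymm
      (Nat.card_le_card_of_injective f hfinj)
      (Nat.le_of_dvd Nat.card_pos hdiv)⟩).2
  have hle : moved σ (⊤ : Subgroup G) ≤ H := by
    rw [moved, closure_le]
    rintro _ ⟨g, -, rfl⟩
    obtain ⟨q, hq⟩ := hfsurj ((g⁻¹ : G) : G ⧸ C)
    induction q using QuotientGroup.induction_on with | H x =>
    have h1 : ((x : G) : G ⧸ C) = ((g⁻¹ : G) : G ⧸ C) := hq
    rw [QuotientGroup.eq] at h1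
    have hc : σ ((x : G)⁻¹ * g⁻¹) = (x : G)⁻¹ * g⁻¹ := h1
    rw [map_mul, map_inv, map_inv] at hc
    have h2 : σ g = g * (x : G) * (σ (x : G))⁻¹ := by
      calc σ g = ((σ (x : G))⁻¹ * (σ g)⁻¹)⁻¹ * (σ (x : G))⁻¹ := by group
        _ = ((x : G)⁻¹ * g⁻¹)⁻¹ * (σ (x : G))⁻¹ := by rw [hc]
        _ = _ := by group
    rw [SetLike.mem_coe, h2, show g⁻¹ * (g * (x : G) * (σ (x : G))⁻¹) = (x : G) * (σ (x : G))⁻¹ by
      group]
    exact mul_mem x.2 (inv_mem (hH.inv _ x.2))
  rw [X.top_eq] at hle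
  exact hH.ne_top (top_le_iff.1 hle)

/-- An invariant Sylow `p`-subgroup of `H` is normalised by `D`, if the fixed `p`-elements of
`H ∩ N(D)` centralise `D`. -/
theorem le_normalizer_sylow {H T : Subgroup G} (hH : KMem σ D H)
    (hfix : ∀ c ∈ H, σ c = c → c ∈ normalizer (D : Set G) → (∃ k : ℕ, c ^ (p ^ k) = 1) →
      c ∈ centralizer (D : Set G))
    (hTs : IsSylowIn p T H) (hUT : ucore p σ H ≤ T) : D ≤ normalizer (T : Set G) := by
  intro d0 hd0
  refine mem_normalizer_of_forall_conj_mem fun t ht => ?_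
  obtain ⟨u, hu, d, hd, c, hc, hcf, hcn, rfl⟩ :=
    X.exists_decomp hD hH.inv hH.ne_top hH.le (hTs.1 ht)
  have hx : d * c ∈ T := by
    have := T.mul_mem (T.inv_mem (hUT hu)) ht
    rwa [mul_assoc, inv_mul_cancel_left] at this
  obtain ⟨k, hk⟩ := hTs.2.1 ⟨_, hx⟩
  have hk' : (d * c) ^ (p ^ k) = 1 := congrArg Subtype.val hk
  -- a power of `c` lies in `D`
  have hpow : ∀ n : ℕ, (d * c) ^ n * (c ^ n)⁻¹ ∈ D := by
    intro n
    induction n with
    | zero => simp
    | succ n ih =>
      have e : (d * c) ^ (n + 1) * (c ^ (n + 1))⁻¹ =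
          ((d * c) ^ n * (c ^ n)⁻¹) * (c ^ n * d * (c ^ n)⁻¹) := by
        rw [pow_succ, pow_succ]; group
      rw [e]
      exact mul_mem ih ((mem_normalizer_iff.1 (pow_mem hcn n) d).1 hd)
  set z := c ^ (p ^ k) with hz
  have hzD : z ∈ D := by
    have h1 := hpow (p ^ k)
    rw [hk', one_mul] at h1
    simpa using D.inv_mem h1
  have hzz : z ∈ zsub σ D := ⟨hzD, by
    show σ z = z
    rw [hz, map_pow, hcf]⟩
  have hcz : c * z ∈ centralizer (D : Set G) := hfix _ (mul_mem hc (hH.le hzD))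
    (by rw [map_mul, hcf, hzz.2]) (mul_mem hcn (le_normalizer hzD))
    ⟨k, exists_pPart_mul X.p_ne_two rfl (X.zsub_sq hD hzz)⟩
  -- `d z` is trivial
  have hzc : Commute z c := (Commute.pow_self c _)
  have hdc : d * c = (d * z) * (c * z) := by
    rw [mul_assoc, ← mul_assoc z c z, hzc.eq, mul_assoc c z z, X.zsub_sq hD hzz, mul_one]
  have hcomm : Commute (d * z) (c * z) := mem_centralizer_iff.1 hcz (d * z) (mul_mem hd hzD)
  have hdz : d * z = 1 := by
    have h1 : (d * z) ^ (p ^ k) = 1 := by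
      have h2 := hk'
      rwa [hdc, hcomm.mul_pow, exists_pPart_mul X.p_ne_two rfl (X.zsub_sq hD hzz), mul_one] at h2
    obtain ⟨n, hn⟩ := X.isPGroup_D hD ⟨d * z, mul_mem hd hzD⟩
    exact eq_one_of_pow_pow hp.out Nat.prime_two X.p_ne_two h1 (congrArg Subtype.val hn)
  have he : d0 * (u * d * c) * d0⁻¹ = (d0 * u * d0⁻¹) * (d * c) := by
    rw [mul_assoc u d c, hdc, hdz, one_mul]
    calc d0 * (u * (c * z)) * d0⁻¹ = d0 * u * ((c * z) * d0⁻¹) := by group
      _ = d0 * u * (d0⁻¹ * (c * z)) := by rw [mem_centralizer_iff.1 hcz _ (D.inv_mem hd0)]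
      _ = _ := by group
  rw [he]
  exact T.mul_mem (hUT ((mem_normalizer_iff.1 (X.D_le_normalizer_ucore hD hH hd0) u).1 hu)) hx

/-- **Step A.** -/
theorem stepA {H : Subgroup G} (hH : KMem σ D H)
    (hmax : ∀ L, KMem σ D L → ucore p σ H ≤ ucore p σ L → L ≤ H)
    (hfix : ∀ c ∈ H, σ c = c → c ∈ normalizer (D : Set G) → (∃ k : ℕ, c ^ (p ^ k) = 1) →
      c ∈ centralizer (D : Set G)) : ¬ p ∣ Nat.card H := by
  intro hdvd
  set U := ucore p σ H with hU
  obtain ⟨T, hUT, hT, hTs⟩ := X.act.cop.exists_sylow (p := p) hH.inv (X.ucore_le hH.inv)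
    (X.isPGroup_ucore hH.inv hH.ne_top) (X.inv_ucore hH.inv)
  have hTne : T ≠ ⊥ := fun h => by
    apply hTs.2.2
    rw [h, relIndex_bot_left]
    exact hdvd
  have hDT := X.le_normalizer_sylow hD hH hfix hTs hUT
  have hL := X.kmem_normalizer hD hT hTs.2.1 hTne hDT
  have hmv : moved σ H ≤ normalizer (T : Set G) := fun x hx => by
    obtain ⟨u, hu, d, hd, rfl⟩ := X.exists_mul_of_mem_moved hD hH.inv hH.ne_top hH.le hx
    exact mul_mem (le_normalizer (hUT hu)) (hDT hd)
  have hLH : normalizer (T : Set G) ≤ H := hmax _ hL (pPart_mono (by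
    rw [← X.act.cop.moved_moved hH.inv]; exact moved_mono hmv))
  obtain ⟨P, hTP, hP, hPs⟩ := X.act.cop.exists_sylow (p := p) inv_top le_top hTs.2.1 hT
  rcases eq_or_lt_of_le hTP with h | h
  · subst h
    exact X.false_of_sylow_le hD hH hP hPs hTs.1
  · have h1 := lt_inf_normalizer hPs.2.1 h
    refine h1.ne (hTs.eq_of_le h1.le (inf_le_right.trans hLH)
      (hPs.2.1.to_le inf_le_left)).symm

end Cx

end CfsgLib.HHShult
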