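import Mathlib

/-!
# Sign sums of functions with values in `ZMod 2`

* `sgn`: the character `ZMod 2 → ℤ`;
* `sum_sgn_eq_zero`: a non-zero additive map has sign sum zero;
* `card_mul_zeros`: the sign sums over a group of functions count their common zeros;
* `card_le_of_sum_eq`: a group of functions all of whose non-zero members have sign sum `-2 ^ m`
  on a set of `2 ^ (2 * m)` points containing a common zero has at most `2 ^ m` members.
-/

set_option autoImplicit false

open Finset

namespace CfsgLib.HHShult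

/-- The non-trivial character of `ZMod 2`. -/
def sgn (a : ZMod 2) : ℤ := if a = 0 then 1 else -1

@[simp] theorem sgn_zero : sgn 0 = 1 := rfl
@[simp] theorem sgn_one : sgn 1 = -1 := rfl

theorem sgn_add (a b : ZMod 2) : sgn (a + b) = sgn a * sgn b := by
  fin_cases a <;> fin_cases b <;> rfl

theorem sgn_sq (a : ZMod 2) : sgn a * sgn a = 1 := by
  fin_cases a <;> rfl

theorem zmod2_cases (a : ZMod 2) : a = 0 ∨ a = 1 := by
  revert a; decide

theorem zmod2_add_self (a : ZMod 2) : a + a = 0 := by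
  fin_cases a <;> rfl

variable {A : Type*} [AddCommGroup A] [Fintype A]

/-- A non-zero additive map to `ZMod 2` takes both values equally often. -/
theorem sum_sgn_eq_zero (f : A →+ ZMod 2) (hf : ∃ a, f a ≠ 0) : ∑ a : A, sgn (f a) = 0 := by
  obtain ⟨a₀, ha₀⟩ := hf
  have h1 : f a₀ = 1 := (zmod2_cases _).resolve_left ha₀
  have h := Equiv.sum_comp (Equiv.addRight a₀) fun a => sgn (f a)
  simp only [Equiv.coe_addRight, map_add, h1, sgn_add, sgn_one, mul_neg, mul_one,
    Finset.sum_neg_distrib] at h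
  omega

/-- Summing the sign sums over a finite group of functions counts the common zeros. -/
theorem card_mul_zeros {X : Type*} [Fintype X] (Φ : A →+ (X → ZMod 2))
    [DecidablePred fun x => ∀ φ : A, Φ φ x = 0] :
    ∑ φ : A, ∑ x : X, sgn (Φ φ x) =
      (Fintype.card A : ℤ) * (univ.filter fun x => ∀ φ : A, Φ φ x = 0).card := by
  rw [Finset.sum_comm]
  have h : ∀ x : X, ∑ φ : A, sgn (Φ φ x) =
      if (∀ φ : A, Φ φ x = 0) then (Fintype.card A : ℤ) else 0 := by
    intro x
    split_ifs with hx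
    · simp [hx]
    · push Not at hx
      exact sum_sgn_eq_zero ((Pi.evalAddMonoidHom _ x).comp Φ) hx
  rw [Finset.sum_congr rfl fun x _ => h x, ← Finset.sum_filter, Finset.sum_const, nsmul_eq_mul,
    mul_comm]

omit [Fintype A] in
/-- A group of functions on a set with `2 ^ (2 * m)` points, all with sign sum `-2 ^ m` except `0`,
and with a common zero, has at most `2 ^ m` members. -/
theorem card_le_of_sum_eq [Finite A] {X : Type*} [Fintype X] {m : ℕ}
    (hX : Fintype.card X = 2 ^ (2 * m)) (Φ : A →+ (X → ZMod 2))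
    (hsum : ∀ φ : A, φ ≠ 0 → ∑ x : X, sgn (Φ φ x) = -2 ^ m) (x₀ : X) (hx₀ : ∀ φ, Φ φ x₀ = 0) :
    Nat.card A ≤ 2 ^ m := by
  classical
  haveI := Fintype.ofFinite A
  have h := card_mul_zeros Φ
  rw [← Finset.add_sum_erase _ _ (Finset.mem_univ (0 : A)),
    Finset.sum_congr rfl fun φ hφ => hsum φ (Finset.ne_of_mem_erase hφ)] at h
  simp only [map_zero, Pi.zero_apply, sgn_zero, Finset.sum_const, Finset.card_univ, nsmul_eq_mul,
    mul_one, hX, Finset.card_erase_of_mem (Finset.mem_univ (0 : A))] at h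
  set n := (univ.filter fun x => ∀ φ : A, Φ φ x = 0).card with hn
  have hn1 : 1 ≤ n := Finset.card_pos.2 ⟨x₀, Finset.mem_filter.2 ⟨mem_univ _, hx₀⟩⟩
  rw [Nat.card_eq_fintype_card]
  set c := Fintype.card A with hc
  have hc1 : 1 ≤ c := Fintype.card_pos
  push_cast [Nat.cast_sub hc1] at h
  have h2 : (2 : ℤ) ^ (2 * m) = 2 ^ m * 2 ^ m := by rw [← pow_add, two_mul]
  rw [h2] at h
  have hc' : (c : ℤ) * 1 ≤ (c : ℤ) * n := mul_le_mul_of_nonneg_left (by exact_mod_cast hn1) (by positivity)
  have h3 : (c : ℤ) * (1 + 2 ^ m) ≤ 2 ^ m * (1 + 2 ^ m) := by nlinarith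
  have h4 : (c : ℤ) ≤ 2 ^ m := le_of_mul_le_mul_right h3 (by positivity)
  exact_mod_cast h4

end CfsgLib.HHShult
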