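import Cfsg.Agent.HHShult.StepA

/-!
# One proper invariant subgroup contains all those containing `D`

* `Cx.le_ucore_sup`: an invariant `p`-subgroup of `K` normalised by `D` is in `U_K (T ∩ C(D) ∩ C(σ))`;
* `Cx.isPGroup_utilde`: the `p`-parts generate a `p`-group;
* `Cx.exists_home`: there is a largest proper invariant subgroup containing `D`.
-/

set_option autoImplicit false
set_option linter.style.haveILetI false
set_option linter.unusedSectionVars false

open Finset Module Subgroup CfsgLib.ConjFunctor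
open scoped commutatorElement CfsgLib.ConjFunctor Pointwise

namespace CfsgLib.HHShult

universe u v w

variable {G : Type w} [Group G] [Finite G]
variable {K : Type u} [Field K] [IsAlgClosed K] {V : Type v} [AddCommGroup V] [Module K V]
  [FiniteDimensional K V]
variable {p : ℕ} [hp : Fact p.Prime] {σ : MulAut G} {r : ℕ} {ψ : G →* Module.End K V}
  {s : Module.End K V}

/-- The subgroup generated by the `p`-parts of the proper invariant subgroups containing `D`. -/
def utilde (p : ℕ) (σ : MulAut G) (D : Subgroup G) : Subgroup G :=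
  ⨆ (L : Subgroup G) (_ : KMem σ D L), ucore p σ L

theorem ucore_le_utilde {D L : Subgroup G} (hL : KMem σ D L) : ucore p σ L ≤ utilde p σ D :=
  le_iSup₂ (f := fun L (_ : KMem σ D L) => ucore p σ L) L hL

omit hp in
theorem cj_ucore_le {c : G} (hc : σ c = c) (L : Subgroup G) :
    c *• ucore p σ L ≤ ucore p σ (c *• L) := by
  rw [ucore, ucore, moved_cj hc, pPart, MonoidHom.map_closure, closure_le]
  rintro _ ⟨x, ⟨hx, k, hk⟩, rfl⟩
  exact subset_closure ⟨conj_mem_cj c hx, k, by rw [← map_pow, hk, map_one]⟩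

/-- The fixed points of `σ` centralising `D`. -/
def kone (σ : MulAut G) (D : Subgroup G) : Subgroup G := centralizer (D : Set G) ⊓ fixedSub σ

/-- An invariant `p`-subgroup normalised by `D` and containing `Π`. -/
structure TMem (p : ℕ) (σ : MulAut G) (D P₀ T : Subgroup G) : Prop where
  inv : Inv σ T
  isPGroup : IsPGroup p T
  le_normalizer : D ≤ normalizer (T : Set G)
  le : P₀ ≤ T

namespace Cx

variable (X : Cx p σ r ψ s) {D : Subgroup G} (hD : IsStdD σ D)
include X hD

theorem inv_zsub : Inv σ (zsub σ D) := fun x hx => by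
  rw [mem_zsub] at hx ⊢
  rw [hx.2]
  exact ⟨hx.1, hx.2⟩

theorem elab_zsub : Cfsg.IsElementaryAbelian 2 (zsub σ D) :=
  ⟨⟨⟨fun a b => Subtype.ext (X.zsub_comm hD b.2 a.2.1)⟩⟩, fun x hx => by
    rw [sq]; exact X.zsub_sq hD hx⟩

theorem mem_normalizer_zsub {c : G} (hcf : σ c = c) (hcn : c ∈ normalizer (D : Set G)) {e : G}
    (he : e ∈ zsub σ D) : c * e * c⁻¹ ∈ zsub σ D :=
  ⟨(mem_normalizer_iff.1 hcn e).1 he.1, by
    show σ (c * e * c⁻¹) = c * e * c⁻¹
    rw [map_mul, map_mul, map_inv, hcf, he.2]⟩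

theorem kmem_centralizer {e : G} (he : e ∈ zsub σ D) (hne : e ∉ Subgroup.center G) :
    KMem σ D (centralizer ({e} : Set G)) where
  inv := inv_centralizer_singleton he.2
  ne_top := fun h => hne (Subgroup.mem_center_iff.2 fun g =>
    mem_centralizer_singleton_iff.1 (h ▸ mem_top g : g ∈ centralizer ({e} : Set G)))
  le := fun _ hd => mem_centralizer_singleton_iff.2 (X.zsub_comm hD he hd)

/-- An invariant `p`-subgroup of `K` normalised by `D` lies in `U_K (T ∩ K₁)`. -/
theorem le_ucore_sup {L T : Subgroup G} (hL : KMem σ D L) (hT : Inv σ T) (hTp : IsPGroup p T)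
    (hTL : T ≤ L) (hDT : D ≤ normalizer (T : Set G)) :
    T ≤ ucore p σ L ⊔ (T ⊓ kone σ D) := by
  set U := ucore p σ L with hU
  set T₀ := T ⊓ U with hT₀
  have hT₀i : Inv σ T₀ := hT.inf (X.inv_ucore hL.inv)
  have hmv : moved σ T ≤ T₀ :=
    le_inf (moved_le hT) (le_pPart (moved_mono hTL) (hTp.to_le (moved_le hT)))
  have hnT : T ≤ normalizer (T₀ : Set G) := fun t ht => mem_normalizer_of_cj_le (by
    rw [cj_inf, cj_self_of_mem ht,
      cj_eq_of_mem_normalizer (X.le_normalizer_ucore (hTL ht))])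
  have hnD : D ≤ normalizer (T₀ : Set G) := fun d hd => mem_normalizer_of_cj_le (by
    rw [cj_inf, cj_eq_of_mem_normalizer (hDT hd),
      cj_eq_of_mem_normalizer (X.D_le_normalizer_ucore hD hL hd)])
  intro t ht
  obtain ⟨m₀, hm₀, c, hc, hcf, rfl⟩ := X.act.cop.decomp hT ht
  refine mul_mem (mem_sup_left (hmv hm₀).2) ?_
  -- `c T₀` is `D`-invariant
  let L₀ : Subgroup G :=
    { carrier := {g | g ∈ D ∧ c⁻¹ * (g * c * g⁻¹) ∈ T₀}
      one_mem' := ⟨one_mem D, by simp⟩
      mul_mem' := fun {g h} hg hh => ⟨mul_mem hg.1 hh.1, by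
        have h1 : g * (c⁻¹ * (h * c * h⁻¹)) * g⁻¹ ∈ T₀ :=
          (mem_normalizer_iff.1 (hnD hg.1) _).1 hh.2
        have e : c⁻¹ * (g * h * c * (g * h)⁻¹) =
            (c⁻¹ * (g * c * g⁻¹)) * (g * (c⁻¹ * (h * c * h⁻¹)) * g⁻¹) := by group
        rw [e]
        exact mul_mem hg.2 h1⟩
      inv_mem' := fun {g} hg => ⟨inv_mem hg.1, by
        have h1 : g⁻¹ * (c⁻¹ * (g * c * g⁻¹))⁻¹ * g⁻¹⁻¹ ∈ T₀ :=
          (mem_normalizer_iff.1 (hnD (inv_mem hg.1)) _).1 (inv_mem hg.2)
        have e : c⁻¹ * (g⁻¹ * c * g⁻¹⁻¹) = g⁻¹ * (c⁻¹ * (g * c * g⁻¹))⁻¹ * g⁻¹⁻¹ := by group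
        rw [e]
        exact h1⟩ }
  have hDL : D ≤ L₀ := by
    rw [← X.moved_D hD, moved, closure_le]
    rintro _ ⟨d, hd, rfl⟩
    set x := d * c * d⁻¹ with hx
    have hxT : x ∈ T := (mem_normalizer_iff.1 (hDT hd) c).1 hc
    have h1 : x⁻¹ * σ x ∈ T₀ := hmv (mem_moved σ hxT)
    refine ⟨mul_mem (inv_mem hd) (X.inv_D hD d hd), ?_⟩
    have h2 : d⁻¹ * (x⁻¹ * σ x) * d⁻¹⁻¹ ∈ T₀ :=
      (mem_normalizer_iff.1 (hnD (inv_mem hd)) _).1 h1
    have e : c⁻¹ * ((d⁻¹ * σ d) * c * (d⁻¹ * σ d)⁻¹) = d⁻¹ * (x⁻¹ * σ x) * d⁻¹⁻¹ := by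
      rw [hx, map_mul, map_mul, map_inv, hcf]; group
    rw [e]
    exact h2
  -- a point fixed by `D`
  letI : MulAction ↥D {x : G // c⁻¹ * x ∈ T₀} :=
    { smul := fun d x => ⟨(d : G) * x.1 * (d : G)⁻¹, by
        have h1 := (hDL d.2).2
        have h2 : (d : G) * (c⁻¹ * x.1) * (d : G)⁻¹ ∈ T₀ :=
          (mem_normalizer_iff.1 (hnD d.2) _).1 x.2
        have e : c⁻¹ * ((d : G) * x.1 * (d : G)⁻¹) =
            (c⁻¹ * ((d : G) * c * (d : G)⁻¹)) * ((d : G) * (c⁻¹ * x.1) * (d : G)⁻¹) := by group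
        rw [e]
        exact mul_mem h1 h2⟩
      one_smul := fun x => Subtype.ext (by show (1 : G) * x.1 * 1⁻¹ = x.1; group)
      mul_smul := fun a b x => Subtype.ext (by
        show ((a * b : ↥D) : G) * x.1 * ((a * b : ↥D) : G)⁻¹ =
          (a : G) * ((b : G) * x.1 * (b : G)⁻¹) * (a : G)⁻¹
        rw [Subgroup.coe_mul]; group) }
  have hodd : ¬ 2 ∣ Nat.card {x : G // c⁻¹ * x ∈ T₀} := by
    rw [Nat.card_congr ((Equiv.mulLeft c⁻¹).subtypeEquiv fun x => Iff.rfl :
      {x : G // c⁻¹ * x ∈ T₀} ≃ T₀)]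
    obtain ⟨n, hn⟩ := IsPGroup.iff_card.1 (hTp.to_le (inf_le_left : T₀ ≤ T))
    rw [hn]
    exact ((hp.out.odd_of_ne_two X.p_ne_two).pow).not_two_dvd_nat
  haveI : Fact (Nat.Prime 2) := ⟨Nat.prime_two⟩
  obtain ⟨x₀, hx₀⟩ := (X.isPGroup_D hD).nonempty_fixed_point_of_prime_not_dvd_card _ hodd
  have hx₀c : ∀ d ∈ D, d * x₀.1 = x₀.1 * d := fun d hd => by
    have h1 : d * x₀.1 * d⁻¹ = x₀.1 := congrArg Subtype.val (hx₀ ⟨d, hd⟩)
    exact mul_inv_eq_iff_eq_mul.1 h1
  have hx₀C : x₀.1 ∈ centralizer (D : Set G) := mem_centralizer_iff.2 hx₀c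
  -- a fixed one
  have hK : Inv σ (T₀ ⊓ centralizer (D : Set G)) := hT₀i.inf (X.inv_D hD).centralizer
  have hx₀T : x₀.1 ∈ T := by
    have h1 : c⁻¹ * x₀.1 ∈ T := x₀.2.1
    simpa using mul_mem hc h1
  have hco : x₀.1⁻¹ * σ x₀.1 ∈ T₀ ⊓ centralizer (D : Set G) :=
    mem_inf.2 ⟨hmv (mem_moved σ hx₀T), mul_mem (inv_mem hx₀C) ((X.inv_D hD).centralizer _ hx₀C)⟩
  obtain ⟨k, hk, hkf⟩ := X.act.cop.exists_mem_fixed_coset hK hco
  have hy : x₀.1 * k ∈ T ⊓ kone σ D :=
    ⟨mul_mem hx₀T hk.1.1, mul_mem hx₀C hk.2, hkf⟩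
  have hcT₀ : c * (x₀.1 * k)⁻¹ ∈ T₀ := by
    have h1 : c⁻¹ * (x₀.1 * k) ∈ T₀ := by rw [← mul_assoc]; exact mul_mem x₀.2 hk.1
    have h2 : c * (c⁻¹ * (x₀.1 * k))⁻¹ * c⁻¹ ∈ T₀ :=
      (mem_normalizer_iff.1 (hnT hc) _).1 (inv_mem h1)
    rwa [show c * (c⁻¹ * (x₀.1 * k))⁻¹ * c⁻¹ = c * (x₀.1 * k)⁻¹ by group] at h2
  rw [show c = (c * (x₀.1 * k)⁻¹) * (x₀.1 * k) by group]
  exact mul_mem (mem_sup_left hcT₀.2) (mem_sup_right hy)

theorem kone_le_normalizer_ucore {e : G} (he : e ∈ zsub σ D) :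
    kone σ D ≤ normalizer (ucore p σ (centralizer ({e} : Set G)) : Set G) := fun c hc =>
  X.le_normalizer_ucore (mem_centralizer_singleton_iff.2 (mem_centralizer_iff.1 hc.1 e he.1).symm)

section gen

variable (hrank : 2 < (Subgroup.center G).relIndex (zsub σ D))
include hrank

/-- Hyperplanes of `C_D(σ)` contain non-central elements. -/
theorem exists_noncentral {B : Subgroup G} (hB : B.relIndex (zsub σ D) ≤ 2) :
    ∃ e ∈ B, e ∉ Subgroup.center G := by
  by_contra! h
  have h1 : (Subgroup.center G).relIndex (zsub σ D) ≤ B.relIndex (zsub σ D) :=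
    relIndex_le_of_le_left h index_ne_zero_of_finite
  omega

/-- Generation by the subgroups `U_e`. -/
theorem ucore_le_iSup {L : Subgroup G} (hL : KMem σ D L) :
    ucore p σ L ≤ ⨆ (e : G) (_ : e ∈ zsub σ D ∧ e ∉ Subgroup.center G),
      ucore p σ (centralizer ({e} : Set G)) := by
  haveI : Fact (Nat.Prime 2) := ⟨Nat.prime_two⟩
  set U₂ := ⨆ (e : G) (_ : e ∈ zsub σ D ∧ e ∉ Subgroup.center G),
      ucore p σ (centralizer ({e} : Set G)) with hU₂
  set U := ucore p σ L with hU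
  have hUp : IsPGroup p U := X.isPGroup_ucore hL.inv hL.ne_top
  have hk1 : kone σ D ≤ normalizer (U₂ : Set G) := fun c hc => mem_normalizer_of_cj_le (by
    rw [hU₂, Subgroup.map_iSup]
    refine iSup_le fun e => ?_
    rw [Subgroup.map_iSup]
    exact iSup_le fun he => (cj_eq_of_mem_normalizer (X.kone_le_normalizer_ucore hD he.1 hc)).le.trans
      (le_iSup₂ (f := fun e (_ : e ∈ zsub σ D ∧ e ∉ Subgroup.center G) =>
        ucore p σ (centralizer ({e} : Set G))) e he))
  have hDn : D ≤ normalizer (U₂ : Set G) := fun d hd => mem_normalizer_of_cj_le (by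
    rw [hU₂, Subgroup.map_iSup]
    refine iSup_le fun e => ?_
    rw [Subgroup.map_iSup]
    exact iSup_le fun he => (cj_eq_of_mem_normalizer
      (X.D_le_normalizer_ucore hD (X.kmem_centralizer hD he.1 he.2) hd)).le.trans
      (le_iSup₂ (f := fun e (_ : e ∈ zsub σ D ∧ e ∉ Subgroup.center G) =>
        ucore p σ (centralizer ({e} : Set G))) e he))
  have hU₂i : Inv σ U₂ := inv_iSup fun e => inv_iSup fun he =>
    X.inv_ucore (X.kmem_centralizer hD he.1 he.2).inv
  -- `U ≤ U₂ K₁`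
  have hgen : U ≤ U₂ ⊔ kone σ D := by
    refine CfsgLib.Signalizer.le_of_forall_hyperplane (X.elab_zsub hD) ?_
      (inf_le_left.trans (X.D_le_normalizer_ucore hD hL)) fun B hB hidx => ?_
    · obtain ⟨n, hn⟩ := IsPGroup.iff_card.1 hUp
      rw [hn]
      exact ((hp.out.odd_of_ne_two X.p_ne_two).pow).not_two_dvd_nat
    · obtain ⟨e, heB, hec⟩ := X.exists_noncentral hD hrank hidx
      refine (inf_le_inf_left _ (centralizer_le (Set.singleton_subset_iff.2 heB))).trans ?_
      have hC := X.kmem_centralizer hD (hB heB) hec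
      refine (X.le_ucore_sup hD hC ((X.inv_ucore hL.inv).inf hC.inv)
        (hUp.to_le inf_le_left) inf_le_right ?_).trans
        (sup_le_sup (le_iSup₂ (f := fun e (_ : e ∈ zsub σ D ∧ e ∉ Subgroup.center G) =>
          ucore p σ (centralizer ({e} : Set G))) e ⟨hB heB, hec⟩) inf_le_right)
      exact (le_inf (X.D_le_normalizer_ucore hD hL) (hC.le.trans le_normalizer)).trans
        (fun g hg => mem_normalizer_of_cj_le (by
          rw [cj_inf, cj_eq_of_mem_normalizer hg.1, cj_eq_of_mem_normalizer hg.2]))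
  -- so `[U, σ] ≤ U₂`
  have hmvU : ∀ u ∈ U, u⁻¹ * σ u ∈ U₂ := by
    intro u hu
    have h1 : (↑(U₂ ⊔ kone σ D) : Set G) = (U₂ : Set G) * (kone σ D : Set G) :=
      coe_mul_of_right_le_normalizer_left U₂ _ hk1
    have hu' : u ∈ (U₂ : Set G) * (kone σ D : Set G) := h1 ▸ hgen hu
    obtain ⟨a, ha, k, hk, rfl⟩ := hu'
    have hkf : σ k = k := hk.2
    have e : (a * k)⁻¹ * σ (a * k) = k⁻¹ * (a⁻¹ * σ a) * k⁻¹⁻¹ := by rw [map_mul, hkf]; group
    rw [e]
    exact (mem_normalizer_iff.1 (inv_mem (hk1 hk)) _).1 (mul_mem (inv_mem ha) (hU₂i a ha))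
  set N₀ := U ⊓ U₂ with hN₀
  have hN₀D : D ≤ normalizer (N₀ : Set G) := fun d hd => mem_normalizer_of_cj_le (by
    rw [cj_inf, cj_eq_of_mem_normalizer (X.D_le_normalizer_ucore hD hL hd),
      cj_eq_of_mem_normalizer (hDn hd)])
  have hgen2 : moved σ L ≤ N₀ ⊔ D := by
    rw [← X.act.cop.moved_moved hL.inv, moved, closure_le]
    rintro _ ⟨g, hg, rfl⟩
    obtain ⟨u, hu, d, hd, rfl⟩ := X.exists_mul_of_mem_moved hD hL.inv hL.ne_top hL.le hg
    have e : (u * d)⁻¹ * σ (u * d) = (d⁻¹ * (u⁻¹ * σ u) * d⁻¹⁻¹) * (d⁻¹ * σ d) := by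
      rw [map_mul]; group
    rw [SetLike.mem_coe, e]
    refine mul_mem_sup ((mem_normalizer_iff.1 (inv_mem (hN₀D hd)) _).1
      (mem_inf.2 ⟨mul_mem (inv_mem hu) (X.inv_ucore hL.inv u hu), hmvU u hu⟩)) ?_
    exact mul_mem (inv_mem hd) (X.inv_D hD d hd)
  intro u hu
  have h1 : (↑(N₀ ⊔ D) : Set G) = (N₀ : Set G) * (D : Set G) :=
    coe_mul_of_right_le_normalizer_left N₀ _ hN₀D
  have hu' : u ∈ (N₀ : Set G) * (D : Set G) := h1 ▸ hgen2 (pPart_le _ _ hu)
  obtain ⟨a, ha, d, hd, rfl⟩ := hu'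
  have hdU : d ∈ U ⊓ D := ⟨by simpa using U.mul_mem (U.inv_mem ha.1) hu, hd⟩
  rw [hU, X.ucore_inf_D hD hL.inv hL.ne_top hL.le, mem_bot] at hdU
  show a * d ∈ U₂
  rw [hdU, mul_one]
  exact ha.2

end gen

variable {P₀ : Subgroup G}

theorem tmem_sup {L : Subgroup G} (hL : KMem σ D L) (hPi : IsPGroup p P₀) (hPik : P₀ ≤ kone σ D)
    (hPiL : P₀ ≤ L) : TMem p σ D P₀ (ucore p σ L ⊔ P₀) where
  inv := (X.inv_ucore hL.inv).sup fun x hx => by
    rw [show σ x = x from (hPik hx).2]; exact hx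
  isPGroup := (X.isPGroup_ucore hL.inv hL.ne_top).to_sup_of_normal_left' hPi
    (hPiL.trans X.le_normalizer_ucore)
  le_normalizer := fun d hd => inf_normalizer_le_normalizer_sup _ _
    ⟨X.D_le_normalizer_ucore hD hL hd, centralizer_le_normalizer' P₀ (mem_centralizer_iff.2
      fun x hx => (mem_centralizer_iff.1 (hPik hx).1 d hd).symm)⟩
  le := le_sup_right

theorem exists_max_tmem {T : Subgroup G} (hT : TMem p σ D P₀ T) :
    ∃ M, T ≤ M ∧ Maximal (TMem p σ D P₀) M :=
  (Set.toFinite {T | TMem p σ D P₀ T}).exists_le_maximal hT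

/-- Two maximal members with non-trivial intersection are equal. -/
theorem eq_of_inf_ne_bot (hPi : IsSylowIn p P₀ (kone σ D)) {T₁ T₂ : Subgroup G}
    (h1 : Maximal (TMem p σ D P₀) T₁) (h2 : Maximal (TMem p σ D P₀) T₂)
    (hne : T₁ ⊓ T₂ ≠ ⊥) : T₁ = T₂ := by
  by_contra hne12
  obtain ⟨W, hW⟩ : ∃ W, Maximal (fun W => ∃ A B, Maximal (TMem p σ D P₀) A ∧
      Maximal (TMem p σ D P₀) B ∧ A ≠ B ∧ W = A ⊓ B ∧ W ≠ ⊥) W := by
    obtain ⟨W, -, hW⟩ := (Set.toFinite {W : Subgroup G | ∃ A B, Maximal (TMem p σ D P₀) A ∧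
      Maximal (TMem p σ D P₀) B ∧ A ≠ B ∧ W = A ⊓ B ∧ W ≠ ⊥}).exists_le_maximal
      ⟨T₁, T₂, h1, h2, hne12, rfl, hne⟩
    exact ⟨W, hW⟩
  obtain ⟨A, B, hA, hB, hAB, rfl, hWne⟩ := hW.1
  set W := A ⊓ B with hWdef
  have hWi : Inv σ W := hA.1.inv.inf hB.1.inv
  have hWp : IsPGroup p W := hA.1.isPGroup.to_le inf_le_left
  have hDW : D ≤ normalizer (W : Set G) := fun d hd => mem_normalizer_of_cj_le (by
    rw [cj_inf, cj_eq_of_mem_normalizer (hA.1.le_normalizer hd),
      cj_eq_of_mem_normalizer (hB.1.le_normalizer hd)])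
  have hL := X.kmem_normalizer hD hWi hWp hWne hDW
  have hPiW : P₀ ≤ normalizer (W : Set G) := (le_inf hA.1.le hB.1.le).trans le_normalizer
  obtain ⟨M, hM1, hM⟩ :=
    X.exists_max_tmem hD (X.tmem_sup hD hL hPi.2.1 hPi.1 hPiW)
  have key : ∀ E : Subgroup G, Maximal (TMem p σ D P₀) E → W ≤ E →
      E ⊓ normalizer (W : Set G) ≤ M := by
    intro E hE hWE
    have hi : Inv σ (E ⊓ normalizer (W : Set G)) := hE.1.inv.inf hWi.normalizer
    have hn : D ≤ normalizer ((E ⊓ normalizer (W : Set G) : Subgroup G) : Set G) := fun d hd =>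
      mem_normalizer_of_cj_le (by
        rw [cj_inf, cj_eq_of_mem_normalizer (hE.1.le_normalizer hd),
          cj_eq_of_mem_normalizer (le_normalizer (hDW hd))])
    refine (X.le_ucore_sup hD hL hi (hE.1.isPGroup.to_le inf_le_left) inf_le_right hn).trans
      (le_trans (sup_le_sup le_rfl ?_) hM1)
    refine le_of_le_of_eq le_sup_right (hPi.eq_of_le (A := P₀ ⊔ _) le_sup_left
      (sup_le hPi.1 inf_le_right) ?_)
    exact ((hE.1.isPGroup.to_le inf_le_left)).to_le
      (sup_le (le_inf hE.1.le hPiW) inf_le_left)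
  have hgrow : ∀ E : Subgroup G, Maximal (TMem p σ D P₀) E → W < E → M = E := by
    intro E hE hWE
    by_contra hne'
    have h1 := lt_inf_normalizer hE.1.isPGroup hWE
    have h2 : W < M ⊓ E := h1.trans_le (le_inf (key E hE hWE.le) inf_le_left)
    exact h2.not_ge (hW.2 ⟨M, E, hM, hE, hne', rfl, ne_bot_of_gt h2⟩ h2.le)
  have hWA : W < A := lt_of_le_of_ne inf_le_left fun e => hAB
    (le_antisymm (e.symm.le.trans inf_le_right) (hA.2 hB.1 (e.symm.le.trans inf_le_right)))
  have hWB : W < B := lt_of_le_of_ne inf_le_right fun e => hAB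
    (le_antisymm (hB.2 hA.1 (e.symm.le.trans inf_le_left)) (e.symm.le.trans inf_le_left))
  exact hAB ((hgrow A hA hWA).symm.trans (hgrow B hB hWB))

/-- If three classes of `C_D(σ)` modulo the centre exhaust it, a moving `p`-element permutes them
transitively. -/
theorem exists_pow_conj {c : G} (hcf : σ c = c) (hcn : c ∈ normalizer (D : Set G)) {k : ℕ}
    (hck : c ^ (p ^ k) = 1) {e₀ : G} (he₀ : e₀ ∈ zsub σ D) (hmove : c * e₀ ≠ e₀ * c) :
    2 < (Subgroup.center G).relIndex (zsub σ D) ∧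
    ((Subgroup.center G).relIndex (zsub σ D) ≤ 4 → ∀ e ∈ zsub σ D, e ∉ Subgroup.center G →
      ∃ i : ℕ, (c ^ i * e₀ * (c ^ i)⁻¹)⁻¹ * e ∈ Subgroup.center G) := by
  classical
  let π := QuotientGroup.mk' (Subgroup.center G)
  have hcard : (Subgroup.center G).relIndex (zsub σ D) = Nat.card ((zsub σ D).map π) := by
    rw [← relIndex_ker (zsub σ D) π, QuotientGroup.ker_mk']
  have hmemz : ∀ i : ℕ, c ^ i * e₀ * (c ^ i)⁻¹ ∈ zsub σ D := fun i =>
    X.mem_normalizer_zsub hD (by rw [map_pow, hcf]) (pow_mem hcn i) he₀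
  let q : ℕ → (zsub σ D).map π := fun i => ⟨π (c ^ i * e₀ * (c ^ i)⁻¹), _, hmemz i, rfl⟩
  have hq : ∀ i, ((q i : (zsub σ D).map π) : G ⧸ Subgroup.center G) =
      π c ^ i * π e₀ * (π c ^ i)⁻¹ := fun i => by
    show π (c ^ i * e₀ * (c ^ i)⁻¹) = _
    rw [map_mul, map_mul, map_inv, map_pow]
  obtain ⟨l, hl⟩ := (hp.out.odd_of_ne_two X.p_ne_two).pow (n := k)
  -- `π e₀` is moved
  have h01 : π c * π e₀ * (π c)⁻¹ ≠ π e₀ := by
    intro h
    apply hmove
    obtain ⟨z, hz, hze⟩ : ∃ z ∈ Subgroup.center G, c * e₀ * c⁻¹ = e₀ * z := by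
      refine ⟨e₀⁻¹ * (c * e₀ * c⁻¹), ?_, by group⟩
      rw [← QuotientGroup.eq]
      rw [← map_inv, ← map_mul, ← map_mul] at h
      exact h.symm
    have hzc := Subgroup.mem_center_iff.1 hz
    have hzsq : z * z = 1 := by
      have h1 : (c * e₀ * c⁻¹) * (c * e₀ * c⁻¹) = 1 := by
        calc _ = c * (e₀ * e₀) * c⁻¹ := by group
          _ = 1 := by rw [X.zsub_sq hD he₀, mul_one, mul_inv_cancel]
      rw [hze, mul_assoc, ← mul_assoc z e₀ z, ← hzc e₀, mul_assoc e₀ z z, ← mul_assoc,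
        X.zsub_sq hD he₀, one_mul] at h1
      exact h1
    have hit : ∀ n : ℕ, c ^ n * e₀ * (c ^ n)⁻¹ = e₀ * z ^ n := by
      intro n
      induction n with
      | zero => simp
      | succ n ih =>
        calc c ^ (n + 1) * e₀ * (c ^ (n + 1))⁻¹ = c * (c ^ n * e₀ * (c ^ n)⁻¹) * c⁻¹ := by
              rw [pow_succ']; group
          _ = c * e₀ * (z ^ n * c⁻¹) := by rw [ih]; group
          _ = c * e₀ * (c⁻¹ * z ^ n) := by
              rw [Subgroup.mem_center_iff.1 (pow_mem hz n) c⁻¹]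
          _ = e₀ * z ^ (n + 1) := by rw [← mul_assoc, hze, pow_succ']; group
    have h2 := hit (p ^ k)
    rw [hck, one_mul, inv_one, mul_one, left_eq_mul, hl, pow_succ, pow_mul, sq, hzsq, one_pow,
      one_mul] at h2
    rw [h2, mul_one] at hze
    exact mul_inv_eq_iff_eq_mul.1 hze
  have he1 : π e₀ ≠ 1 := fun h => h01 (by rw [h, mul_one, mul_inv_cancel])
  have hne : ∀ i, (q i : G ⧸ Subgroup.center G) ≠ 1 := fun i h => he1 (by
    rw [hq] at h
    calc π e₀ = (π c ^ i)⁻¹ * (π c ^ i * π e₀ * (π c ^ i)⁻¹) * π c ^ i := by group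
      _ = 1 := by rw [h]; group)
  have h12 : q 0 ≠ q 1 := fun h => h01 (by
    have := congrArg Subtype.val h
    rw [hq, hq, pow_zero, one_mul, inv_one, mul_one, pow_one] at this
    exact this.symm)
  have h23 : q 1 ≠ q 2 := fun h => h01 (by
    have := congrArg Subtype.val h
    rw [hq, hq, pow_one, sq] at this
    calc π c * π e₀ * (π c)⁻¹ = (π c)⁻¹ * (π c * π c * π e₀ * (π c * π c)⁻¹) * π c := by group
      _ = (π c)⁻¹ * (π c * π e₀ * (π c)⁻¹) * π c := by rw [← this]
      _ = π e₀ := by group)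
  have h13 : q 0 ≠ q 2 := fun h => h01 (by
    have := congrArg Subtype.val h
    rw [hq, hq, pow_zero, one_mul, inv_one, mul_one] at this
    have hit : ∀ n, π c ^ (2 * n) * π e₀ * (π c ^ (2 * n))⁻¹ = π e₀ := by
      intro n
      induction n with
      | zero => simp
      | succ n ih =>
        calc _ = π c ^ 2 * (π c ^ (2 * n) * π e₀ * (π c ^ (2 * n))⁻¹) * (π c ^ 2)⁻¹ := by
              rw [Nat.mul_succ, pow_add, (Commute.pow_pow (Commute.refl (π c)) (2 * n) 2).eq]
              group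
          _ = π e₀ := by rw [ih, ← this]
    have h2 := hit l
    have h3 : π c ^ (2 * l) = (π c)⁻¹ := by
      rw [eq_inv_iff_mul_eq_one, ← pow_succ, ← hl, ← map_pow, hck, map_one]
    rw [h3, inv_inv] at h2
    calc π c * π e₀ * (π c)⁻¹ = π c * ((π c)⁻¹ * π e₀ * π c) * (π c)⁻¹ := by rw [h2]
      _ = π e₀ := by group)
  haveI := Fintype.ofFinite ((zsub σ D).map π)
  rw [hcard, Nat.card_eq_fintype_card]
  have h1q : ∀ i, q i ≠ 1 := fun i h => hne i (congrArg Subtype.val h)
  let S : Finset ((zsub σ D).map π) := {1, q 0, q 1, q 2}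
  have hS : S.card = 4 := by
    simp [S, h12, h13, h23, (h1q 0).symm, (h1q 1).symm, (h1q 2).symm]
  refine ⟨by have := S.card_le_univ; omega, fun hle e he hec => ?_⟩
  have hSu : S = Finset.univ := Finset.eq_univ_of_card _ (le_antisymm S.card_le_univ (by omega))
  have hmem : (⟨π e, _, he, rfl⟩ : (zsub σ D).map π) ∈ S := hSu ▸ Finset.mem_univ _
  have hout : ∀ i, (⟨π e, _, he, rfl⟩ : (zsub σ D).map π) = q i →
      ∃ i : ℕ, (c ^ i * e₀ * (c ^ i)⁻¹)⁻¹ * e ∈ Subgroup.center G := fun i h => ⟨i, by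
    have h1 : π e = π (c ^ i * e₀ * (c ^ i)⁻¹) := congrArg Subtype.val h
    exact QuotientGroup.eq.1 h1.symm⟩
  simp only [S, Finset.mem_insert, Finset.mem_singleton] at hmem
  rcases hmem with h | h | h | h
  · exact absurd ((QuotientGroup.eq_one_iff e).1 (congrArg Subtype.val h)) hec
  · exact hout 0 h
  · exact hout 1 h
  · exact hout 2 h

/-- The `p`-parts generate a `p`-group. -/
theorem isPGroup_utilde : IsPGroup p (utilde p σ D) := by
  classical
  haveI : Fact (Nat.Prime 2) := ⟨Nat.prime_two⟩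
  -- maximal `p`-parts
  obtain ⟨L₀, hL₀, hmax₀⟩ := (Set.toFinite {L | KMem σ D L}).exists_maximalFor
    (fun L => Nat.card (ucore p σ L)) _ ⟨_, X.kmem_normalizer_D hD⟩
  by_cases hA : ∀ c, σ c = c → c ∈ normalizer (D : Set G) → (∃ k : ℕ, c ^ (p ^ k) = 1) →
      c ∈ centralizer (D : Set G)
  · -- all `p`-parts are trivial
    have hbot : ucore p σ L₀ = ⊥ := by
      by_contra hne
      set U := ucore p σ L₀ with hU
      have hH := X.kmem_normalizer hD (X.inv_ucore hL₀.inv)
        (X.isPGroup_ucore hL₀.inv hL₀.ne_top) hne (X.D_le_normalizer_ucore hD hL₀)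
      have hle : U ≤ ucore p σ (normalizer (U : Set G)) := ucore_mono X.le_normalizer_ucore
      have heq : ∀ L, KMem σ D L → U ≤ ucore p σ L → ucore p σ L = U := fun L hL h =>
        (eq_of_le_of_card_ge h (hmax₀ hL (card_le_of_le h))).symm
      refine X.stepA hD hH (fun L hL hL' => ?_) (fun c _ => hA c) ?_
      · have := X.le_normalizer_ucore (p := p) (σ := σ) (H := L)
        rwa [heq L hL (hle.trans hL')] at this
      · obtain ⟨n, hn⟩ := IsPGroup.iff_card.1 (X.isPGroup_ucore hL₀.inv hL₀.ne_top)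
        rcases n with _ | n
        · exact absurd (Subgroup.card_eq_one.1 (by rwa [pow_zero] at hn)) hne
        · exact (dvd_pow_self p n.succ_ne_zero).trans
            (hn ▸ card_dvd_of_le (hle.trans (X.ucore_le hH.inv)))
    have hu : utilde p σ D = ⊥ := by
      refine le_bot_iff.1 (iSup₂_le fun L hL => ?_)
      rw [le_bot_iff, ← Subgroup.card_eq_one]
      refine le_antisymm ?_ Nat.card_pos
      have h1 : Nat.card (ucore p σ L₀) = 1 := by rw [hbot, Subgroup.card_bot]
      rcases Nat.le_total (Nat.card (ucore p σ L)) 1 with h | h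
      · exact h
      · exact (hmax₀ hL (h1.le.trans h)).trans h1.le
    rw [hu]
    exact IsPGroup.of_bot
  · push Not at hA
    obtain ⟨c, hcf, hcn, ⟨k, hck⟩, hcC⟩ := hA
    obtain ⟨e₀, he₀, hmove⟩ : ∃ e₀ ∈ zsub σ D, c * e₀ ≠ e₀ * c := by
      by_contra! h
      exact hcC (X.mem_centralizer_of_fix_zsub hD hcf hcn h)
    have hrank := (X.exists_pow_conj hD hcf hcn hck he₀ hmove).1
    obtain ⟨P₀, -, hPi⟩ := exists_isSylowIn_ge (p := p) (A := ⊥) (H := kone σ D) bot_le IsPGroup.of_bot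
    have hPiC : ∀ e ∈ zsub σ D, P₀ ≤ centralizer ({e} : Set G) := fun e he x hx =>
      mem_centralizer_singleton_iff.2 (mem_centralizer_iff.1 (hPi.1 hx).1 e he.1).symm
    -- the maximal members meeting some `U_e`
    have huniq : ∀ T₁ T₂, Maximal (TMem p σ D P₀) T₁ → Maximal (TMem p σ D P₀) T₂ →
        T₁ ≠ ⊥ → T₂ ≠ ⊥ → T₁ = T₂ := by
      intro T₁ T₂ h1 h2 hne1 hne2
      by_cases hPi0 : P₀ = ⊥
      · subst hPi0
        by_contra hne12
        -- a common non-central element with non-trivial centraliser in both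
        have hlink : ∀ e ∈ zsub σ D, e ∉ Subgroup.center G →
            T₁ ⊓ centralizer ({e} : Set G) ≠ ⊥ → T₂ ⊓ centralizer ({e} : Set G) = ⊥ := by
          intro e he hec he1
          by_contra he2
          have hC := X.kmem_centralizer hD he hec
          obtain ⟨M, hM1, hM⟩ :=
            X.exists_max_tmem hD (X.tmem_sup hD hC IsPGroup.of_bot bot_le bot_le (P₀ := ⊥))
          have key : ∀ T, Maximal (TMem p σ D ⊥) T → T ⊓ centralizer ({e} : Set G) ≠ ⊥ →
              T = M := by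
            intro T hT hTe
            refine X.eq_of_inf_ne_bot hD hPi hT hM (ne_bot_of_le_ne_bot hTe ?_)
            refine le_inf inf_le_left ((X.le_ucore_sup hD hC (hT.1.inv.inf hC.inv)
              (hT.1.isPGroup.to_le inf_le_left) inf_le_right ?_).trans ?_)
            · exact fun d hd => mem_normalizer_of_cj_le (by
                rw [cj_inf, cj_eq_of_mem_normalizer (hT.1.le_normalizer hd),
                  cj_eq_of_mem_normalizer (le_normalizer (hC.le hd))])
            · refine le_trans (sup_le_sup le_rfl (le_of_eq ?_)) hM1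
              exact hPi.eq_of_le bot_le inf_le_right
                ((hT.1.isPGroup.to_le inf_le_left).to_le inf_le_left)
          exact hne12 ((key T₁ h1 he1).trans (key T₂ h2 he2).symm)
        -- hyperplanes with non-trivial centralisers
        have hhyp : ∀ T, Maximal (TMem p σ D ⊥) T → T ≠ ⊥ → ∃ B ≤ zsub σ D,
            B.relIndex (zsub σ D) ≤ 2 ∧ T ⊓ centralizer (B : Set G) ≠ ⊥ := by
          intro T hT hne
          by_contra! hall
          refine hne (le_bot_iff.1 (CfsgLib.Signalizer.le_of_forall_hyperplane (X.elab_zsub hD) ?_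
            (inf_le_left.trans hT.1.le_normalizer) fun B hB hidx => le_of_eq (hall B hB hidx)))
          obtain ⟨n, hn⟩ := IsPGroup.iff_card.1 hT.1.isPGroup
          rw [hn]
          exact ((hp.out.odd_of_ne_two X.p_ne_two).pow).not_two_dvd_nat
        obtain ⟨B₁, hB₁, hidx₁, hC₁⟩ := hhyp T₁ h1 hne1
        obtain ⟨B₂, hB₂, hidx₂, hC₂⟩ := hhyp T₂ h2 hne2
        have hsub : ∀ {T B : Subgroup G} {e : G}, e ∈ B → T ⊓ centralizer (B : Set G) ≠ ⊥ →
            T ⊓ centralizer ({e} : Set G) ≠ ⊥ := fun {T B e} he h =>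
          ne_bot_of_le_ne_bot h (inf_le_inf_left _ (centralizer_le (Set.singleton_subset_iff.2 he)))
        by_cases hcap : B₁ ⊓ B₂ ≤ Subgroup.center G
        · -- four classes only
          have hle4 : (Subgroup.center G).relIndex (zsub σ D) ≤ 4 :=
            calc _ ≤ (B₁ ⊓ B₂).relIndex (zsub σ D) :=
                  relIndex_le_of_le_left hcap index_ne_zero_of_finite
              _ ≤ B₁.relIndex (zsub σ D) * B₂.relIndex (zsub σ D) := relIndex_inf_le
              _ ≤ 2 * 2 := Nat.mul_le_mul hidx₁ hidx₂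
          have hH := X.kmem_normalizer hD h1.1.inv h1.1.isPGroup hne1 h1.1.le_normalizer
          have hTU : T₁ = ucore p σ (normalizer (T₁ : Set G)) := by
            have hm := X.tmem_sup hD hH IsPGroup.of_bot bot_le bot_le (P₀ := ⊥)
            have hle := (X.le_ucore_sup hD hH h1.1.inv h1.1.isPGroup le_normalizer
              h1.1.le_normalizer).trans (sup_le_sup le_rfl (le_of_eq (hPi.eq_of_le bot_le
                inf_le_right (h1.1.isPGroup.to_le inf_le_left))))
            have heq : T₁ = ucore p σ (normalizer (T₁ : Set G)) ⊔ ⊥ :=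
              le_antisymm hle (h1.2 hm hle)
            rwa [sup_bot_eq] at heq
          have hna := mt (fun hfix => X.stepA hD hH (fun L hL hLe => by
            have hm := X.tmem_sup hD hL IsPGroup.of_bot bot_le bot_le (P₀ := ⊥)
            have h3 : T₁ ≤ ucore p σ L ⊔ ⊥ := by
              rw [sup_bot_eq]; exact (le_of_eq hTU).trans hLe
            have heq : T₁ = ucore p σ L := by
              have := le_antisymm h3 (h1.2 hm h3)
              rwa [sup_bot_eq] at this
            have := X.le_normalizer_ucore (p := p) (σ := σ) (H := L)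
            rwa [← heq] at this) hfix) (not_not.2 (by
              obtain ⟨n, hn⟩ := IsPGroup.iff_card.1 h1.1.isPGroup
              rcases n with _ | n
              · exact absurd (Subgroup.card_eq_one.1 (by rwa [pow_zero] at hn)) hne1
              · exact (dvd_pow_self p n.succ_ne_zero).trans
                  (hn ▸ card_dvd_of_le le_normalizer)))
          push Not at hna
          obtain ⟨d, hdH, hdf, hdn, ⟨l, hdl⟩, hdC⟩ := hna
          obtain ⟨f₀, hf₀, hfmove⟩ : ∃ f₀ ∈ zsub σ D, d * f₀ ≠ f₀ * d := by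
            by_contra! h
            exact hdC (X.mem_centralizer_of_fix_zsub hD hdf hdn h)
          have htr := (X.exists_pow_conj hD hdf hdn hdl hf₀ hfmove).2 hle4
          obtain ⟨e₁, he₁B, he₁c⟩ := X.exists_noncentral hD hrank hidx₁
          obtain ⟨e₂, he₂B, he₂c⟩ := X.exists_noncentral hD hrank hidx₂
          -- centralisers of elements congruent modulo the centre
          have hcongr : ∀ {a b : G}, a⁻¹ * b ∈ Subgroup.center G →
              centralizer ({a} : Set G) = centralizer ({b} : Set G) := by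
            intro a b hab
            ext g
            rw [mem_centralizer_singleton_iff, mem_centralizer_singleton_iff]
            have hz := Subgroup.mem_center_iff.1 hab g
            have e : b = a * (a⁻¹ * b) := by group
            constructor
            · intro h; rw [e, ← mul_assoc, h, mul_assoc, hz, ← mul_assoc]
            · intro h
              have hz' : g * (a⁻¹ * b)⁻¹ = (a⁻¹ * b)⁻¹ * g := (Commute.inv_right hz).eq
              calc g * a = g * b * (a⁻¹ * b)⁻¹ := by group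
                _ = b * (g * (a⁻¹ * b)⁻¹) := by rw [h, mul_assoc]
                _ = b * ((a⁻¹ * b)⁻¹ * g) := by rw [hz']
                _ = a * g := by group
          have hcj : ∀ (i : ℕ) (x : G), (d ^ i) *• (T₁ ⊓ centralizer ({x} : Set G)) =
              T₁ ⊓ centralizer ({d ^ i * x * (d ^ i)⁻¹} : Set G) := by
            intro i x
            rw [cj_inf, cj_eq_of_mem_normalizer (pow_mem hdH i)]
            congr 1
            ext g
            rw [mem_cj, mem_centralizer_singleton_iff, mem_centralizer_singleton_iff]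
            constructor
            · intro h
              calc g * (d ^ i * x * (d ^ i)⁻¹) =
                  d ^ i * (((d ^ i)⁻¹ * g * d ^ i) * x) * (d ^ i)⁻¹ := by group
                _ = d ^ i * (x * ((d ^ i)⁻¹ * g * d ^ i)) * (d ^ i)⁻¹ := by rw [h]
                _ = _ := by group
            · intro h
              calc (d ^ i)⁻¹ * g * d ^ i * x =
                  (d ^ i)⁻¹ * (g * (d ^ i * x * (d ^ i)⁻¹)) * d ^ i := by group
                _ = (d ^ i)⁻¹ * ((d ^ i * x * (d ^ i)⁻¹) * g) * d ^ i := by rw [h]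
                _ = _ := by group
          obtain ⟨i₁, hi₁⟩ := htr e₁ (hB₁ he₁B) he₁c
          obtain ⟨i₂, hi₂⟩ := htr e₂ (hB₂ he₂B) he₂c
          refine hsub he₂B hC₂ (hlink e₂ (hB₂ he₂B) he₂c ?_)
          have h0 : T₁ ⊓ centralizer ({f₀} : Set G) ≠ ⊥ := fun h => hsub he₁B hC₁ (by
            rw [← hcongr hi₁, ← hcj, h, Subgroup.map_bot])
          rw [← hcongr hi₂, ← hcj, Ne, cj_eq_bot_iff]
          exact h0
        · obtain ⟨e, he, hec⟩ := Set.not_subset.1 hcap
          exact hsub he.2 hC₂ (hlink e (hB₁ he.1) hec (hsub he.1 hC₁))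
      · exact X.eq_of_inf_ne_bot hD hPi h1 h2 (ne_bot_of_le_ne_bot hPi0 (le_inf h1.1.le h2.1.le))
    have hex : ∀ L, ucore p σ L ≠ ⊥ → ∀ M, ucore p σ L ⊔ P₀ ≤ M → M ≠ ⊥ := fun L h M hM =>
      ne_bot_of_le_ne_bot h (le_sup_left.trans hM)
    by_cases hall : ∀ e, e ∈ zsub σ D ∧ e ∉ Subgroup.center G →
        ucore p σ (centralizer ({e} : Set G)) = ⊥
    · refine IsPGroup.of_bot.to_le (iSup₂_le fun L hL => ?_)
      exact (X.ucore_le_iSup hD hrank hL).trans (iSup₂_le fun e he => (hall e he).le)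
    · push Not at hall
      obtain ⟨e₁, he₁, hne₁⟩ := hall
      obtain ⟨M, hM1, hM⟩ := X.exists_max_tmem hD (X.tmem_sup hD
        (X.kmem_centralizer hD he₁.1 he₁.2) hPi.2.1 hPi.1 (hPiC e₁ he₁.1))
      refine hM.1.isPGroup.to_le (iSup₂_le fun L hL => ?_)
      refine (X.ucore_le_iSup hD hrank hL).trans (iSup₂_le fun e he => ?_)
      by_cases hne : ucore p σ (centralizer ({e} : Set G)) = ⊥
      · rw [hne]; exact bot_le
      obtain ⟨M', hM1', hM'⟩ := X.exists_max_tmem hD (X.tmem_sup hD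
        (X.kmem_centralizer hD he.1 he.2) hPi.2.1 hPi.1 (hPiC e he.1))
      rw [← huniq M' M hM' hM (hex _ hne _ hM1') (hex _ hne₁ _ hM1)]
      exact le_sup_left.trans hM1'

theorem inv_utilde : Inv σ (utilde p σ D) :=
  inv_iSup fun _ => inv_iSup fun hL => X.inv_ucore hL.inv

/-- A fixed element of `N(D)` normalises the subgroup generated by the `p`-parts. -/
theorem mem_normalizer_utilde {c : G} (hcf : σ c = c) (hcn : c ∈ normalizer (D : Set G)) :
    c ∈ normalizer (utilde p σ D : Set G) := by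
  refine mem_normalizer_of_cj_le ?_
  rw [utilde, Subgroup.map_iSup]
  refine iSup_le fun L => ?_
  rw [Subgroup.map_iSup]
  refine iSup_le fun hL => (cj_ucore_le hcf L).trans (ucore_le_utilde ?_)
  refine ⟨hL.inv.cj hcf, fun h => hL.ne_top ?_, ?_⟩
  · have h2 := congrArg (c⁻¹ *• ·) h
    simp only [cj_inv_cj] at h2
    rw [h2, map_top_of_surjective _ (MulAut.conj c⁻¹).surjective]
  · rw [← cj_eq_of_mem_normalizer hcn]; exact cj_mono c hL.le

theorem D_le_normalizer_utilde : D ≤ normalizer (utilde p σ D : Set G) := fun d hd =>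
  mem_normalizer_of_cj_le (by
    rw [utilde, Subgroup.map_iSup]
    refine iSup_le fun L => ?_
    rw [Subgroup.map_iSup]
    exact iSup_le fun hL => (cj_eq_of_mem_normalizer (X.D_le_normalizer_ucore hD hL hd)).le.trans
      (ucore_le_utilde hL))

/-- There is a largest proper invariant subgroup containing `D`. -/
theorem exists_home : ∃ H, KMem σ D H ∧ ∀ L, KMem σ D L → L ≤ H := by
  by_cases h0 : utilde p σ D = ⊥
  · exact ⟨_, X.kmem_normalizer_D hD, fun L hL => X.le_normalizer_D_of_ucore hD hL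
      (le_bot_iff.1 ((ucore_le_utilde hL).trans h0.le))⟩
  · refine ⟨_, X.kmem_normalizer hD (X.inv_utilde hD) (X.isPGroup_utilde hD) h0
      (X.D_le_normalizer_utilde hD), fun L hL x hx => ?_⟩
    obtain ⟨u, hu, d, hd, c, -, hcf, hcn, rfl⟩ := X.exists_decomp hD hL.inv hL.ne_top hL.le hx
    exact mul_mem (mul_mem (le_normalizer (ucore_le_utilde hL hu))
      (X.D_le_normalizer_utilde hD hd)) (X.mem_normalizer_utilde hD hcf hcn)

end Cx

end CfsgLib.HHShult
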