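import Cfsg.Agent.HHShult.Regular
import Cfsg.Agent.SEmbed.Cosets

/-!
# Every involution modulo the centre fixes exactly one coset of `H`

* `Cx.kmem_cmod_fixed`: the centraliser modulo the centre of a fixed non-central element
  centralising `D` is proper;
* `Cx.mem_of_sq_central`: if `τ ∈ H` is an involution modulo the centre and `g⁻¹ τ g ∈ H`, then
  `g ∈ H`;
* `Cx.sEmbed`: the image of `H` is strongly embedded in `G / Z(G)`.
-/

set_option autoImplicit false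
set_option linter.style.haveILetI false
set_option linter.unusedSectionVars false

open Finset Module Subgroup CfsgLib.ConjFunctor
open scoped commutatorElement CfsgLib.ConjFunctor

namespace CfsgLib.HHShult

universe u v w

variable {G : Type w} [Group G] [Finite G]
variable {K : Type u} [Field K] [IsAlgClosed K] {V : Type v} [AddCommGroup V] [Module K V]
  [FiniteDimensional K V]
variable {p : ℕ} [hp : Fact p.Prime] {σ : MulAut G} {r : ℕ} {ψ : G →* Module.End K V}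
  {s : Module.End K V}

namespace Cx

variable (X : Cx p σ r ψ s) {D H : Subgroup G} (hD : IsStdD σ D)
include X hD

theorem kmem_cmod_fixed {e : G} (he : σ e = e) (hec : e ∉ Subgroup.center G)
    (heD : ∀ d ∈ D, d * e = e * d) : KMem σ D (cmod e) where
  inv := inv_cmod he
  le := fun d hd => mem_cmod_of_commute (heD d hd)
  ne_top := by
    intro htop
    apply hec
    let N : Subgroup G := zpowers e ⊔ Subgroup.center G
    have hN : N.Normal := by
      rw [← normalizer_eq_top_iff, eq_top_iff]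
      intro x _
      refine mem_normalizer_of_cj_le ?_
      rw [Subgroup.map_sup]
      refine sup_le ?_ ?_
      · rw [MonoidHom.map_zpowers, zpowers_le]
        have hx : ⁅e, x⁆ ∈ Subgroup.center G := mem_cmod.1 (htop ▸ mem_top x)
        show x * e * x⁻¹ ∈ N
        have e1 : x * e * x⁻¹ = ⁅e, x⁆⁻¹ * e := by simp only [commutatorElement_def]; group
        rw [e1]
        exact mul_mem (mem_sup_right (inv_mem hx)) (mem_sup_left (mem_zpowers e))
      · exact cj_le_iff.2 fun c hc => mem_sup_right (by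
          rw [Subgroup.mem_center_iff.1 hc x, mul_inv_cancel_right]; exact hc)
    have hNi : Inv σ N := Inv.sup (inv_zpowers he) (fun c hc => map_center_mem σ hc)
    by_cases hNtop : N = ⊤
    · rw [Subgroup.mem_center_iff]
      intro x
      have hcomm : N ≤ centralizer ({e} : Set G) := sup_le
        (zpowers_le.2 (mem_centralizer_singleton_iff.2 rfl))
        (fun c hc => mem_centralizer_singleton_iff.2 (Subgroup.mem_center_iff.1 hc e).symm)
      exact mem_centralizer_singleton_iff.1 (hcomm (hNtop.symm ▸ mem_top x))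
    · exact X.le_center_of_normal hN hNi hNtop (mem_sup_left (mem_zpowers e))

variable (hH : Home σ D H)
include hH

set_option maxHeartbeats 800000 in
/-- The decomposed case: `τ = d t` with central square has `cmod τ ≤ H`. -/
theorem cmod_le_of_dec {τ d t : G} {a : ℕ} (hdec : Dec σ D τ d t) (hτc : τ ∉ Subgroup.center G)
    (hτ2 : τ * τ ∈ Subgroup.center G) (hτa : τ ^ (2 ^ a) = 1) : cmod τ ≤ H := by
  by_contra hnle
  haveI : Fact (Nat.Prime 2) := ⟨Nat.prime_two⟩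
  have ht := X.mem_kone_of_sq hD hH hdec hτ2
  have htD : ∀ e ∈ D, e * t = t * e := fun e he => mem_centralizer_iff.1 ht.1 e he
  have F := X.frame hD
  by_cases hdz : d ∈ zsub σ D
  · refine hnle (hH.max _ (X.kmem_cmod_fixed hD (by rw [hdec.eq, map_mul, hdz.2, hdec.fix]) hτc
      fun e he => ?_))
    rw [hdec.eq, ← mul_assoc, X.zsub_comm hD hdz he, mul_assoc, htD e he, ← mul_assoc]
  obtain ⟨g₀, hg₀, hg₀H⟩ := Set.not_subset.1 hnle
  have hτH : τ ∈ H := by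
    rw [hdec.eq]
    exact mul_mem (hH.mem.le hdec.mem) (hH.normalizer_le X hD hdec.norm)
  obtain ⟨b, hb, hbτ, hbH⟩ := X.exists_good_cmod hD hH hτa hτ2 hg₀H (by
    have hc : ⁅τ, g₀⁆ ∈ Subgroup.center G := hg₀
    have e : g₀⁻¹ * τ * g₀ = ⁅τ, g₀⁆ * τ := by
      calc g₀⁻¹ * τ * g₀ = g₀⁻¹ * (⁅τ, g₀⁆ * g₀ * τ) := by
            simp only [commutatorElement_def]; group
        _ = ⁅τ, g₀⁆ * (g₀⁻¹ * g₀ * τ) := by
            rw [← mul_assoc, ← mul_assoc, Subgroup.mem_center_iff.1 hc g₀⁻¹]; group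
        _ = _ := by group
    rw [e]
    exact mul_mem (X.center_le_home hD hH hc) hτH)
  obtain ⟨g, z, hz, hzc, rfl⟩ := hb
  have hg : g ∉ H := fun hgH => hbH (mul_mem (mul_mem hgH (hH.mem.le hz.1)) (inv_mem hgH))
  obtain ⟨z₁, h1, z₂, h2, hc1, hc2, h12⟩ := X.exists_two_classes hD hH
  have hwex : ∀ {z' : G}, z' ∈ zsub σ D → z' ∉ Subgroup.center G →
      ∃ w ∈ cmod τ, (g * z * g⁻¹)⁻¹ * (w * z' * w⁻¹) ∈ Subgroup.center G := fun {z'} hz' hzc' => by
    obtain ⟨-, w, hw, hwc⟩ := X.exists_conj_of_points hD hH hz' hzc' hz hzc (g := 1) (g' := g)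
      (by rwa [inv_one, one_mul])
    simp only [one_mul, inv_one, mul_one] at hw hwc
    refine ⟨w, ?_, hwc⟩
    obtain ⟨i, rfl⟩ := Subgroup.mem_zpowers_iff.1 hw
    refine zpow_mem (mul_mem (mem_cmod_of_commute ?_) hbτ) i
    rw [hdec.eq, ← mul_assoc, ← X.zsub_comm hD hz' hdec.mem, mul_assoc, htD z' hz'.1, ← mul_assoc]
  obtain ⟨w₁, hw₁τ, hw₁⟩ := hwex h1 hc1
  obtain ⟨w₂, hw₂τ, hw₂⟩ := hwex h2 hc2
  set h := w₂⁻¹ * w₁ with hh
  have hcen : z₂⁻¹ * (h * z₁ * h⁻¹) ∈ Subgroup.center G := by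
    have hn : (Subgroup.center G).Normal := inferInstance
    have := hn.conj_mem _ (mul_mem (inv_mem hw₂) hw₁) w₂⁻¹
    rwa [show w₂⁻¹ * (((g * z * g⁻¹)⁻¹ * (w₂ * z₂ * w₂⁻¹))⁻¹ *
      ((g * z * g⁻¹)⁻¹ * (w₁ * z₁ * w₁⁻¹))) * w₂⁻¹⁻¹ = z₂⁻¹ * (h * z₁ * h⁻¹) by
      rw [hh]; group] at this
  have hhτ : ⁅τ, h⁆ ∈ Subgroup.center G :=
    mem_cmod.1 (show h ∈ cmod τ from mul_mem (inv_mem hw₂τ) hw₁τ)
  have hgood := (good_of_mem h1 hc1).conj h
  have hn : h * z₁ * h⁻¹ ∈ normalizer (D : Set G) := by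
    rw [show h * z₁ * h⁻¹ = z₂ * (z₂⁻¹ * (h * z₁ * h⁻¹)) by group]
    exact mul_mem (le_normalizer h2.1) (Subgroup.center_le_normalizer _ hcen)
  have hhH : h ∈ H := hH.fusion X hD h1 hc1 (X.good_mem_zsub hD hH hgood hn) hgood.not_center rfl
  obtain ⟨u, hu, d₂, hd₂, c, -, hcf, hcn, he⟩ :=
    X.exists_decomp hD hH.mem.inv hH.mem.ne_top hH.mem.le hhH
  have hz' : c * z₁ * c⁻¹ ∈ zsub σ D := X.mem_normalizer_zsub hD hcf hcn h1
  have e : h * z₁ * h⁻¹ = u * (c * z₁ * c⁻¹) * u⁻¹ := by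
    rw [he]
    calc u * d₂ * c * z₁ * (u * d₂ * c)⁻¹ = u * (d₂ * (c * z₁ * c⁻¹)) * d₂⁻¹ * u⁻¹ := by group
      _ = _ := by rw [X.zsub_comm hD hz' hd₂]; group
  rw [e] at hn hcen
  rw [hH.conj_eq X hD hz' hu hn] at hcen
  have hcz : c * z₁ * c⁻¹ = z₂ :=
    (inv_mul_eq_one.1 (X.zsub_center hD hH (mul_mem (inv_mem h2) hz') hcen)).symm
  -- the image of `τ`
  set d' : G := d₂ * (c * d * c⁻¹) * d₂⁻¹ with hd'
  set t' : G := c * t * c⁻¹ with ht'
  have hd'D : d' ∈ D := mul_mem (mul_mem hd₂ ((mem_normalizer_iff.1 hcn d).1 hdec.mem)) (inv_mem hd₂)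
  have ht'f : σ t' = t' := by rw [ht', map_mul, map_mul, map_inv, hcf, hdec.fix]
  have ht'D : ∀ e ∈ D, e * t' = t' * e := fun e' he' => by
    have h3 : c⁻¹ * e' * c ∈ D := (mem_normalizer_iff''.1 hcn e').1 he'
    calc e' * t' = c * ((c⁻¹ * e' * c) * t) * c⁻¹ := by rw [ht']; group
      _ = c * (t * (c⁻¹ * e' * c)) * c⁻¹ := by rw [htD _ h3]
      _ = t' * e' := by rw [ht']; group
  set f : G := d' * t' with hf
  have hfH : f ∈ H := mul_mem (hH.mem.le hd'D) (hH.normalizer_le X hD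
    (mul_mem (mul_mem hcn hdec.norm) (inv_mem hcn)))
  have hf2 : d₂ * (c * τ * c⁻¹) * d₂⁻¹ = f := by
    calc d₂ * (c * τ * c⁻¹) * d₂⁻¹ = d₂ * (c * d * c⁻¹) * (t' * d₂⁻¹) := by
          rw [hdec.eq, ht']; group
      _ = d₂ * (c * d * c⁻¹) * (d₂⁻¹ * t') := by rw [ht'D _ (inv_mem hd₂)]
      _ = f := by rw [hf, hd']; group
  set ζ := ⁅τ, h⁆⁻¹ with hζ
  have hζc : ζ ∈ Subgroup.center G := inv_mem hhτ
  set y : G := ζ * (t * t'⁻¹) with hy
  have hyf : σ y = y := by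
    rw [hy, map_mul, X.center_fixed hζc, map_mul, map_inv, hdec.fix, ht'f]
  have hyD : ∀ e ∈ D, Commute e y := fun e' he' => by
    refine Commute.mul_right (Subgroup.mem_center_iff.1 hζc e') (Commute.mul_right (htD e' he') ?_)
    exact Commute.inv_right (ht'D e' he')
  have hddD : d * d'⁻¹ ∈ D := mul_mem hdec.mem (inv_mem hd'D)
  have hx : u * f * u⁻¹ * f⁻¹ = d * d'⁻¹ * y := by
    have e2 : u * f * u⁻¹ = ζ * τ := by
      rw [hζ, ← hf2, commutatorElement_def, he]; group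
    calc u * f * u⁻¹ * f⁻¹ = ζ * (d * t) * (t'⁻¹ * d'⁻¹) := by rw [e2, hdec.eq, hf]; group
      _ = (ζ * d) * ((t * t'⁻¹) * d'⁻¹) := by group
      _ = (d * ζ) * (d'⁻¹ * (t * t'⁻¹)) := by
          rw [Subgroup.mem_center_iff.1 hζc d,
            (Commute.mul_right (htD _ (inv_mem hd'D)) (Commute.inv_right (ht'D _ (inv_mem hd'D)))).eq]
      _ = d * (ζ * d'⁻¹) * (t * t'⁻¹) := by group
      _ = d * (d'⁻¹ * ζ) * (t * t'⁻¹) := by rw [Subgroup.mem_center_iff.1 hζc d'⁻¹]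
      _ = _ := by rw [hy]; group
  have hxU : u * f * u⁻¹ * f⁻¹ ∈ ucore p σ H := by
    have := (mem_normalizer_iff.1 (X.le_normalizer_ucore hfH) u⁻¹).1 (inv_mem hu)
    rw [show u * f * u⁻¹ * f⁻¹ = u * (f * u⁻¹ * f⁻¹) by group]
    exact mul_mem hu this
  obtain ⟨k, hk⟩ := X.isPGroup_ucore hH.mem.inv hH.mem.ne_top ⟨_, hxU⟩
  obtain ⟨l, hl⟩ := X.isPGroup_D hD ⟨d * d'⁻¹, hddD⟩
  have hxl : (d * d'⁻¹ * y) ^ (2 ^ l) = y ^ (2 ^ l) := by
    rw [(hyD _ hddD).mul_pow, show (d * d'⁻¹) ^ (2 ^ l) = 1 from congrArg Subtype.val hl, one_mul]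
  have hpk : (d * d'⁻¹ * y) ^ (p ^ k) = 1 := hx ▸ congrArg Subtype.val hk
  obtain ⟨j, hj⟩ := exists_pow_eq_self_of_coprime (x := d * d'⁻¹ * y) (n := 2 ^ l)
    (Nat.Coprime.of_dvd_right (orderOf_dvd_of_pow_eq_one hpk)
      (Nat.Coprime.pow l k ((Nat.coprime_primes Nat.prime_two hp.out).2 X.p_ne_two.symm)))
  have hfx : σ (d * d'⁻¹) = d * d'⁻¹ := by
    have h3 : σ (d * d'⁻¹ * y) = d * d'⁻¹ * y := by
      rw [← hj, hxl, map_pow, map_pow, hyf]
    rw [map_mul, hyf] at h3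
    exact mul_right_cancel h3
  -- so `c` fixes the image of `d`
  have hA : nA hcn (piA ⟨d, hdec.mem⟩) = piA ⟨d, hdec.mem⟩ := by
    have e1 : piA (⟨d', hd'D⟩ : ↥D) = nA hcn (piA ⟨d, hdec.mem⟩) := by
      rw [← F.nA_of_mem hd₂ (le_normalizer hd₂) (nA hcn (piA ⟨d, hdec.mem⟩)), nA_piA, nA_piA]
      exact congrArg piA (Subtype.ext rfl)
    rw [← e1, F.piA_eq_iff]
    have h4 : (⟨d * d'⁻¹, hddD⟩ : ↥D) ∈ Subgroup.center ↥D := (F.center_iff _).2 hfx
    have h5 : (⟨d', hd'D⟩ : ↥D)⁻¹ * ⟨d, hdec.mem⟩ =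
        (⟨d', hd'D⟩ : ↥D)⁻¹ * ⟨d * d'⁻¹, hddD⟩ * ⟨d', hd'D⟩ := Subtype.ext (by
      simp only [Subgroup.coe_mul, InvMemClass.coe_inv]; group)
    rw [h5]
    have h6 := Subgroup.mem_center_iff.1 h4 (⟨d', hd'D⟩ : ↥D)⁻¹
    rwa [h6, inv_mul_cancel_right]
  have hne0 : piA (⟨d, hdec.mem⟩ : ↥D) ≠ 0 := fun h0 =>
    hdz ⟨hdec.mem, (F.center_iff _).1 ((F.piA_eq_zero _).1 h0)⟩
  have hd2 := F.sq_mem ⟨d, hdec.mem⟩
  have hsq := F.sqA_nA hcn (piA ⟨d, hdec.mem⟩)
  rw [hA, F.sqA_piA, nZ_toFZ hcn hd2] at hsq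
  have hfixd : nD hcn (⟨d, hdec.mem⟩ ^ 2) = (⟨d, hdec.mem⟩ : ↥D) ^ 2 := by
    rw [toFZ_of_mem hd2, toFZ_of_mem (map_center_mem _ hd2)] at hsq
    exact (congrArg Subtype.val (congrArg Additive.toMul hsq)).symm
  have hd2z : d ^ 2 ∈ zsub σ D := ⟨pow_mem hdec.mem 2, (F.center_iff _).1 hd2⟩
  have hd21 : d ^ 2 ≠ 1 := fun h => X.sq_ne_zero hD hH hne0 (by
    rw [F.sqA_piA, show (⟨d, hdec.mem⟩ : ↥D) ^ 2 = 1 from Subtype.ext h,
      toFZ_of_mem (one_mem _)]; rfl)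
  have hk1 := X.mem_kone_of_fix hD hH hcf hcn hd2z hd21 (by
    have := congrArg Subtype.val hfixd
    rw [nD_apply] at this
    exact mul_inv_eq_iff_eq_mul.1 this)
  apply h12
  have h7 : z₁ = z₂ := by
    rw [← hcz, ← mem_centralizer_iff.1 hk1.1 z₁ h1.1, mul_inv_cancel_right]
  rw [h7, inv_mul_cancel]
  exact one_mem _

/-- An involution modulo the centre lying in `H` fixes no other coset. -/
theorem mem_of_sq_central {τ g : G} (hτH : τ ∈ H) (hτc : τ ∉ Subgroup.center G)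
    (hτ2 : τ * τ ∈ Subgroup.center G) (hg : g⁻¹ * τ * g ∈ H) : g ∈ H := by
  by_contra hgH
  obtain ⟨a, n, hn, hord⟩ := Nat.exists_eq_two_pow_mul_odd (orderOf_pos τ).ne'
  obtain ⟨i, rfl⟩ := hn
  set e := τ ^ (2 * i + 1) with he
  have hea : e ^ (2 ^ a) = 1 := by
    rw [he, ← pow_mul, mul_comm, ← hord, pow_orderOf_eq_one]
  have he2 : e * e ∈ Subgroup.center G := by
    rw [he, ← pow_add, ← two_mul, pow_mul, sq]
    exact pow_mem hτ2 _
  have hec : e ∉ Subgroup.center G := fun h => hτc (by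
    rw [he, pow_succ, pow_mul, sq] at h
    have := mul_mem (inv_mem (pow_mem hτ2 i)) h
    rwa [inv_mul_cancel_left] at this)
  have heH : e ∈ H := pow_mem hτH _
  have heg : g⁻¹ * e * g ∈ H := by
    have := pow_mem hg (2 * i + 1)
    have h1 := conj_pow (a := g⁻¹) (b := τ) (i := 2 * i + 1)
    rw [inv_inv] at h1
    rwa [h1, ← he] at this
  obtain ⟨b, -, hbe, hbH⟩ := X.exists_good_cmod hD hH hea he2 hgH heg
  obtain ⟨k, hk, d, t, hdec⟩ := hH.exists_transport X hD hH.mem heH hea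
  have hn : (Subgroup.center G).Normal := inferInstance
  have hconj : k⁻¹ * e * k = k⁻¹ * e * k⁻¹⁻¹ := by rw [inv_inv]
  have hle := X.cmod_le_of_dec hD hH hdec (a := a) (by
      rw [hconj]; exact not_mem_center_conj hec) (by
      have := hn.conj_mem _ he2 k⁻¹
      rwa [show k⁻¹ * (e * e) * k⁻¹⁻¹ = k⁻¹ * e * k * (k⁻¹ * e * k) by group] at this) (by
      rw [hconj, conj_pow, hea, mul_one, mul_inv_cancel])
  have hb' : k⁻¹ * b * k⁻¹⁻¹ ∈ cmod (k⁻¹ * e * k⁻¹⁻¹) := (conj_mem_cmod_iff k⁻¹).2 hbe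
  rw [inv_inv] at hb'
  apply hbH
  have := mul_mem (mul_mem hk (hle hb')) (inv_mem hk)
  rwa [show k * (k⁻¹ * b * k) * k⁻¹ = b by group] at this

/-- The image of `H` in `G / Z(G)` is strongly embedded. -/
theorem sEmbed : Cfsg.IsStronglyEmbedded (H.map (QuotientGroup.mk' (Subgroup.center G))) := by
  set π := QuotientGroup.mk' (Subgroup.center G) with hπ
  have hcomap : (H.map π).comap π = H := by
    rw [Subgroup.comap_map_eq, QuotientGroup.ker_mk', sup_eq_left]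
    exact X.center_le_home hD hH
  have hne : H.map π ≠ ⊤ := fun h => hH.mem.ne_top (by rw [← hcomap, h, Subgroup.comap_top])
  have heven : Even (Nat.card (H.map π)) := by
    obtain ⟨z, hz, hzc⟩ := X.exists_noncentral_zsub hD hH
    have ho : orderOf (π z) = 2 := orderOf_eq_prime
      (by rw [sq, ← map_mul, X.zsub_sq hD hz, map_one])
      fun h => hzc ((QuotientGroup.eq_one_iff z).1 h)
    rw [even_iff_two_dvd, ← ho]
    exact Subgroup.orderOf_dvd_natCard _ (mem_map_of_mem π (hH.mem.le hz.1))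
  refine (CfsgLib.Small.isStronglyEmbedded_iff hne heven).2 ?_
  intro t ht ho g hg
  obtain ⟨τ, hτ, rfl⟩ := ht
  obtain ⟨g, rfl⟩ := QuotientGroup.mk'_surjective (Subgroup.center G) g
  rw [← map_inv, ← map_mul, ← map_mul] at hg
  refine mem_map_of_mem π (X.mem_of_sq_central hD hH hτ (fun h => ?_) ?_ (hcomap ▸ hg))
  · rw [show π τ = 1 from (QuotientGroup.eq_one_iff τ).2 h, orderOf_one] at ho
    omega
  · refine (QuotientGroup.eq_one_iff _).1 ?_
    show π (τ * τ) = 1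
    rw [map_mul, ← sq, ← ho, pow_orderOf_eq_one]

/-- Every involution of `G / Z(G)` fixes exactly one coset. -/
theorem uniqueFix : CfsgLib.SEmbed.UniqueFix (G ⧸ Subgroup.center G)
    ((G ⧸ Subgroup.center G) ⧸ H.map (QuotientGroup.mk' (Subgroup.center G))) :=
  CfsgLib.SEmbed.uniqueFix (X.sEmbed hD hH)

end Cx

end CfsgLib.HHShult
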