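import Cfsg.Agent.HHShult.Norm
import Cfsg.Agent.HHShult.Fusion

/-!
# Eigenspace dimensions of elements `d t` of `N(D)`

* `finrank_orbit_le`: eigenvectors from orbits of independent subspaces;
* `Frame.finrank_eq_sum_fE`, `Frame.finrank_minus_center`;
* `wDelta`: the dimension of the part of `V` on which `y = d t` is not in the centraliser of `D`;
* `Frame.wDelta_le_two`, `Frame.wDelta_le_four`: lower bounds for eigenspaces of `y` and of a square
  root of `y`.
-/

set_option autoImplicit false
set_option linter.style.haveILetI false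
set_option linter.unusedSectionVars false

open Finset Module Subgroup
open scoped commutatorElement

namespace CfsgLib.HHShult

universe u v w

section generic

/-- Representatives of the orbits of a map of finite order. -/
theorem exists_reps {ι : Type*} [Fintype ι] [DecidableEq ι] (π : ι → ι) {n : ℕ} (hn : 0 < n)
    (hper : ∀ i, π^[n] i = i) (Δ : Finset ι) (hΔ : ∀ i ∈ Δ, π i ∈ Δ) (f : ι → ℕ)
    (hf : ∀ i, f (π i) = f i) :
    ∃ R ⊆ Δ, (∀ i ∈ R, ∀ j ∈ R, ∀ a, π^[a] i = j → i = j) ∧
      ∀ c : ι → ℕ, (∀ i ∈ R, 0 < c i ∧ π^[c i] i = i) → ∑ i ∈ Δ, f i ≤ ∑ i ∈ R, c i * f i := by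
  classical
  let e := Fintype.equivFin ι
  let R := Δ.filter fun i => ∀ a, e i ≤ e (π^[a] i)
  have hΔ' : ∀ a, ∀ i ∈ Δ, π^[a] i ∈ Δ := by
    intro a
    induction a with
    | zero => exact fun i hi => hi
    | succ a ih => intro i hi; rw [Function.iterate_succ_apply']; exact hΔ _ (ih i hi)
  have hf' : ∀ a i, f (π^[a] i) = f i := by
    intro a
    induction a with
    | zero => exact fun i => rfl
    | succ a ih => intro i; rw [Function.iterate_succ_apply', hf, ih]
  have hmod : ∀ a i, π^[a % n] i = π^[a] i := fun a i =>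
    (Function.IsPeriodicPt.iterate_mod_apply (hper i) a)
  refine ⟨R, Finset.filter_subset _ _, ?_, ?_⟩
  · intro i hi j hj a ha
    rw [Finset.mem_filter] at hi hj
    refine e.injective (le_antisymm (ha ▸ hi.2 a) ?_)
    have hback : π^[n - a % n] j = i := by
      rw [← ha, ← hmod a, ← Function.iterate_add_apply,
        Nat.sub_add_cancel (Nat.mod_lt a hn).le, hper]
    rw [← hback]
    exact hj.2 _
  · intro c hc
    have hcover : ∀ k ∈ Δ, ∃ i ∈ R, k ∈ (range (c i)).image fun a => π^[a] i := by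
      intro k hk
      obtain ⟨i, hi, hmin⟩ := Finset.exists_min_image ((range n).image fun a => π^[a] k)
        (fun i => e i) ⟨k, Finset.mem_image.2 ⟨0, Finset.mem_range.2 hn, rfl⟩⟩
      obtain ⟨a, ha, rfl⟩ := Finset.mem_image.1 hi
      have hiR : π^[a] k ∈ R := Finset.mem_filter.2 ⟨hΔ' a k hk, fun b => by
        refine hmin _ (Finset.mem_image.2 ⟨(b + a) % n, Finset.mem_range.2 (Nat.mod_lt _ hn), ?_⟩)
        rw [hmod, Function.iterate_add_apply]⟩
      refine ⟨_, hiR, Finset.mem_image.2 ⟨(n - a) % c (π^[a] k),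
        Finset.mem_range.2 (Nat.mod_lt _ (hc _ hiR).1), ?_⟩⟩
      rw [Function.IsPeriodicPt.iterate_mod_apply (hc _ hiR).2, ← Function.iterate_add_apply,
        Nat.sub_add_cancel (Finset.mem_range.1 ha).le, hper]
    calc ∑ k ∈ Δ, f k ≤ ∑ k ∈ Δ, ∑ i ∈ R,
          if k ∈ (range (c i)).image (fun a => π^[a] i) then f k else 0 := by
          refine Finset.sum_le_sum fun k hk => ?_
          obtain ⟨i, hi, hki⟩ := hcover k hk
          refine le_trans (le_of_eq ?_) (Finset.single_le_sum
            (f := fun i => if k ∈ (range (c i)).image (fun a => π^[a] i) then f k else 0)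
            (fun _ _ => Nat.zero_le _) hi)
          rw [if_pos hki]
      _ = ∑ i ∈ R, ∑ k ∈ Δ,
          if k ∈ (range (c i)).image (fun a => π^[a] i) then f k else 0 := Finset.sum_comm
      _ ≤ ∑ i ∈ R, c i * f i := by
          refine Finset.sum_le_sum fun i _ => ?_
          rw [← Finset.sum_filter]
          calc ∑ k ∈ Δ with k ∈ (range (c i)).image (fun a => π^[a] i), f k
              ≤ ∑ k ∈ (range (c i)).image (fun a => π^[a] i), f k :=
                Finset.sum_le_sum_of_subset fun k hk => (Finset.mem_filter.1 hk).2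
            _ = ∑ _k ∈ (range (c i)).image (fun a => π^[a] i), f i := by
                refine Finset.sum_congr rfl fun k hk => ?_
                obtain ⟨a, -, rfl⟩ := Finset.mem_image.1 hk
                exact hf' a i
            _ = ((range (c i)).image fun a => π^[a] i).card * f i := by
                rw [Finset.sum_const, smul_eq_mul]
            _ ≤ c i * f i :=
                Nat.mul_le_mul_right _ (Finset.card_image_le.trans (Finset.card_range _).le)

variable {K : Type u} [Field K] {V : Type v} [AddCommGroup V] [Module K V] [FiniteDimensional K V]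

/-- Eigenvectors from orbits. -/
theorem finrank_orbit_le {ι : Type*} [DecidableEq ι] (E : ι → Submodule K V) (g : Module.End K V)
    (π : ι → ι) (lam : K) (n : ℕ) (hg : g ^ n = 1) (hlam : lam ^ n = 1)
    (hmap : ∀ i, ∀ v ∈ E i, g v ∈ E (π i)) (P : ι → Module.End K V)
    (hP : ∀ i j, ∀ v ∈ E j, P i v = if i = j then v else 0) (R : Finset ι)
    (hR : ∀ i ∈ R, ∀ j ∈ R, ∀ a, π^[a] i = j → i = j) (W : ι → Submodule K V)
    (hW : ∀ i ∈ R, W i ≤ E i)
    (hfix : ∀ i ∈ R, ∀ a, a < n → π^[a] i = i → ∀ v ∈ W i, (g ^ a) v = lam ^ a • v)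
    (hcount : ∀ i ∈ R, (((range n).filter fun a => π^[a] i = i).card : K) ≠ 0) :
    ∑ i ∈ R, finrank K (W i) ≤ finrank K (LinearMap.ker (g - lam • 1) : Submodule K V) := by
  classical
  let T : Module.End K V := ∑ a ∈ range n, lam ^ (n - a) • g ^ a
  have hT : ∀ v, T v = ∑ a ∈ range n, lam ^ (n - a) • (g ^ a) v := fun v => by
    simp only [T, LinearMap.sum_apply, LinearMap.smul_apply]
  have hgT : ∀ v, g (T v) = lam • T v := by
    intro v
    rw [hT, map_sum, Finset.smul_sum]
    have h1 := Finset.sum_range_succ (fun a => lam ^ (n - a) • lam • (g ^ a) v) n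
    rw [Finset.sum_range_succ'] at h1
    simp only [Nat.sub_self, pow_zero, one_smul, hg, Module.End.one_apply, Nat.sub_zero, hlam] at h1
    calc ∑ a ∈ range n, g (lam ^ (n - a) • (g ^ a) v)
        = ∑ a ∈ range n, lam ^ (n - (a + 1)) • lam • (g ^ (a + 1)) v := by
          refine Finset.sum_congr rfl fun a ha => ?_
          rw [map_smul, smul_smul (lam ^ (n - (a + 1))), ← pow_succ, pow_succ' g,
            Module.End.mul_apply, show n - (a + 1) + 1 = n - a by
              have := Finset.mem_range.1 ha; omega]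
      _ = _ := by
          rw [add_right_cancel h1]
          exact Finset.sum_congr rfl fun a _ => smul_comm _ _ _
  have hit : ∀ a i, ∀ v ∈ E i, (g ^ a) v ∈ E (π^[a] i) := by
    intro a
    induction a with
    | zero => exact fun i v hv => hv
    | succ a ih =>
      intro i v hv
      rw [pow_succ', Module.End.mul_apply, Function.iterate_succ_apply']
      exact hmap _ _ (ih i v hv)
  let f : ((i : R) → W i) →ₗ[K] (LinearMap.ker (g - lam • 1) : Submodule K V) :=
    (∑ i : R, (T ∘ₗ (W i).subtype) ∘ₗ LinearMap.proj i).codRestrict _ fun h => by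
      rw [LinearMap.mem_ker, LinearMap.sub_apply, LinearMap.smul_apply, Module.End.one_apply,
        sub_eq_zero]
      simp only [LinearMap.sum_apply, LinearMap.comp_apply, map_sum, hgT, Finset.smul_sum]
  have hinj : Function.Injective f := by
    rw [← LinearMap.ker_eq_bot, Submodule.eq_bot_iff]
    intro h hh
    rw [LinearMap.mem_ker] at hh
    funext i
    apply Subtype.ext
    have h1 := congrArg (fun z : (LinearMap.ker (g - lam • 1) : Submodule K V) => P i.1 (z : V)) hh
    simp only [f, LinearMap.codRestrict_apply, LinearMap.sum_apply, LinearMap.comp_apply,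
      LinearMap.proj_apply, Submodule.subtype_apply, map_sum, ZeroMemClass.coe_zero, map_zero] at h1
    rw [Finset.sum_eq_single i] at h1
    · rw [hT, map_sum] at h1
      have hterm : ∀ a ∈ range n, P i.1 (lam ^ (n - a) • (g ^ a) (h i : V)) =
          if π^[a] i.1 = i.1 then (h i : V) else 0 := by
        intro a ha
        have ha' := Finset.mem_range.1 ha
        rw [map_smul, hP _ _ _ (hit a _ _ (hW _ i.2 (h i).2))]
        by_cases hc : π^[a] i.1 = i.1
        · rw [if_pos hc.symm, if_pos hc, hfix _ i.2 a ha' hc _ (h i).2, smul_smul, ← pow_add,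
            Nat.sub_add_cancel ha'.le, hlam, one_smul]
        · rw [if_neg (Ne.symm hc), if_neg hc, smul_zero]
      rw [Finset.sum_congr rfl hterm, ← Finset.sum_filter, Finset.sum_const,
        ← Nat.cast_smul_eq_nsmul K] at h1
      exact (smul_eq_zero.1 h1).resolve_left (hcount _ i.2)
    · intro j _ hji
      rw [hT, map_sum]
      refine Finset.sum_eq_zero fun a _ => ?_
      rw [map_smul, hP _ _ _ (hit a _ _ (hW _ j.2 (h j).2)), if_neg, smul_zero]
      exact fun he => hji (Subtype.ext (hR _ j.2 _ i.2 a he.symm))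
    · exact fun h' => absurd (Finset.mem_univ i) h'
  have hle := LinearMap.finrank_le_finrank_of_injective hinj
  rwa [Module.finrank_pi_fintype, ← Finset.sum_subtype R (fun _ => Iff.rfl)
    (fun i => finrank K (W i))] at hle

end generic

variable {G : Type w} [Group G] [Finite G]
variable {K : Type u} [Field K] [IsAlgClosed K] {V : Type v} [AddCommGroup V] [Module K V]
  [FiniteDimensional K V]
variable {σ : MulAut G} {r : ℕ} {ψ : G →* Module.End K V} {s : Module.End K V} {D : Subgroup G}

/-- The characters of `Z(D)`. -/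
noncomputable scoped instance fintypeChar (D : Subgroup G) : Fintype (FZ D →+ ZMod 2) :=
  @Fintype.ofFinite _ (Finite.of_injective _ DFunLike.coe_injective)

/-- The action of `g ∈ N(D)` on characters: `ψ g` maps the eigenspace of `χ` to that of `piy g χ`. -/
noncomputable def piy {g : G} (hg : g ∈ normalizer (D : Set G)) (χ : FZ D →+ ZMod 2) :
    FZ D →+ ZMod 2 := χ.comp (nZ (inv_mem hg))

theorem nZ_congr {g h : G} (hg : g ∈ normalizer (D : Set G)) (hh : h ∈ normalizer (D : Set G))
    (e : ∀ z : ↥(Subgroup.center ↥D), g * ((z : ↥D) : G) * g⁻¹ = h * ((z : ↥D) : G) * h⁻¹) :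
    nZ hg = nZ hh := by
  refine AddMonoidHom.ext fun z => congrArg Additive.ofMul (Subtype.ext (Subtype.ext ?_))
  exact e (Additive.toMul z)

theorem nZ_one (h : (1 : G) ∈ normalizer (D : Set G)) (z : FZ D) : nZ h z = z :=
  congrArg Additive.ofMul (Subtype.ext (Subtype.ext (by
    show (1 : G) * _ * (1 : G)⁻¹ = _
    rw [inv_one, one_mul, mul_one]
    rfl)))

theorem piy_iterate {g : G} (hg : g ∈ normalizer (D : Set G)) :
    ∀ (a : ℕ) (χ : FZ D →+ ZMod 2), (piy hg)^[a] χ = piy (pow_mem hg a) χ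
  | 0, χ => by
    refine AddMonoidHom.ext fun z => ?_
    show χ z = χ (nZ _ z)
    rw [nZ_congr (inv_mem (pow_mem hg 0)) (one_mem _) (fun _ => by simp), nZ_one]
  | a + 1, χ => by
    rw [Function.iterate_succ_apply', piy_iterate hg a χ]
    refine AddMonoidHom.ext fun z => ?_
    show χ (nZ _ (nZ _ z)) = χ (nZ _ z)
    rw [← nZ_mul_apply]
    congr 1
    refine DFunLike.congr_fun (nZ_congr _ _ fun _ => ?_) z
    rw [show (g ^ (a + 1))⁻¹ = (g ^ a)⁻¹ * g⁻¹ by rw [pow_succ']; group]

theorem piy_periodic {g : G} (hg : g ∈ normalizer (D : Set G)) {n : ℕ} (hn : g ^ n = 1)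
    (χ : FZ D →+ ZMod 2) : (piy hg)^[n] χ = χ := by
  rw [piy_iterate]
  refine AddMonoidHom.ext fun z => congrArg χ ?_
  exact (DFunLike.congr_fun (nZ_congr (inv_mem (pow_mem hg n)) (one_mem _)
    (fun _ => by simp [hn])) z).trans (nZ_one _ z)

theorem comp_eq_of_piy_eq {g : G} (hg : g ∈ normalizer (D : Set G)) {χ : FZ D →+ ZMod 2}
    (h : piy hg χ = χ) : χ.comp (nZ hg) = χ := by
  refine AddMonoidHom.ext fun z => ?_
  conv_rhs => rw [← nZ_one (D := D) (one_mem _) z]
  show χ (nZ hg z) = χ (nZ (one_mem _) z)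
  conv_lhs => rw [← h]
  show χ (nZ _ (nZ hg z)) = _
  rw [← nZ_mul_apply]
  congr 1
  exact DFunLike.congr_fun (nZ_congr _ _ fun _ => by simp) z

namespace Frame

variable (F : Frame σ r ψ s D)
include F

theorem apply_mem_piy {g : G} (hg : g ∈ normalizer (D : Set G)) (χ : FZ D →+ ZMod 2) {v : V}
    (hv : v ∈ fE ψ χ) : ψ g v ∈ fE ψ (piy hg χ) := by
  refine F.apply_mem_fE hg _ ?_
  have e : (piy hg χ).comp (nZ hg) = χ := AddMonoidHom.ext fun z => by
    show χ (nZ _ (nZ hg z)) = χ z
    rw [← nZ_mul_apply, nZ_congr _ (one_mem _) (fun _ => by simp), nZ_one]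
  rwa [e]

theorem finrank_piy {g : G} (hg : g ∈ normalizer (D : Set G)) (χ : FZ D →+ ZMod 2) :
    finrank K (fE ψ (piy hg χ) : Submodule K V) = finrank K (fE ψ χ : Submodule K V) :=
  F.finrank_fE_comp (inv_mem hg) χ

/-- The projection on an eigenspace. -/
noncomputable def projF (_F : Frame σ r ψ s D) (χ : FZ D →+ ZMod 2) : Module.End K V :=
  letI := Fintype.ofFinite ↥(Subgroup.center ↥D)
  eproj (psiZ ψ D) (kchar K χ)

theorem projF_of_mem [DecidableEq (FZ D →+ ZMod 2)] {χ η : FZ D →+ ZMod 2} {v : V}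
    (hv : v ∈ fE ψ η) : F.projF χ v = if χ = η then v else 0 := by
  classical
  letI := Fintype.ofFinite ↥(Subgroup.center ↥D)
  have hc : (Fintype.card ↥(Subgroup.center ↥D) : K) ≠ 0 := by
    rw [← Nat.card_eq_fintype_card]; exact F.natCast_card_ne
  rw [show F.projF χ v = eproj (psiZ ψ D) (kchar K χ) v from rfl, eproj_of_mem _ hc hv]
  exact if_congr ⟨F.kchar_injective, fun h => by rw [h]⟩ rfl rfl

/-- Dimension of an invariant subspace by eigenspaces. -/
theorem finrank_eq_sum_fE {W : Submodule K V}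
    (hW : ∀ z : ↥D, z ∈ Subgroup.center ↥D → ∀ v ∈ W, ψ (z : G) v ∈ W) :
    finrank K W = ∑ χ : FZ D →+ ZMod 2, finrank K (W ⊓ fE ψ χ : Submodule K V) := by
  classical
  letI := Fintype.ofFinite ↥(Subgroup.center ↥D)
  haveI : Finite (↥(Subgroup.center ↥D) →* K) := finite_hom
  haveI := Fintype.ofFinite (↥(Subgroup.center ↥D) →* K)
  have hc : (Fintype.card ↥(Subgroup.center ↥D) : K) ≠ 0 := by
    rw [← Nat.card_eq_fintype_card]; exact F.natCast_card_ne
  rw [finrank_eq_sum (psiZ ψ D) hc (W := W) fun z v hv => hW z.1 z.2 v hv]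
  exact (Fintype.sum_bijective (kchar K) ⟨fun a b h => F.kchar_injective h, F.exists_kchar⟩
    _ _ fun χ => rfl).symm

theorem finrank_top_eq_sum :
    finrank K V = ∑ χ : FZ D →+ ZMod 2, finrank K (fE ψ χ : Submodule K V) := by
  have h := F.finrank_eq_sum_fE (W := ⊤) fun _ _ _ _ => Submodule.mem_top
  rw [finrank_top] at h
  rw [h]
  exact Finset.sum_congr rfl fun χ _ => by rw [top_inf_eq]

omit F in
theorem stable_ker {g : G} (hg : ∀ z : ↥D, z ∈ Subgroup.center ↥D → g * (z : G) = (z : G) * g)
    (lam : K) : ∀ z : ↥D, z ∈ Subgroup.center ↥D →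
      ∀ v ∈ LinearMap.ker (ψ g - lam • 1), ψ (z : G) v ∈ LinearMap.ker (ψ g - lam • 1) := by
  intro z hz v hv
  rw [LinearMap.mem_ker, LinearMap.sub_apply, LinearMap.smul_apply, Module.End.one_apply,
    sub_eq_zero] at hv ⊢
  rw [← Module.End.mul_apply, ← map_mul, hg z hz, map_mul, Module.End.mul_apply, hv, map_smul]

theorem finrank_minus_center {z : ↥D} (hz : z ∈ Subgroup.center ↥D) :
    finrank K (minus (ψ (z : G)) : Submodule K V) =
      ∑ χ : FZ D →+ ZMod 2 with χ (toFZ z) = 1, finrank K (fE ψ χ : Submodule K V) := by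
  rw [F.finrank_eq_sum_fE (W := minus (ψ (z : G))) fun w hw v hv => by
    rw [mem_minus] at hv ⊢
    rw [← Module.End.mul_apply, ← map_mul,
      show (z : G) * (w : G) = (w : G) * z from congrArg Subtype.val (Subgroup.mem_center_iff.1 hw z),
      map_mul, Module.End.mul_apply, hv, map_neg], Finset.sum_filter]
  refine Finset.sum_congr rfl fun χ _ => ?_
  rcases zmod2_cases (χ (toFZ z)) with h | h
  · rw [if_neg (by rw [h]; decide)]
    refine Submodule.finrank_eq_zero.2 (eq_bot_iff.2 ?_)
    rintro v ⟨h1, h2⟩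
    rw [SetLike.mem_coe, mem_minus, mem_fE.1 h2 z hz, h, sK_zero, one_smul] at h1
    have h3 : (2 : K) • v = 0 := by rw [two_smul]; exact add_eq_zero_iff_eq_neg.2 h1
    exact (Submodule.mem_bot _).2 ((smul_eq_zero.1 h3).resolve_left F.two_ne)
  · rw [if_pos h, inf_eq_right.2 fun v hv => by
      rw [mem_minus, mem_fE.1 hv z hz, h, sK_one, neg_smul, one_smul]]

/-- An element anticommuting with `g` halves an eigenspace. -/
theorem two_mul_finrank_half {χ : FZ D →+ ZMod 2} {g : Module.End K V}
    (hgE : ∀ v ∈ fE ψ χ, g v ∈ fE ψ χ) (hsq : ∀ v ∈ fE ψ χ, g (g v) = v) {x : ↥D}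
    (hanti : ∀ v ∈ fE ψ χ, g (ψ (x : G) v) = -ψ (x : G) (g v)) :
    2 * finrank K (fE ψ χ ⊓ plus g : Submodule K V) = finrank K (fE ψ χ : Submodule K V) ∧
      2 * finrank K (fE ψ χ ⊓ minus g : Submodule K V) = finrank K (fE ψ χ : Submodule K V) := by
  have h1 := finrank_pm F.two_ne hgE hsq
  have h2 := finrank_eq_of_swap (W := fE ψ χ) (g := g) (ψ (x : G)) (fun a b hab => by
    have := congrArg (ψ (x : G)⁻¹) hab
    simpa [← Module.End.mul_apply, ← map_mul] using this) (fun v hv => F.mapsTo_fE χ x hv) hanti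
  constructor <;> omega

end Frame

open scoped Classical in
/-- The characters on whose eigenspace `y = d t` does not centralise `D`. -/
noncomputable def delta (F : Frame σ r ψ s D) {y d t : G} (h : Dec σ D y d t) :
    Finset (FZ D →+ ZMod 2) :=
  Finset.univ.filter fun χ =>
    fE ψ χ ≠ ⊥ ∧ (piy h.mem_normalizer χ ≠ χ ∨ (⟨d, h.mem⟩ : ↥D) ∉ F.radSub χ)

/-- The dimension of the part where `y = d t` does not centralise `D`. -/
noncomputable def wDelta (F : Frame σ r ψ s D) {y d t : G} (h : Dec σ D y d t) : ℕ :=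
  ∑ χ ∈ delta F h, finrank K (fE ψ χ : Submodule K V)

theorem mem_delta {F : Frame σ r ψ s D} {y d t : G} {h : Dec σ D y d t} {χ : FZ D →+ ZMod 2} :
    χ ∈ delta F h ↔
      fE ψ χ ≠ ⊥ ∧ (piy h.mem_normalizer χ ≠ χ ∨ (⟨d, h.mem⟩ : ↥D) ∉ F.radSub χ) := by
  simp [delta]

namespace Frame

variable (F : Frame σ r ψ s D)
include F

/-- `d` acts trivially on `Z(D)`. -/
theorem nZ_dec {y d t : G} (h : Dec σ D y d t) : nZ h.mem_normalizer = nZ h.norm := by
  refine nZ_congr _ _ fun z => ?_
  have hd : d * (t * ((z : ↥D) : G) * t⁻¹) = (t * ((z : ↥D) : G) * t⁻¹) * d :=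
    congrArg Subtype.val (Subgroup.mem_center_iff.1 (map_center_mem (nD h.norm) z.2) ⟨d, h.mem⟩)
  calc y * ((z : ↥D) : G) * y⁻¹ = (d * (t * ((z : ↥D) : G) * t⁻¹)) * d⁻¹ := by rw [h.eq]; group
    _ = _ := by rw [hd]; group

theorem piy_ne_bot {g : G} (hg : g ∈ normalizer (D : Set G)) {χ : FZ D →+ ZMod 2}
    (h : fE ψ χ ≠ ⊥) : fE ψ (piy hg χ) ≠ ⊥ := F.fE_comp_ne_bot (inv_mem hg) h

/-- On a fixed character inside the radical, `y` centralises `D`. -/
theorem commute_of_mem_rad {y d t : G} (h : Dec σ D y d t) {χ : FZ D →+ ZMod 2}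
    (hfix : piy h.mem_normalizer χ = χ) (hd : (⟨d, h.mem⟩ : ↥D) ∈ F.radSub χ) (x : ↥D) {v : V}
    (hv : v ∈ fE ψ χ) : ψ y (ψ (x : G) v) = ψ (x : G) (ψ y v) := by
  have ht : χ.comp (nZ h.norm) = χ := by
    rw [← F.nZ_dec h]; exact comp_eq_of_piy_eq _ hfix
  have hcomm := F.comm_apply χ x ⟨d, h.mem⟩ (F.apply_mem_fE h.norm χ (v := v) (by rwa [ht]))
  rw [hd x, sK_zero, one_smul] at hcomm
  simp only at hcomm
  rw [h.eq, map_mul, Module.End.mul_apply, Module.End.mul_apply,
    F.commute_of_fixed h.fix h.norm ht x hv, hcomm]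

/-- On a fixed character outside the radical, `y` anticommutes with some element of `D`. -/
theorem exists_anti {y d t : G} (h : Dec σ D y d t) {χ : FZ D →+ ZMod 2}
    (hfix : piy h.mem_normalizer χ = χ) (hd : (⟨d, h.mem⟩ : ↥D) ∉ F.radSub χ) :
    (∀ v ∈ fE ψ χ, ψ y v ∈ fE ψ χ) ∧
      ∃ x : ↥D, ∀ v ∈ fE ψ χ, ψ y (ψ (x : G) v) = -ψ (x : G) (ψ y v) := by
  have hyE : ∀ v ∈ fE ψ χ, ψ y v ∈ fE ψ χ := fun v hv => by
    have := F.apply_mem_piy h.mem_normalizer χ hv
    rwa [hfix] at this
  have ht : χ.comp (nZ h.norm) = χ := by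
    rw [← F.nZ_dec h]; exact comp_eq_of_piy_eq _ hfix
  obtain ⟨x, hx⟩ : ∃ x : ↥D, χ (toFZ ⁅x, ⟨d, h.mem⟩⁆) = 1 := by
    by_contra! hall
    exact hd fun z => (zmod2_cases _).resolve_right (hall z)
  refine ⟨hyE, x, fun v hv => ?_⟩
  have hcomm := F.comm_apply χ x ⟨d, h.mem⟩ (F.apply_mem_fE h.norm χ (v := v) (by rwa [ht]))
  rw [hx, sK_one, neg_smul, one_smul] at hcomm
  simp only at hcomm
  rw [h.eq, map_mul, Module.End.mul_apply, Module.End.mul_apply,
    F.commute_of_fixed h.fix h.norm ht x hv, hcomm, neg_neg]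

/-- **First bound.** -/
theorem wDelta_le_two {y d t : G} (h : Dec σ D y d t) (hy : y * y = 1) {lam : K}
    (hlam : lam = 1 ∨ lam = -1) :
    wDelta F h ≤ 2 * finrank K (LinearMap.ker (ψ y - lam • 1) : Submodule K V) := by
  classical
  set π := piy h.mem_normalizer with hπ
  have hy2 : y ^ 2 = 1 := by rw [sq, hy]
  have hper : ∀ χ, π^[2] χ = χ := piy_periodic h.mem_normalizer hy2
  have hyy : ∀ v, ψ y (ψ y v) = v := fun v => by
    rw [← Module.End.mul_apply, ← map_mul, hy, map_one, Module.End.one_apply]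
  have hΔ : ∀ χ ∈ delta F h, π χ ∈ delta F h := fun χ hχ => by
    rw [mem_delta] at hχ ⊢
    by_cases hm : π χ = χ
    · rwa [hm]
    · refine ⟨F.piy_ne_bot h.mem_normalizer hχ.1, ?_⟩
      left
      intro h2
      exact hm (h2.symm.trans (hper χ))
  obtain ⟨R, hRΔ, hR, hsum⟩ := exists_reps π two_pos hper (delta F h) hΔ
    (fun χ => finrank K (fE ψ χ : Submodule K V)) (fun χ => F.finrank_piy h.mem_normalizer χ)
  let W : (FZ D →+ ZMod 2) → Submodule K V := fun χ =>
    if π χ = χ then fE ψ χ ⊓ LinearMap.ker (ψ y - lam • 1) else fE ψ χ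
  have hhalf : ∀ χ ∈ R, π χ = χ →
      2 * finrank K (W χ) = finrank K (fE ψ χ : Submodule K V) := by
    intro χ hχ hfix
    obtain ⟨hyE, x, hx⟩ :=
      F.exists_anti h hfix ((mem_delta.1 (hRΔ hχ)).2.resolve_left (not_not.2 hfix))
    obtain ⟨h1, h2⟩ := F.two_mul_finrank_half hyE (fun v _ => hyy v) hx
    show 2 * finrank K (if π χ = χ then _ else _ : Submodule K V) = _
    rw [if_pos hfix]
    rcases hlam with rfl | rfl
    · rw [show ψ y - (1 : K) • (1 : Module.End K V) = ψ y - 1 by rw [one_smul]]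
      exact h1
    · rw [show ψ y - (-1 : K) • (1 : Module.End K V) = ψ y + 1 by
        rw [neg_smul, one_smul, sub_neg_eq_add]]
      exact h2
  have hle := finrank_orbit_le (fun χ => fE ψ χ) (ψ y) π lam 2 (by rw [← map_pow, hy2, map_one])
    (by rcases hlam with rfl | rfl <;> norm_num) (fun χ v hv => F.apply_mem_piy h.mem_normalizer χ hv)
    F.projF (fun i j v hv => F.projF_of_mem hv) R hR W
    (fun χ _ => by
      show (if π χ = χ then _ else _ : Submodule K V) ≤ _
      split_ifs <;> simp)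
    (fun χ _ a ha hfix v hv => by
      interval_cases a
      · simp
      · replace hv : v ∈ (if π χ = χ then _ else _ : Submodule K V) := hv
        rw [if_pos (show π χ = χ from hfix), Submodule.mem_inf, LinearMap.mem_ker, LinearMap.sub_apply,
          LinearMap.smul_apply, Module.End.one_apply, sub_eq_zero] at hv
        rw [pow_one, pow_one]
        exact hv.2)
    (fun χ _ => by
      rcases (show ((range 2).filter fun a => π^[a] χ = χ).card = 1 ∨
          ((range 2).filter fun a => π^[a] χ = χ).card = 2 by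
        have h0 : (0 : ℕ) ∈ (range 2).filter fun a => π^[a] χ = χ := by simp
        have h1 := Finset.card_filter_le (range 2) fun a => π^[a] χ = χ
        have h2 := Finset.card_pos.2 ⟨0, h0⟩
        rw [Finset.card_range] at h1
        omega) with hc | hc <;> rw [hc]
      · simp
      · exact_mod_cast F.two_ne)
  refine le_trans ((hsum (fun χ => if π χ = χ then 1 else 2) ?_).trans ?_)
    (Nat.mul_le_mul_left 2 hle)
  · intro χ _
    show 0 < (if π χ = χ then 1 else 2) ∧ π^[if π χ = χ then 1 else 2] χ = χ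
    split_ifs with hfix
    · exact ⟨one_pos, hfix⟩
    · exact ⟨two_pos, hper χ⟩
  · rw [Finset.mul_sum]
    refine Finset.sum_le_sum fun χ hχ => ?_
    by_cases hfix : π χ = χ
    · rw [if_pos hfix, one_mul, hhalf χ hχ hfix]
    · show (if π χ = χ then 1 else 2) * _ ≤ 2 * finrank K (if π χ = χ then _ else _ : Submodule K V)
      rw [if_neg hfix, if_neg hfix]

/-- **Second bound**: for a square root. -/
theorem wDelta_le_four {x d t : G} (h : Dec σ D x d t) (hx : x ^ 4 = 1) {lam : K}
    (hlam : lam = 1 ∨ lam = -1) :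
    wDelta F h.sq ≤ 4 * finrank K (LinearMap.ker (ψ x - lam • 1) : Submodule K V) := by
  classical
  set π := piy h.mem_normalizer with hπ
  have hper : ∀ χ, π^[4] χ = χ := piy_periodic h.mem_normalizer hx
  have hlam2 : lam * lam = 1 := by rcases hlam with rfl | rfl <;> norm_num
  have hpi2 : ∀ χ, piy h.sq.mem_normalizer χ = π^[2] χ := fun χ => by
    rw [piy_iterate]
    refine AddMonoidHom.ext fun z => congrArg χ ?_
    exact DFunLike.congr_fun (nZ_congr _ _ fun _ => by rw [sq]) z
  have hmem : ∀ χ, χ ∈ delta F h.sq ↔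
      fE ψ χ ≠ ⊥ ∧
        (π^[2] χ ≠ χ ∨ (⟨d * (t * d * t⁻¹), h.sq.mem⟩ : ↥D) ∉ F.radSub χ) := fun χ => by
    rw [mem_delta, hpi2]
  set d₂ : ↥D := ⟨d * (t * d * t⁻¹), h.sq.mem⟩ with hd₂
  have hit2 : ∀ χ, π^[2] χ = π (π χ) := fun χ => rfl
  have hΔ : ∀ χ ∈ delta F h.sq, π χ ∈ delta F h.sq := fun χ hχ => by
    rw [hmem] at hχ ⊢
    refine ⟨F.piy_ne_bot h.mem_normalizer hχ.1, ?_⟩
    by_cases h2 : π^[2] χ = χ
    · right
      have h1 := hχ.2.resolve_left (not_not.2 h2)
      intro hmem'
      obtain ⟨hyE, u, hu⟩ := F.exists_anti h.sq ((hpi2 χ).trans h2) h1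
      have hpfix : piy h.sq.mem_normalizer (π χ) = π χ := by
        rw [hpi2, hit2, ← hit2 χ, h2]
      obtain ⟨v, hv, hv0⟩ := (Submodule.ne_bot_iff _).1 hχ.1
      have hxv : ψ x v ∈ fE ψ (π χ) := F.apply_mem_piy h.mem_normalizer χ hv
      have hc := F.commute_of_mem_rad h.sq hpfix hmem' (nD h.mem_normalizer u) hxv
      have e1 : ψ x (ψ (x * x) (ψ (u : G) v)) =
          ψ (x * x) (ψ ((nD h.mem_normalizer u : ↥D) : G) (ψ x v)) := by
        simp only [← Module.End.mul_apply, ← map_mul, nD_apply]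
        congr 2
        group
      have e2 : ψ x (ψ (u : G) (ψ (x * x) v)) =
          ψ ((nD h.mem_normalizer u : ↥D) : G) (ψ (x * x) (ψ x v)) := by
        simp only [← Module.End.mul_apply, ← map_mul, nD_apply]
        congr 2
        group
      have hinj : ∀ (g : G) {a b : V}, ψ g a = ψ g b → a = b := fun g a b hab => by
        have := congrArg (ψ g⁻¹) hab
        simpa [← Module.End.mul_apply, ← map_mul] using this
      have h4 := hinj x (e1.trans (hc.trans e2.symm))
      have h5 : ψ (u : G) (ψ (x * x) v) = 0 := by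
        have h6 := h4.symm.trans (hu v hv)
        have h7 : (2 : K) • ψ (u : G) (ψ (x * x) v) = 0 := by
          rw [two_smul]; nth_rw 1 [h6]; rw [neg_add_cancel]
        exact (smul_eq_zero.1 h7).resolve_left F.two_ne
      exact hv0 (hinj (x * x) ((hinj (u : G) (h5.trans (map_zero _).symm)).trans (map_zero _).symm))
    · left
      intro h3
      apply h2
      calc π^[2] χ = π^[2] (π^[4] χ) := by rw [hper]
        _ = π^[3] (π^[2] (π χ)) := rfl
        _ = π^[3] (π χ) := by rw [h3]
        _ = χ := hper χ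
  obtain ⟨R, hRΔ, hR, hsum⟩ := exists_reps π (by norm_num : 0 < 4) hper (delta F h.sq) hΔ
    (fun χ => finrank K (fE ψ χ : Submodule K V)) (fun χ => F.finrank_piy h.mem_normalizer χ)
  -- no representative is fixed by `x`
  have hmove : ∀ χ ∈ R, π χ ≠ χ := by
    intro χ hχ hfix
    have h2 : π^[2] χ = χ := by
      show π (π χ) = χ
      rw [hfix, hfix]
    obtain ⟨hocc, h1'⟩ := (hmem χ).1 (hRΔ hχ)
    have h1 := h1'.resolve_left (not_not.2 h2)
    apply h1
    by_cases hne : χ = 0
    · subst hne; exact fun z => rfl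
    obtain ⟨m, hm, hr, -⟩ := F.exists_exponent hocc hne
    have ht : χ.comp (nZ h.norm) = χ := by
      rw [← F.nZ_dec h]; exact comp_eq_of_piy_eq _ hfix
    rw [F.mem_radSub_iff hm hr]
    have h3 := F.nA_sub_mem_rad hm hr h.fix h.norm hocc hne ht (piA ⟨d, h.mem⟩)
    have e : piA d₂ = -piA (⟨d, h.mem⟩ : ↥D) + nA h.norm (piA ⟨d, h.mem⟩) := by
      rw [(F.quad hm hr).negA, nA_piA, ← piA_mul]
      exact congrArg piA (Subtype.ext rfl)
    rw [e]
    exact h3
  let W : (FZ D →+ ZMod 2) → Submodule K V := fun χ =>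
    if π^[2] χ = χ then fE ψ χ ⊓ plus (ψ (x * x)) else fE ψ χ
  have hhalf : ∀ χ ∈ R, π^[2] χ = χ →
      2 * finrank K (W χ) = finrank K (fE ψ χ : Submodule K V) := by
    intro χ hχ hfix
    obtain ⟨hyE, u, hu⟩ := F.exists_anti h.sq ((hpi2 χ).trans hfix)
      (((hmem χ).1 (hRΔ hχ)).2.resolve_left (not_not.2 hfix))
    have hsq : ∀ v, ψ (x * x) (ψ (x * x) v) = v := fun v => by
      rw [← Module.End.mul_apply, ← map_mul,
        show x * x * (x * x) = x ^ 4 by simp only [pow_succ, pow_zero, one_mul, mul_assoc],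
        hx, map_one, Module.End.one_apply]
    show 2 * finrank K (if π^[2] χ = χ then _ else _ : Submodule K V) = _
    rw [if_pos hfix]
    exact (F.two_mul_finrank_half hyE (fun v _ => hsq v) hu).1
  have hle := finrank_orbit_le (fun χ => fE ψ χ) (ψ x) π lam 4 (by rw [← map_pow, hx, map_one])
    (by rw [show (4 : ℕ) = 2 + 2 from rfl, pow_add, sq, hlam2, one_mul])
    (fun χ v hv => F.apply_mem_piy h.mem_normalizer χ hv) F.projF
    (fun i j v hv => F.projF_of_mem hv) R hR W
    (fun χ _ => by
      show (if π^[2] χ = χ then _ else _ : Submodule K V) ≤ _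
      split_ifs <;> simp)
    (fun χ hχ a ha hfix v hv => by
      interval_cases a
      · simp
      · exact absurd hfix (hmove χ hχ)
      · replace hv : v ∈ (if π^[2] χ = χ then _ else _ : Submodule K V) := hv
        rw [if_pos hfix, Submodule.mem_inf, mem_plus] at hv
        rw [sq lam, hlam2, one_smul, sq, ← map_mul]
        exact hv.2
      · exfalso
        apply hmove χ hχ
        calc π χ = π (π^[3] χ) := by rw [hfix]
          _ = χ := by rw [← Function.iterate_succ_apply' π 3 χ]; exact hper χ)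
    (fun χ hχ => by
      by_cases h2 : π^[2] χ = χ
      · rw [show ((range 4).filter fun a => π^[a] χ = χ) = {0, 2} by
          ext a
          simp only [Finset.mem_filter, Finset.mem_range, Finset.mem_insert, Finset.mem_singleton]
          constructor
          · rintro ⟨ha, hfix⟩
            interval_cases a
            · simp
            · exact absurd hfix (hmove χ hχ)
            · simp
            · exfalso
              apply hmove χ hχ
              calc π χ = π (π^[3] χ) := by rw [hfix]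
                _ = χ := by rw [← Function.iterate_succ_apply' π 3 χ]; exact hper χ
          · rintro (rfl | rfl)
            · simp
            · exact ⟨by norm_num, h2⟩]
        rw [Finset.card_pair (by norm_num)]
        exact_mod_cast F.two_ne
      · rw [show ((range 4).filter fun a => π^[a] χ = χ) = {0} by
          ext a
          simp only [Finset.mem_filter, Finset.mem_range, Finset.mem_singleton]
          constructor
          · rintro ⟨ha, hfix⟩
            interval_cases a
            · rfl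
            · exact absurd hfix (hmove χ hχ)
            · exact absurd hfix h2
            · exfalso
              apply hmove χ hχ
              calc π χ = π (π^[3] χ) := by rw [hfix]
                _ = χ := by rw [← Function.iterate_succ_apply' π 3 χ]; exact hper χ
          · rintro rfl
            simp]
        simp)
  refine le_trans ((hsum (fun χ => if π^[2] χ = χ then 2 else 4) ?_).trans ?_)
    (Nat.mul_le_mul_left 4 hle)
  · intro χ _
    show 0 < (if π^[2] χ = χ then 2 else 4) ∧ π^[if π^[2] χ = χ then 2 else 4] χ = χ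
    split_ifs with hfix
    · exact ⟨two_pos, hfix⟩
    · exact ⟨by norm_num, hper χ⟩
  · rw [Finset.mul_sum]
    refine Finset.sum_le_sum fun χ hχ => ?_
    by_cases hfix : π^[2] χ = χ
    · rw [if_pos hfix]
      have := hhalf χ hχ hfix
      omega
    · show (if π^[2] χ = χ then 2 else 4) * _ ≤
        4 * finrank K (if π^[2] χ = χ then _ else _ : Submodule K V)
      rw [if_neg hfix, if_neg hfix]

end Frame

end CfsgLib.HHShult
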